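import Cfsg.Agent.S2706
import Cfsg.Agent.Known.PSUAutMain
import Cfsg.Prelude.Def_EvenType

/-! The fixed points of an outer involutory automorphism of `U₅(2)`. -/

set_option autoImplicit false

namespace Cfsg.Lib.D8.End

open Subgroup Cfsg.Lib.Known Cfsg.Lib.Class Cfsg.Lib.Class.Form

namespace K2

theorem card_GL : Nat.card (GL (Unit ⊕ (Fin 2 ⊕ Fin 2)) (ZMod 2)) = 9999360 := by
  have e : Unit ⊕ (Fin 2 ⊕ Fin 2) ≃ Fin 5 := Fintype.equivFinOfCardEq (by simp)
  rw [Nat.card_congr (Units.mapEquiv (Matrix.reindexAlgEquiv (ZMod 2) (ZMod 2) e).toMulEquiv).toEquiv]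
  have := Matrix.card_GL_field (𝔽 := ZMod 2) 5
  rw [ZMod.card] at this
  exact this.trans (by decide)

theorem card_PGO : ¬ 27 ∣ Nat.card (Cfsg.PGO (ZMod 2) (Cfsg.quadFormOdd 2 (ZMod 2))) := fun h => by
  have := (h.trans (card_quotient_dvd_card _)).trans (card_subgroup_dvd_card _)
  rw [card_GL] at this
  exact absurd this (by norm_num)

end K2

theorem u5_fix {F : Type*} [Field F] [Fintype F] (hF : Fintype.card F = 4)
    (α : MulAut (Cfsg.PSU 5 F 2)) (h2 : α * α = 1) (hα : α ∉ Cfsg.Inn (Cfsg.PSU 5 F 2)) :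
    ¬ 27 ∣ Nat.card (Cfsg.fixedSubgroup α) := by
  intro h27
  have hF' : Fintype.card F = 2 ^ 2 := hF
  have h32 : ¬ (5 = 3 ∧ 2 = 2) := by decide
  obtain ⟨g, σ, h⟩ := PSU_aut_eq hF' (by norm_num) h32 α
  have hr : (innU 5 F 2).range ≤ Cfsg.Inn (Cfsg.PSU 5 F 2) := by
    obtain ⟨e⟩ := nonempty_diag_equivU (n := 5) hF' (by norm_num)
    have hc := Nat.card_congr e.toEquiv
    rw [Nat.card_congr Multiplicative.toAdd, Nat.card_zmod] at hc
    have := (Subgroup.map_eq_bot_iff _).1 (card_eq_one.1 hc)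
    rwa [QuotientGroup.ker_mk'] at this
  have hσ : σ ≠ 1 := by
    rintro rfl
    rw [map_one, mul_one] at h
    exact hα (hr ⟨g, h.symm⟩)
  have hσ2 : orderOf σ = 2 := by
    refine orderOf_eq_prime ?_ hσ
    rw [← card_ringAut (p := 2) hF']
    exact pow_card_eq_one'
  have hγ : Cfsg.IsGraphAutClassPSU α := ⟨by norm_num, _, _, σ, by rw [hσ2]; exact even_two,
    isInnerDiagonalAutPSU_iff.2 ⟨g, rfl⟩, isFieldAutPSUOf_iff.2 rfl, h⟩
  have hγ2 : orderOf α = 2 := orderOf_eq_prime (by rw [pow_two, h2]) fun e => hα (e ▸ one_mem _)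
  obtain ⟨⟨e⟩, -⟩ := Cfsg.Agent.S2706.result (p := 2) (f := 1) (q := 2) (m := 2) rfl le_rfl hF'
    (by norm_num) h32 rfl (ZMod 2) (ZMod.card 2) α α hγ hγ2 hγ hγ2
  have hZ : center (Cfsg.PSU 5 F 2) = ⊥ :=
    center_quotCenter_eq_bot_of_perfect (commutator_SU hF' 5 (by norm_num) h32)
  let φ : Cfsg.fixedSubgroup α →* ↥(Cfsg.inndiagPSU 5 F 2 ⊓ centralizer {α}) :=
    (MulAut.conj.comp (Cfsg.fixedSubgroup α).subtype).codRestrict _ fun x => ⟨by
      rw [inndiagPSU_eq_range]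
      exact inn_le_range_innU ⟨x, rfl⟩, mem_centralizer_singleton_iff.2 (MulEquiv.ext fun y => by
        have hx : α x = x := x.2
        simp [hx])⟩
  have hφ : Function.Injective φ := (injective_iff_map_eq_one φ).2 fun x hx => by
    have h1 : MulAut.conj (x : Cfsg.PSU 5 F 2) = 1 := congrArg Subtype.val hx
    have h3 : (x : Cfsg.PSU 5 F 2) ∈ center (Cfsg.PSU 5 F 2) := mem_center_iff.2 fun y => by
      have := DFunLike.congr_fun h1 y
      rw [MulAut.conj_apply, MulAut.one_apply, mul_inv_eq_iff_eq_mul] at this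
      exact this.symm
    rw [hZ] at h3
    exact Subtype.ext h3
  refine K2.card_PGO ?_
  rw [← Nat.card_congr e.toEquiv]
  exact h27.trans (card_dvd_of_injective φ hφ)

end Cfsg.Lib.D8.End
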