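import Cfsg.Agent.Spor.HeOut
import Cfsg.Agent.Spor.SzKit
import Cfsg.Prelude.Def_KGroupFacts

/-! Outer involutory automorphisms of the Held group. -/

set_option autoImplicit false
set_option maxRecDepth 100000

namespace Cfsg.Lib.D8.End

open Subgroup

namespace K4

theorem conj_inj {Y : Type*} [Group Y] (hZ : center Y = ⊥) :
    Function.Injective (MulAut.conj (G := Y)) := by
  rw [injective_iff_map_eq_one]
  intro g hg
  have : g ∈ center Y := mem_center_iff.2 fun x => by
    have h := DFunLike.congr_fun hg x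
    rw [MulAut.conj_apply, MulAut.one_apply, mul_inv_eq_iff_eq_mul] at h
    exact h.symm
  rwa [hZ, mem_bot] at this

theorem mul_conj {Y : Type*} [Group Y] (τ : MulAut Y) (u : Y) :
    τ * MulAut.conj u = MulAut.conj (τ u) * τ := by
  ext x; simp

theorem mul_inv_mem_of_index {A : Type*} [Group A] {N : Subgroup A} [N.Normal]
    (h : Nat.card (A ⧸ N) = 2) {a b : A} (ha : a ∉ N) (hb : b ∉ N) : a * b⁻¹ ∈ N :=
  (mul_mem_iff_of_index_two h).2 (by simp [ha, hb])

theorem conj_of_coset {Y : Type*} [Group Y] [Finite Y] (hZ : center Y = ⊥)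
    (hO : Nat.card (Out Y) = 2) {τ : MulAut Y} (hτ : τ * τ = 1) (hτ1 : τ ≠ 1) {T : Subgroup Y}
    {k m : ℕ} (hT : Nat.card T = 2 ^ k) (hY : Nat.card Y = 2 ^ k * m) (hm : ¬ 2 ∣ m)
    (hs : ∀ u ∈ T, τ u ∈ T) (hc : ∀ u ∈ T, u * τ u = 1 → ∃ h, τ h = h * u)
    {α : MulAut Y} (h2 : α * α = 1) (hα : α ∉ Inn Y) : ∃ γ : MulAut Y, α = γ * τ * γ⁻¹ := by
  have := Fact.mk Nat.prime_two
  have hi := conj_inj hZ
  have p2 : ∀ {β : MulAut Y}, β * β = 1 → IsPGroup 2 (zpowers β) := fun {β} h =>
    IsPGroup.iff_card.2 (by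
      rw [Nat.card_zpowers]
      obtain ⟨j, -, e⟩ := (Nat.dvd_prime_pow Nat.prime_two (m := 1)).1
        (orderOf_dvd_of_pow_eq_one (show β ^ 2 ^ 1 = 1 by rw [pow_one, pow_two, h]))
      exact ⟨j, e⟩)
  have hP : IsPGroup 2 ↥(T.map MulAut.conj ⊔ zpowers τ) :=
    ((IsPGroup.of_card hT).map _).to_sup_of_normal_left' (p2 hτ) (zpowers_le.2
      (mem_normalizer_fintype (by
        rintro _ ⟨u, hu, rfl⟩
        exact ⟨τ u, hs u hu, by rw [mul_conj, mul_inv_cancel_right]⟩)))
  obtain ⟨S, hS⟩ := hP.exists_le_sylow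
  have hτS : τ ∈ (S : Subgroup (MulAut Y)) := hS (mem_sup_right (mem_zpowers τ))
  have hin : ∀ u, MulAut.conj u ∈ (S : Subgroup (MulAut Y)) → u ∈ T := by
    have h1 : T ≤ (S : Subgroup (MulAut Y)).comap MulAut.conj := fun u hu =>
      hS (mem_sup_left (mem_map_of_mem _ hu))
    obtain ⟨j, hj⟩ := IsPGroup.iff_card.1 (S.isPGroup'.comap_of_injective _ hi)
    have h3 := card_subgroup_dvd_card ((S : Subgroup (MulAut Y)).comap MulAut.conj)
    rw [hj, hY] at h3
    have h4 := ((Nat.prime_two.coprime_iff_not_dvd.2 hm).pow_left j).dvd_of_dvd_mul_right h3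
    exact fun u hu => (eq_of_le_of_card_ge h1 (hj ▸ hT ▸ Nat.le_of_dvd (by positivity) h4)).ge hu
  have key : ∀ u ∈ T, MulAut.conj u * τ * (MulAut.conj u * τ) = 1 →
      ∃ γ, MulAut.conj u * τ = γ * τ * γ⁻¹ := fun u hu h => by
    rw [mul_assoc, ← mul_assoc τ, mul_conj, mul_assoc, hτ, mul_one, ← map_mul] at h
    obtain ⟨g, hg⟩ := hc u hu (hi (h.trans (map_one _).symm))
    refine ⟨MulAut.conj g⁻¹, ?_⟩
    rw [← map_inv, inv_inv, mul_assoc, mul_conj, hg, ← mul_assoc, ← map_mul, inv_mul_cancel_left]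
  have hτI : τ ∉ Inn Y := by
    rintro ⟨u, hu⟩
    have hu' : MulAut.conj u = τ := hu
    obtain ⟨γ, h⟩ := key u (hin u (hu' ▸ hτS)) (by rw [hu', hτ, one_mul])
    rw [hu', hτ] at h
    exact hτ1 (by simpa using h.symm)
  obtain ⟨S', hS'⟩ := (p2 h2).exists_le_sylow
  obtain ⟨β, hβ⟩ := MulAction.exists_smul_eq (MulAut Y) S' S
  have h3 : β * α * β⁻¹ ∈ (S : Subgroup (MulAut Y)) := by
    rw [← hβ]
    exact smul_mem_pointwise_smul _ (MulAut.conj β) _ (hS' (mem_zpowers α))
  have h4 : β * α * β⁻¹ ∉ Inn Y := fun h =>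
    hα (by simpa [mul_assoc] using (inferInstance : (Inn Y).Normal).conj_mem _ h β⁻¹)
  obtain ⟨u, hu⟩ := mul_inv_mem_of_index hO h4 hτI
  have hu' : MulAut.conj u * τ = β * α * β⁻¹ := by
    rw [show MulAut.conj u = _ from hu, inv_mul_cancel_right]
  obtain ⟨γ, h⟩ := key u (hin u (by
    rw [show MulAut.conj u = _ from hu]; exact mul_mem h3 (inv_mem hτS))) (by
      rw [hu', conj_mul, h2]; simp)
  exact ⟨β⁻¹ * γ, by rw [mul_inv_rev, inv_inv, mul_assoc β⁻¹, mul_assoc β⁻¹, ← mul_assoc _ γ⁻¹, ← h, hu']; group⟩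

open Cfsg.Lib.Spor Cfsg.Lib.Spor.Bulk Cfsg.Lib.Spor.WM Cfsg.Lib.Spor.SzK Cfsg.Lib.Spor.HeP

/-- the letters -/
noncomputable def e0 : ℕ → Cfsg.Spor.He := getN 1 [1, g0 1, g0 2, g0 3, g0 4, g0 5, g0 6, g0 7]

/-- their tables -/
noncomputable def tb0 : ℕ → ℕ → ℕ := getN id [id, lk t1, lk t2, lk t3, lk t4, lk t5, lk t6, lk t7]

theorem acts0 : ∀ l, Acts ρ (tb0 l) (e0 l)
  | 0 => acts_id ρ
  | 1 => t1_g
  | 2 => t2_g
  | 3 => t3_g
  | 4 => t4_g
  | 5 => t5_g
  | 6 => t6_g
  | 7 => t7_g
  | _ + 8 => acts_id ρ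

theorem C0 : Ctx ρ e0 he_T 12 0 tb0 base :=
  ⟨he_nets, he_w, fun _ h => absurd h (Nat.not_lt_zero _), acts0, isBase, by decide⟩

theorem e0_eq : ∀ l < 8, e0 l = g0 l := fun l hl => by
  interval_cases l
  exacts [sat.zero.symm, rfl, rfl, rfl, rfl, rfl, rfl, rfl]

/-- exchange of the last two letters -/
def sw (l : ℕ) : ℕ := if l = 6 then 7 else if l = 7 then 6 else l

theorem wv_comp {G : Type*} [Group G] (e : ℕ → G) (f : ℕ → ℕ) (W : List ℕ) :
    wv (fun l => e (f l)) W = wv e (W.map f) := by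
  induction W with
  | nil => rfl
  | cons l W ih => rw [List.map_cons, wv_cons, wv_cons, ih]

theorem map_wv {G H : Type*} [Group G] [Group H] (φ : G →* H) (e : ℕ → G) (W : List ℕ) :
    φ (wv e W) = wv (fun l => φ (e l)) W := by
  induction W with
  | nil => simp
  | cons l W ih => rw [wv_cons, wv_cons, map_mul, ih]

theorem sat_sw : Sat (fun l => e0 (sw l)) 8 idI R := by
  refine ⟨rfl, fun l hl => ?_, fun r hr => ?_⟩
  · have := C0.eqB_iff.1 ((by decide +kernel : ∀ l < 8, eqB tb0 base [[sw l, sw l]] [] = true) l hl)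
    simp only [wl, one_mul, wv_cons, wv_nil] at this
    exact eq_inv_of_mul_eq_one_left this
  · have := C0.eqB_iff.1 (allL_iff.1
      (by decide +kernel : allL (fun r => eqB tb0 base [r.map sw] []) R = true) r hr)
    simp only [wl, one_mul] at this
    rw [wv_comp, this]

/-- the diagram endomorphism -/
noncomputable def τ0 : Cfsg.Spor.He →* Cfsg.Spor.He := hom sat_sw

theorem τ0_e0 (l : ℕ) : τ0 (e0 l) = e0 (sw l) := by
  by_cases h : l < 8
  · rw [e0_eq l h]; exact hom_g0 sat_sw l h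
  · obtain ⟨j, rfl⟩ := Nat.exists_eq_add_of_le' (not_lt.1 h)
    rw [sw, if_neg (by omega), if_neg (by omega)]
    exact map_one τ0

theorem τ0_τ0 : τ0.comp τ0 = MonoidHom.id _ := by
  refine MonoidHom.ext fun x => ?_
  refine gL_le (K := (τ0.comp τ0).eqLocus (MonoidHom.id _)) (fun l hl => ?_) (top.ge (mem_top x))
  obtain ⟨h1, h2⟩ := (by decide : ∀ l ∈ [1, 2, 3, 4, 5, 6, 7], l < 8 ∧ sw (sw l) = l) l hl
  change τ0 (τ0 _) = _
  rw [← e0_eq l h1, τ0_e0, τ0_e0, h2]; rfl

/-- the diagram automorphism -/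
noncomputable def τ : MulAut Cfsg.Spor.He := MonoidHom.toMulEquiv τ0 τ0 τ0_τ0 τ0_τ0

theorem τ_τ : τ * τ = 1 := MulEquiv.ext fun x => DFunLike.congr_fun τ0_τ0 x

/-- words for the new letters -/
def Ws : List (List ℕ) := [[5,4,3,4,2,5,6,4,3,2,4,5,6,4,3,4,5],
  [5,4,3,4,2,5,7,4,3,2,4,5,7,4,3,4,5],
  [7,4,3,6,4,5,7,4,3,6,4,7],
  [6,4,7,3,4,5,2,6,4,3,2,4,5,6,4,3,7,4,6],
  [5,4,7,4,5],
  [5,4,6,4,5],
  [2],
  [2,1,2],
  [4],
  [1],
  [5,4,3,4,2,5,7,4,3,2,4,5,7,4,3,4,5],
  [5,4,3,4,2,5,6,4,3,2,4,5,6,4,3,4,5],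
  [6,4,3,7,4,5,6,4,3,7,4,6],
  [7,4,6,3,4,5,2,7,4,3,2,4,5,7,4,3,6,4,7],
  [5,4,6,4,5],
  [5,4,7,4,5],
  [2],
  [2,1,2],
  [4],
  [1],
  [4,5],
  [3,2,4,3,4,3,2,5,4,3],
  [2,3,2,4,3,2,4,3,5,4,3,2,4,3,4,3,2,4,3,4,3,5,4],
  [3],
  [4,5],
  [1,4],
  [2,3,4,3,2,1,4,3,2,4,3]]

/-- the new letters -/
noncomputable def e (l : ℕ) : Cfsg.Spor.He := wv e0 (getN [] Ws l)

/-- their action -/
noncomputable def tb (l : ℕ) : ℕ → ℕ := ap tb0 (getN [] Ws l)

theorem C : Ctx ρ e he_T 12 0 tb base :=
  ⟨he_nets, he_w, fun _ h => absurd h (Nat.not_lt_zero _), fun _ p => C0.ap_eq _ p, isBase,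
    by decide⟩

/-- action on the new letters -/
def fl (l : ℕ) : ℕ := cond (Nat.blt l 10) (l + 10) (cond (Nat.blt l 20) (l - 10) l)

theorem τ_e (l : ℕ) : τ (e l) = e (fl l) := by
  change τ0 _ = _
  rw [e, map_wv]
  simp only [τ0_e0]
  rw [wv_comp e0 sw, e]
  congr 1
  by_cases h : l < 27
  · exact (by decide +kernel : ∀ l < 27, (getN [] Ws l).map sw = getN [] Ws (fl l)) l h
  · have a : fl l = l := by
      rw [fl, Bool.eq_false_iff.2 (mt Nat.blt_eq.mp (by omega)),
        Bool.eq_false_iff.2 (mt Nat.blt_eq.mp (by omega))]; rfl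
    rw [a, getN_eq, List.getD_eq_default _ _ (not_lt.1 h)]; rfl

theorem τ_wv (W : List ℕ) : τ (wv e W) = wv e (W.map fl) := by
  rw [← wv_comp]
  exact (map_wv τ.toMonoidHom e W).trans (congrArg (wv · W) (funext τ_e))

/-- a power-commutator sequence of a Sylow subgroup -/
def L2 : List ℕ := [0, 1, 2, 3, 4, 5, 6, 7, 8, 9]

theorem pc2 : Pc e 2 L2 := C.pc (c := [(0,[161,374,4,44,16,32,400,128,208]),(0,[1,2,4,250,16,196,64,100]),(0,[88,34,4,113,48,32,64]),(0,[1,2,4,48,16,24]),(0,[9,2,4,8,16]),(0,[1,2,4,8]),(0,[4,2,1]),(0,[1,2]),(0,[1]),(0,[])]) (by decide +kernel)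

theorem card2 : Nat.card (gL e L2) = 2 ^ 10 := C.card_pc Nat.prime_two pc2 (by decide +kernel)

theorem stab : ∀ u ∈ gL e L2, τ u ∈ gL e L2 :=
  gL_le (K := (gL e L2).comap τ.toMonoidHom) fun l hl => by
    have := (by decide +kernel : ∀ l ∈ L2, decK 2 L2 (getN 0 [2,1,820,904,32,16,64,128,256,512] l) []
      (fun V => eqB tb base [[fl l]] [V]) = true) l hl
    rw [decK_eq, C.eqB_iff] at this
    simp only [wl, one_mul, wv_cons, wv_nil] at this
    change τ (e l) ∈ gL e L2
    rw [τ_e, this]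
    exact nf_mem e 2 L2 _

/-- conjugating elements -/
def cert : ℕ := 0x6400000000000000000000000002b000000000000000000000000000000000000000000000000000000000000000000000000000000000000000000000000000000000000000c80000083000000000008800000000000000000000000001800000000000000000000000000000000000000000000000000000000000000000000000000000000000000000000000000000000000000024000000800000000000000000000000000000000000000000000000000054000000000000000001580000000000000000000000000000000000000000000000000000000000000000000000000000000000000000000000000000000004700000000000000000004000000000000000000000000000000000000000000000000001180000000000000000001400000000000000000000000005700000000000000000014000000000008400000000000000000000000001b00000000000000000000000000000000000000000000000000000000000000000000000000000000000000000000000000000000000000028000000b000000000006800000000000000000000000002800000000000000000000000000000000000000000000000000000000000000000000000000000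0000000000000000000000000000000000c4000003800000000000000000000000000000000000000000000000000194000000000000000000980000000000000000000000000000000000000000000000000000000000000000000000000000000000000000000000000000000008700000000000000000034000000000000000000000000000000000000000000000000000d8000000000000000001d4000000000000000000000000067000000000000000000240000000000000000000000000000000000000000000000000015400000000000000000058000000000000000000000000000000000000000000000000000000000000000000000000000000000000000000000000000000000070000000000000000004400000000000000000000000000000000000000000000000000018000000000000000001140000000000000000000000000170000000000000000005400000000000a400000000000000000000000001300000000000000000000000000000000000000000000000000000000000000000000000000000000000000000000000000000000000000008000000300000000000480000000000000000000000000200000000000000000000000000000000000000000000000000000000000000000000000000000000000000000000000000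00000000000000e4000003000000000000000000000000000000000000000000000000000094000000000000000001980000000000000000000000000000000000000000000000000000000000000000000000000000000000000000000000000000000003700000000000000000074000000000000000000000000000000000000000000000000001d8000000000000000000d4000000000000000000000000027000000000000000000640000000000044000000000000000000000000023000000000000000000000000000000000000000000000000000000000000000000000000000000000000000000000000000000000000000e8000003300000000000a8000000000000000000000000010000000000000000000000000000000000000000000000000000000000000000000000000000000000000000000000000000000000000000040000000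

theorem coset : ∀ u ∈ gL e L2, u * τ u = 1 → ∃ h, τ h = h * u := fun u hu h => by
  obtain ⟨W, i, rfl, -, -, a⟩ := C.forall_nf two_pos pc2 (f := fun W i =>
    orB (notB (eqB tb base [W.map fl, W] [])) (decK 2 L2
      (Nat.land (Nat.shiftRight cert (Nat.mul 10 i)) 1023) [] fun V =>
        eqB tb base [V.map fl] [W, V])) (by decide +kernel) hu
  rw [orB_iff, notB_iff, decK_eq, C.eqB_iff, C.eqB_iff] at a
  simp only [wl, one_mul, ← τ_wv] at a
  exact ⟨_, a.resolve_left (not_not.2 h)⟩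

theorem pc3 : Pc e 3 [20, 21, 22] := C.pc (c := [(0,[4,3]),(0,[1]),(0,[])]) (by decide +kernel)

theorem card3 : Nat.card (gL e [20, 21, 22]) = 3 ^ 3 :=
  C.card_pc Nat.prime_three pc3 (by decide +kernel)

theorem nc : e 20 * e 21 ≠ e 21 * e 20 := by
  simpa [wl] using C.ne_of (A := [[21, 20]]) (B := [[20, 21]]) (by decide +kernel)

theorem tri (a b k : ℕ) (h : band (band (notB (eqB tb base [[a]] [])) (eqB tb base [rep a 2 []] []))
    (band (eqB tb base [rep b 3 []] []) (eqB tb base (List.replicate k [b, a]) [])) = true) :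
    e a ≠ 1 ∧ e a ^ 2 = 1 ∧ e b ^ 3 = 1 ∧ (e a * e b) ^ k = 1 := by
  have r : ∀ k, wl e (List.replicate k [b, a]) = (e a * e b) ^ k := fun k => by
    induction k with
    | zero => simp [wl]
    | succ k ih => simp [List.replicate_succ, wl, ih, pow_succ]
  simp only [band_iff', notB_iff, C.eqB_iff, r, wl, one_mul, wv_rep, wv_nil, wv_cons] at h
  exact ⟨h.1.1, h.1.2, h.2⟩

theorem conj_τ {α : MulAut Cfsg.Spor.He} (h2 : α * α = 1) (hα : α ∉ Inn Cfsg.Spor.He) :
    ∃ γ : MulAut Cfsg.Spor.He, α = γ * τ * γ⁻¹ := by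
  have := C.finite
  have := simple
  refine conj_of_coset ?_ card_out τ_τ (fun h => ?_) card2 (m := 3935925) (card.trans (by norm_num))
    (by norm_num) stab coset h2 hα
  · exact (IsSimpleGroup.eq_bot_or_eq_top_of_normal _ inferInstance).resolve_right fun h =>
      nc (mem_center_iff.1 (h.ge (mem_top _)) _)
  · have a : τ (e 0) = e 10 := τ_e 0
    rw [h] at a
    exact C.ne_of (A := [[0]]) (B := [[10]]) (by decide +kernel) (by simpa [wl] using a)

end K4

open K4 in
theorem he_fix (α : MulAut Cfsg.Spor.He) (h2 : α * α = 1) (hα : α ∉ Cfsg.Inn Cfsg.Spor.He) :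
    (∃ x y, α x = x ∧ α y = y ∧ x ≠ 1 ∧ x ^ 2 = 1 ∧ y ^ 3 = 1 ∧ (x * y) ^ 5 = 1) ∧
    (∃ x y, α x = x ∧ α y = y ∧ x ≠ 1 ∧ x ^ 2 = 1 ∧ y ^ 3 = 1 ∧ (x * y) ^ 7 = 1) ∧
    ∃ R : Subgroup Cfsg.Spor.He, IsPGroup 3 R ∧ (∀ r ∈ R, α r = r) ∧ ¬ IsMulCommutative R := by
  obtain ⟨γ, rfl⟩ := conj_τ h2 hα
  have f : ∀ x, τ x = x → (γ * τ * γ⁻¹) (γ x) = γ x := fun x h => by simp [h]
  have t : ∀ a b k, fl a = a → fl b = b → e a ≠ 1 ∧ e a ^ 2 = 1 ∧ e b ^ 3 = 1 ∧ (e a * e b) ^ k = 1 →
      ∃ x y, (γ * τ * γ⁻¹) x = x ∧ (γ * τ * γ⁻¹) y = y ∧ x ≠ 1 ∧ x ^ 2 = 1 ∧ y ^ 3 = 1 ∧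
        (x * y) ^ k = 1 := fun a b k ha hb h =>
    ⟨γ (e a), γ (e b), f _ (by rw [τ_e, ha]), f _ (by rw [τ_e, hb]), by simpa using h.1,
      by rw [← map_pow, h.2.1, map_one], by rw [← map_pow, h.2.2.1, map_one],
      by rw [← map_mul, ← map_pow, h.2.2.2, map_one]⟩
  refine ⟨t 23 24 5 rfl rfl (tri _ _ _ (by decide +kernel)),
    t 25 26 7 rfl rfl (tri _ _ _ (by decide +kernel)),
    (Cfsg.Lib.Spor.Bulk.gL e [20, 21, 22]).map γ.toMonoidHom, (IsPGroup.of_card card3).map _, ?_,
    fun h => nc (γ.injective ?_)⟩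
  · rintro _ ⟨r, hr, rfl⟩
    refine f r (Cfsg.Lib.Spor.Bulk.gL_le (K := τ.toMonoidHom.eqLocus (MonoidHom.id _))
      (fun l hl => ?_) hr)
    exact (τ_e l).trans (congrArg e ((by decide : ∀ l ∈ [20, 21, 22], fl l = l) l hl))
  · have m : ∀ l ∈ [20, 21, 22], γ (e l) ∈ (Cfsg.Lib.Spor.Bulk.gL e [20, 21, 22]).map γ.toMonoidHom :=
      fun l hl => mem_map_of_mem _ (Cfsg.Lib.Spor.Bulk.mem_gL hl)
    rw [map_mul, map_mul]
    exact congrArg Subtype.val (h.is_comm.comm ⟨_, m 20 (by simp)⟩ ⟨_, m 21 (by simp)⟩)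

end Cfsg.Lib.D8.End
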