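import Cfsg.Agent.D8.EndNum
import Cfsg.Agent.D8.EndK2
import Cfsg.Agent.D8.EndK4
import Cfsg.Agent.S0254
import Cfsg.Agent.Known.Alt67Mult
import Cfsg.Agent.Solv.Schur2
import Cfsg.Agent.Spor.Co0Simple

/-! The endgame for standard subgroups with dihedral Sylow subgroups of order eight. -/

set_option autoImplicit false

namespace Cfsg.Lib.D8.End

open Subgroup Function

theorem center_13 {K L : Type*} [Group K] [Group L] (hK : IsQuasisimple K)
    (h : HasCyclicSchurMultiplier L 6) (e : K ⧸ center K ≃* L) (hZ : Odd (Nat.card (center K))) :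
    Nat.card (center K) = 1 ∨ Nat.card (center K) = 3 := by
  have k : (e.toMonoidHom.comp (QuotientGroup.mk' (center K))).ker = center K := by
    rw [← MonoidHom.comap_ker, (MonoidHom.ker_eq_bot_iff _).2 e.injective,
      MonoidHom.comap_bot, QuotientGroup.ker_mk']
  obtain ⟨Γ, _, _, σ, -, ⟨f⟩, β, hβ, hc⟩ := Solv.exists_schurCover_onto h
    (e.toMonoidHom.comp (QuotientGroup.mk' (center K)))
    ⟨e.surjective.comp (QuotientGroup.mk'_surjective _), k.le, hK.1.commutator_eq_top.ge.trans' le_top⟩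
  have h1 : center K = σ.ker.map β := by
    rw [← hc, ← MonoidHom.comap_ker, map_comap_eq_self_of_surjective hβ, k]
  have h2 := card_map_dvd σ.ker β
  rw [← h1, Nat.card_congr f.toEquiv, Nat.card_congr Multiplicative.toAdd, Nat.card_zmod] at h2
  exact (Nat.dvd_prime Nat.prime_three).1
    ((Nat.coprime_two_right.2 hZ).dvd_of_dvd_mul_left (show _ ∣ 2 * 3 from h2))

theorem equiv_of_center {K L : Type*} [Group K] [Group L] (e : K ⧸ center K ≃* L)
    (h : Nat.card (center K) = 1) : Nonempty (K ≃* L) :=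
  ⟨((QuotientGroup.quotientMulEquivOfEq (card_eq_one.1 h)).trans
    QuotientGroup.quotientBot).symm.trans e⟩

theorem a6_of {K F : Type*} [Group K] [Field F] [Fintype F] (hK : IsQuasisimple K)
    (hF : Fintype.card F = 9) (e : K ⧸ center K ≃* Matrix.ProjectiveSpecialLinearGroup (Fin 2) F)
    (hZ : Odd (Nat.card (center K))) (h : ¬ 27 ∣ Nat.card K) :
    Nonempty (K ≃* alternatingGroup (Fin 6)) := by
  obtain ⟨f⟩ := Agent.S0254.result hF
  refine equiv_of_center (e.trans f) ((center_13 hK Known.mult_al6 (e.trans f) hZ).resolve_right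
    fun c => h ?_)
  rw [card_eq_card_quotient_mul_card_subgroup (center K), c, Nat.card_congr (e.trans f).toEquiv,
    card_A6]
  norm_num

theorem comm_of_nine {K : Type*} [Group K] [Finite K] (h : Nat.card K ∣ 3 ^ 2) (a b : K) :
    a * b = b * a := by
  have := Fact.mk Nat.prime_three
  obtain ⟨k, hk, e⟩ := (Nat.dvd_prime_pow Nat.prime_three).1 h
  interval_cases k
  · have := (Nat.card_eq_one_iff_unique.1 e).1
    exact Subsingleton.elim _ _
  · have := isCyclic_of_prime_card (p := 3) e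
    exact IsCyclic.isMulCommutative.is_comm.comm a b
  · exact (IsPGroup.isMulCommutative_of_card_eq_prime_sq e).is_comm.comm a b

theorem cent_le_norm {G : Type*} [Group G] [Finite G] {A : Subgroup G} (hA : IsStandardSubgroup A)
    {t : G} (ht : orderOf t = 2) (htA : t ∈ centralizer (A : Set G)) :
    centralizer {t} ≤ normalizer (A : Set G) := fun g hg => by
  rw [hA.2.2.2]
  by_contra n
  have m : t ∈ centralizer (A : Set G) ⊓
      (centralizer (A : Set G)).map (MulAut.conj g).toMonoidHom :=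
    ⟨htA, t, htA, mul_inv_eq_iff_eq_mul.2 (mem_centralizer_singleton_iff.1 hg)⟩
  have a := Subgroup.orderOf_dvd_natCard _ m
  rw [ht] at a
  exact Nat.not_even_iff_odd.2 (hA.2.1.2 g n) (even_iff_two_dvd.2 a)

theorem comm_of_a7 {G : Type*} [Group G] [Finite G] (hG : ¬ 3 ^ 4 ∣ Nat.card G) {A R : Subgroup G}
    (e : A ≃* alternatingGroup (Fin 7)) (hZ : center A = ⊥) (hR : IsPGroup 3 R)
    (hN : R ≤ normalizer (A : Set G)) {u v : G} (hu : u ∈ R) (hv : v ∈ R) : u * v = v * u := by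
  have := Fact.mk Nat.prime_three
  by_contra n
  let θ := A.normalizerMonoidHom.comp (inclusion hN)
  obtain ⟨k, hk⟩ := IsPGroup.iff_card.1 (hR.of_surjective _ θ.rangeRestrict_surjective)
  have c1 : Nat.card θ.range ∣ 3 ^ 2 := by
    have a := card_subgroup_dvd_card θ.range
    rw [Nat.card_congr (MulAut.congr e).toEquiv, card_A7.2, hk] at a
    rw [hk]
    exact ((by norm_num : Nat.Coprime 3 560).pow_left k).dvd_of_dvd_mul_right a
  have hz : u * v * (v * u)⁻¹ ∈ centralizer (A : Set G) := fun x hx => by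
    have a := congrArg Subtype.val (comm_of_nine c1 ⟨_, ⟨⟨u, hu⟩, rfl⟩⟩ ⟨_, ⟨⟨v, hv⟩, rfl⟩⟩)
    have b : θ (⟨u, hu⟩ * ⟨v, hv⟩ * (⟨v, hv⟩ * ⟨u, hu⟩)⁻¹) = 1 := by
      rw [map_mul, map_inv, map_mul, map_mul]; exact mul_inv_eq_one.2 a
    exact (mul_inv_eq_iff_eq_mul.1
      (congrArg Subtype.val (DFunLike.congr_fun b ⟨x, hx⟩))).symm
  have hzR : u * v * (v * u)⁻¹ ∈ R := mul_mem (mul_mem hu hv) (inv_mem (mul_mem hv hu))
  have hz1 : u * v * (v * u)⁻¹ ≠ 1 := mt mul_inv_eq_one.1 n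
  generalize u * v * (v * u)⁻¹ = z at hz hzR hz1
  obtain ⟨P⟩ := (inferInstance : Nonempty (Sylow 3 A))
  have cP : Nat.card P = 3 ^ 2 := by
    rw [P.card_eq_multiplicity, Nat.card_congr e.toEquiv, card_A7.1]
    decide +kernel
  let P' := (P : Subgroup A).map A.subtype
  have cP' : Nat.card P' = 3 ^ 2 := (card_map_of_injective A.subtype_injective).trans cP
  have le : P' ≤ A := map_subtype_le _
  have hB : IsPGroup 3 ↥(P' ⊔ zpowers z) :=
    (IsPGroup.of_card cP').to_sup_of_normal_left' (hR.to_le (zpowers_le.2 hzR))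
      (zpowers_le.2 (centralizer_le_normalizer _ (centralizer_le le hz)))
  obtain ⟨S, hS⟩ := hB.exists_le_sylow
  obtain ⟨j, hj⟩ := IsPGroup.iff_card.1 hB
  obtain ⟨i, hi⟩ := IsPGroup.iff_card.1 S.isPGroup'
  have i3 : i ≤ 3 := by
    by_contra a
    exact hG ((pow_dvd_pow 3 (by omega)).trans (hi ▸ card_subgroup_dvd_card _))
  have j3 : 3 ≤ j := by
    by_contra a
    have b := eq_of_le_of_card_ge (le_sup_left : P' ≤ P' ⊔ zpowers z)
      (by rw [hj, cP']; exact Nat.pow_le_pow_right (by norm_num) (by omega))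
    have c := le (b.ge (mem_sup_right (mem_zpowers z)))
    exact hz1 (congrArg Subtype.val (mem_bot.1 (hZ.le (mem_center_iff.2 fun x =>
      Subtype.ext (hz x x.2) : (⟨z, c⟩ : A) ∈ center A))))
  have eS := eq_of_le_of_card_ge hS
    (by rw [hj, hi]; exact Nat.pow_le_pow_right (by norm_num) (by omega))
  have cm : ∀ x ∈ P' ⊔ zpowers z, ∀ y ∈ P' ⊔ zpowers z, x * y = y * x := by
    have a : P' ⊔ zpowers z ≤ centralizer (P' : Set G) := sup_le (fun x hx y hy =>
      congrArg Subtype.val (comm_of_nine cP'.dvd ⟨y, hy⟩ ⟨x, hx⟩))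
      (zpowers_le.2 (centralizer_le le hz))
    have b : P' ⊔ zpowers z ≤ centralizer {z} := sup_le (fun x hx =>
      mem_centralizer_singleton_iff.2 (hz x (le hx)))
      (zpowers_le.2 (mem_centralizer_singleton_iff.2 rfl))
    intro x hx y hy
    refine mem_centralizer_singleton_iff.1 ((sup_le (fun x hx => mem_centralizer_singleton_iff.2
      (a hy x hx)) (zpowers_le.2 (mem_centralizer_singleton_iff.2
        (mem_centralizer_singleton_iff.1 (b hy)).symm)) : _ ≤ centralizer {y}) hx)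
  obtain ⟨S', hS'⟩ := hR.exists_le_sylow
  obtain ⟨g, hg⟩ := MulAction.exists_smul_eq G S' S
  have m : ∀ x ∈ R, MulAut.conj g x ∈ P' ⊔ zpowers z := fun x hx => by
    rw [eS, ← hg]
    exact smul_mem_pointwise_smul _ (MulAut.conj g) _ (hS' hx)
  exact n ((MulAut.conj g).injective (by rw [map_mul, map_mul, cm _ (m u hu) _ (m v hv)]))

theorem fin160 {G : Type*} [Group G] [Finite G]
    (hF : IsSimpleGroup ↥(Cfsg.generalizedFittingSubgroup G)) (hF' : ¬ IsMulCommutative ↥(Cfsg.generalizedFittingSubgroup G))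
    (A : Subgroup G) (hA : Cfsg.IsStandardSubgroup A) (hZ : Odd (Nat.card ↥(Subgroup.center ↥A)))
    (hX : Subgroup.normalClosure (A : Set G) = Cfsg.generalizedFittingSubgroup G)
    (t : G) (ht : orderOf t = 2) (htA : t ∈ Subgroup.centralizer (A : Set G))
    (h : ((∃ (F : Type) (_ : Field F) (_ : Fintype F), Fintype.card F = 9 ∧ Nonempty ((↥A ⧸ Subgroup.center ↥A) ≃* Matrix.ProjectiveSpecialLinearGroup (Fin 2) F)) ∧
        Cfsg.generalizedFittingSubgroup G = ⊤ ∧ Cfsg.Spor.IsoHS G) ∨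
      ((∃ (F : Type) (_ : Field F) (_ : Fintype F), Fintype.card F = 9 ∧ Nonempty ((↥A ⧸ Subgroup.center ↥A) ≃* Matrix.ProjectiveSpecialLinearGroup (Fin 2) F)) ∧
        t ∉ Cfsg.generalizedFittingSubgroup G ∧
        ((∃ (F : Type) (_ : Field F) (_ : Fintype F), Fintype.card F = 4 ∧
            (Nonempty (↥(Cfsg.generalizedFittingSubgroup G) ≃* Cfsg.PSp 2 F) ∨ Nonempty (↥(Cfsg.generalizedFittingSubgroup G) ≃* Cfsg.PSU 5 F 2))) ∨
          (∃ (F : Type) (_ : Field F) (_ : Fintype F), Fintype.card F = 2 ∧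
            Nonempty (↥(Cfsg.generalizedFittingSubgroup G) ≃* Matrix.ProjectiveSpecialLinearGroup (Fin 5) F)))) ∨
      (Nonempty ((↥A ⧸ Subgroup.center ↥A) ≃* ↥(alternatingGroup (Fin 7))) ∧
        t ∉ Cfsg.generalizedFittingSubgroup G ∧ Cfsg.generalizedFittingSubgroup G ⊔ Subgroup.zpowers t = ⊤ ∧
        Cfsg.Spor.IsoHe ↥(Cfsg.generalizedFittingSubgroup G))) :
      (Nat.card ↥(Subgroup.center ↥A) = 3 ∧ Nonempty ((↥A ⧸ Subgroup.center ↥A) ≃* ↥(alternatingGroup (Fin 7))) ∧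
        Subgroup.normalClosure (A : Set G) = commutator G ∧ Nonempty (G ≃* MulAut Cfsg.Spor.He)) ∨
      (Nonempty (↥A ≃* ↥(alternatingGroup (Fin 6))) ∧ Subgroup.normalClosure (A : Set G) = commutator G ∧
        ((∃ (F : Type) (_ : Field F) (_ : Fintype F), Fintype.card F = 4 ∧
            ((Nonempty (↥(commutator G) ≃* Cfsg.PSp 2 F) ∧ Subgroup.centralizer ((commutator G : Subgroup G) : Set G) = ⊥) ∨ Nonempty (G ≃* MulAut (Cfsg.PSU 5 F 2)))) ∨
          (∃ (F : Type) (_ : Field F) (_ : Fintype F), Fintype.card F = 2 ∧ Nonempty (G ≃* MulAut (Matrix.ProjectiveSpecialLinearGroup (Fin 5) F))))) ∨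
      (Nonempty (↥A ≃* ↥(alternatingGroup (Fin 6))) ∧ Subgroup.normalClosure (A : Set G) = Cfsg.generalizedFittingSubgroup G ∧ Cfsg.Spor.IsoHS ↥(Subgroup.normalClosure (A : Set G))) := by
  have hAX : A ≤ generalizedFittingSubgroup G := hX ▸ le_normalClosure
  have hAt : A ≤ centralizer {t} := fun x hx => mem_centralizer_singleton_iff.2 (htA x hx)
  have cA := card_subgroup_dvd_card A
  have cyc : ∀ {Y : Type} [Group Y], Nat.card (Out Y) = 2 → IsCyclic (Out Y) := fun h =>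
    haveI := Fact.mk Nat.prime_two
    isCyclic_of_prime_card h
  rcases h with ⟨⟨K, _, _, hK, ⟨f⟩⟩, h, ⟨e⟩⟩ | ⟨⟨K, _, _, hK, ⟨f⟩⟩, h, ⟨F, _, _, hc, ⟨⟨e⟩⟩ | ⟨⟨e⟩⟩⟩ |
    ⟨F, _, _, hc, ⟨e⟩⟩⟩ | ⟨⟨f⟩, h, -, ⟨e⟩⟩
  · rw [Nat.card_congr e.toEquiv, Spor.CK.card_HS] at cA
    exact .inr (.inr ⟨a6_of hA.1 hK f hZ fun d => absurd (d.trans cA) (by norm_num), hX,
      ⟨((MulEquiv.subgroupCongr (hX.trans h)).trans topEquiv).trans e⟩⟩)
  all_goals
    obtain ⟨R⟩ := exists_rep hF hF' e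
    have c := R.card_dvd
  · have := (data_sp hc).2.1
    have k := le_antisymm (perfect_gf hF hF') R.comm_le
    rw [(data_sp hc).2.2] at c
    replace c := c.trans (Nat.mul_dvd_mul_right (data_sp hc).1 4)
    exact .inr (.inl ⟨a6_of hA.1 hK f hZ fun d => absurd (d.trans (cA.trans c)) (by norm_num),
      hX.trans k, .inl ⟨F, _, _, hc, .inl ⟨⟨(MulEquiv.subgroupCongr k.symm).trans e⟩,
        k ▸ cent_bot hF hF'⟩⟩⟩)
  · have := cyc (data_u hc).2
    refine .inr (.inl ⟨a6_of hA.1 hK f hZ fun d => u5_fix hc _ (R.sq ht) (mt R.mem_iff.1 h) ?_,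
      hX.trans (le_antisymm (perfect_gf hF hF') R.comm_le),
      .inl ⟨F, _, _, hc, .inr (R.equiv (data_u hc).2 h)⟩⟩)
    rw [← card_map_of_injective R.ιi, R.map_fix]
    exact d.trans (card_dvd_of_le (le_inf hAt hAX))
  · have := cyc (data_l hc).2
    rw [(data_l hc).2, (data_l hc).1] at c
    exact .inr (.inl ⟨a6_of hA.1 hK f hZ fun d => absurd (d.trans (cA.trans c)) (by norm_num),
      hX.trans (le_antisymm (perfect_gf hF hF') R.comm_le),
      .inr ⟨F, _, _, hc, R.equiv (data_l hc).2 h⟩⟩)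
  · have := cyc Spor.HeP.card_out
    rw [Spor.HeP.card_out, Spor.HeP.card] at c
    refine .inl ⟨(center_13 hA.1 Known.mult_al7 f hZ).resolve_left fun z => ?_, ⟨f⟩,
      hX.trans (le_antisymm (perfect_gf hF hF') R.comm_le), R.equiv Spor.HeP.card_out h⟩
    obtain ⟨-, -, T, h1, h2, h3⟩ := he_fix _ (R.sq ht) (mt R.mem_iff.1 h)
    obtain ⟨f'⟩ := equiv_of_center f z
    refine h3 ⟨⟨fun a b => Subtype.ext (R.ιi ?_)⟩⟩
    rw [coe_mul, coe_mul, map_mul, map_mul]
    refine comm_of_a7 (fun d => absurd (d.trans c) (by norm_num)) f' (card_eq_one.1 z) (h1.map R.ι)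
      (le_trans ?_ (cent_le_norm hA ht htA)) (mem_map_of_mem _ a.2) (mem_map_of_mem _ b.2)
    exact (map_mono h2).trans ((R.map_fix t).le.trans inf_le_left)

end Cfsg.Lib.D8.End
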