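import Cfsg.Agent.D8.Chk2

/-!
# A Frattini type test: an involution lies in every large subgroup of its centraliser
-/

set_option autoImplicit false

namespace Cfsg.Lib.D8

noncomputable section

/-- `x⁻² y⁻¹ x² y` -/
def Md.law (M : Md) (x y : ℕ) : ℕ := frc (M.mul x x) fun s => M.mul (M.inv s) (M.cj s y)
/-- `r = a⁴ [b², d] [b'², d']` with all five letters given as masks over `cs` killed by `c` -/
def lawT (M : Md) (cs : List ℕ) (r c : ℕ) (w : ℕ × ℕ × ℕ × ℕ × ℕ) : Bool :=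
  inT c w.1 && inT c w.2.1 && inT c w.2.2.1 && inT c w.2.2.2.1 && inT c w.2.2.2.2 &&
  frc (M.ev cs w.1) fun a => frc (M.mul a a) fun a2 =>
    Nat.beq r (M.mul (M.mul (M.mul a2 a2) (M.law (M.ev cs w.2.1) (M.ev cs w.2.2.1)))
      (M.law (M.ev cs w.2.2.2.1) (M.ev cs w.2.2.2.2)))
/-- `r` lies in every subgroup of order at least `2^k` of its centraliser (generated by `cs`) -/
def chkPhi (M : Md) (k r : ℕ) (cs : List ℕ) (K : List (ℕ × ℕ))
    (ws : List (ℕ × ℕ × ℕ × ℕ × ℕ)) : Bool :=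
  Nat.blt r M.N && Nat.ble cs.length 12 && allL (M.cm r) cs &&
  M.sub cs (fun _ m => M.cjT r r fun p => filN p M.N (allL (bit m))) &&
  allL (fun e => Nat.blt e.1 (pw cs.length) && Nat.blt e.2 (pw cs.length) &&
    frc (M.ev cs e.1) fun a => Nat.beq (M.mul a a) (M.ev cs e.2)) K &&
  allL (fun w => Nat.blt w.1 (pw cs.length) && Nat.blt w.2.1 (pw cs.length) &&
    Nat.blt w.2.2.1 (pw cs.length) && Nat.blt w.2.2.2.1 (pw cs.length) &&
    Nat.blt w.2.2.2.2 (pw cs.length)) ws &&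
  ((Nat.ble cs.length (Nat.add k 1) && anyL (fun w => frc (M.ev cs w.1) fun a =>
      frc (M.ev cs w.2.1) fun b => Nat.beq r (M.mul (M.mul a a) (M.mul b b))) ws) ||
    (Nat.ble cs.length (Nat.add k 2) && anyL (lawT M cs r 0) ws) ||
    (Nat.ble cs.length (Nat.add k 3) && allN (fun c => Nat.beq c 0 ||
      anyL (fun e => Nat.beq (par (Nat.land e.2 c)) 1) K || anyL (lawT M cs r c) ws)
      (pw cs.length)))

/-- as `chkExt2`, with a third list `A'` of representatives excluded by `PhiP` -/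
def chkExt3 (M : Md) (E : Env) (xs r1 : List ℕ) (Ls : List Lv) (A A' xs' lbs' : List ℕ)
    (Ls' : List Lv) (B : List ℕ) : Bool :=
  M.bnd xs && M.bnd xs' && M.low lbs' && frc (xs.headD 0) fun u =>
    M.low (u :: r1) && M.sub r1 (fun _ m => !bit m u) &&
    Nat.beq (M.sig u) 1 && allL (M.cm u) (xs ++ r1) && allL (M.cm (xs'.headD 0)) (xs' ++ lbs') &&
    allN (fun y => !Nat.beq (par (Nat.land y E.c)) (par (Nat.land u E.c)) ||
      !Nat.beq (M.sig y) 1 || frc (l1 M.W y) fun w => frc (M.cj y w) fun r =>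
        memN r A || memN r A' || memN r B) M.N &&
    frc (full M.N) fun Tm =>
      dfs M E Tm Tm xs Ls (pw (Nat.succ r1.length)) 1 (A.map fun e => [e]) [] &&
      dfs M E Tm Tm xs' Ls' (pw lbs'.length) 1 (B.map fun e => [e]) []

variable {G : Type*} [Group G]

def PhiP (gs : List G) (k r : ℕ) : Prop := ∀ H : Subgroup G, H ≤ gen gs →
  (∀ h ∈ H, Commute h (evL gs r)) → 2 ^ k ≤ Nat.card H → evL gs r ∈ H

end

end Cfsg.Lib.D8
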