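import Cfsg.Agent.D8.R1C1

set_option autoImplicit false
set_option maxRecDepth 100000
set_option linter.all false
set_option Elab.async false

namespace Cfsg.Lib.D8

theorem c20016266 : chkTT M20234 E20016262 421 L20016264 0x8a00000a00 V20016265 [5,643,2,741,538,121,617] [2,5,8,16,97,129,512] [8,33,284,317,512,520,528,641,672,788] 99 0 [⟨3,0,[⟨4,0,0,1⟩,⟨4,1,0,2⟩],1,2,false⟩,⟨4,0,[⟨4,0,0,3⟩,⟨4,1,0,4⟩,⟨2,2,0,0⟩,⟨2,3,0,0⟩],0,0,false⟩,⟨3,0,[⟨4,0,0,5⟩,⟨4,1,0,6⟩,⟨0,2,6,0⟩],2,3,false⟩,⟨3,0,[⟨0,2,9,0⟩,⟨0,8,3,0⟩,⟨1,0,4,0⟩],3,2,false⟩,⟨5,0,[⟨4,0,0,7⟩,⟨4,1,0,8⟩,⟨0,16,20,0⟩],0,5,true⟩,⟨7,0,[⟨4,0,0,9⟩,⟨4,1,0,10⟩,⟨0,2,38,0⟩],0,0,false⟩] [([5,643,2,741,538,121],[520,284,2,788,633,121]),([5,643,2,741,538,121],[520,284,2,788,633,123]),([5,643,2,741,538,121],[520,284,2,788,633,625]),([5,643,2,741,538,121],[520,284,2,788,633,627]),([5,643,2,741,538,121],[520,284,2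,788,113,121]),([5,643,2,741,538,121],[520,284,2,788,113,123]),([5,643,2,741,538,121],[520,284,2,788,113,625]),([5,643,2,741,538,121],[520,284,2,788,113,627]),([5,643,2,741,538,121],[520,284,2,877,636,625]),([5,643,2,741,538,121],[520,284,2,877,636,627]),([5,643,2,741,538,121],[520,284,2,877,116,625]),([5,643,2,741,538,121],[520,284,2,877,116,627]),([5,643,2,741,538,121],[520,788,2,284,633,121]),([5,643,2,741,538,121],[520,788,2,284,633,123]),([5,643,2,741,538,121],[520,788,2,284,633,625]),([5,643,2,741,538,121],[520,788,2,284,633,627]),([5,643,2,741,538,121],[520,788,2,284,113,121]),([5,643,2,741,538,121],[520,788,2,284,113,123]),([5,643,2,741,538,121],[520,788,2,284,113,625]),([5,643,2,741,538,121],[520,788,2,284,113,627]),([5,643,2,741,538,121],[520,788,2,357,636,625]),([5,643,2,741,538,121],[520,788,2,357,636,627]),([5,643,2,741,538,121],[520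,788,2,357,116,625]),([5,643,2,741,538,121],[520,788,2,357,116,627]),([5,643,2,741,538,121],[528,288,2,816,633,121]),([5,643,2,741,538,121],[528,288,2,816,633,123]),([5,643,2,741,538,121],[528,288,2,816,633,617]),([5,643,2,741,538,121],[528,288,2,816,633,619]),([5,643,2,741,538,121],[528,288,2,816,105,121]),([5,643,2,741,538,121],[528,288,2,816,105,123]),([5,643,2,741,538,121],[528,288,2,816,105,617]),([5,643,2,741,538,121],[528,288,2,816,105,619]),([5,643,2,741,538,121],[528,288,2,841,636,617]),([5,643,2,741,538,121],[528,288,2,841,636,619]),([5,643,2,741,538,121],[528,288,2,841,108,617]),([5,643,2,741,538,121],[528,288,2,841,108,619]),([5,643,2,741,538,121],[528,816,2,288,633,121]),([5,643,2,741,538,121],[528,816,2,288,633,123]),([5,643,2,741,538,121],[528,816,2,288,633,617]),([5,643,2,741,538,121],[528,816,2,288,633,619]),([5,643,2,741,538,121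],[528,816,2,288,105,121]),([5,643,2,741,538,121],[528,816,2,288,105,123]),([5,643,2,741,538,121],[528,816,2,288,105,617]),([5,643,2,741,538,121],[528,816,2,288,105,619]),([5,643,2,741,538,121],[528,816,2,345,724,617]),([5,643,2,741,538,121],[528,816,2,345,724,619]),([5,643,2,741,538,121],[528,816,2,345,196,617]),([5,643,2,741,538,121],[528,816,2,345,196,619]),([5,643,2,741,538,121],[672,33,2,665,716,729]),([5,643,2,741,538,121],[672,33,2,665,716,731]),([5,643,2,741,538,121],[672,33,2,665,108,729]),([5,643,2,741,538,121],[672,33,2,665,108,731]),([5,643,2,741,538,121],[672,33,2,736,633,121]),([5,643,2,741,538,121],[672,33,2,736,633,123]),([5,643,2,741,538,121],[672,33,2,736,633,729]),([5,643,2,741,538,121],[672,33,2,736,633,731]),([5,643,2,741,538,121],[672,33,2,736,217,121]),([5,643,2,741,538,121],[672,33,2,736,217,123]),([5,643,2,741,538,121],[6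72,33,2,736,217,729]),([5,643,2,741,538,121],[672,33,2,736,217,731]),([5,643,2,741,538,121],[672,641,2,57,716,729]),([5,643,2,741,538,121],[672,641,2,57,716,731]),([5,643,2,741,538,121],[672,641,2,57,108,729]),([5,643,2,741,538,121],[672,641,2,57,108,731]),([5,643,2,741,538,121],[672,641,2,64,633,121]),([5,643,2,741,538,121],[672,641,2,64,633,123]),([5,643,2,741,538,121],[672,641,2,64,633,729]),([5,643,2,741,538,121],[672,641,2,64,633,731]),([5,643,2,741,538,121],[672,641,2,64,217,121]),([5,643,2,741,538,121],[672,641,2,64,217,123]),([5,643,2,741,538,121],[672,641,2,64,217,729]),([5,643,2,741,538,121],[672,641,2,64,217,731]),([5,643,2,741,538,121,617],[520,284,2,877,636,121,710]),([5,643,2,741,538,121,617],[520,284,2,877,636,121,708]),([5,643,2,741,538,121,617],[520,284,2,877,636,121,206]),([5,643,2,741,538,121,617],[520,284,2,877,636,121,204]),(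[5,643,2,741,538,121,617],[520,284,2,877,636,123,527]),([5,643,2,741,538,121,617],[520,284,2,877,636,123,525]),([5,643,2,741,538,121,617],[520,284,2,877,636,123,7]),([5,643,2,741,538,121,617],[520,284,2,877,636,123,5]),([5,643,2,741,538,121,617],[520,284,2,877,116,121,710]),([5,643,2,741,538,121,617],[520,284,2,877,116,121,708]),([5,643,2,741,538,121,617],[520,284,2,877,116,121,206]),([5,643,2,741,538,121,617],[520,284,2,877,116,121,204]),([5,643,2,741,538,121,617],[520,284,2,877,116,123,527]),([5,643,2,741,538,121,617],[520,284,2,877,116,123,525]),([5,643,2,741,538,121,617],[520,284,2,877,116,123,7]),([5,643,2,741,538,121,617],[520,284,2,877,116,123,5]),([5,643,2,741,538,121,617],[520,788,2,357,636,121,527]),([5,643,2,741,538,121,617],[520,788,2,357,636,121,525]),([5,643,2,741,538,121,617],[520,788,2,357,636,121,7]),([5,643,2,741,538,121,617],[5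20,788,2,357,636,121,5]),([5,643,2,741,538,121,617],[520,788,2,357,636,123,710]),([5,643,2,741,538,121,617],[520,788,2,357,636,123,708]),([5,643,2,741,538,121,617],[520,788,2,357,636,123,206]),([5,643,2,741,538,121,617],[520,788,2,357,636,123,204]),([5,643,2,741,538,121,617],[520,788,2,357,116,121,527]),([5,643,2,741,538,121,617],[520,788,2,357,116,121,525]),([5,643,2,741,538,121,617],[520,788,2,357,116,121,7]),([5,643,2,741,538,121,617],[520,788,2,357,116,121,5]),([5,643,2,741,538,121,617],[520,788,2,357,116,123,710]),([5,643,2,741,538,121,617],[520,788,2,357,116,123,708]),([5,643,2,741,538,121,617],[520,788,2,357,116,123,206]),([5,643,2,741,538,121,617],[520,788,2,357,116,123,204]),([5,643,2,741,538,121,617],[528,288,2,841,636,121,535]),([5,643,2,741,538,121,617],[528,288,2,841,636,121,533]),([5,643,2,741,538,121,617],[528,288,2,841,636,121,7])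,([5,643,2,741,538,121,617],[528,288,2,841,636,121,5]),([5,643,2,741,538,121,617],[528,288,2,841,636,123,710]),([5,643,2,741,538,121,617],[528,288,2,841,636,123,708]),([5,643,2,741,538,121,617],[528,288,2,841,636,123,214]),([5,643,2,741,538,121,617],[528,288,2,841,636,123,212]),([5,643,2,741,538,121,617],[528,288,2,841,108,121,535]),([5,643,2,741,538,121,617],[528,288,2,841,108,121,533]),([5,643,2,741,538,121,617],[528,288,2,841,108,121,7]),([5,643,2,741,538,121,617],[528,288,2,841,108,121,5]),([5,643,2,741,538,121,617],[528,288,2,841,108,123,710]),([5,643,2,741,538,121,617],[528,288,2,841,108,123,708]),([5,643,2,741,538,121,617],[528,288,2,841,108,123,214]),([5,643,2,741,538,121,617],[528,288,2,841,108,123,212]),([5,643,2,741,538,121,617],[528,816,2,345,724,121,703]),([5,643,2,741,538,121,617],[528,816,2,345,724,121,701]),([5,643,2,741,538,121,6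17],[528,816,2,345,724,121,175]),([5,643,2,741,538,121,617],[528,816,2,345,724,121,173]),([5,643,2,741,538,121,617],[528,816,2,345,724,123,622]),([5,643,2,741,538,121,617],[528,816,2,345,724,123,620]),([5,643,2,741,538,121,617],[528,816,2,345,724,123,126]),([5,643,2,741,538,121,617],[528,816,2,345,724,123,124]),([5,643,2,741,538,121,617],[528,816,2,345,196,121,703]),([5,643,2,741,538,121,617],[528,816,2,345,196,121,701]),([5,643,2,741,538,121,617],[528,816,2,345,196,121,175]),([5,643,2,741,538,121,617],[528,816,2,345,196,121,173]),([5,643,2,741,538,121,617],[528,816,2,345,196,123,622]),([5,643,2,741,538,121,617],[528,816,2,345,196,123,620]),([5,643,2,741,538,121,617],[528,816,2,345,196,123,126]),([5,643,2,741,538,121,617],[528,816,2,345,196,123,124]),([5,643,2,741,538,121,617],[672,33,2,665,716,121,535]),([5,643,2,741,538,121,617],[672,33,2,665,7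16,121,533]),([5,643,2,741,538,121,617],[672,33,2,665,716,121,183]),([5,643,2,741,538,121,617],[672,33,2,665,716,121,181]),([5,643,2,741,538,121,617],[672,33,2,665,716,123,630]),([5,643,2,741,538,121,617],[672,33,2,665,716,123,628]),([5,643,2,741,538,121,617],[672,33,2,665,716,123,214]),([5,643,2,741,538,121,617],[672,33,2,665,716,123,212]),([5,643,2,741,538,121,617],[672,33,2,665,108,121,535]),([5,643,2,741,538,121,617],[672,33,2,665,108,121,533]),([5,643,2,741,538,121,617],[672,33,2,665,108,121,183]),([5,643,2,741,538,121,617],[672,33,2,665,108,121,181]),([5,643,2,741,538,121,617],[672,33,2,665,108,123,630]),([5,643,2,741,538,121,617],[672,33,2,665,108,123,628]),([5,643,2,741,538,121,617],[672,33,2,665,108,123,214]),([5,643,2,741,538,121,617],[672,33,2,665,108,123,212]),([5,643,2,741,538,121,617],[672,641,2,57,716,121,535]),([5,643,2,741,538,12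1,617],[672,641,2,57,716,121,533]),([5,643,2,741,538,121,617],[672,641,2,57,716,121,183]),([5,643,2,741,538,121,617],[672,641,2,57,716,121,181]),([5,643,2,741,538,121,617],[672,641,2,57,716,123,630]),([5,643,2,741,538,121,617],[672,641,2,57,716,123,628]),([5,643,2,741,538,121,617],[672,641,2,57,716,123,214]),([5,643,2,741,538,121,617],[672,641,2,57,716,123,212]),([5,643,2,741,538,121,617],[672,641,2,57,108,121,535]),([5,643,2,741,538,121,617],[672,641,2,57,108,121,533]),([5,643,2,741,538,121,617],[672,641,2,57,108,121,183]),([5,643,2,741,538,121,617],[672,641,2,57,108,121,181]),([5,643,2,741,538,121,617],[672,641,2,57,108,123,630]),([5,643,2,741,538,121,617],[672,641,2,57,108,123,628]),([5,643,2,741,538,121,617],[672,641,2,57,108,123,214]),([5,643,2,741,538,121,617],[672,641,2,57,108,123,212])] = true := by decide +kernel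
theorem c20017706 : chkFrat M20234 E20014588 [5,7,124] [126,124,123] [5,7,124,1,8,16,32,128,512] [5,7,124,1,8,16,32,128,512] [(0,[1,2,4]),(0,[1,2,4]),(0,[1,2,4]),(32,[1,2,7]),(32,[1,2,7]),(32,[1,2,7]),(33,[2,1,4]),(0,[1,2,4]),(32,[1,2,7])] [⟨0,0,[],0,0,false⟩,⟨0,0,[],0,2,false⟩,⟨3,0,[⟨6,0,0,1⟩,⟨4,0,0,0⟩,⟨0,4,7,0⟩],2,2,false⟩,⟨5,0,[⟨6,0,0,0⟩,⟨4,0,0,1⟩,⟨4,1,0,2⟩,⟨0,4,7,0⟩,⟨5,0,8,0⟩],3,2,false⟩,⟨5,0,[⟨6,0,0,0⟩,⟨4,0,0,3⟩,⟨4,1,0,4⟩,⟨0,4,7,0⟩,⟨0,16,19,0⟩,⟨5,0,8,0⟩],4,5,false⟩,⟨2,0,[⟨6,0,0,1⟩,⟨4,0,0,5⟩,⟨4,4,0,6⟩,⟨4,8,0,7⟩,⟨0,1,2,0⟩],5,3,false⟩] [] = true := by decide +kernel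
theorem c20017776 : chkFrat M20234 E20014588 [5,7,124] [126,124,121] [5,7,124,1,8,16,32,128,512] [5,7,124,1,8,16,32,128,512] [(0,[1,2,4]),(0,[1,2,4]),(0,[1,2,4]),(32,[1,2,7]),(32,[1,2,7]),(32,[1,2,7]),(33,[2,1,4]),(0,[1,2,4]),(32,[1,2,7])] [⟨0,0,[],0,0,false⟩,⟨0,0,[],0,2,false⟩,⟨3,0,[⟨6,0,0,1⟩,⟨4,0,0,0⟩,⟨0,4,7,0⟩],2,2,false⟩,⟨5,0,[⟨6,0,0,0⟩,⟨4,0,0,1⟩,⟨4,1,0,2⟩,⟨0,4,7,0⟩,⟨5,0,8,0⟩],3,2,false⟩,⟨5,0,[⟨6,0,0,0⟩,⟨4,0,0,3⟩,⟨4,1,0,4⟩,⟨0,4,7,0⟩,⟨0,16,19,0⟩,⟨5,0,8,0⟩],4,5,false⟩,⟨2,0,[⟨6,0,0,1⟩,⟨4,0,0,5⟩,⟨4,4,0,6⟩,⟨4,8,0,7⟩,⟨0,1,2,0⟩],5,3,false⟩] [] = true := by decide +kernel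
theorem c20017900 : chkFrat M20234 E20014588 [5,7,124] [124,126,123] [5,7,124,1,8,16,32,128,512] [5,7,124,1,8,16,32,128,512] [(0,[1,2,4]),(0,[1,2,4]),(0,[1,2,4]),(32,[1,2,7]),(32,[1,2,7]),(32,[1,2,7]),(33,[2,1,4]),(0,[1,2,4]),(32,[1,2,7])] [⟨0,0,[],0,0,false⟩,⟨0,0,[],0,2,false⟩,⟨3,0,[⟨6,0,0,1⟩,⟨4,0,0,0⟩,⟨0,4,7,0⟩],2,2,false⟩,⟨5,0,[⟨6,0,0,0⟩,⟨4,0,0,1⟩,⟨4,1,0,2⟩,⟨0,4,7,0⟩,⟨5,0,8,0⟩],3,2,false⟩,⟨5,0,[⟨6,0,0,0⟩,⟨4,0,0,3⟩,⟨4,1,0,4⟩,⟨0,4,7,0⟩,⟨0,16,19,0⟩,⟨5,0,8,0⟩],4,5,false⟩,⟨2,0,[⟨6,0,0,1⟩,⟨4,0,0,5⟩,⟨4,4,0,6⟩,⟨4,8,0,7⟩,⟨0,1,2,0⟩],5,3,false⟩] [] = true := by decide +kernel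
theorem c20017992 : chkFrat M20234 E20014588 [5,7,124] [126,124,123] [5,7,124,1,8,16,32,128,512] [5,7,124,1,8,16,32,128,512] [(0,[1,2,4]),(0,[1,2,4]),(0,[1,2,4]),(32,[1,2,7]),(32,[1,2,7]),(32,[1,2,7]),(33,[2,1,4]),(0,[1,2,4]),(32,[1,2,7])] [⟨0,0,[],0,0,false⟩,⟨0,0,[],0,2,false⟩,⟨3,0,[⟨6,0,0,1⟩,⟨4,0,0,0⟩,⟨0,4,7,0⟩],2,2,false⟩,⟨5,0,[⟨6,0,0,0⟩,⟨4,0,0,1⟩,⟨4,1,0,2⟩,⟨0,4,7,0⟩,⟨5,0,8,0⟩],3,2,false⟩,⟨5,0,[⟨6,0,0,0⟩,⟨4,0,0,3⟩,⟨4,1,0,4⟩,⟨0,4,7,0⟩,⟨0,16,19,0⟩,⟨5,0,8,0⟩],4,5,false⟩,⟨2,0,[⟨6,0,0,1⟩,⟨4,0,0,5⟩,⟨4,4,0,6⟩,⟨4,8,0,7⟩,⟨0,1,2,0⟩],5,3,false⟩] [] = true := by decide +kernel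
theorem c20018376 : chkFrat M20234 E20014588 [5,7,124] [126,124,121] [5,7,124,1,8,16,32,128,512] [5,7,124,1,8,16,32,128,512] [(0,[1,2,4]),(0,[1,2,4]),(0,[1,2,4]),(32,[1,2,7]),(32,[1,2,7]),(32,[1,2,7]),(33,[2,1,4]),(0,[1,2,4]),(32,[1,2,7])] [⟨0,0,[],0,0,false⟩,⟨0,0,[],0,2,false⟩,⟨3,0,[⟨6,0,0,1⟩,⟨4,0,0,0⟩,⟨0,4,7,0⟩],2,2,false⟩,⟨5,0,[⟨6,0,0,0⟩,⟨4,0,0,1⟩,⟨4,1,0,2⟩,⟨0,4,7,0⟩,⟨5,0,8,0⟩],3,2,false⟩,⟨5,0,[⟨6,0,0,0⟩,⟨4,0,0,3⟩,⟨4,1,0,4⟩,⟨0,4,7,0⟩,⟨0,16,19,0⟩,⟨5,0,8,0⟩],4,5,false⟩,⟨2,0,[⟨6,0,0,1⟩,⟨4,0,0,5⟩,⟨4,4,0,6⟩,⟨4,8,0,7⟩,⟨0,1,2,0⟩],5,3,false⟩] [] = true := by decide +kernel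
theorem c20018698 : chkFrat M20234 E20014588 [5,7,124] [124,126,123] [5,7,124,1,8,16,32,128,512] [5,7,124,1,8,16,32,128,512] [(0,[1,2,4]),(0,[1,2,4]),(0,[1,2,4]),(32,[1,2,7]),(32,[1,2,7]),(32,[1,2,7]),(33,[2,1,4]),(0,[1,2,4]),(32,[1,2,7])] [⟨0,0,[],0,0,false⟩,⟨0,0,[],0,2,false⟩,⟨3,0,[⟨6,0,0,1⟩,⟨4,0,0,0⟩,⟨0,4,7,0⟩],2,2,false⟩,⟨5,0,[⟨6,0,0,0⟩,⟨4,0,0,1⟩,⟨4,1,0,2⟩,⟨0,4,7,0⟩,⟨5,0,8,0⟩],3,2,false⟩,⟨5,0,[⟨6,0,0,0⟩,⟨4,0,0,3⟩,⟨4,1,0,4⟩,⟨0,4,7,0⟩,⟨0,16,19,0⟩,⟨5,0,8,0⟩],4,5,false⟩,⟨2,0,[⟨6,0,0,1⟩,⟨4,0,0,5⟩,⟨4,4,0,6⟩,⟨4,8,0,7⟩,⟨0,1,2,0⟩],5,3,false⟩] [] = true := by decide +kernel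
theorem c20018860 : chkFrat M20234 E20014588 [5,7,124] [124,126,121] [5,7,124,1,8,16,32,128,512] [5,7,124,1,8,16,32,128,512] [(0,[1,2,4]),(0,[1,2,4]),(0,[1,2,4]),(32,[1,2,7]),(32,[1,2,7]),(32,[1,2,7]),(33,[2,1,4]),(0,[1,2,4]),(32,[1,2,7])] [⟨0,0,[],0,0,false⟩,⟨0,0,[],0,2,false⟩,⟨3,0,[⟨6,0,0,1⟩,⟨4,0,0,0⟩,⟨0,4,7,0⟩],2,2,false⟩,⟨5,0,[⟨6,0,0,0⟩,⟨4,0,0,1⟩,⟨4,1,0,2⟩,⟨0,4,7,0⟩,⟨5,0,8,0⟩],3,2,false⟩,⟨5,0,[⟨6,0,0,0⟩,⟨4,0,0,3⟩,⟨4,1,0,4⟩,⟨0,4,7,0⟩,⟨0,16,19,0⟩,⟨5,0,8,0⟩],4,5,false⟩,⟨2,0,[⟨6,0,0,1⟩,⟨4,0,0,5⟩,⟨4,4,0,6⟩,⟨4,8,0,7⟩,⟨0,1,2,0⟩],5,3,false⟩] [] = true := by decide +kernel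
theorem c20018884 : chkFrat M20234 E20014588 [5,7,124] [126,124,121] [5,7,124,1,8,16,32,128,512] [5,7,124,1,8,16,32,128,512] [(0,[1,2,4]),(0,[1,2,4]),(0,[1,2,4]),(32,[1,2,7]),(32,[1,2,7]),(32,[1,2,7]),(33,[2,1,4]),(0,[1,2,4]),(32,[1,2,7])] [⟨0,0,[],0,0,false⟩,⟨0,0,[],0,2,false⟩,⟨3,0,[⟨6,0,0,1⟩,⟨4,0,0,0⟩,⟨0,4,7,0⟩],2,2,false⟩,⟨5,0,[⟨6,0,0,0⟩,⟨4,0,0,1⟩,⟨4,1,0,2⟩,⟨0,4,7,0⟩,⟨5,0,8,0⟩],3,2,false⟩,⟨5,0,[⟨6,0,0,0⟩,⟨4,0,0,3⟩,⟨4,1,0,4⟩,⟨0,4,7,0⟩,⟨0,16,19,0⟩,⟨5,0,8,0⟩],4,5,false⟩,⟨2,0,[⟨6,0,0,1⟩,⟨4,0,0,5⟩,⟨4,4,0,6⟩,⟨4,8,0,7⟩,⟨0,1,2,0⟩],5,3,false⟩] [] = true := by decide +kernel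
theorem c20018954 : chkFrat M20234 E20014588 [5,7,124] [124,126,121] [5,7,124,1,8,16,32,128,512] [5,7,124,1,8,16,32,128,512] [(0,[1,2,4]),(0,[1,2,4]),(0,[1,2,4]),(32,[1,2,7]),(32,[1,2,7]),(32,[1,2,7]),(33,[2,1,4]),(0,[1,2,4]),(32,[1,2,7])] [⟨0,0,[],0,0,false⟩,⟨0,0,[],0,2,false⟩,⟨3,0,[⟨6,0,0,1⟩,⟨4,0,0,0⟩,⟨0,4,7,0⟩],2,2,false⟩,⟨5,0,[⟨6,0,0,0⟩,⟨4,0,0,1⟩,⟨4,1,0,2⟩,⟨0,4,7,0⟩,⟨5,0,8,0⟩],3,2,false⟩,⟨5,0,[⟨6,0,0,0⟩,⟨4,0,0,3⟩,⟨4,1,0,4⟩,⟨0,4,7,0⟩,⟨0,16,19,0⟩,⟨5,0,8,0⟩],4,5,false⟩,⟨2,0,[⟨6,0,0,1⟩,⟨4,0,0,5⟩,⟨4,4,0,6⟩,⟨4,8,0,7⟩,⟨0,1,2,0⟩],5,3,false⟩] [] = true := by decide +kernel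
theorem c20019022 : chkFrat M20234 E20014588 [5,7,124] [124,126,121] [5,7,124,1,8,16,32,128,512] [5,7,124,1,8,16,32,128,512] [(0,[1,2,4]),(0,[1,2,4]),(0,[1,2,4]),(32,[1,2,7]),(32,[1,2,7]),(32,[1,2,7]),(33,[2,1,4]),(0,[1,2,4]),(32,[1,2,7])] [⟨0,0,[],0,0,false⟩,⟨0,0,[],0,2,false⟩,⟨3,0,[⟨6,0,0,1⟩,⟨4,0,0,0⟩,⟨0,4,7,0⟩],2,2,false⟩,⟨5,0,[⟨6,0,0,0⟩,⟨4,0,0,1⟩,⟨4,1,0,2⟩,⟨0,4,7,0⟩,⟨5,0,8,0⟩],3,2,false⟩,⟨5,0,[⟨6,0,0,0⟩,⟨4,0,0,3⟩,⟨4,1,0,4⟩,⟨0,4,7,0⟩,⟨0,16,19,0⟩,⟨5,0,8,0⟩],4,5,false⟩,⟨2,0,[⟨6,0,0,1⟩,⟨4,0,0,5⟩,⟨4,4,0,6⟩,⟨4,8,0,7⟩,⟨0,1,2,0⟩],5,3,false⟩] [] = true := by decide +kernel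
theorem c20019080 : chkFrat M20234 E20014588 [5,7,124] [124,126,121] [5,7,124,1,8,16,32,128,512] [5,7,124,1,8,16,32,128,512] [(0,[1,2,4]),(0,[1,2,4]),(0,[1,2,4]),(32,[1,2,7]),(32,[1,2,7]),(32,[1,2,7]),(33,[2,1,4]),(0,[1,2,4]),(32,[1,2,7])] [⟨0,0,[],0,0,false⟩,⟨0,0,[],0,2,false⟩,⟨3,0,[⟨6,0,0,1⟩,⟨4,0,0,0⟩,⟨0,4,7,0⟩],2,2,false⟩,⟨5,0,[⟨6,0,0,0⟩,⟨4,0,0,1⟩,⟨4,1,0,2⟩,⟨0,4,7,0⟩,⟨5,0,8,0⟩],3,2,false⟩,⟨5,0,[⟨6,0,0,0⟩,⟨4,0,0,3⟩,⟨4,1,0,4⟩,⟨0,4,7,0⟩,⟨0,16,19,0⟩,⟨5,0,8,0⟩],4,5,false⟩,⟨2,0,[⟨6,0,0,1⟩,⟨4,0,0,5⟩,⟨4,4,0,6⟩,⟨4,8,0,7⟩,⟨0,1,2,0⟩],5,3,false⟩] [] = true := by decide +kernel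
theorem c20019110 : chkFrat M20234 E20014588 [5,7,124] [124,126,123] [5,7,124,1,8,16,32,128,512] [5,7,124,1,8,16,32,128,512] [(0,[1,2,4]),(0,[1,2,4]),(0,[1,2,4]),(32,[1,2,7]),(32,[1,2,7]),(32,[1,2,7]),(33,[2,1,4]),(0,[1,2,4]),(32,[1,2,7])] [⟨0,0,[],0,0,false⟩,⟨0,0,[],0,2,false⟩,⟨3,0,[⟨6,0,0,1⟩,⟨4,0,0,0⟩,⟨0,4,7,0⟩],2,2,false⟩,⟨5,0,[⟨6,0,0,0⟩,⟨4,0,0,1⟩,⟨4,1,0,2⟩,⟨0,4,7,0⟩,⟨5,0,8,0⟩],3,2,false⟩,⟨5,0,[⟨6,0,0,0⟩,⟨4,0,0,3⟩,⟨4,1,0,4⟩,⟨0,4,7,0⟩,⟨0,16,19,0⟩,⟨5,0,8,0⟩],4,5,false⟩,⟨2,0,[⟨6,0,0,1⟩,⟨4,0,0,5⟩,⟨4,4,0,6⟩,⟨4,8,0,7⟩,⟨0,1,2,0⟩],5,3,false⟩] [] = true := by decide +kernel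
theorem c20019176 : chkFrat M20234 E20014588 [5,7,124] [126,124,123] [5,7,124,1,8,16,32,128,512] [5,7,124,1,8,16,32,128,512] [(0,[1,2,4]),(0,[1,2,4]),(0,[1,2,4]),(32,[1,2,7]),(32,[1,2,7]),(32,[1,2,7]),(33,[2,1,4]),(0,[1,2,4]),(32,[1,2,7])] [⟨0,0,[],0,0,false⟩,⟨0,0,[],0,2,false⟩,⟨3,0,[⟨6,0,0,1⟩,⟨4,0,0,0⟩,⟨0,4,7,0⟩],2,2,false⟩,⟨5,0,[⟨6,0,0,0⟩,⟨4,0,0,1⟩,⟨4,1,0,2⟩,⟨0,4,7,0⟩,⟨5,0,8,0⟩],3,2,false⟩,⟨5,0,[⟨6,0,0,0⟩,⟨4,0,0,3⟩,⟨4,1,0,4⟩,⟨0,4,7,0⟩,⟨0,16,19,0⟩,⟨5,0,8,0⟩],4,5,false⟩,⟨2,0,[⟨6,0,0,1⟩,⟨4,0,0,5⟩,⟨4,4,0,6⟩,⟨4,8,0,7⟩,⟨0,1,2,0⟩],5,3,false⟩] [] = true := by decide +kernel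
theorem c20019246 : chkFrat M20234 E20014588 [5,7,124] [124,126,123] [5,7,124,1,8,16,32,128,512] [5,7,124,1,8,16,32,128,512] [(0,[1,2,4]),(0,[1,2,4]),(0,[1,2,4]),(32,[1,2,7]),(32,[1,2,7]),(32,[1,2,7]),(33,[2,1,4]),(0,[1,2,4]),(32,[1,2,7])] [⟨0,0,[],0,0,false⟩,⟨0,0,[],0,2,false⟩,⟨3,0,[⟨6,0,0,1⟩,⟨4,0,0,0⟩,⟨0,4,7,0⟩],2,2,false⟩,⟨5,0,[⟨6,0,0,0⟩,⟨4,0,0,1⟩,⟨4,1,0,2⟩,⟨0,4,7,0⟩,⟨5,0,8,0⟩],3,2,false⟩,⟨5,0,[⟨6,0,0,0⟩,⟨4,0,0,3⟩,⟨4,1,0,4⟩,⟨0,4,7,0⟩,⟨0,16,19,0⟩,⟨5,0,8,0⟩],4,5,false⟩,⟨2,0,[⟨6,0,0,1⟩,⟨4,0,0,5⟩,⟨4,4,0,6⟩,⟨4,8,0,7⟩,⟨0,1,2,0⟩],5,3,false⟩] [] = true := by decide +kernel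
theorem c20019290 : chkFrat M20234 E20014588 [5,7,124] [124,126,123] [5,7,124,1,8,16,32,128,512] [5,7,124,1,8,16,32,128,512] [(0,[1,2,4]),(0,[1,2,4]),(0,[1,2,4]),(32,[1,2,7]),(32,[1,2,7]),(32,[1,2,7]),(33,[2,1,4]),(0,[1,2,4]),(32,[1,2,7])] [⟨0,0,[],0,0,false⟩,⟨0,0,[],0,2,false⟩,⟨3,0,[⟨6,0,0,1⟩,⟨4,0,0,0⟩,⟨0,4,7,0⟩],2,2,false⟩,⟨5,0,[⟨6,0,0,0⟩,⟨4,0,0,1⟩,⟨4,1,0,2⟩,⟨0,4,7,0⟩,⟨5,0,8,0⟩],3,2,false⟩,⟨5,0,[⟨6,0,0,0⟩,⟨4,0,0,3⟩,⟨4,1,0,4⟩,⟨0,4,7,0⟩,⟨0,16,19,0⟩,⟨5,0,8,0⟩],4,5,false⟩,⟨2,0,[⟨6,0,0,1⟩,⟨4,0,0,5⟩,⟨4,4,0,6⟩,⟨4,8,0,7⟩,⟨0,1,2,0⟩],5,3,false⟩] [] = true := by decide +kernel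
theorem c20019452 : chkFrat M20234 E20014588 [5,7,124] [124,126,121] [5,7,124,1,8,16,32,128,512] [5,7,124,1,8,16,32,128,512] [(0,[1,2,4]),(0,[1,2,4]),(0,[1,2,4]),(32,[1,2,7]),(32,[1,2,7]),(32,[1,2,7]),(33,[2,1,4]),(0,[1,2,4]),(32,[1,2,7])] [⟨0,0,[],0,0,false⟩,⟨0,0,[],0,2,false⟩,⟨3,0,[⟨6,0,0,1⟩,⟨4,0,0,0⟩,⟨0,4,7,0⟩],2,2,false⟩,⟨5,0,[⟨6,0,0,0⟩,⟨4,0,0,1⟩,⟨4,1,0,2⟩,⟨0,4,7,0⟩,⟨5,0,8,0⟩],3,2,false⟩,⟨5,0,[⟨6,0,0,0⟩,⟨4,0,0,3⟩,⟨4,1,0,4⟩,⟨0,4,7,0⟩,⟨0,16,19,0⟩,⟨5,0,8,0⟩],4,5,false⟩,⟨2,0,[⟨6,0,0,1⟩,⟨4,0,0,5⟩,⟨4,4,0,6⟩,⟨4,8,0,7⟩,⟨0,1,2,0⟩],5,3,false⟩] [] = true := by decide +kernel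
theorem c20019476 : chkFrat M20234 E20014588 [5,7,124] [126,124,121] [5,7,124,1,8,16,32,128,512] [5,7,124,1,8,16,32,128,512] [(0,[1,2,4]),(0,[1,2,4]),(0,[1,2,4]),(32,[1,2,7]),(32,[1,2,7]),(32,[1,2,7]),(33,[2,1,4]),(0,[1,2,4]),(32,[1,2,7])] [⟨0,0,[],0,0,false⟩,⟨0,0,[],0,2,false⟩,⟨3,0,[⟨6,0,0,1⟩,⟨4,0,0,0⟩,⟨0,4,7,0⟩],2,2,false⟩,⟨5,0,[⟨6,0,0,0⟩,⟨4,0,0,1⟩,⟨4,1,0,2⟩,⟨0,4,7,0⟩,⟨5,0,8,0⟩],3,2,false⟩,⟨5,0,[⟨6,0,0,0⟩,⟨4,0,0,3⟩,⟨4,1,0,4⟩,⟨0,4,7,0⟩,⟨0,16,19,0⟩,⟨5,0,8,0⟩],4,5,false⟩,⟨2,0,[⟨6,0,0,1⟩,⟨4,0,0,5⟩,⟨4,4,0,6⟩,⟨4,8,0,7⟩,⟨0,1,2,0⟩],5,3,false⟩] [] = true := by decide +kernel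
theorem c20019546 : chkFrat M20234 E20014588 [5,7,124] [124,126,121] [5,7,124,1,8,16,32,128,512] [5,7,124,1,8,16,32,128,512] [(0,[1,2,4]),(0,[1,2,4]),(0,[1,2,4]),(32,[1,2,7]),(32,[1,2,7]),(32,[1,2,7]),(33,[2,1,4]),(0,[1,2,4]),(32,[1,2,7])] [⟨0,0,[],0,0,false⟩,⟨0,0,[],0,2,false⟩,⟨3,0,[⟨6,0,0,1⟩,⟨4,0,0,0⟩,⟨0,4,7,0⟩],2,2,false⟩,⟨5,0,[⟨6,0,0,0⟩,⟨4,0,0,1⟩,⟨4,1,0,2⟩,⟨0,4,7,0⟩,⟨5,0,8,0⟩],3,2,false⟩,⟨5,0,[⟨6,0,0,0⟩,⟨4,0,0,3⟩,⟨4,1,0,4⟩,⟨0,4,7,0⟩,⟨0,16,19,0⟩,⟨5,0,8,0⟩],4,5,false⟩,⟨2,0,[⟨6,0,0,1⟩,⟨4,0,0,5⟩,⟨4,4,0,6⟩,⟨4,8,0,7⟩,⟨0,1,2,0⟩],5,3,false⟩] [] = true := by decide +kernel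
theorem c20019614 : chkFrat M20234 E20014588 [5,7,124] [124,126,121] [5,7,124,1,8,16,32,128,512] [5,7,124,1,8,16,32,128,512] [(0,[1,2,4]),(0,[1,2,4]),(0,[1,2,4]),(32,[1,2,7]),(32,[1,2,7]),(32,[1,2,7]),(33,[2,1,4]),(0,[1,2,4]),(32,[1,2,7])] [⟨0,0,[],0,0,false⟩,⟨0,0,[],0,2,false⟩,⟨3,0,[⟨6,0,0,1⟩,⟨4,0,0,0⟩,⟨0,4,7,0⟩],2,2,false⟩,⟨5,0,[⟨6,0,0,0⟩,⟨4,0,0,1⟩,⟨4,1,0,2⟩,⟨0,4,7,0⟩,⟨5,0,8,0⟩],3,2,false⟩,⟨5,0,[⟨6,0,0,0⟩,⟨4,0,0,3⟩,⟨4,1,0,4⟩,⟨0,4,7,0⟩,⟨0,16,19,0⟩,⟨5,0,8,0⟩],4,5,false⟩,⟨2,0,[⟨6,0,0,1⟩,⟨4,0,0,5⟩,⟨4,4,0,6⟩,⟨4,8,0,7⟩,⟨0,1,2,0⟩],5,3,false⟩] [] = true := by decide +kernel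
theorem c20019672 : chkFrat M20234 E20014588 [5,7,124] [124,126,121] [5,7,124,1,8,16,32,128,512] [5,7,124,1,8,16,32,128,512] [(0,[1,2,4]),(0,[1,2,4]),(0,[1,2,4]),(32,[1,2,7]),(32,[1,2,7]),(32,[1,2,7]),(33,[2,1,4]),(0,[1,2,4]),(32,[1,2,7])] [⟨0,0,[],0,0,false⟩,⟨0,0,[],0,2,false⟩,⟨3,0,[⟨6,0,0,1⟩,⟨4,0,0,0⟩,⟨0,4,7,0⟩],2,2,false⟩,⟨5,0,[⟨6,0,0,0⟩,⟨4,0,0,1⟩,⟨4,1,0,2⟩,⟨0,4,7,0⟩,⟨5,0,8,0⟩],3,2,false⟩,⟨5,0,[⟨6,0,0,0⟩,⟨4,0,0,3⟩,⟨4,1,0,4⟩,⟨0,4,7,0⟩,⟨0,16,19,0⟩,⟨5,0,8,0⟩],4,5,false⟩,⟨2,0,[⟨6,0,0,1⟩,⟨4,0,0,5⟩,⟨4,4,0,6⟩,⟨4,8,0,7⟩,⟨0,1,2,0⟩],5,3,false⟩] [] = true := by decide +kernel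
theorem c20019702 : chkFrat M20234 E20014588 [5,7,124] [124,126,123] [5,7,124,1,8,16,32,128,512] [5,7,124,1,8,16,32,128,512] [(0,[1,2,4]),(0,[1,2,4]),(0,[1,2,4]),(32,[1,2,7]),(32,[1,2,7]),(32,[1,2,7]),(33,[2,1,4]),(0,[1,2,4]),(32,[1,2,7])] [⟨0,0,[],0,0,false⟩,⟨0,0,[],0,2,false⟩,⟨3,0,[⟨6,0,0,1⟩,⟨4,0,0,0⟩,⟨0,4,7,0⟩],2,2,false⟩,⟨5,0,[⟨6,0,0,0⟩,⟨4,0,0,1⟩,⟨4,1,0,2⟩,⟨0,4,7,0⟩,⟨5,0,8,0⟩],3,2,false⟩,⟨5,0,[⟨6,0,0,0⟩,⟨4,0,0,3⟩,⟨4,1,0,4⟩,⟨0,4,7,0⟩,⟨0,16,19,0⟩,⟨5,0,8,0⟩],4,5,false⟩,⟨2,0,[⟨6,0,0,1⟩,⟨4,0,0,5⟩,⟨4,4,0,6⟩,⟨4,8,0,7⟩,⟨0,1,2,0⟩],5,3,false⟩] [] = true := by decide +kernel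
theorem c20019768 : chkFrat M20234 E20014588 [5,7,124] [126,124,123] [5,7,124,1,8,16,32,128,512] [5,7,124,1,8,16,32,128,512] [(0,[1,2,4]),(0,[1,2,4]),(0,[1,2,4]),(32,[1,2,7]),(32,[1,2,7]),(32,[1,2,7]),(33,[2,1,4]),(0,[1,2,4]),(32,[1,2,7])] [⟨0,0,[],0,0,false⟩,⟨0,0,[],0,2,false⟩,⟨3,0,[⟨6,0,0,1⟩,⟨4,0,0,0⟩,⟨0,4,7,0⟩],2,2,false⟩,⟨5,0,[⟨6,0,0,0⟩,⟨4,0,0,1⟩,⟨4,1,0,2⟩,⟨0,4,7,0⟩,⟨5,0,8,0⟩],3,2,false⟩,⟨5,0,[⟨6,0,0,0⟩,⟨4,0,0,3⟩,⟨4,1,0,4⟩,⟨0,4,7,0⟩,⟨0,16,19,0⟩,⟨5,0,8,0⟩],4,5,false⟩,⟨2,0,[⟨6,0,0,1⟩,⟨4,0,0,5⟩,⟨4,4,0,6⟩,⟨4,8,0,7⟩,⟨0,1,2,0⟩],5,3,false⟩] [] = true := by decide +kernel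
theorem c20019838 : chkFrat M20234 E20014588 [5,7,124] [124,126,123] [5,7,124,1,8,16,32,128,512] [5,7,124,1,8,16,32,128,512] [(0,[1,2,4]),(0,[1,2,4]),(0,[1,2,4]),(32,[1,2,7]),(32,[1,2,7]),(32,[1,2,7]),(33,[2,1,4]),(0,[1,2,4]),(32,[1,2,7])] [⟨0,0,[],0,0,false⟩,⟨0,0,[],0,2,false⟩,⟨3,0,[⟨6,0,0,1⟩,⟨4,0,0,0⟩,⟨0,4,7,0⟩],2,2,false⟩,⟨5,0,[⟨6,0,0,0⟩,⟨4,0,0,1⟩,⟨4,1,0,2⟩,⟨0,4,7,0⟩,⟨5,0,8,0⟩],3,2,false⟩,⟨5,0,[⟨6,0,0,0⟩,⟨4,0,0,3⟩,⟨4,1,0,4⟩,⟨0,4,7,0⟩,⟨0,16,19,0⟩,⟨5,0,8,0⟩],4,5,false⟩,⟨2,0,[⟨6,0,0,1⟩,⟨4,0,0,5⟩,⟨4,4,0,6⟩,⟨4,8,0,7⟩,⟨0,1,2,0⟩],5,3,false⟩] [] = true := by decide +kernel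
theorem c20016326 : chkSyM M20234 [520,525,522,630,8,16,33,129,257] (gens M20234.n) = true := by decide +kernel
theorem c20016345 : chkFrat M20234 E20014546 [5,7,124] [123,121,7] [5,7,124,1,8,16,32,128,512] [5,7,124,1,8,16,32,128,512] [(0,[1,2,4]),(0,[1,2,4]),(0,[1,2,4]),(33,[1,2,7]),(33,[1,2,7]),(33,[1,2,7]),(1,[2,1,4]),(0,[1,2,4]),(33,[1,2,7])] [⟨0,0,[],0,0,false⟩,⟨0,0,[],0,2,false⟩,⟨3,0,[⟨6,0,0,1⟩,⟨4,0,0,0⟩,⟨0,4,7,0⟩],2,2,false⟩] [] = true := by decide +kernel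
theorem c20016423 : chkFrat M20234 E20014546 [5,7,124] [121,123,7] [5,7,124,1,8,16,32,128,512] [5,7,124,1,8,16,32,128,512] [(0,[1,2,4]),(0,[1,2,4]),(0,[1,2,4]),(33,[1,2,7]),(33,[1,2,7]),(33,[1,2,7]),(1,[2,1,4]),(0,[1,2,4]),(33,[1,2,7])] [⟨0,0,[],0,0,false⟩,⟨0,0,[],0,2,false⟩,⟨3,0,[⟨6,0,0,1⟩,⟨4,0,0,0⟩,⟨0,4,7,0⟩],2,2,false⟩] [] = true := by decide +kernel
theorem c20016559 : chkFrat M20234 E20014546 [5,7,124] [121,123,5] [5,7,124,1,8,16,32,128,512] [5,7,124,1,8,16,32,128,512] [(0,[1,2,4]),(0,[1,2,4]),(0,[1,2,4]),(33,[1,2,7]),(33,[1,2,7]),(33,[1,2,7]),(1,[2,1,4]),(0,[1,2,4]),(33,[1,2,7])] [⟨0,0,[],0,0,false⟩,⟨0,0,[],0,2,false⟩,⟨3,0,[⟨6,0,0,1⟩,⟨4,0,0,0⟩,⟨0,4,7,0⟩],2,2,false⟩] [] = true := by decide +kernel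
theorem c20016657 : chkFrat M20234 E20014546 [5,7,124] [121,123,7] [5,7,124,1,8,16,32,128,512] [5,7,124,1,8,16,32,128,512] [(0,[1,2,4]),(0,[1,2,4]),(0,[1,2,4]),(33,[1,2,7]),(33,[1,2,7]),(33,[1,2,7]),(1,[2,1,4]),(0,[1,2,4]),(33,[1,2,7])] [⟨0,0,[],0,0,false⟩,⟨0,0,[],0,2,false⟩,⟨3,0,[⟨6,0,0,1⟩,⟨4,0,0,0⟩,⟨0,4,7,0⟩],2,2,false⟩] [] = true := by decide +kernel
theorem c20016739 : chkFrat M20234 E20014546 [5,7,124] [123,121,7] [5,7,124,1,8,16,32,128,512] [5,7,124,1,8,16,32,128,512] [(0,[1,2,4]),(0,[1,2,4]),(0,[1,2,4]),(33,[1,2,7]),(33,[1,2,7]),(33,[1,2,7]),(1,[2,1,4]),(0,[1,2,4]),(33,[1,2,7])] [⟨0,0,[],0,0,false⟩,⟨0,0,[],0,2,false⟩,⟨3,0,[⟨6,0,0,1⟩,⟨4,0,0,0⟩,⟨0,4,7,0⟩],2,2,false⟩] [] = true := by decide +kernel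
theorem c20016811 : chkFrat M20234 E20014546 [5,7,124] [123,121,5] [5,7,124,1,8,16,32,128,512] [5,7,124,1,8,16,32,128,512] [(0,[1,2,4]),(0,[1,2,4]),(0,[1,2,4]),(33,[1,2,7]),(33,[1,2,7]),(33,[1,2,7]),(1,[2,1,4]),(0,[1,2,4]),(33,[1,2,7])] [⟨0,0,[],0,0,false⟩,⟨0,0,[],0,2,false⟩,⟨3,0,[⟨6,0,0,1⟩,⟨4,0,0,0⟩,⟨0,4,7,0⟩],2,2,false⟩] [] = true := by decide +kernel
theorem c20016881 : chkFrat M20234 E20014546 [5,7,124] [123,121,7] [5,7,124,1,8,16,32,128,512] [5,7,124,1,8,16,32,128,512] [(0,[1,2,4]),(0,[1,2,4]),(0,[1,2,4]),(33,[1,2,7]),(33,[1,2,7]),(33,[1,2,7]),(1,[2,1,4]),(0,[1,2,4]),(33,[1,2,7])] [⟨0,0,[],0,0,false⟩,⟨0,0,[],0,2,false⟩,⟨3,0,[⟨6,0,0,1⟩,⟨4,0,0,0⟩,⟨0,4,7,0⟩],2,2,false⟩] [] = true := by decide +kernel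
theorem c20016939 : chkFrat M20234 E20014546 [5,7,124] [121,123,5] [5,7,124,1,8,16,32,128,512] [5,7,124,1,8,16,32,128,512] [(0,[1,2,4]),(0,[1,2,4]),(0,[1,2,4]),(33,[1,2,7]),(33,[1,2,7]),(33,[1,2,7]),(1,[2,1,4]),(0,[1,2,4]),(33,[1,2,7])] [⟨0,0,[],0,0,false⟩,⟨0,0,[],0,2,false⟩,⟨3,0,[⟨6,0,0,1⟩,⟨4,0,0,0⟩,⟨0,4,7,0⟩],2,2,false⟩] [] = true := by decide +kernel
theorem c20017087 : chkFrat M20234 E20014546 [5,7,124] [123,121,7] [5,7,124,1,8,16,32,128,512] [5,7,124,1,8,16,32,128,512] [(0,[1,2,4]),(0,[1,2,4]),(0,[1,2,4]),(33,[1,2,7]),(33,[1,2,7]),(33,[1,2,7]),(1,[2,1,4]),(0,[1,2,4]),(33,[1,2,7])] [⟨0,0,[],0,0,false⟩,⟨0,0,[],0,2,false⟩,⟨3,0,[⟨6,0,0,1⟩,⟨4,0,0,0⟩,⟨0,4,7,0⟩],2,2,false⟩] [] = true := by decide +kernel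
theorem c20017157 : chkFrat M20234 E20014546 [5,7,124] [121,123,7] [5,7,124,1,8,16,32,128,512] [5,7,124,1,8,16,32,128,512] [(0,[1,2,4]),(0,[1,2,4]),(0,[1,2,4]),(33,[1,2,7]),(33,[1,2,7]),(33,[1,2,7]),(1,[2,1,4]),(0,[1,2,4]),(33,[1,2,7])] [⟨0,0,[],0,0,false⟩,⟨0,0,[],0,2,false⟩,⟨3,0,[⟨6,0,0,1⟩,⟨4,0,0,0⟩,⟨0,4,7,0⟩],2,2,false⟩] [] = true := by decide +kernel
theorem c20017249 : chkFrat M20234 E20014546 [5,7,124] [121,123,7] [5,7,124,1,8,16,32,128,512] [5,7,124,1,8,16,32,128,512] [(0,[1,2,4]),(0,[1,2,4]),(0,[1,2,4]),(33,[1,2,7]),(33,[1,2,7]),(33,[1,2,7]),(1,[2,1,4]),(0,[1,2,4]),(33,[1,2,7])] [⟨0,0,[],0,0,false⟩,⟨0,0,[],0,2,false⟩,⟨3,0,[⟨6,0,0,1⟩,⟨4,0,0,0⟩,⟨0,4,7,0⟩],2,2,false⟩] [] = true := by decide +kernel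
theorem c20017319 : chkFrat M20234 E20014546 [5,7,124] [121,123,5] [5,7,124,1,8,16,32,128,512] [5,7,124,1,8,16,32,128,512] [(0,[1,2,4]),(0,[1,2,4]),(0,[1,2,4]),(33,[1,2,7]),(33,[1,2,7]),(33,[1,2,7]),(1,[2,1,4]),(0,[1,2,4]),(33,[1,2,7])] [⟨0,0,[],0,0,false⟩,⟨0,0,[],0,2,false⟩,⟨3,0,[⟨6,0,0,1⟩,⟨4,0,0,0⟩,⟨0,4,7,0⟩],2,2,false⟩] [] = true := by decide +kernel
theorem c20017371 : chkFrat M20234 E20014546 [5,7,124] [123,121,5] [5,7,124,1,8,16,32,128,512] [5,7,124,1,8,16,32,128,512] [(0,[1,2,4]),(0,[1,2,4]),(0,[1,2,4]),(33,[1,2,7]),(33,[1,2,7]),(33,[1,2,7]),(1,[2,1,4]),(0,[1,2,4]),(33,[1,2,7])] [⟨0,0,[],0,0,false⟩,⟨0,0,[],0,2,false⟩,⟨3,0,[⟨6,0,0,1⟩,⟨4,0,0,0⟩,⟨0,4,7,0⟩],2,2,false⟩] [] = true := by decide +kernel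
theorem c20017441 : chkFrat M20234 E20014546 [5,7,124] [123,121,7] [5,7,124,1,8,16,32,128,512] [5,7,124,1,8,16,32,128,512] [(0,[1,2,4]),(0,[1,2,4]),(0,[1,2,4]),(33,[1,2,7]),(33,[1,2,7]),(33,[1,2,7]),(1,[2,1,4]),(0,[1,2,4]),(33,[1,2,7])] [⟨0,0,[],0,0,false⟩,⟨0,0,[],0,2,false⟩,⟨3,0,[⟨6,0,0,1⟩,⟨4,0,0,0⟩,⟨0,4,7,0⟩],2,2,false⟩] [] = true := by decide +kernel
theorem c20017517 : chkFrat M20234 E20014546 [5,7,124] [123,121,7] [5,7,124,1,8,16,32,128,512] [5,7,124,1,8,16,32,128,512] [(0,[1,2,4]),(0,[1,2,4]),(0,[1,2,4]),(33,[1,2,7]),(33,[1,2,7]),(33,[1,2,7]),(1,[2,1,4]),(0,[1,2,4]),(33,[1,2,7])] [⟨0,0,[],0,0,false⟩,⟨0,0,[],0,2,false⟩,⟨3,0,[⟨6,0,0,1⟩,⟨4,0,0,0⟩,⟨0,4,7,0⟩],2,2,false⟩] [] = true := by decide +kernel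
theorem c20017589 : chkFrat M20234 E20014546 [5,7,124] [123,121,7] [5,7,124,1,8,16,32,128,512] [5,7,124,1,8,16,32,128,512] [(0,[1,2,4]),(0,[1,2,4]),(0,[1,2,4]),(33,[1,2,7]),(33,[1,2,7]),(33,[1,2,7]),(1,[2,1,4]),(0,[1,2,4]),(33,[1,2,7])] [⟨0,0,[],0,0,false⟩,⟨0,0,[],0,2,false⟩,⟨3,0,[⟨6,0,0,1⟩,⟨4,0,0,0⟩,⟨0,4,7,0⟩],2,2,false⟩] [] = true := by decide +kernel
theorem c20017685 : chkFrat M20234 E20014546 [5,7,124] [121,123,5] [5,7,124,1,8,16,32,128,512] [5,7,124,1,8,16,32,128,512] [(0,[1,2,4]),(0,[1,2,4]),(0,[1,2,4]),(33,[1,2,7]),(33,[1,2,7]),(33,[1,2,7]),(1,[2,1,4]),(0,[1,2,4]),(33,[1,2,7])] [⟨0,0,[],0,0,false⟩,⟨0,0,[],0,2,false⟩,⟨3,0,[⟨6,0,0,1⟩,⟨4,0,0,0⟩,⟨0,4,7,0⟩],2,2,false⟩] [] = true := by decide +kernel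
theorem c20017788 : chkFrat M20234 E20014546 [5,7,124] [123,121,5] [5,7,124,1,8,16,32,128,512] [5,7,124,1,8,16,32,128,512] [(0,[1,2,4]),(0,[1,2,4]),(0,[1,2,4]),(33,[1,2,7]),(33,[1,2,7]),(33,[1,2,7]),(1,[2,1,4]),(0,[1,2,4]),(33,[1,2,7])] [⟨0,0,[],0,0,false⟩,⟨0,0,[],0,2,false⟩,⟨3,0,[⟨6,0,0,1⟩,⟨4,0,0,0⟩,⟨0,4,7,0⟩],2,2,false⟩] [] = true := by decide +kernel
theorem c20017859 : chkFrat M20234 E20014546 [5,7,124] [121,123,7] [5,7,124,1,8,16,32,128,512] [5,7,124,1,8,16,32,128,512] [(0,[1,2,4]),(0,[1,2,4]),(0,[1,2,4]),(33,[1,2,7]),(33,[1,2,7]),(33,[1,2,7]),(1,[2,1,4]),(0,[1,2,4]),(33,[1,2,7])] [⟨0,0,[],0,0,false⟩,⟨0,0,[],0,2,false⟩,⟨3,0,[⟨6,0,0,1⟩,⟨4,0,0,0⟩,⟨0,4,7,0⟩],2,2,false⟩] [] = true := by decide +kernel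
theorem c20017977 : chkFrat M20234 E20014546 [5,7,124] [121,123,7] [5,7,124,1,8,16,32,128,512] [5,7,124,1,8,16,32,128,512] [(0,[1,2,4]),(0,[1,2,4]),(0,[1,2,4]),(33,[1,2,7]),(33,[1,2,7]),(33,[1,2,7]),(1,[2,1,4]),(0,[1,2,4]),(33,[1,2,7])] [⟨0,0,[],0,0,false⟩,⟨0,0,[],0,2,false⟩,⟨3,0,[⟨6,0,0,1⟩,⟨4,0,0,0⟩,⟨0,4,7,0⟩],2,2,false⟩] [] = true := by decide +kernel
theorem c20018047 : chkFrat M20234 E20014546 [5,7,124] [121,123,7] [5,7,124,1,8,16,32,128,512] [5,7,124,1,8,16,32,128,512] [(0,[1,2,4]),(0,[1,2,4]),(0,[1,2,4]),(33,[1,2,7]),(33,[1,2,7]),(33,[1,2,7]),(1,[2,1,4]),(0,[1,2,4]),(33,[1,2,7])] [⟨0,0,[],0,0,false⟩,⟨0,0,[],0,2,false⟩,⟨3,0,[⟨6,0,0,1⟩,⟨4,0,0,0⟩,⟨0,4,7,0⟩],2,2,false⟩] [] = true := by decide +kernel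
theorem c20018117 : chkFrat M20234 E20014546 [5,7,124] [121,123,7] [5,7,124,1,8,16,32,128,512] [5,7,124,1,8,16,32,128,512] [(0,[1,2,4]),(0,[1,2,4]),(0,[1,2,4]),(33,[1,2,7]),(33,[1,2,7]),(33,[1,2,7]),(1,[2,1,4]),(0,[1,2,4]),(33,[1,2,7])] [⟨0,0,[],0,0,false⟩,⟨0,0,[],0,2,false⟩,⟨3,0,[⟨6,0,0,1⟩,⟨4,0,0,0⟩,⟨0,4,7,0⟩],2,2,false⟩] [] = true := by decide +kernel
theorem c20018141 : chkFrat M20234 E20014546 [5,7,124] [121,123,7] [5,7,124,1,8,16,32,128,512] [5,7,124,1,8,16,32,128,512] [(0,[1,2,4]),(0,[1,2,4]),(0,[1,2,4]),(33,[1,2,7]),(33,[1,2,7]),(33,[1,2,7]),(1,[2,1,4]),(0,[1,2,4]),(33,[1,2,7])] [⟨0,0,[],0,0,false⟩,⟨0,0,[],0,2,false⟩,⟨3,0,[⟨6,0,0,1⟩,⟨4,0,0,0⟩,⟨0,4,7,0⟩],2,2,false⟩] [] = true := by decide +kernel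
theorem c20018199 : chkFrat M20234 E20014546 [5,7,124] [123,121,5] [5,7,124,1,8,16,32,128,512] [5,7,124,1,8,16,32,128,512] [(0,[1,2,4]),(0,[1,2,4]),(0,[1,2,4]),(33,[1,2,7]),(33,[1,2,7]),(33,[1,2,7]),(1,[2,1,4]),(0,[1,2,4]),(33,[1,2,7])] [⟨0,0,[],0,0,false⟩,⟨0,0,[],0,2,false⟩,⟨3,0,[⟨6,0,0,1⟩,⟨4,0,0,0⟩,⟨0,4,7,0⟩],2,2,false⟩] [] = true := by decide +kernel
theorem c20018224 : chkFrat M20234 E20014546 [5,7,124] [123,121,5] [5,7,124,1,8,16,32,128,512] [5,7,124,1,8,16,32,128,512] [(0,[1,2,4]),(0,[1,2,4]),(0,[1,2,4]),(33,[1,2,7]),(33,[1,2,7]),(33,[1,2,7]),(1,[2,1,4]),(0,[1,2,4]),(33,[1,2,7])] [⟨0,0,[],0,0,false⟩,⟨0,0,[],0,2,false⟩,⟨3,0,[⟨6,0,0,1⟩,⟨4,0,0,0⟩,⟨0,4,7,0⟩],2,2,false⟩] [] = true := by decide +kernel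
theorem c20018283 : chkFrat M20234 E20014546 [5,7,124] [123,121,7] [5,7,124,1,8,16,32,128,512] [5,7,124,1,8,16,32,128,512] [(0,[1,2,4]),(0,[1,2,4]),(0,[1,2,4]),(33,[1,2,7]),(33,[1,2,7]),(33,[1,2,7]),(1,[2,1,4]),(0,[1,2,4]),(33,[1,2,7])] [⟨0,0,[],0,0,false⟩,⟨0,0,[],0,2,false⟩,⟨3,0,[⟨6,0,0,1⟩,⟨4,0,0,0⟩,⟨0,4,7,0⟩],2,2,false⟩] [] = true := by decide +kernel
theorem c20018341 : chkFrat M20234 E20014546 [5,7,124] [123,121,7] [5,7,124,1,8,16,32,128,512] [5,7,124,1,8,16,32,128,512] [(0,[1,2,4]),(0,[1,2,4]),(0,[1,2,4]),(33,[1,2,7]),(33,[1,2,7]),(33,[1,2,7]),(1,[2,1,4]),(0,[1,2,4]),(33,[1,2,7])] [⟨0,0,[],0,0,false⟩,⟨0,0,[],0,2,false⟩,⟨3,0,[⟨6,0,0,1⟩,⟨4,0,0,0⟩,⟨0,4,7,0⟩],2,2,false⟩] [] = true := by decide +kernel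
theorem c20018365 : chkFrat M20234 E20014546 [5,7,124] [123,121,7] [5,7,124,1,8,16,32,128,512] [5,7,124,1,8,16,32,128,512] [(0,[1,2,4]),(0,[1,2,4]),(0,[1,2,4]),(33,[1,2,7]),(33,[1,2,7]),(33,[1,2,7]),(1,[2,1,4]),(0,[1,2,4]),(33,[1,2,7])] [⟨0,0,[],0,0,false⟩,⟨0,0,[],0,2,false⟩,⟨3,0,[⟨6,0,0,1⟩,⟨4,0,0,0⟩,⟨0,4,7,0⟩],2,2,false⟩] [] = true := by decide +kernel
theorem c20018433 : chkFrat M20234 E20014546 [5,7,124] [123,121,5] [5,7,124,1,8,16,32,128,512] [5,7,124,1,8,16,32,128,512] [(0,[1,2,4]),(0,[1,2,4]),(0,[1,2,4]),(33,[1,2,7]),(33,[1,2,7]),(33,[1,2,7]),(1,[2,1,4]),(0,[1,2,4]),(33,[1,2,7])] [⟨0,0,[],0,0,false⟩,⟨0,0,[],0,2,false⟩,⟨3,0,[⟨6,0,0,1⟩,⟨4,0,0,0⟩,⟨0,4,7,0⟩],2,2,false⟩] [] = true := by decide +kernel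
theorem c20018491 : chkFrat M20234 E20014546 [5,7,124] [123,121,7] [5,7,124,1,8,16,32,128,512] [5,7,124,1,8,16,32,128,512] [(0,[1,2,4]),(0,[1,2,4]),(0,[1,2,4]),(33,[1,2,7]),(33,[1,2,7]),(33,[1,2,7]),(1,[2,1,4]),(0,[1,2,4]),(33,[1,2,7])] [⟨0,0,[],0,0,false⟩,⟨0,0,[],0,2,false⟩,⟨3,0,[⟨6,0,0,1⟩,⟨4,0,0,0⟩,⟨0,4,7,0⟩],2,2,false⟩] [] = true := by decide +kernel
theorem c20018515 : chkFrat M20234 E20014546 [5,7,124] [123,121,5] [5,7,124,1,8,16,32,128,512] [5,7,124,1,8,16,32,128,512] [(0,[1,2,4]),(0,[1,2,4]),(0,[1,2,4]),(33,[1,2,7]),(33,[1,2,7]),(33,[1,2,7]),(1,[2,1,4]),(0,[1,2,4]),(33,[1,2,7])] [⟨0,0,[],0,0,false⟩,⟨0,0,[],0,2,false⟩,⟨3,0,[⟨6,0,0,1⟩,⟨4,0,0,0⟩,⟨0,4,7,0⟩],2,2,false⟩] [] = true := by decide +kernel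
theorem c20018581 : chkFrat M20234 E20014546 [5,7,124] [123,121,7] [5,7,124,1,8,16,32,128,512] [5,7,124,1,8,16,32,128,512] [(0,[1,2,4]),(0,[1,2,4]),(0,[1,2,4]),(33,[1,2,7]),(33,[1,2,7]),(33,[1,2,7]),(1,[2,1,4]),(0,[1,2,4]),(33,[1,2,7])] [⟨0,0,[],0,0,false⟩,⟨0,0,[],0,2,false⟩,⟨3,0,[⟨6,0,0,1⟩,⟨4,0,0,0⟩,⟨0,4,7,0⟩],2,2,false⟩] [] = true := by decide +kernel
theorem c20018625 : chkFrat M20234 E20014546 [5,7,124] [121,123,7] [5,7,124,1,8,16,32,128,512] [5,7,124,1,8,16,32,128,512] [(0,[1,2,4]),(0,[1,2,4]),(0,[1,2,4]),(33,[1,2,7]),(33,[1,2,7]),(33,[1,2,7]),(1,[2,1,4]),(0,[1,2,4]),(33,[1,2,7])] [⟨0,0,[],0,0,false⟩,⟨0,0,[],0,2,false⟩,⟨3,0,[⟨6,0,0,1⟩,⟨4,0,0,0⟩,⟨0,4,7,0⟩],2,2,false⟩] [] = true := by decide +kernel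
theorem c20018709 : chkFrat M20234 E20014546 [5,7,124] [123,121,7] [5,7,124,1,8,16,32,128,512] [5,7,124,1,8,16,32,128,512] [(0,[1,2,4]),(0,[1,2,4]),(0,[1,2,4]),(33,[1,2,7]),(33,[1,2,7]),(33,[1,2,7]),(1,[2,1,4]),(0,[1,2,4]),(33,[1,2,7])] [⟨0,0,[],0,0,false⟩,⟨0,0,[],0,2,false⟩,⟨3,0,[⟨6,0,0,1⟩,⟨4,0,0,0⟩,⟨0,4,7,0⟩],2,2,false⟩] [] = true := by decide +kernel
theorem c20018779 : chkFrat M20234 E20014546 [5,7,124] [121,123,7] [5,7,124,1,8,16,32,128,512] [5,7,124,1,8,16,32,128,512] [(0,[1,2,4]),(0,[1,2,4]),(0,[1,2,4]),(33,[1,2,7]),(33,[1,2,7]),(33,[1,2,7]),(1,[2,1,4]),(0,[1,2,4]),(33,[1,2,7])] [⟨0,0,[],0,0,false⟩,⟨0,0,[],0,2,false⟩,⟨3,0,[⟨6,0,0,1⟩,⟨4,0,0,0⟩,⟨0,4,7,0⟩],2,2,false⟩] [] = true := by decide +kernel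
theorem c20018816 : chkFrat M20234 E20014546 [5,7,124] [123,121,7] [5,7,124,1,8,16,32,128,512] [5,7,124,1,8,16,32,128,512] [(0,[1,2,4]),(0,[1,2,4]),(0,[1,2,4]),(33,[1,2,7]),(33,[1,2,7]),(33,[1,2,7]),(1,[2,1,4]),(0,[1,2,4]),(33,[1,2,7])] [⟨0,0,[],0,0,false⟩,⟨0,0,[],0,2,false⟩,⟨3,0,[⟨6,0,0,1⟩,⟨4,0,0,0⟩,⟨0,4,7,0⟩],2,2,false⟩] [] = true := by decide +kernel
theorem c20018972 : chkFrat M20234 E20014546 [5,7,124] [123,121,7] [5,7,124,1,8,16,32,128,512] [5,7,124,1,8,16,32,128,512] [(0,[1,2,4]),(0,[1,2,4]),(0,[1,2,4]),(33,[1,2,7]),(33,[1,2,7]),(33,[1,2,7]),(1,[2,1,4]),(0,[1,2,4]),(33,[1,2,7])] [⟨0,0,[],0,0,false⟩,⟨0,0,[],0,2,false⟩,⟨3,0,[⟨6,0,0,1⟩,⟨4,0,0,0⟩,⟨0,4,7,0⟩],2,2,false⟩] [] = true := by decide +kernel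
theorem c20019301 : chkFrat M20234 E20014546 [5,7,124] [123,121,7] [5,7,124,1,8,16,32,128,512] [5,7,124,1,8,16,32,128,512] [(0,[1,2,4]),(0,[1,2,4]),(0,[1,2,4]),(33,[1,2,7]),(33,[1,2,7]),(33,[1,2,7]),(1,[2,1,4]),(0,[1,2,4]),(33,[1,2,7])] [⟨0,0,[],0,0,false⟩,⟨0,0,[],0,2,false⟩,⟨3,0,[⟨6,0,0,1⟩,⟨4,0,0,0⟩,⟨0,4,7,0⟩],2,2,false⟩] [] = true := by decide +kernel
theorem c20019371 : chkFrat M20234 E20014546 [5,7,124] [121,123,7] [5,7,124,1,8,16,32,128,512] [5,7,124,1,8,16,32,128,512] [(0,[1,2,4]),(0,[1,2,4]),(0,[1,2,4]),(33,[1,2,7]),(33,[1,2,7]),(33,[1,2,7]),(1,[2,1,4]),(0,[1,2,4]),(33,[1,2,7])] [⟨0,0,[],0,0,false⟩,⟨0,0,[],0,2,false⟩,⟨3,0,[⟨6,0,0,1⟩,⟨4,0,0,0⟩,⟨0,4,7,0⟩],2,2,false⟩] [] = true := by decide +kernel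
theorem c20019408 : chkFrat M20234 E20014546 [5,7,124] [123,121,7] [5,7,124,1,8,16,32,128,512] [5,7,124,1,8,16,32,128,512] [(0,[1,2,4]),(0,[1,2,4]),(0,[1,2,4]),(33,[1,2,7]),(33,[1,2,7]),(33,[1,2,7]),(1,[2,1,4]),(0,[1,2,4]),(33,[1,2,7])] [⟨0,0,[],0,0,false⟩,⟨0,0,[],0,2,false⟩,⟨3,0,[⟨6,0,0,1⟩,⟨4,0,0,0⟩,⟨0,4,7,0⟩],2,2,false⟩] [] = true := by decide +kernel
theorem c20019564 : chkFrat M20234 E20014546 [5,7,124] [123,121,7] [5,7,124,1,8,16,32,128,512] [5,7,124,1,8,16,32,128,512] [(0,[1,2,4]),(0,[1,2,4]),(0,[1,2,4]),(33,[1,2,7]),(33,[1,2,7]),(33,[1,2,7]),(1,[2,1,4]),(0,[1,2,4]),(33,[1,2,7])] [⟨0,0,[],0,0,false⟩,⟨0,0,[],0,2,false⟩,⟨3,0,[⟨6,0,0,1⟩,⟨4,0,0,0⟩,⟨0,4,7,0⟩],2,2,false⟩] [] = true := by decide +kernel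
theorem c20016359 : chkFrat M20234 E20016357 [528,533,530,622,24,33,137,257] [324,286,326,357,69,64,808,466] [528,533,530,622,24,33,137,257,1] [528,533,530,622,24,33,137,257,1] [(317,[1,2,4,8,21,47,74,143]),(284,[1,2,4,8,21,42,74,128]),(317,[1,2,4,8,21,47,74,143]),(284,[1,2,4,8,21,42,74,128]),(60,[4,7,1,13,16,37,64,138]),(57,[14,8,11,2,21,32,79,128]),(808,[11,8,14,2,16,47,64,133]),(425,[14,2,11,8,26,32,69,128]),(25,[2,1,7,14,16,32,95,160])] [⟨0,0,[],0,0,false⟩,⟨0,0,[],0,0,false⟩,⟨0,0,[],0,0,false⟩,⟨0,0,[],0,0,false⟩,⟨0,0,[],0,0,false⟩,⟨0,0,[],0,0,false⟩,⟨0,0,[],0,0,false⟩,⟨2,0,[⟨6,0,0,1⟩,⟨4,0,0,0⟩,⟨4,3,0,1⟩,⟨0,1,2,0⟩,⟨0,32,32,0⟩,⟨7,0,16,0⟩],1,0,false⟩] [] = true := by decide +kernel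
theorem c20016927 : chkFrat M20234 E20016357 [528,533,530,622,24,33,137,257] [319,284,317,359,62,66,808,466] [528,533,530,622,24,33,137,257,1] [528,533,530,622,24,33,137,257,1] [(317,[1,2,4,8,21,47,74,143]),(284,[1,2,4,8,21,42,74,128]),(317,[1,2,4,8,21,47,74,143]),(284,[1,2,4,8,21,42,74,128]),(60,[4,7,1,13,16,37,64,138]),(57,[14,8,11,2,21,32,79,128]),(808,[11,8,14,2,16,47,64,133]),(425,[14,2,11,8,26,32,69,128]),(61,[2,1,7,14,16,32,95,160])] [⟨0,0,[],0,0,false⟩,⟨0,0,[],0,0,false⟩,⟨0,0,[],0,0,false⟩,⟨0,0,[],0,0,false⟩,⟨0,0,[],0,0,false⟩,⟨0,0,[],0,0,false⟩,⟨0,0,[],0,0,false⟩,⟨2,0,[⟨6,0,0,1⟩,⟨4,0,0,0⟩,⟨4,3,0,1⟩,⟨0,1,2,0⟩,⟨0,32,32,0⟩,⟨7,0,16,0⟩],1,0,false⟩] [] = true := by decide +kernel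
theorem c20017514 : chkFrat M20234 E20016357 [528,533,530,622,24,33,137,257] [324,286,326,357,69,64,808,466] [528,533,530,622,24,33,137,257,1] [528,533,530,622,24,33,137,257,1] [(317,[1,2,4,8,21,47,74,143]),(284,[1,2,4,8,21,42,74,128]),(317,[1,2,4,8,21,47,74,143]),(284,[1,2,4,8,21,42,74,128]),(60,[4,7,1,13,16,37,64,138]),(57,[14,8,11,2,21,32,79,128]),(808,[11,8,14,2,16,47,64,133]),(425,[14,2,11,8,26,32,69,128]),(25,[2,1,7,14,16,32,95,160])] [⟨0,0,[],0,0,false⟩,⟨0,0,[],0,0,false⟩,⟨0,0,[],0,0,false⟩,⟨0,0,[],0,0,false⟩,⟨0,0,[],0,0,false⟩,⟨0,0,[],0,0,false⟩,⟨0,0,[],0,0,false⟩,⟨2,0,[⟨6,0,0,1⟩,⟨4,0,0,0⟩,⟨4,3,0,1⟩,⟨0,1,2,0⟩,⟨0,32,32,0⟩,⟨7,0,16,0⟩],1,0,false⟩] [] = true := by decide +kernel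
theorem c20018114 : chkFrat M20234 E20016357 [528,533,530,622,24,33,137,257] [324,286,326,357,69,64,808,466] [528,533,530,622,24,33,137,257,1] [528,533,530,622,24,33,137,257,1] [(317,[1,2,4,8,21,47,74,143]),(284,[1,2,4,8,21,42,74,128]),(317,[1,2,4,8,21,47,74,143]),(284,[1,2,4,8,21,42,74,128]),(60,[4,7,1,13,16,37,64,138]),(57,[14,8,11,2,21,32,79,128]),(808,[11,8,14,2,16,47,64,133]),(425,[14,2,11,8,26,32,69,128]),(25,[2,1,7,14,16,32,95,160])] [⟨0,0,[],0,0,false⟩,⟨0,0,[],0,0,false⟩,⟨0,0,[],0,0,false⟩,⟨0,0,[],0,0,false⟩,⟨0,0,[],0,0,false⟩,⟨0,0,[],0,0,false⟩,⟨0,0,[],0,0,false⟩,⟨2,0,[⟨6,0,0,1⟩,⟨4,0,0,0⟩,⟨4,3,0,1⟩,⟨0,1,2,0⟩,⟨0,32,32,0⟩,⟨7,0,16,0⟩],1,0,false⟩] [] = true := by decide +kernel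
theorem c20018730 : chkFrat M20234 E20016357 [528,533,530,622,24,33,137,257] [317,359,319,284,71,64,851,464] [528,533,530,622,24,33,137,257,1] [528,533,530,622,24,33,137,257,1] [(317,[1,2,4,8,21,47,74,143]),(284,[1,2,4,8,21,42,74,128]),(317,[1,2,4,8,21,47,74,143]),(284,[1,2,4,8,21,42,74,128]),(60,[4,7,1,13,16,37,64,138]),(57,[14,8,11,2,21,32,79,128]),(808,[11,8,14,2,16,47,64,133]),(425,[14,2,11,8,26,32,69,128]),(25,[2,1,7,14,16,32,95,160])] [⟨0,0,[],0,0,false⟩,⟨0,0,[],0,0,false⟩,⟨0,0,[],0,0,false⟩,⟨0,0,[],0,0,false⟩,⟨0,0,[],0,0,false⟩,⟨0,0,[],0,0,false⟩,⟨0,0,[],0,0,false⟩,⟨2,0,[⟨6,0,0,1⟩,⟨4,0,0,0⟩,⟨4,3,0,1⟩,⟨0,1,2,0⟩,⟨0,32,32,0⟩,⟨7,0,16,0⟩],1,0,false⟩] [] = true := by decide +kernel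
theorem c20019322 : chkFrat M20234 E20016357 [528,533,530,622,24,33,137,257] [317,359,319,284,71,64,851,464] [528,533,530,622,24,33,137,257,1] [528,533,530,622,24,33,137,257,1] [(317,[1,2,4,8,21,47,74,143]),(284,[1,2,4,8,21,42,74,128]),(317,[1,2,4,8,21,47,74,143]),(284,[1,2,4,8,21,42,74,128]),(60,[4,7,1,13,16,37,64,138]),(57,[14,8,11,2,21,32,79,128]),(808,[11,8,14,2,16,47,64,133]),(425,[14,2,11,8,26,32,69,128]),(25,[2,1,7,14,16,32,95,160])] [⟨0,0,[],0,0,false⟩,⟨0,0,[],0,0,false⟩,⟨0,0,[],0,0,false⟩,⟨0,0,[],0,0,false⟩,⟨0,0,[],0,0,false⟩,⟨0,0,[],0,0,false⟩,⟨0,0,[],0,0,false⟩,⟨2,0,[⟨6,0,0,1⟩,⟨4,0,0,0⟩,⟨4,3,0,1⟩,⟨0,1,2,0⟩,⟨0,32,32,0⟩,⟨7,0,16,0⟩],1,0,false⟩] [] = true := by decide +kernel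
theorem c20014241 : chkFrat M20234 E20000004 [104,2,109,123,9,128,33,257] [106,123,111,121,225,9,319,206] [104,2,109,123,9,128,33,257,513] [104,2,109,123,9,128,33,257,513] [(17,[1,2,4,8,18,42,89,171]),(0,[1,2,4,8,16,32,64,128]),(20,[1,2,4,8,18,42,91,161]),(0,[1,2,4,8,16,32,64,128]),(152,[3,2,6,8,16,40,91,163]),(9,[11,2,14,8,24,32,81,161]),(317,[24,2,31,8,9,51,64,128]),(181,[42,2,37,8,49,11,64,128]),(513,[4,2,1,8,21,37,81,171])] [⟨0,0,[],0,0,false⟩,⟨0,0,[],0,0,false⟩,⟨0,0,[],0,0,false⟩,⟨0,0,[],0,0,false⟩,⟨0,0,[],0,0,false⟩,⟨0,0,[],0,0,false⟩,⟨0,0,[],0,0,false⟩,⟨2,0,[⟨0,1,4,0⟩,⟨0,16,21,0⟩,⟨0,64,83,0⟩],0,0,false⟩] [([104,2,109,123,9,128,33,257,513],[106,123,111,121,225,9,319,206,634]),([104,2,109,123,9,128,33,257,513],[106,123,111,121,225,9,319,206,632]),([104,2,109,123,9,128,33,257,513],[106,123,111,121,225,9,319,206,515]),([104,2,109,123,9,128,33,257,513],[106,123,111,121,225,9,319,206,513])]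 = true := by decide +kernel
theorem c20016477 : chkLift M20234 D20234 E20016323 [528,533,530,622,24,33,137,257] [528,533,530,622,24,33,137,259] [528,533,530,622,24,33,137,257,1,8] [(1,[2,1,7,14,16,32,95,160]),(0,[1,2,4,8,16,32,64,128]),(4,[2,1,7,14,16,37,95,170]),(8,[4,7,1,8,21,48,80,234]),(16,[1,2,4,13,21,53,80,229]),(32,[8,14,13,1,21,32,85,160]),(57,[11,13,14,7,21,37,79,138]),(128,[13,14,8,4,21,63,74,223]),(256,[2,14,7,1,26,32,80,160]),(512,[1,2,4,13,16,63,95,239])] 0 [1,2,4,8,16,32,64,133] [⟨0,0,[],0,0,false⟩,⟨0,0,[],0,0,false⟩,⟨0,0,[],0,0,false⟩,⟨0,0,[],0,0,false⟩,⟨0,0,[],0,0,false⟩,⟨0,0,[],0,0,false⟩,⟨0,0,[],0,0,false⟩,⟨1,2,[⟨4,0,0,0⟩,⟨0,8,14,0⟩,⟨0,32,32,0⟩],1,0,false⟩,⟨1,4,[⟨4,0,0,1⟩,⟨4,3,0,2⟩,⟨0,8,8,0⟩,⟨0,16,21,0⟩,⟨0,32,48,0⟩],0,0,false⟩] [] [256,5,259,512,533,288,63,842,416,532] [([528,533,530,622,24,33,137,259,1,8],[]),([528,533,530,622,24,33,137,259,1,10],[])]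 [] = true := by decide +kernel
theorem c20017075 : chkLift M20234 D20234 E20016323 [528,533,530,622,24,33,137,257] [530,535,528,620,24,35,137,378] [528,533,530,622,24,33,137,257,1,8] [(1,[2,1,7,14,16,32,95,160]),(0,[1,2,4,8,16,32,64,128]),(4,[2,1,7,14,16,37,95,170]),(8,[4,7,1,8,21,48,80,234]),(16,[1,2,4,13,21,53,80,229]),(32,[8,14,13,1,21,32,85,160]),(57,[11,13,14,7,21,37,79,138]),(128,[13,14,8,4,21,63,74,223]),(256,[2,14,7,1,26,32,80,160]),(512,[1,2,4,13,16,63,95,239])] 0 [4,7,1,13,16,37,64,143] [⟨0,0,[],0,0,false⟩,⟨0,0,[],0,0,false⟩,⟨0,0,[],0,0,false⟩,⟨0,0,[],0,0,false⟩,⟨0,0,[],0,0,false⟩,⟨0,0,[],0,0,false⟩,⟨0,0,[],0,0,false⟩,⟨1,2,[⟨4,0,0,0⟩,⟨0,8,14,0⟩,⟨0,32,32,0⟩],1,0,false⟩,⟨1,4,[⟨4,0,0,1⟩,⟨4,3,0,2⟩,⟨0,8,8,0⟩,⟨0,16,21,0⟩,⟨0,32,48,0⟩],0,0,false⟩] [] [256,5,259,512,533,288,63,842,416,532] [([530,535,528,620,24,35,137,378,1,8],[]),([530,535,528,620,24,35,137,378,1,10],[])]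 [] = true := by decide +kernel
theorem c20017670 : chkLift M20234 D20234 E20016323 [528,533,530,622,24,33,137,257] [530,535,528,620,24,33,137,257] [528,533,530,622,24,33,137,257,1,8] [(1,[2,1,7,14,16,32,95,160]),(0,[1,2,4,8,16,32,64,128]),(4,[2,1,7,14,16,37,95,170]),(8,[4,7,1,8,21,48,80,234]),(16,[1,2,4,13,21,53,80,229]),(32,[8,14,13,1,21,32,85,160]),(57,[11,13,14,7,21,37,79,138]),(128,[13,14,8,4,21,63,74,223]),(256,[2,14,7,1,26,32,80,160]),(512,[1,2,4,13,16,63,95,239])] 0 [4,7,1,13,16,32,64,128] [⟨0,0,[],0,0,false⟩,⟨0,0,[],0,0,false⟩,⟨0,0,[],0,0,false⟩,⟨0,0,[],0,0,false⟩,⟨0,0,[],0,0,false⟩,⟨0,0,[],0,0,false⟩,⟨0,0,[],0,0,false⟩,⟨1,2,[⟨4,0,0,0⟩,⟨0,8,14,0⟩,⟨0,32,32,0⟩],1,0,false⟩,⟨1,4,[⟨4,0,0,1⟩,⟨4,3,0,2⟩,⟨0,8,8,0⟩,⟨0,16,21,0⟩,⟨0,32,48,0⟩],0,0,false⟩] [] [256,5,259,512,533,288,63,842,416,532] [([530,535,528,620,24,33,137,257,1,8],[]),([530,535,528,620,24,33,137,257,1,10],[])]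 [] = true := by decide +kernel
theorem c20018409 : chkLift M20234 D20234 E20016323 [528,533,530,622,24,33,137,257] [528,533,530,622,24,33,137,259] [528,533,530,622,24,33,137,257,1,8] [(1,[2,1,7,14,16,32,95,160]),(0,[1,2,4,8,16,32,64,128]),(4,[2,1,7,14,16,37,95,170]),(8,[4,7,1,8,21,48,80,234]),(16,[1,2,4,13,21,53,80,229]),(32,[8,14,13,1,21,32,85,160]),(57,[11,13,14,7,21,37,79,138]),(128,[13,14,8,4,21,63,74,223]),(256,[2,14,7,1,26,32,80,160]),(512,[1,2,4,13,16,63,95,239])] 0 [1,2,4,8,16,32,64,133] [⟨0,0,[],0,0,false⟩,⟨0,0,[],0,0,false⟩,⟨0,0,[],0,0,false⟩,⟨0,0,[],0,0,false⟩,⟨0,0,[],0,0,false⟩,⟨0,0,[],0,0,false⟩,⟨0,0,[],0,0,false⟩,⟨1,2,[⟨4,0,0,0⟩,⟨0,8,14,0⟩,⟨0,32,32,0⟩],1,0,false⟩,⟨1,4,[⟨4,0,0,1⟩,⟨4,3,0,2⟩,⟨0,8,8,0⟩,⟨0,16,21,0⟩,⟨0,32,48,0⟩],0,0,false⟩] [] [256,5,259,512,533,288,63,842,416,532] [([528,533,530,622,24,33,137,259,1,8],[]),([528,533,530,622,24,33,137,259,1,10],[])]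 [] = true := by decide +kernel
theorem c20019074 : chkLift M20234 D20234 E20016323 [528,533,530,622,24,33,137,257] [530,535,528,620,24,35,137,378] [528,533,530,622,24,33,137,257,1,8] [(1,[2,1,7,14,16,32,95,160]),(0,[1,2,4,8,16,32,64,128]),(4,[2,1,7,14,16,37,95,170]),(8,[4,7,1,8,21,48,80,234]),(16,[1,2,4,13,21,53,80,229]),(32,[8,14,13,1,21,32,85,160]),(57,[11,13,14,7,21,37,79,138]),(128,[13,14,8,4,21,63,74,223]),(256,[2,14,7,1,26,32,80,160]),(512,[1,2,4,13,16,63,95,239])] 0 [4,7,1,13,16,37,64,143] [⟨0,0,[],0,0,false⟩,⟨0,0,[],0,0,false⟩,⟨0,0,[],0,0,false⟩,⟨0,0,[],0,0,false⟩,⟨0,0,[],0,0,false⟩,⟨0,0,[],0,0,false⟩,⟨0,0,[],0,0,false⟩,⟨1,2,[⟨4,0,0,0⟩,⟨0,8,14,0⟩,⟨0,32,32,0⟩],1,0,false⟩,⟨1,4,[⟨4,0,0,1⟩,⟨4,3,0,2⟩,⟨0,8,8,0⟩,⟨0,16,21,0⟩,⟨0,32,48,0⟩],0,0,false⟩] [] [256,5,259,512,533,288,63,842,416,532] [([530,535,528,620,24,35,137,378,1,8],[]),([530,535,528,620,24,35,137,378,1,10],[])]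 [] = true := by decide +kernel
theorem c20019750 : chkLift M20234 D20234 E20016323 [528,533,530,622,24,33,137,257] [530,535,528,620,24,33,137,257] [528,533,530,622,24,33,137,257,1,8] [(1,[2,1,7,14,16,32,95,160]),(0,[1,2,4,8,16,32,64,128]),(4,[2,1,7,14,16,37,95,170]),(8,[4,7,1,8,21,48,80,234]),(16,[1,2,4,13,21,53,80,229]),(32,[8,14,13,1,21,32,85,160]),(57,[11,13,14,7,21,37,79,138]),(128,[13,14,8,4,21,63,74,223]),(256,[2,14,7,1,26,32,80,160]),(512,[1,2,4,13,16,63,95,239])] 0 [4,7,1,13,16,32,64,128] [⟨0,0,[],0,0,false⟩,⟨0,0,[],0,0,false⟩,⟨0,0,[],0,0,false⟩,⟨0,0,[],0,0,false⟩,⟨0,0,[],0,0,false⟩,⟨0,0,[],0,0,false⟩,⟨0,0,[],0,0,false⟩,⟨1,2,[⟨4,0,0,0⟩,⟨0,8,14,0⟩,⟨0,32,32,0⟩],1,0,false⟩,⟨1,4,[⟨4,0,0,1⟩,⟨4,3,0,2⟩,⟨0,8,8,0⟩,⟨0,16,21,0⟩,⟨0,32,48,0⟩],0,0,false⟩] [] [256,5,259,512,533,288,63,842,416,532] [([530,535,528,620,24,33,137,257,1,8],[]),([530,535,528,620,24,33,137,257,1,10],[])]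 [] = true := by decide +kernel
theorem c20016330 : chkLift M20234 D20234 E20014166 [520,525,522,630,8,16,33,129,257] [627,628,625,527,16,8,33,224,257] [520,525,522,630,8,16,33,129,257,1] [(1,[2,1,7,14,16,32,64,186,320]),(0,[1,2,4,8,16,32,64,128,256]),(4,[2,1,7,14,16,32,69,186,335]),(16,[1,2,4,13,16,37,112,181,495]),(8,[4,7,1,8,21,32,117,176,485]),(32,[8,14,13,1,32,16,64,128,320]),(64,[11,13,14,7,32,16,69,186,271]),(225,[13,14,8,4,37,21,122,186,431]),(256,[13,4,8,11,250,197,64,101,320]),(609,[1,2,4,13,16,32,122,186,490])] 0 [11,13,14,7,32,16,64,186,256] [⟨0,0,[],0,0,false⟩,⟨0,0,[],0,0,false⟩,⟨0,0,[],0,0,false⟩,⟨0,0,[],0,0,false⟩,⟨0,0,[],0,0,false⟩,⟨0,0,[],0,0,false⟩,⟨0,0,[],0,0,false⟩,⟨0,0,[],0,0,false⟩,⟨1,2,[⟨4,0,0,0⟩,⟨0,8,14,0⟩,⟨0,64,64,0⟩],0,0,false⟩] [] [512,5,515,16,32,576,122,698,832,17] [([627,628,625,527,16,8,33,224,257,3],[]),([627,628,625,527,16,8,33,224,257,1],[])]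 [] = true := by decide +kernel
theorem c20016556 : chkLift M20234 D20234 E20014166 [520,525,522,630,8,16,33,129,257] [520,525,522,630,8,16,35,129,376] [520,525,522,630,8,16,33,129,257,1] [(1,[2,1,7,14,16,32,64,186,320]),(0,[1,2,4,8,16,32,64,128,256]),(4,[2,1,7,14,16,32,69,186,335]),(8,[1,2,4,13,16,37,112,181,495]),(16,[4,7,1,8,21,32,117,176,485]),(32,[8,14,13,1,32,16,64,128,320]),(64,[11,13,14,7,32,16,69,186,271]),(128,[13,14,8,4,37,21,122,186,431]),(377,[13,4,8,11,250,197,64,101,320]),(512,[1,2,4,13,16,32,122,186,490])] 0 [1,2,4,8,16,32,69,128,271] [⟨0,0,[],0,0,false⟩,⟨0,0,[],0,0,false⟩,⟨0,0,[],0,0,false⟩,⟨0,0,[],0,0,false⟩,⟨0,0,[],0,0,false⟩,⟨0,0,[],0,0,false⟩,⟨0,0,[],0,0,false⟩,⟨0,0,[],0,0,false⟩,⟨1,2,[⟨4,0,0,0⟩,⟨0,8,14,0⟩,⟨0,64,64,0⟩],0,0,false⟩] [] [512,5,515,16,32,576,122,698,832,17] [([520,525,522,630,8,16,35,129,376,3],[]),([520,525,522,630,8,16,35,129,376,1],[])]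 [] = true := by decide +kernel
theorem c20016860 : chkLift M20234 D20234 E20014166 [520,525,522,630,8,16,33,129,257] [520,525,522,630,8,16,35,129,376] [520,525,522,630,8,16,33,129,257,1] [(1,[2,1,7,14,16,32,64,186,320]),(0,[1,2,4,8,16,32,64,128,256]),(4,[2,1,7,14,16,32,69,186,335]),(8,[1,2,4,13,16,37,112,181,495]),(16,[4,7,1,8,21,32,117,176,485]),(32,[8,14,13,1,32,16,64,128,320]),(64,[11,13,14,7,32,16,69,186,271]),(128,[13,14,8,4,37,21,122,186,431]),(377,[13,4,8,11,250,197,64,101,320]),(512,[1,2,4,13,16,32,122,186,490])] 0 [1,2,4,8,16,32,69,128,271] [⟨0,0,[],0,0,false⟩,⟨0,0,[],0,0,false⟩,⟨0,0,[],0,0,false⟩,⟨0,0,[],0,0,false⟩,⟨0,0,[],0,0,false⟩,⟨0,0,[],0,0,false⟩,⟨0,0,[],0,0,false⟩,⟨0,0,[],0,0,false⟩,⟨1,2,[⟨4,0,0,0⟩,⟨0,8,14,0⟩,⟨0,64,64,0⟩],0,0,false⟩] [] [512,5,515,16,32,576,122,698,832,17] [([520,525,522,630,8,16,35,129,376,3],[]),([520,525,522,630,8,16,35,129,376,1],[])]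 [] = true := by decide +kernel
theorem c20017169 : chkLift M20234 D20234 E20014166 [520,525,522,630,8,16,33,129,257] [625,630,627,525,16,8,35,224,376] [520,525,522,630,8,16,33,129,257,1] [(1,[2,1,7,14,16,32,64,186,320]),(0,[1,2,4,8,16,32,64,128,256]),(4,[2,1,7,14,16,32,69,186,335]),(16,[1,2,4,13,16,37,112,181,495]),(8,[4,7,1,8,21,32,117,176,485]),(32,[8,14,13,1,32,16,64,128,320]),(64,[11,13,14,7,32,16,69,186,271]),(225,[13,14,8,4,37,21,122,186,431]),(377,[13,4,8,11,250,197,64,101,320]),(609,[1,2,4,13,16,32,122,186,490])] 0 [14,8,11,2,32,16,69,186,271] [⟨0,0,[],0,0,false⟩,⟨0,0,[],0,0,false⟩,⟨0,0,[],0,0,false⟩,⟨0,0,[],0,0,false⟩,⟨0,0,[],0,0,false⟩,⟨0,0,[],0,0,false⟩,⟨0,0,[],0,0,false⟩,⟨0,0,[],0,0,false⟩,⟨1,2,[⟨4,0,0,0⟩,⟨0,8,14,0⟩,⟨0,64,64,0⟩],0,0,false⟩] [] [512,5,515,16,32,576,122,698,832,17] [([625,630,627,525,16,8,35,224,376,3],[]),([625,630,627,525,16,8,35,224,376,1],[])]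 [] = true := by decide +kernel
theorem c20017476 : chkLift M20234 D20234 E20014166 [520,525,522,630,8,16,33,129,257] [627,628,625,527,16,8,35,224,378] [520,525,522,630,8,16,33,129,257,1] [(1,[2,1,7,14,16,32,64,186,320]),(0,[1,2,4,8,16,32,64,128,256]),(4,[2,1,7,14,16,32,69,186,335]),(16,[1,2,4,13,16,37,112,181,495]),(8,[4,7,1,8,21,32,117,176,485]),(32,[8,14,13,1,32,16,64,128,320]),(64,[11,13,14,7,32,16,69,186,271]),(225,[13,14,8,4,37,21,122,186,431]),(377,[13,4,8,11,250,197,64,101,320]),(609,[1,2,4,13,16,32,122,186,490])] 0 [11,13,14,7,32,16,69,186,266] [⟨0,0,[],0,0,false⟩,⟨0,0,[],0,0,false⟩,⟨0,0,[],0,0,false⟩,⟨0,0,[],0,0,false⟩,⟨0,0,[],0,0,false⟩,⟨0,0,[],0,0,false⟩,⟨0,0,[],0,0,false⟩,⟨0,0,[],0,0,false⟩,⟨1,2,[⟨4,0,0,0⟩,⟨0,8,14,0⟩,⟨0,64,64,0⟩],0,0,false⟩] [] [512,5,515,16,32,576,122,698,832,17] [([627,628,625,527,16,8,35,224,378,3],[]),([627,628,625,527,16,8,35,224,378,1],[])]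 [] = true := by decide +kernel
theorem c20017737 : chkLift M20234 D20234 E20014166 [520,525,522,630,8,16,33,129,257] [520,525,522,630,8,16,33,129,259] [520,525,522,630,8,16,33,129,257,1] [(1,[2,1,7,14,16,32,64,186,320]),(0,[1,2,4,8,16,32,64,128,256]),(4,[2,1,7,14,16,32,69,186,335]),(8,[1,2,4,13,16,37,112,181,495]),(16,[4,7,1,8,21,32,117,176,485]),(32,[8,14,13,1,32,16,64,128,320]),(64,[11,13,14,7,32,16,69,186,271]),(128,[13,14,8,4,37,21,122,186,431]),(256,[13,4,8,11,250,197,64,101,320]),(512,[1,2,4,13,16,32,122,186,490])] 0 [1,2,4,8,16,32,64,128,261] [⟨0,0,[],0,0,false⟩,⟨0,0,[],0,0,false⟩,⟨0,0,[],0,0,false⟩,⟨0,0,[],0,0,false⟩,⟨0,0,[],0,0,false⟩,⟨0,0,[],0,0,false⟩,⟨0,0,[],0,0,false⟩,⟨0,0,[],0,0,false⟩,⟨1,2,[⟨4,0,0,0⟩,⟨0,8,14,0⟩,⟨0,64,64,0⟩],0,0,false⟩] [] [512,5,515,16,32,576,122,698,832,17] [([520,525,522,630,8,16,33,129,259,3],[]),([520,525,522,630,8,16,33,129,259,1],[])]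 [] = true := by decide +kernel
theorem c20018044 : chkLift M20234 D20234 E20014166 [520,525,522,630,8,16,33,129,257] [520,525,522,630,8,16,35,129,376] [520,525,522,630,8,16,33,129,257,1] [(1,[2,1,7,14,16,32,64,186,320]),(0,[1,2,4,8,16,32,64,128,256]),(4,[2,1,7,14,16,32,69,186,335]),(8,[1,2,4,13,16,37,112,181,495]),(16,[4,7,1,8,21,32,117,176,485]),(32,[8,14,13,1,32,16,64,128,320]),(64,[11,13,14,7,32,16,69,186,271]),(128,[13,14,8,4,37,21,122,186,431]),(377,[13,4,8,11,250,197,64,101,320]),(512,[1,2,4,13,16,32,122,186,490])] 0 [1,2,4,8,16,32,69,128,271] [⟨0,0,[],0,0,false⟩,⟨0,0,[],0,0,false⟩,⟨0,0,[],0,0,false⟩,⟨0,0,[],0,0,false⟩,⟨0,0,[],0,0,false⟩,⟨0,0,[],0,0,false⟩,⟨0,0,[],0,0,false⟩,⟨0,0,[],0,0,false⟩,⟨1,2,[⟨4,0,0,0⟩,⟨0,8,14,0⟩,⟨0,64,64,0⟩],0,0,false⟩] [] [512,5,515,16,32,576,122,698,832,17] [([520,525,522,630,8,16,35,129,376,3],[]),([520,525,522,630,8,16,35,129,376,1],[])]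 [] = true := by decide +kernel
theorem c20018332 : chkLift M20234 D20234 E20014166 [520,525,522,630,8,16,33,129,257] [522,527,520,628,8,16,33,129,257] [520,525,522,630,8,16,33,129,257,1] [(1,[2,1,7,14,16,32,64,186,320]),(0,[1,2,4,8,16,32,64,128,256]),(4,[2,1,7,14,16,32,69,186,335]),(8,[1,2,4,13,16,37,112,181,495]),(16,[4,7,1,8,21,32,117,176,485]),(32,[8,14,13,1,32,16,64,128,320]),(64,[11,13,14,7,32,16,69,186,271]),(128,[13,14,8,4,37,21,122,186,431]),(256,[13,4,8,11,250,197,64,101,320]),(512,[1,2,4,13,16,32,122,186,490])] 0 [4,7,1,13,16,32,64,128,256] [⟨0,0,[],0,0,false⟩,⟨0,0,[],0,0,false⟩,⟨0,0,[],0,0,false⟩,⟨0,0,[],0,0,false⟩,⟨0,0,[],0,0,false⟩,⟨0,0,[],0,0,false⟩,⟨0,0,[],0,0,false⟩,⟨0,0,[],0,0,false⟩,⟨1,2,[⟨4,0,0,0⟩,⟨0,8,14,0⟩,⟨0,64,64,0⟩],0,0,false⟩] [] [512,5,515,16,32,576,122,698,832,17] [([522,527,520,628,8,16,33,129,257,3],[]),([522,527,520,628,8,16,33,129,257,1],[])]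 [] = true := by decide +kernel
theorem c20018660 : chkLift M20234 D20234 E20014166 [520,525,522,630,8,16,33,129,257] [627,628,625,527,16,8,35,224,378] [520,525,522,630,8,16,33,129,257,1] [(1,[2,1,7,14,16,32,64,186,320]),(0,[1,2,4,8,16,32,64,128,256]),(4,[2,1,7,14,16,32,69,186,335]),(16,[1,2,4,13,16,37,112,181,495]),(8,[4,7,1,8,21,32,117,176,485]),(32,[8,14,13,1,32,16,64,128,320]),(64,[11,13,14,7,32,16,69,186,271]),(225,[13,14,8,4,37,21,122,186,431]),(377,[13,4,8,11,250,197,64,101,320]),(609,[1,2,4,13,16,32,122,186,490])] 0 [11,13,14,7,32,16,69,186,266] [⟨0,0,[],0,0,false⟩,⟨0,0,[],0,0,false⟩,⟨0,0,[],0,0,false⟩,⟨0,0,[],0,0,false⟩,⟨0,0,[],0,0,false⟩,⟨0,0,[],0,0,false⟩,⟨0,0,[],0,0,false⟩,⟨0,0,[],0,0,false⟩,⟨1,2,[⟨4,0,0,0⟩,⟨0,8,14,0⟩,⟨0,64,64,0⟩],0,0,false⟩] [] [512,5,515,16,32,576,122,698,832,17] [([627,628,625,527,16,8,35,224,378,3],[]),([627,628,625,527,16,8,35,224,378,1],[])]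 [] = true := by decide +kernel
theorem c20018931 : chkLift M20234 D20234 E20014166 [520,525,522,630,8,16,33,129,257] [522,527,520,628,8,16,35,129,378] [520,525,522,630,8,16,33,129,257,1] [(1,[2,1,7,14,16,32,64,186,320]),(0,[1,2,4,8,16,32,64,128,256]),(4,[2,1,7,14,16,32,69,186,335]),(8,[1,2,4,13,16,37,112,181,495]),(16,[4,7,1,8,21,32,117,176,485]),(32,[8,14,13,1,32,16,64,128,320]),(64,[11,13,14,7,32,16,69,186,271]),(128,[13,14,8,4,37,21,122,186,431]),(377,[13,4,8,11,250,197,64,101,320]),(512,[1,2,4,13,16,32,122,186,490])] 0 [4,7,1,13,16,32,69,128,266] [⟨0,0,[],0,0,false⟩,⟨0,0,[],0,0,false⟩,⟨0,0,[],0,0,false⟩,⟨0,0,[],0,0,false⟩,⟨0,0,[],0,0,false⟩,⟨0,0,[],0,0,false⟩,⟨0,0,[],0,0,false⟩,⟨0,0,[],0,0,false⟩,⟨1,2,[⟨4,0,0,0⟩,⟨0,8,14,0⟩,⟨0,64,64,0⟩],0,0,false⟩] [] [512,5,515,16,32,576,122,698,832,17] [([522,527,520,628,8,16,35,129,378,3],[]),([522,527,520,628,8,16,35,129,378,1],[])]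 [] = true := by decide +kernel
theorem c20019228 : chkLift M20234 D20234 E20014166 [520,525,522,630,8,16,33,129,257] [522,527,520,628,8,16,33,129,257] [520,525,522,630,8,16,33,129,257,1] [(1,[2,1,7,14,16,32,64,186,320]),(0,[1,2,4,8,16,32,64,128,256]),(4,[2,1,7,14,16,32,69,186,335]),(8,[1,2,4,13,16,37,112,181,495]),(16,[4,7,1,8,21,32,117,176,485]),(32,[8,14,13,1,32,16,64,128,320]),(64,[11,13,14,7,32,16,69,186,271]),(128,[13,14,8,4,37,21,122,186,431]),(256,[13,4,8,11,250,197,64,101,320]),(512,[1,2,4,13,16,32,122,186,490])] 0 [4,7,1,13,16,32,64,128,256] [⟨0,0,[],0,0,false⟩,⟨0,0,[],0,0,false⟩,⟨0,0,[],0,0,false⟩,⟨0,0,[],0,0,false⟩,⟨0,0,[],0,0,false⟩,⟨0,0,[],0,0,false⟩,⟨0,0,[],0,0,false⟩,⟨0,0,[],0,0,false⟩,⟨1,2,[⟨4,0,0,0⟩,⟨0,8,14,0⟩,⟨0,64,64,0⟩],0,0,false⟩] [] [512,5,515,16,32,576,122,698,832,17] [([522,527,520,628,8,16,33,129,257,3],[]),([522,527,520,628,8,16,33,129,257,1],[])]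 [] = true := by decide +kernel
theorem c20019523 : chkLift M20234 D20234 E20014166 [520,525,522,630,8,16,33,129,257] [522,527,520,628,8,16,35,129,378] [520,525,522,630,8,16,33,129,257,1] [(1,[2,1,7,14,16,32,64,186,320]),(0,[1,2,4,8,16,32,64,128,256]),(4,[2,1,7,14,16,32,69,186,335]),(8,[1,2,4,13,16,37,112,181,495]),(16,[4,7,1,8,21,32,117,176,485]),(32,[8,14,13,1,32,16,64,128,320]),(64,[11,13,14,7,32,16,69,186,271]),(128,[13,14,8,4,37,21,122,186,431]),(377,[13,4,8,11,250,197,64,101,320]),(512,[1,2,4,13,16,32,122,186,490])] 0 [4,7,1,13,16,32,69,128,266] [⟨0,0,[],0,0,false⟩,⟨0,0,[],0,0,false⟩,⟨0,0,[],0,0,false⟩,⟨0,0,[],0,0,false⟩,⟨0,0,[],0,0,false⟩,⟨0,0,[],0,0,false⟩,⟨0,0,[],0,0,false⟩,⟨0,0,[],0,0,false⟩,⟨1,2,[⟨4,0,0,0⟩,⟨0,8,14,0⟩,⟨0,64,64,0⟩],0,0,false⟩] [] [512,5,515,16,32,576,122,698,832,17] [([522,527,520,628,8,16,35,129,378,3],[]),([522,527,520,628,8,16,35,129,378,1],[])]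 [] = true := by decide +kernel
theorem c20019820 : chkLift M20234 D20234 E20014166 [520,525,522,630,8,16,33,129,257] [522,527,520,628,8,16,33,129,257] [520,525,522,630,8,16,33,129,257,1] [(1,[2,1,7,14,16,32,64,186,320]),(0,[1,2,4,8,16,32,64,128,256]),(4,[2,1,7,14,16,32,69,186,335]),(8,[1,2,4,13,16,37,112,181,495]),(16,[4,7,1,8,21,32,117,176,485]),(32,[8,14,13,1,32,16,64,128,320]),(64,[11,13,14,7,32,16,69,186,271]),(128,[13,14,8,4,37,21,122,186,431]),(256,[13,4,8,11,250,197,64,101,320]),(512,[1,2,4,13,16,32,122,186,490])] 0 [4,7,1,13,16,32,64,128,256] [⟨0,0,[],0,0,false⟩,⟨0,0,[],0,0,false⟩,⟨0,0,[],0,0,false⟩,⟨0,0,[],0,0,false⟩,⟨0,0,[],0,0,false⟩,⟨0,0,[],0,0,false⟩,⟨0,0,[],0,0,false⟩,⟨0,0,[],0,0,false⟩,⟨1,2,[⟨4,0,0,0⟩,⟨0,8,14,0⟩,⟨0,64,64,0⟩],0,0,false⟩] [] [512,5,515,16,32,576,122,698,832,17] [([522,527,520,628,8,16,33,129,257,3],[]),([522,527,520,628,8,16,33,129,257,1],[])]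 [] = true := by decide +kernel
theorem c20016252 : chkCF M20234 (528,Z20014556) [1,9] = true := by decide +kernel
theorem c20018631 : chkDer M20234 [([528,533,530,622,24,33,137,257],[59,463,57,436,1020,530,352,214])] [(0,8,[]),(2,0,[32,147,37,153,200,4,255,124]),(0,543,[]),(1,0,[63,249,58,246,184,1,149,121]),(0,1,[]),(2,0,[246,53,243,63,189,1,39,125]),(0,541,[]),(1,0,[153,47,156,32,205,4,61,125]),(0,1,[]),(0,8,[]),(0,1,[]),(2,0,[153,47,156,37,200,201,255,75]),(0,543,[]),(1,0,[246,53,243,58,184,188,149,84]),(0,1,[]),(2,0,[63,249,58,243,189,185,39,232]),(0,541,[]),(1,0,[32,147,37,156,205,204,61,135])] ([528,533,530,622,24,33,137,257],[530,535,528,620,24,35,137,378]) = true := by decide +kernel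
theorem c20018182 : chkDer M20234 [([528,533,530,622,24,33,137,257],[64,438,66,461,1022,530,281,175])] [(0,8,[]),(2,0,[32,153,37,147,194,11,255,115]),(0,543,[]),(1,0,[63,246,58,249,183,11,149,115]),(0,1,[]),(2,0,[243,58,246,48,183,11,39,120]),(0,541,[]),(1,0,[156,37,153,42,194,11,61,120]),(0,1,[]),(0,8,[]),(0,1,[]),(2,0,[153,32,156,42,199,204,240,75]),(0,543,[]),(1,0,[246,63,243,48,178,185,159,84]),(0,1,[]),(2,0,[58,243,63,249,178,185,40,226]),(0,541,[]),(1,0,[37,156,32,147,199,204,55,136])] ([528,533,530,622,24,33,137,257],[528,533,530,622,24,33,137,259]) = true := by decide +kernel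
theorem c20019594 : chkDer M20234 [([528,533,530,622,24,33,137,257],[326,90,324,33,880,436,491,741])] [(0,8,[]),(2,0,[195,63,198,53,145,153,191,66]),(0,543,[]),(1,0,[179,32,182,47,254,246,202,88]),(0,1,[]),(2,0,[47,185,42,179,251,243,59,161]),(0,541,[]),(1,0,[53,204,48,195,148,156,33,209]),(0,1,[]),(0,8,[]),(0,1,[]),(2,0,[53,204,48,198,145,13,191,108]),(0,543,[]),(1,0,[47,185,42,182,254,13,202,105]),(0,1,[]),(2,0,[179,32,182,42,251,13,59,100]),(0,541,[]),(1,0,[195,63,198,48,148,13,33,97])] ([528,533,530,622,24,33,137,257],[530,535,528,620,24,35,137,378]) = true := by decide +kernel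
theorem c20017223 : chkDer M20234 [([528,533,530,622,24,33,137,257],[326,33,324,90,777,461,491,670])] [(0,8,[]),(2,0,[198,58,195,48,148,150,181,72]),(0,543,[]),(1,0,[182,37,179,42,251,252,197,87]),(0,1,[]),(2,0,[37,182,32,188,251,252,62,171]),(0,541,[]),(1,0,[58,198,63,201,148,150,36,222]),(0,1,[]),(0,8,[]),(0,1,[]),(2,0,[63,195,58,201,145,2,186,102]),(0,543,[]),(1,0,[32,179,37,188,254,7,207,102]),(0,1,[]),(2,0,[179,32,182,42,254,7,49,100]),(0,541,[]),(1,0,[195,63,198,48,145,2,46,97])] ([528,533,530,622,24,33,137,257],[528,533,530,622,24,33,137,259]) = true := by decide +kernel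
theorem c20017380 : chkDer M20234 [([528,533,530,622,24,33,137,257],[57,438,59,461,903,528,281,173])] [(0,8,[]),(2,0,[37,156,32,150,199,1,245,118]),(0,543,[]),(1,0,[58,243,63,252,178,4,154,118]),(0,1,[]),(2,0,[252,48,249,58,183,4,34,119]),(0,541,[]),(1,0,[150,42,147,37,194,1,56,114]),(0,1,[]),(0,8,[]),(0,1,[]),(2,0,[150,42,147,32,199,195,245,68]),(0,543,[]),(1,0,[252,48,249,63,178,179,154,94]),(0,1,[]),(2,0,[58,243,63,249,183,182,34,237]),(0,541,[]),(1,0,[37,156,32,147,194,198,56,130])] ([528,533,530,622,24,33,137,257],[530,535,528,620,24,35,137,378]) = true := by decide +kernel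
theorem c20019524 : chkDer M20234 [([104,2,109,123,9,128,33,257,513],[106,123,111,121,225,9,319,206,634]),([520,525,522,630,8,16,33,129,257],[126,520,124,627,193,16,345,505,35])] [(0,455,[]),(1,0,[257,268,259,262,19,91,41,240]),(2,1,[226,230,237,227,474,369,229,325]),(1,0,[382,125,374,127,235,497,120,194]),(2,1,[152,426,146,421,170,168,420,117]),(1,0,[303,163,293,171,35,308,400,89]),(1,1,[13,220,8,214,48,151,71,470])] ([528,533,530,622,24,33,137,257],[625,710,627,701,211,993,896,670]) = true := by decide +kernel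
theorem c20019746 : chkDer M20234 [([104,2,109,123,9,128,33,257,513],[106,123,111,121,225,9,319,206,634]),([520,525,522,630,8,16,33,129,257],[527,124,525,5,160,16,376,368,290])] [(0,455,[]),(1,0,[257,268,259,262,19,91,41,240]),(2,1,[214,212,217,209,378,152,223,69]),(1,0,[102,354,110,352,209,303,105,66]),(2,1,[261,148,271,155,165,11,264,477]),(1,0,[130,290,136,298,43,282,444,462]),(2,1,[61,9,56,3,208,412,428,161])] ([528,533,530,622,24,33,137,257],[622,124,620,5,168,407,397,760]) = true := by decide +kernel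
theorem c20019688 : chkDer M20234 [([104,2,109,123,9,128,33,257,513],[106,123,111,121,225,9,319,206,634]),([520,525,522,630,8,16,33,129,257],[126,625,124,522,160,8,345,410,35])] [(0,64,[]),(1,0,[257,262,259,270,25,66,58,136]),(2,1,[232,233,231,227,469,145,319,219]),(1,0,[372,117,380,127,227,288,147,362]),(1,1,[382,490,372,495,405,11,70,466]),(1,0,[238,81,228,83,153,7,485,288])] ([528,533,530,622,24,33,137,257],[407,436,405,461,36,126,932,627]) = true := by decide +kernel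
theorem c20016351 : chkDer M20234 [([104,2,109,123,9,128,33,257,513],[106,123,111,121,225,9,319,206,634]),([520,525,522,630,8,16,33,129,257],[630,124,628,5,193,8,376,360,345])] [(0,64,[]),(1,0,[257,262,259,270,25,66,58,136]),(2,1,[217,222,214,212,378,466,405,50]),(1,0,[110,360,102,354,209,454,178,268]),(1,1,[330,477,320,472,319,311,118,56]),(1,0,[72,220,66,222,176,181,472,119])] ([528,533,530,622,24,33,137,257],[324,286,326,357,69,64,808,466]) = true := by decide +kernel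
theorem c20018798 : chkDer M20234 [([104,2,109,123,9,128,33,257,513],[106,123,111,121,225,9,319,206,634]),([520,525,522,630,8,16,33,129,257],[628,126,630,7,193,8,376,360,347])] [(0,64,[]),(1,0,[257,262,259,270,25,66,58,136]),(2,1,[217,219,214,209,383,466,400,55]),(1,0,[110,362,102,352,211,454,176,270]),(1,1,[330,466,320,471,304,311,121,55]),(1,0,[74,212,64,214,186,181,464,125])] ([528,533,530,622,24,33,137,257],[317,359,319,284,71,64,851,464]) = true := by decide +kernel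
theorem c20019148 : chkDer M20234 [([104,2,109,123,9,128,33,257,513],[106,123,111,121,225,9,319,206,634]),([520,525,522,630,8,16,33,129,257],[527,124,525,5,160,16,376,370,347])] [(1,0,[265,268,267,260,27,64,48,128]),(1,1,[59,56,52,50,149,374,165,236]),(1,0,[372,125,380,119,235,290,145,362]),(2,1,[467,122,473,127,319,9,322,155]),(1,0,[228,81,238,83,147,15,493,298])] ([528,533,530,622,24,33,137,257],[405,436,407,461,38,7,991,625]) = true := by decide +kernel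
theorem c20017229 : chkDer M20234 [([104,2,109,123,9,128,33,257,513],[106,123,111,121,225,9,319,206,634]),([520,525,522,630,8,16,33,129,257],[7,520,5,627,8,160,345,329,33])] [(0,257,[]),(1,0,[259,268,257,260,19,64,50,128]),(1,1,[62,56,49,50,159,374,170,236]),(1,0,[110,362,102,352,219,460,186,270]),(2,1,[64,380,74,377,405,409,484,236]),(1,0,[64,214,74,212,178,191,472,119])] ([528,533,530,622,24,33,137,257],[319,284,317,359,62,66,808,466]) = true := by decide +kernel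
theorem c20019156 : chkDer M20234 [([528,533,530,622,24,33,137,257],[622,124,620,5,168,407,397,760])] [(0,1,[]),(2,0,[14,6,11,12,106,243,230,88]),(2,0,[12,13,9,2,117,182,211,237]),(2,0,[2,4,7,14,21,48,74,218]),(0,1,[]),(1,0,[1,7,4,8,21,48,80,234]),(1,0,[8,9,13,3,117,182,163,81]),(1,0,[3,11,6,4,106,243,131,171])] ([528,533,530,622,24,33,137,257],[530,535,528,620,24,33,137,257]) = true := by decide +kernel
theorem c20017071 : chkDer M20234 [([520,525,522,630,8,16,33,129,257],[630,124,628,5,193,8,376,362,288]),([104,2,109,123,9,128,33,257,513],[106,123,111,121,225,9,319,206,634])] [(0,704,[]),(2,0,[209,220,212,214,223,330,400,261]),(2,1,[423,163,429,171,166,110,233,242]),(1,0,[312,426,306,421,425,217,479,495]),(1,1,[183,89,189,81,344,267,219,169])] ([528,533,530,622,24,33,137,257],[59,463,57,436,1020,530,352,214]) = true := by decide +kernel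
theorem c20018252 : chkDer M20234 [([520,525,522,630,8,16,33,129,257],[525,5,527,124,8,193,376,443,347]),([104,2,109,123,9,128,33,257,513],[106,123,111,121,225,9,319,206,634])] [(0,704,[]),(2,0,[209,214,212,220,213,325,400,266]),(2,1,[423,171,429,163,174,108,233,240]),(1,0,[312,421,306,426,422,220,479,490]),(1,1,[183,83,189,91,338,259,217,171])] ([528,533,530,622,24,33,137,257],[59,461,57,438,1022,619,283,175]) = true := by decide +kernel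
theorem c20019294 : chkDer M20234 [([520,525,522,630,8,16,33,129,257],[628,126,630,7,193,8,376,362,290]),([104,2,109,123,9,128,33,257,513],[106,123,111,121,225,9,319,206,634])] [(0,704,[]),(2,0,[212,220,209,214,223,335,405,256]),(2,1,[429,163,423,171,166,100,227,248]),(1,0,[306,426,312,421,425,211,469,485]),(1,1,[189,91,183,83,346,257,211,161])] ([528,533,530,622,24,33,137,257],[57,438,59,461,903,528,281,173]) = true := by decide +kernel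
theorem c20019436 : chkDer M20234 [([520,525,522,630,8,16,33,129,257],[5,522,7,625,8,160,345,331,90]),([104,2,109,123,9,128,33,257,513],[106,123,111,121,225,9,319,206,634])] [(0,704,[]),(2,0,[233,237,236,231,234,271,319,79]),(2,1,[138,387,128,395,143,250,209,158]),(1,0,[266,414,256,401,265,480,378,307]),(1,1,[64,150,74,158,326,91,235,318])] ([528,533,530,622,24,33,137,257],[319,35,317,88,882,438,402,741]) = true := by decide +kernel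
theorem c20016473 : chkDer M20234 [([520,525,522,630,8,16,33,129,257],[7,520,5,627,8,160,345,331,88]),([104,2,109,123,9,128,33,257,513],[106,123,111,121,225,9,319,206,634])] [(0,704,[]),(2,0,[233,232,236,226,234,266,314,79]),(2,1,[138,393,128,385,143,240,219,158]),(1,0,[266,404,256,411,265,490,368,307]),(1,1,[66,156,72,148,324,83,227,316])] ([528,533,530,622,24,33,137,257],[326,33,324,90,777,461,491,670]) = true := by decide +kernel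
theorem c20017291 : chkDer M20234 [([520,525,522,630,8,16,33,129,257],[7,520,5,627,8,160,345,331,88]),([104,2,109,123,9,128,33,257,513],[106,123,111,121,225,9,319,206,634])] [(0,704,[]),(2,0,[233,232,236,226,234,266,314,79]),(2,1,[138,393,128,385,143,240,219,158]),(1,0,[266,404,256,411,265,490,368,307]),(1,1,[66,156,72,148,324,83,227,316])] ([528,533,530,622,24,33,137,257],[326,33,324,90,777,461,491,670]) = true := by decide +kernel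
theorem c20014889 : chkDer M20234 [([5,643,2,741,538,121],[520,788,2,284,633,123]),([1,2,4,8,16,96,160,512],[104,2,109,123,10,11,160,619])] [(1,0,[1,5,33]),(0,1,[]),(2,1,[164,166,174]),(0,256,[]),(2,1,[235,233,136]),(2,0,[63,59,1]),(0,1,[]),(1,0,[62,58,1]),(0,32,[]),(2,1,[97,99,174]),(0,256,[]),(2,1,[59,57,136]),(2,0,[32,36,1])] ([5,7,124],[121,123,5]) = true := by decide +kernel
theorem c20015211 : chkDer M20234 [([5,643,2,741,538,121],[528,288,2,816,105,121]),([1,2,4,8,16,96,160,512],[104,2,109,123,10,11,160,619])] [(1,0,[1,5,33]),(0,1,[]),(2,1,[141,143,133]),(0,256,[]),(1,1,[138,136,235]),(2,0,[5,1,58]),(0,1,[]),(1,0,[5,1,59]),(0,32,[]),(1,1,[172,174,97]),(0,256,[]),(2,1,[169,171,59]),(2,0,[33,37,36])] ([5,7,124],[124,126,123]) = true := by decide +kernel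
theorem c20016710 : chkDer M20234 [([520,525,522,630,8,16,33,129,257],[527,7,525,126,8,193,376,441,290])] [(1,0,[1,2,4,8,16,32,64,128,256]),(0,1,[]),(2,0,[6,2,3,13,16,255,271,298,74]),(0,1,[]),(1,0,[6,1,3,11,16,192,330,367,79])] ([520,525,522,630,8,16,33,129,257],[522,527,520,628,8,16,33,129,257]) = true := by decide +kernel
theorem c20018561 : chkDer M20234 [([520,525,522,630,8,16,33,129,257],[525,5,527,124,8,193,376,441,288])] [(1,0,[1,2,4,8,16,32,64,128,256]),(0,1,[]),(2,0,[3,2,6,13,16,255,266,303,79]),(0,1,[]),(1,0,[3,1,6,11,16,192,335,362,74])] ([520,525,522,630,8,16,33,129,257],[520,525,522,630,8,16,33,129,259]) = true := by decide +kernel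
theorem c20017735 : chkDer M20234 [([520,525,522,630,8,16,33,129,257],[527,126,525,7,160,16,376,368,288])] [(1,0,[1,2,4,8,16,32,64,128,256]),(0,1,[]),(2,0,[12,7,9,8,192,32,266,496,79]),(0,1,[]),(1,0,[9,4,12,14,255,32,335,432,74])] ([520,525,522,630,8,16,33,129,257],[520,525,522,630,8,16,33,129,259]) = true := by decide +kernel
theorem c20016478 : chkDer M20234 [([520,525,522,630,8,16,33,129,257],[7,520,5,627,8,160,345,331,90])] [(1,0,[1,2,4,8,16,32,64,128,256]),(0,1,[]),(2,0,[1,6,4,9,16,192,335,394,261]),(0,1,[]),(1,0,[2,6,7,12,16,255,266,463,325])] ([520,525,522,630,8,16,33,129,257],[520,525,522,630,8,16,33,129,259]) = true := by decide +kernel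
theorem c20017509 : chkDer M20234 [([520,525,522,630,8,16,33,129,257],[5,627,7,520,16,193,345,337,88])] [(1,0,[1,2,4,8,16,32,64,128,256]),(0,1,[]),(2,0,[1,6,4,9,16,192,330,399,261]),(0,1,[]),(1,0,[2,6,7,12,16,255,271,458,325])] ([520,525,522,630,8,16,33,129,257],[627,628,625,527,16,8,33,224,257]) = true := by decide +kernel
theorem c20018997 : chkDer M20234 [([520,525,522,630,8,16,33,129,257],[126,625,124,522,160,8,345,408,88])] [(1,0,[1,2,4,8,16,32,64,128,256]),(0,1,[]),(2,0,[4,9,1,6,255,32,330,351,261]),(0,1,[]),(1,0,[7,12,2,6,192,32,271,282,325])] ([520,525,522,630,8,16,33,129,257],[627,628,625,527,16,8,33,224,257]) = true := by decide +kernel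
theorem c20018674 : chkDer M20234 [([1,2,4,8,16,96,160,512],[104,2,109,123,10,11,160,619]),([5,643,2,741,538,121,617],[672,33,2,665,716,121,535])] [(0,1,[]),(1,0,[141,136,143,177]),(1,1,[97,96,101,59]),(0,4,[]),(2,0,[87,130,85,194]),(2,1,[65,117,69,5]),(1,0,[172,13,174,7])] ([520,525,522,630],[628,126,630,7]) = true := by decide +kernel
theorem c20017167 : chkDer M20234 [([520,525,522,630,8,16,33,129,257],[628,126,630,7,193,8,376,360,345])] [(1,0,[1,2,4,8,16,32,64,128,256]),(0,1,[]),(2,0,[9,7,12,8,197,32,256,511,64]),(0,1,[]),(1,0,[12,4,9,14,250,32,320,442,64])] ([520,525,522,630,8,16,33,129,257],[625,630,627,525,16,8,35,224,376]) = true := by decide +kernel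
theorem c20019317 : chkDer M20234 [([520,525,522,630,8,16,33,129,257],[628,126,630,7,193,8,376,360,345])] [(1,0,[1,2,4,8,16,32,64,128,256]),(0,1,[]),(2,0,[9,7,12,8,197,32,256,511,64]),(0,1,[]),(1,0,[12,4,9,14,250,32,320,442,64])] ([520,525,522,630,8,16,33,129,257],[625,630,627,525,16,8,35,224,376]) = true := by decide +kernel
theorem c20017912 : chkDer M20234 [([520,525,522,630,8,16,33,129,257],[628,5,630,124,16,160,376,472,347])] [(1,0,[1,2,4,8,16,32,64,128,256]),(0,1,[]),(2,0,[6,2,3,13,16,250,261,288,69]),(0,1,[]),(1,0,[6,1,3,11,16,197,325,352,69])] ([520,525,522,630,8,16,33,129,257],[627,628,625,527,16,8,35,224,378]) = true := by decide +kernel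
theorem c20018101 : chkDer M20234 [([520,525,522,630,8,16,33,129,257],[525,5,527,124,8,193,376,443,345])] [(1,0,[1,2,4,8,16,32,64,128,256]),(0,1,[]),(2,0,[3,2,6,13,16,250,256,293,64]),(0,1,[]),(1,0,[3,1,6,11,16,197,320,357,64])] ([520,525,522,630,8,16,33,129,257],[520,525,522,630,8,16,35,129,376]) = true := by decide +kernel
theorem c20017972 : chkDer M20234 [([520,525,522,630,8,16,33,129,257],[126,522,124,625,193,16,345,505,35])] [(1,0,[1,2,4,8,16,32,64,128,256]),(0,1,[]),(2,0,[4,12,1,3,250,32,320,341,256]),(0,1,[]),(1,0,[7,9,2,3,197,32,256,277,320])] ([520,525,522,630,8,16,33,129,257],[520,525,522,630,8,16,35,129,376]) = true := by decide +kernel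
theorem c20015687 : chkDer M20234 [([5,643,2,741,538,121],[672,33,2,736,633,121]),([1,2,4,8,16,96,160,512],[104,2,109,123,10,11,160,619])] [(1,0,[1,5,33]),(0,256,[]),(1,1,[221,223,228]),(0,256,[]),(2,0,[1,5,52]),(0,1,[]),(1,0,[1,5,49]),(0,257,[]),(2,1,[251,249,57]),(2,0,[37,33,32])] ([5,7,124],[126,124,121]) = true := by decide +kernel
theorem c20018892 : chkDer M20234 [([1,2,4,8,16,96,160,512],[104,2,109,123,10,11,160,619]),([5,643,2,741,538,121,617],[672,33,2,665,716,123,628])] [(0,1,[]),(1,0,[141,136,143,177]),(0,256,[]),(2,0,[130,141,128,205]),(2,1,[90,96,94,63]),(2,0,[62,136,60,179])] ([520,525,522,630],[126,520,124,627]) = true := by decide +kernel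
theorem c20018416 : chkDer M20234 [([520,525,522,630,8,16,33,129,257],[7,520,5,627,8,160,345,329,35])] [(1,0,[1,2,4,8,16,32,64,128,256]),(0,1,[]),(2,0,[1,6,4,9,16,197,320,384,256]),(0,1,[]),(1,0,[2,6,7,12,16,250,256,448,320])] ([520,525,522,630,8,16,33,129,257],[520,525,522,630,8,16,35,129,376]) = true := by decide +kernel
theorem c20019126 : chkDer M20234 [([1,2,4,8,16,96,160,512],[104,2,109,123,10,11,160,619]),([5,643,2,741,538,121,617],[672,33,2,665,108,123,214])] [(1,0,[136,141,138,182]),(0,256,[]),(2,0,[141,130,143,192]),(2,1,[101,94,97,1]),(2,0,[143,60,141,5])] ([520,525,522,630],[527,124,525,5]) = true := by decide +kernel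
theorem c20016606 : chkDer M20234 [([1,2,4,8,16,96],[11,2,14,8,121,104]),([5,643,2,741,538,121,617],[520,284,2,877,116,121,708]),([1,2,4,8,16,96,160,512],[104,2,109,123,10,11,160,619])] [(0,256,[]),(1,0,[60,62,7]),(1,1,[94,90,5]),(0,64,[]),(1,2,[18,16,177]),(2,1,[90,94,95]),(1,0,[23,21,16])] ([5,7,124],[126,124,121]) = true := by decide +kernel
theorem c20018530 : chkDer M20234 [([1,2,4,8,16,96],[11,2,14,8,121,104]),([5,643,2,741,538,121,617],[528,816,2,345,196,123,620]),([1,2,4,8,16,96,160,512],[104,2,109,123,10,11,160,619])] [(0,256,[]),(1,0,[60,62,7]),(1,1,[94,90,5]),(0,64,[]),(2,2,[18,16,130]),(2,1,[90,94,91]),(1,0,[23,21,18])] ([5,7,124],[126,124,123]) = true := by decide +kernel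
theorem c20016719 : chkDer M20234 [([1,2,4,8,16,96],[11,2,14,8,121,104]),([520,525,522,630,8,16,33,129,257],[527,7,525,126,517,693,376,796,288]),([1,2,4,8,16,96,160,512],[104,2,109,123,10,11,160,619]),([1,2,4,8,16,96,160],[104,2,109,123,10,11,160])] [(0,256,[]),(1,0,[60,62,7]),(0,256,[]),(1,1,[204,201,12]),(1,2,[23,21,177]),(1,1,[19,22,20]),(1,3,[13,15,8])] ([5,7,124],[126,124,123]) = true := by decide +kernel
theorem c20019326 : chkDer M20234 [([1,2,4,8,16,96],[11,2,14,8,121,104]),([5,643,2,741,538,121,617],[672,641,2,57,716,121,535]),([520,525,522,630,8,16,33,129,257],[628,126,630,7,693,517,376,950,290]),([1,2,4,8,16,96,160,512],[104,2,109,123,10,11,160,619])] [(0,256,[]),(1,0,[60,62,7]),(1,1,[94,90,5]),(1,2,[46,43,212]),(1,3,[8,10,172]),(1,2,[15,10,13])] ([5,7,124],[123,121,5]) = true := by decide +kernel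
theorem c20018789 : chkDer M20234 [([1,2,4,8,16,96,160],[104,2,109,123,10,11,160]),([520,525,522,630,8,16,33,129,257],[628,126,630,7,189,13,257,278,345]),([1,2,4,8,16,96,160,512],[104,2,109,123,10,11,160,619]),([5,643,2,741,538,121,617],[672,33,2,665,716,121,533])] [(2,0,[5,7,15]),(2,1,[13,8,37]),(2,2,[172,174,59]),(2,1,[222,219,15]),(2,3,[37,33,36])] ([5,7,124],[126,124,123]) = true := by decide +kernel
theorem c20019381 : chkDer M20234 [([1,2,4,8,16,96,160],[104,2,109,123,10,11,160]),([520,525,522,630,8,16,33,129,257],[628,126,630,7,189,13,257,278,345]),([1,2,4,8,16,96,160,512],[104,2,109,123,10,11,160,619]),([5,643,2,741,538,121,617],[672,641,2,57,716,121,533])] [(2,0,[5,7,15]),(2,1,[13,8,37]),(2,2,[172,174,59]),(2,1,[222,219,15]),(2,3,[37,33,36])] ([5,7,124],[126,124,123]) = true := by decide +kernel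
theorem c20017173 : chkDer M20234 [([1,2,4,8,16,96],[11,2,14,8,121,104]),([520,525,522,630,8,16,33,129,257],[628,126,630,7,693,517,376,950,288]),([1,2,4,8,16,96,160,512],[104,2,109,123,10,11,160,619]),([1,2,4,8,16,96,160],[104,2,109,123,10,11,160])] [(0,256,[]),(1,0,[60,62,7]),(1,1,[35,38,6]),(2,2,[23,21,163]),(1,1,[38,35,43]),(1,3,[15,13,10])] ([5,7,124],[124,126,121]) = true := by decide +kernel
theorem c20017927 : chkDer M20234 [([1,2,4,8,16,96],[11,2,14,8,121,104]),([520,525,522,630,8,16,33,129,257],[628,5,630,124,612,685,376,772,288]),([1,2,4,8,16,96,160,512],[104,2,109,123,10,11,160,619]),([1,2,4,8,16,96,160],[104,2,109,123,10,11,160])] [(0,256,[]),(1,0,[60,62,7]),(2,1,[19,22,7]),(2,2,[23,21,166]),(2,1,[22,19,21]),(1,3,[15,13,10])] ([5,7,124],[124,126,121]) = true := by decide +kernel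
theorem c20019369 : chkDer M20234 [([1,2,4,8,16,96],[11,2,14,8,121,104]),([5,643,2,741,538,121,617],[672,641,2,57,716,121,533]),([520,525,522,630,8,16,33,129,257],[628,126,630,7,693,517,376,948,345]),([1,2,4,8,16,96,160,512],[104,2,109,123,10,11,160,619])] [(0,256,[]),(1,0,[60,62,7]),(1,1,[94,90,5]),(1,2,[43,46,212]),(1,3,[10,8,174]),(1,2,[10,15,8])] ([5,7,124],[121,123,7]) = true := by decide +kernel
theorem c20019503 : chkDer M20234 [([1,2,4,8,16,96],[11,2,14,8,121,104]),([5,643,2,741,538,121,617],[672,641,2,57,716,123,628]),([1,2,4,8,16,96,160,512],[104,2,109,123,10,11,160,619]),([520,525,522,630,8,16,33,129,257],[126,520,124,627,189,21,345,391,88]),([1,2,4,8,16,96,160],[104,2,109,123,10,11,160])] [(1,0,[5,7,60]),(1,1,[1,5,94]),(2,2,[243,241,179]),(1,3,[203,206,11]),(1,4,[8,10,7])] ([5,7,124],[123,121,7]) = true := by decide +kernel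
theorem c20017079 : chkDer M20234 [([1,2,4,8,16,96],[11,2,14,8,121,104]),([520,525,522,630,8,16,33,129,257],[630,124,628,5,693,517,376,948,345]),([1,2,4,8,16,96,160,512],[104,2,109,123,10,11,160,619]),([1,2,4,8,16,96,160],[104,2,109,123,10,11,160])] [(0,256,[]),(1,0,[60,62,7]),(1,1,[35,38,6]),(2,2,[23,21,163]),(1,1,[38,35,43]),(1,3,[15,13,8])] ([5,7,124],[124,126,123]) = true := by decide +kernel
theorem c20018045 : chkDer M20234 [([5,643,2,741,538,121,617],[528,288,2,841,108,123,212]),([1,2,4,8,16,96,160,512],[104,2,109,123,10,11,160,619]),([520,525,522,630,8,16,33,129,257],[124,522,126,625,713,609,345,859,33]),([1,2,4,8,16,96],[11,2,14,8,121,104])] [(1,0,[1,5,33]),(0,1,[]),(1,1,[149,151,172]),(1,2,[45,40,13]),(1,0,[91,95,107]),(1,3,[16,18,7])] ([5,7,124],[121,123,7]) = true := by decide +kernel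
theorem c20019005 : chkDer M20234 [([1,2,4,8,16,96],[11,2,14,8,121,104]),([520,525,522,630,8,16,33,129,257],[126,625,124,522,220,13,288,413,88]),([1,2,4,8,16,96,160,512],[104,2,109,123,10,11,160,619]),([5,643,2,741,538,121,617],[672,33,2,665,108,121,183]),([1,2,4,8,16,96,160],[104,2,109,123,10,11,160])] [(1,0,[5,7,60]),(2,1,[14,11,197]),(1,2,[177,179,66]),(2,3,[117,113,116]),(1,4,[13,15,8])] ([5,7,124],[126,124,123]) = true := by decide +kernel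
theorem c20019667 : chkDer M20234 [([1,2,4,8,16,96],[11,2,14,8,121,104]),([520,525,522,630,8,16,33,129,257],[126,625,124,522,220,13,288,413,88]),([1,2,4,8,16,96,160,512],[104,2,109,123,10,11,160,619]),([5,643,2,741,538,121,617],[672,641,2,57,108,121,181]),([1,2,4,8,16,96,160],[104,2,109,123,10,11,160])] [(1,0,[5,7,60]),(2,1,[14,11,197]),(1,2,[177,179,66]),(2,3,[113,117,112]),(1,4,[15,13,10])] ([5,7,124],[124,126,121]) = true := by decide +kernel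
theorem c20017596 : chkDer M20234 [([1,2,4,8,16,96],[11,2,14,8,121,104]),([520,525,522,630,8,16,33,129,257],[5,625,7,522,609,713,345,904,35]),([1,2,4,8,16,96,160,512],[104,2,109,123,10,11,160,619]),([1,2,4,8,16,96,160],[104,2,109,123,10,11,160])] [(0,256,[]),(1,0,[60,62,7]),(2,1,[19,22,4]),(2,2,[23,21,163]),(2,1,[22,19,21]),(1,3,[15,13,10])] ([5,7,124],[124,126,121]) = true := by decide +kernel
theorem c20019020 : chkDer M20234 [([1,2,4,8,16,96],[11,2,14,8,121,104]),([520,525,522,630,8,16,33,129,257],[126,625,124,522,721,512,288,826,90]),([1,2,4,8,16,96,160,512],[104,2,109,123,10,11,160,619]),([1,2,4,8,16,96,160],[104,2,109,123,10,11,160])] [(0,256,[]),(1,0,[60,62,7]),(1,1,[35,38,6]),(2,2,[23,21,166]),(1,1,[38,35,40]),(1,3,[15,13,10])] ([5,7,124],[124,126,121]) = true := by decide +kernel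
theorem c20019612 : chkDer M20234 [([1,2,4,8,16,96],[11,2,14,8,121,104]),([520,525,522,630,8,16,33,129,257],[126,625,124,522,721,512,288,826,90]),([1,2,4,8,16,96,160,512],[104,2,109,123,10,11,160,619]),([1,2,4,8,16,96,160],[104,2,109,123,10,11,160])] [(0,256,[]),(1,0,[60,62,7]),(1,1,[35,38,6]),(2,2,[23,21,166]),(1,1,[38,35,40]),(1,3,[15,13,10])] ([5,7,124],[124,126,121]) = true := by decide +kernel
theorem c20017674 : chkDer M20234 [([1,2,4,8,16,96],[11,2,14,8,121,104]),([5,643,2,741,538,121,617],[528,288,2,841,636,123,710]),([520,525,522,630,8,16,33,129,257],[527,124,525,5,685,612,376,983,290]),([1,2,4,8,16,96,160,512],[104,2,109,123,10,11,160,619])] [(1,0,[5,7,60]),(2,1,[110,106,49]),(2,2,[11,14,37]),(2,3,[171,169,59]),(2,1,[33,37,32])] ([5,7,124],[124,126,121]) = true := by decide +kernel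
theorem c20018876 : chkDer M20234 [([1,2,4,8,16,96],[11,2,14,8,121,104]),([520,525,522,630,8,16,33,129,257],[5,522,7,625,13,220,288,309,35]),([1,2,4,8,16,96,160,512],[104,2,109,123,10,11,160,619]),([5,643,2,741,538,121,617],[672,33,2,665,716,123,630]),([1,2,4,8,16,96,160],[104,2,109,123,10,11,160])] [(1,0,[5,7,60]),(2,1,[1,4,255]),(2,2,[161,163,97]),(2,3,[117,113,116]),(1,4,[13,15,8])] ([5,7,124],[126,124,123]) = true := by decide +kernel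
theorem c20019102 : chkDer M20234 [([1,2,4,8,16,96],[11,2,14,8,121,104]),([520,525,522,630,8,16,33,129,257],[126,625,124,522,220,13,288,415,35]),([1,2,4,8,16,96,160,512],[104,2,109,123,10,11,160,619]),([5,643,2,741,538,121,617],[672,33,2,665,108,121,181]),([1,2,4,8,16,96,160],[104,2,109,123,10,11,160])] [(1,0,[5,7,60]),(2,1,[14,11,192]),(1,2,[177,179,64]),(2,3,[113,117,116]),(1,4,[15,13,8])] ([5,7,124],[124,126,123]) = true := by decide +kernel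
theorem c20019168 : chkDer M20234 [([1,2,4,8,16,96,160],[104,2,109,123,10,11,160]),([5,643,2,741,538,121,617],[672,33,2,665,108,123,214]),([520,525,522,630,8,16,33,129,257],[527,124,525,5,685,612,376,981,347]),([1,2,4,8,16,96,160,512],[104,2,109,123,10,11,160,619])] [(2,0,[5,7,15]),(1,1,[1,5,113]),(1,2,[209,212,43]),(2,3,[143,141,57]),(1,2,[7,2,10])] ([5,7,124],[126,124,121]) = true := by decide +kernel
theorem c20019760 : chkDer M20234 [([1,2,4,8,16,96,160],[104,2,109,123,10,11,160]),([5,643,2,741,538,121,617],[672,641,2,57,108,123,214]),([520,525,522,630,8,16,33,129,257],[527,124,525,5,685,612,376,981,347]),([1,2,4,8,16,96,160,512],[104,2,109,123,10,11,160,619])] [(2,0,[5,7,15]),(1,1,[1,5,113]),(1,2,[209,212,43]),(2,3,[143,141,57]),(1,2,[7,2,10])] ([5,7,124],[126,124,121]) = true := by decide +kernel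
theorem c20018861 : chkDer M20234 [([1,2,4,8,16,96,160],[104,2,109,123,10,11,160]),([520,525,522,630,8,16,33,129,257],[5,522,7,625,517,685,288,917,33]),([1,2,4,8,16,96,160,512],[104,2,109,123,10,11,160,619]),([5,643,2,741,538,121,617],[672,33,2,665,716,123,630])] [(2,0,[5,7,15]),(1,1,[3,6,22]),(1,2,[143,141,8]),(2,3,[107,111,32]),(1,1,[11,14,10])] ([5,7,124],[124,126,121]) = true := by decide +kernel
theorem c20019247 : chkDer M20234 [([1,2,4,8,16,96,160],[104,2,109,123,10,11,160]),([520,525,522,630,8,16,33,129,257],[527,5,525,124,13,189,257,444,345]),([1,2,4,8,16,96,160,512],[104,2,109,123,10,11,160,619]),([5,643,2,741,538,121,617],[672,33,2,665,108,123,212])] [(2,0,[5,7,15]),(2,1,[2,7,21]),(1,2,[141,143,10]),(2,3,[106,110,36]),(1,1,[8,13,15])] ([5,7,124],[124,126,123]) = true := by decide +kernel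
theorem c20019535 : chkDer M20234 [([1,2,4,8,16,96],[11,2,14,8,121,104]),([520,525,522,630,8,16,33,129,257],[126,520,124,627,693,612,288,860,88]),([1,2,4,8,16,96,160,512],[104,2,109,123,10,11,160,619]),([5,643,2,741,538,121,617],[672,641,2,57,716,123,628])] [(1,0,[5,7,60]),(1,1,[3,6,35]),(2,2,[172,174,57]),(2,3,[79,75,36]),(1,1,[4,1,15])] ([5,7,124],[124,126,123]) = true := by decide +kernel
theorem c20017851 : chkDer M20234 [([5,643,2,741,538,121,617],[528,288,2,841,108,121,7]),([1,2,4,8,16,96,160,512],[104,2,109,123,10,11,160,619]),([520,525,522,630,8,16,33,129,257],[527,126,525,7,685,612,376,983,288])] [(1,0,[1,5,33]),(0,1,[]),(1,1,[149,151,174]),(2,2,[32,37,14]),(2,1,[57,59,169]),(1,0,[32,36,64])] ([5,7,124],[121,123,7]) = true := by decide +kernel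
theorem c20019011 : chkDer M20234 [([1,2,4,8,16,96],[11,2,14,8,121,104]),([520,525,522,630,8,16,33,129,257],[126,625,124,522,685,517,288,838,33]),([1,2,4,8,16,96,160,512],[104,2,109,123,10,11,160,619]),([5,643,2,741,538,121,617],[672,33,2,665,108,121,183])] [(1,0,[5,7,60]),(1,1,[3,6,35]),(1,2,[141,143,8]),(1,1,[50,55,15]),(2,3,[33,37,36])] ([5,7,124],[124,126,123]) = true := by decide +kernel
theorem c20019471 : chkDer M20234 [([1,2,4,8,16,96],[11,2,14,8,121,104]),([5,643,2,741,538,121,617],[672,641,2,57,716,123,630]),([520,525,522,630,8,16,33,129,257],[5,522,7,625,512,721,288,914,33]),([1,2,4,8,16,96,160,512],[104,2,109,123,10,11,160,619])] [(1,0,[5,7,60]),(1,1,[1,5,94]),(2,2,[61,56,21]),(1,3,[174,172,10]),(2,2,[12,9,10])] ([5,7,124],[126,124,121]) = true := by decide +kernel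
theorem c20019673 : chkDer M20234 [([1,2,4,8,16,96],[11,2,14,8,121,104]),([520,525,522,630,8,16,33,129,257],[126,625,124,522,685,517,288,838,33]),([1,2,4,8,16,96,160,512],[104,2,109,123,10,11,160,619]),([5,643,2,741,538,121,617],[672,641,2,57,108,121,181])] [(1,0,[5,7,60]),(1,1,[3,6,35]),(1,2,[141,143,8]),(1,1,[50,55,15]),(2,3,[33,37,36])] ([5,7,124],[124,126,123]) = true := by decide +kernel
theorem c20016557 : chkDer M20234 [([1,2,4,8,16,96],[11,2,14,8,121,104]),([5,643,2,741,538,121,617],[520,284,2,877,636,123,525]),([520,525,522,630,8,16,33,129,257],[7,520,5,627,13,220,288,311,88])] [(0,256,[]),(1,0,[60,62,7]),(1,1,[94,90,5]),(1,2,[254,251,4]),(1,0,[16,18,5])] ([5,7,124],[121,123,5]) = true := by decide +kernel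
theorem c20017001 : chkDer M20234 [([1,2,4,8,16,96],[11,2,14,8,121,104]),([5,643,2,741,538,121,617],[520,788,2,357,636,121,525]),([520,525,522,630,8,16,33,129,257],[7,520,5,627,13,220,288,311,88])] [(0,256,[]),(1,0,[60,62,7]),(1,1,[94,90,5]),(1,2,[254,251,4]),(1,0,[16,18,5])] ([5,7,124],[121,123,5]) = true := by decide +kernel
theorem c20016882 : chkDer M20234 [([5,643,2,741,538,121,617],[520,284,2,877,116,123,5]),([1,2,4,8,16,96,160,512],[104,2,109,123,10,11,160,619]),([520,525,522,630,8,16,33,129,257],[7,520,5,627,512,721,288,912,90]),([1,2,4,8,16,96,160],[104,2,109,123,10,11,160])] [(2,0,[64,68,100]),(0,1,[]),(2,1,[133,135,143]),(1,2,[18,23,7]),(2,0,[116,112,5]),(1,3,[8,10,7])] ([5,7,124],[123,121,7]) = true := by decide +kernel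
theorem c20018958 : chkDer M20234 [([1,2,4,8,16,96,160],[104,2,109,123,10,11,160]),([5,643,2,741,538,121,617],[672,33,2,665,716,123,628]),([520,525,522,630,8,16,33,129,257],[126,520,124,627,713,609,345,857,90]),([1,2,4,8,16,96,160,512],[104,2,109,123,10,11,160,619])] [(2,0,[5,7,15]),(1,1,[1,5,113]),(2,2,[55,50,32]),(2,3,[143,141,57]),(2,2,[9,12,10])] ([5,7,124],[124,126,121]) = true := by decide +kernel
theorem c20019262 : chkDer M20234 [([1,2,4,8,16,96],[11,2,14,8,121,104]),([5,643,2,741,538,121,617],[672,33,2,665,108,123,212]),([520,525,522,630,8,16,33,129,257],[527,5,525,124,517,693,376,796,290]),([1,2,4,8,16,96,160,512],[104,2,109,123,10,11,160,619])] [(1,0,[5,7,60]),(1,1,[1,5,94]),(1,2,[209,212,17]),(1,3,[172,174,10]),(1,2,[13,8,10])] ([5,7,124],[126,124,121]) = true := by decide +kernel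
theorem c20019772 : chkDer M20234 [([1,2,4,8,16,96],[11,2,14,8,121,104]),([520,525,522,630,8,16,33,129,257],[527,124,525,5,220,21,376,373,347]),([1,2,4,8,16,96,160,512],[104,2,109,123,10,11,160,619]),([5,643,2,741,538,121,617],[672,641,2,57,108,123,214])] [(1,0,[5,7,60]),(2,1,[8,13,32]),(2,2,[174,172,57]),(2,3,[78,74,36]),(1,1,[7,2,15])] ([5,7,124],[126,124,123]) = true := by decide +kernel
theorem c20018148 : chkDer M20234 [([1,2,4,8,16,96],[11,2,14,8,121,104]),([5,643,2,741,538,121,617],[528,816,2,345,724,121,703]),([520,525,522,630,8,16,33,129,257],[525,5,527,124,517,693,376,796,290]),([1,2,4,8,16,96,160,512],[104,2,109,123,10,11,160,619])] [(0,256,[]),(1,0,[60,62,7]),(2,1,[58,62,78]),(2,2,[21,16,4]),(1,3,[10,8,138]),(2,1,[32,36,5])] ([5,7,124],[121,123,7]) = true := by decide +kernel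
theorem c20018226 : chkDer M20234 [([1,2,4,8,16,96,160],[104,2,109,123,10,11,160]),([5,643,2,741,538,121,617],[528,816,2,345,724,121,173]),([1,2,4,8,16,96,160,512],[104,2,109,123,10,11,160,619])] [(0,256,[]),(2,0,[15,13,7]),(1,1,[113,117,5]),(2,2,[57,59,138]),(1,1,[32,36,79])] ([5,7,124],[121,123,7]) = true := by decide +kernel
theorem c20017465 : chkDer M20234 [([1,2,4,8,16,96],[11,2,14,8,121,104]),([5,643,2,741,538,121,617],[520,788,2,357,116,123,204]),([520,525,522,630,8,16,33,129,257],[630,124,628,5,189,13,257,276,288]),([1,2,4,8,16,96,160],[104,2,109,123,10,11,160])] [(0,256,[]),(1,0,[60,62,7]),(1,1,[94,90,5]),(0,32,[]),(1,2,[40,45,13]),(1,3,[8,10,7])] ([5,7,124],[123,121,7]) = true := by decide +kernel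
theorem c20017019 : chkDer M20234 [([1,2,4,8,16,96,160],[104,2,109,123,10,11,160]),([5,643,2,741,538,121,617],[520,788,2,357,636,121,525]),([520,525,522,630,8,16,33,129,257],[7,520,5,627,512,721,288,912,88]),([1,2,4,8,16,96,160,512],[104,2,109,123,10,11,160,619])] [(2,0,[5,7,15]),(1,1,[1,5,113]),(2,2,[2,7,21]),(1,3,[141,143,10]),(1,1,[97,101,32])] ([5,7,124],[124,126,121]) = true := by decide +kernel
theorem c20016728 : chkDer M20234 [([1,2,4,8,16,96],[11,2,14,8,121,104]),([5,643,2,741,538,121,617],[520,284,2,877,116,121,204]),([520,525,522,630,8,16,33,129,257],[527,7,525,126,13,189,257,446,290]),([1,2,4,8,16,96,160],[104,2,109,123,10,11,160])] [(0,256,[]),(1,0,[60,62,7]),(1,1,[94,90,5]),(0,1,[]),(1,2,[18,23,7]),(1,3,[10,8,5])] ([5,7,124],[121,123,5]) = true := by decide +kernel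
theorem c20018966 : chkDer M20234 [([5,643,2,741,538,121,617],[672,33,2,665,716,123,212]),([1,2,4,8,16,96,160,512],[104,2,109,123,10,11,160,619]),([1,2,4,8,16,96],[11,2,14,8,121,104])] [(1,0,[1,5,33]),(0,1,[]),(1,1,[230,228,221]),(0,256,[]),(2,0,[91,95,1]),(1,2,[18,16,5])] ([5,7,124],[123,121,5]) = true := by decide +kernel
theorem c20018382 : chkDer M20234 [([5,643,2,741,538,121,617],[528,816,2,345,196,121,701]),([1,2,4,8,16,96,160,512],[104,2,109,123,10,11,160,619]),([1,2,4,8,16,96,160],[104,2,109,123,10,11,160])] [(2,0,[78,74,110]),(0,32,[]),(1,1,[179,177,138]),(2,0,[112,116,5]),(1,2,[10,8,7])] ([5,7,124],[121,123,7]) = true := by decide +kernel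
theorem c20018209 : chkDer M20234 [([1,2,4,8,16,96],[11,2,14,8,121,104]),([5,643,2,741,538,121,617],[528,816,2,345,724,121,701]),([520,525,522,630,8,16,33,129,257],[525,7,527,126,517,693,376,798,345]),([1,2,4,8,16,96,160,512],[104,2,109,123,10,11,160,619])] [(0,256,[]),(1,0,[60,62,7]),(2,1,[58,62,74]),(2,2,[21,16,1]),(1,3,[10,8,136]),(2,1,[32,36,1])] ([5,7,124],[121,123,5]) = true := by decide +kernel
theorem c20018974 : chkDer M20234 [([5,643,2,741,538,121,617],[672,33,2,665,108,121,533]),([1,2,4,8,16,96,160,512],[104,2,109,123,10,11,160,619]),([1,2,4,8,16,96,160],[104,2,109,123,10,11,160])] [(1,0,[1,5,33]),(0,1,[]),(1,1,[230,228,223]),(0,256,[]),(2,0,[112,116,5]),(1,2,[10,8,7])] ([5,7,124],[121,123,7]) = true := by decide +kernel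
theorem c20016578 : chkDer M20234 [([1,2,4,8,16,96,160],[104,2,109,123,10,11,160]),([5,643,2,741,538,121,617],[520,284,2,877,636,123,525]),([520,525,522,630,8,16,33,129,257],[7,520,5,627,512,721,288,912,90]),([1,2,4,8,16,96,160,512],[104,2,109,123,10,11,160,619])] [(2,0,[5,7,15]),(1,1,[1,5,113]),(2,2,[2,7,16]),(1,3,[141,143,8]),(1,1,[97,101,36])] ([5,7,124],[126,124,121]) = true := by decide +kernel
theorem c20017626 : chkDer M20234 [([1,2,4,8,16,96,160],[104,2,109,123,10,11,160]),([520,525,522,630,8,16,33,129,257],[5,625,7,522,612,693,288,1012,90]),([1,2,4,8,16,96,160,512],[104,2,109,123,10,11,160,619]),([5,643,2,741,538,121,617],[528,288,2,841,636,121,533])] [(0,256,[]),(2,0,[15,13,7]),(1,1,[22,19,6]),(2,2,[59,57,174]),(1,3,[36,32,69])] ([5,7,124],[123,121,7]) = true := by decide +kernel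
theorem c20018428 : chkDer M20234 [([1,2,4,8,16,96],[11,2,14,8,121,104]),([5,643,2,741,538,121,617],[528,816,2,345,196,121,175]),([520,525,522,630,8,16,33,129,257],[7,520,5,627,13,220,288,309,35]),([1,2,4,8,16,96,160],[104,2,109,123,10,11,160])] [(0,256,[]),(1,0,[60,62,7]),(2,1,[63,59,75]),(1,2,[17,20,1]),(1,3,[10,8,7])] ([5,7,124],[121,123,7]) = true := by decide +kernel
theorem c20016812 : chkDer M20234 [([5,643,2,741,538,121,617],[520,284,2,877,116,123,7]),([1,2,4,8,16,96,160,512],[104,2,109,123,10,11,160,619]),([520,525,522,630,8,16,33,129,257],[7,520,5,627,512,721,288,912,90]),([1,2,4,8,16,96,160],[104,2,109,123,10,11,160])] [(2,0,[68,64,96]),(0,1,[]),(2,1,[135,133,141]),(1,2,[23,18,2]),(2,0,[116,112,1]),(1,3,[8,10,5])] ([5,7,124],[123,121,5]) = true := by decide +kernel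
theorem c20018786 : chkDer M20234 [([1,2,4,8,16,96],[11,2,14,8,121,104]),([5,643,2,741,538,121,617],[672,33,2,665,716,121,533]),([1,2,4,8,16,96,160,512],[104,2,109,123,10,11,160,619]),([520,525,522,630,8,16,33,129,257],[628,126,630,7,713,512,376,947,347]),([1,2,4,8,16,96,160],[104,2,109,123,10,11,160])] [(1,0,[5,7,60]),(1,1,[1,5,94]),(1,2,[192,194,163]),(2,3,[21,16,6]),(1,4,[10,8,7])] ([5,7,124],[121,123,7]) = true := by decide +kernel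
theorem c20019402 : chkDer M20234 [([1,2,4,8,16,96],[11,2,14,8,121,104]),([5,643,2,741,538,121,617],[672,641,2,57,716,121,533]),([1,2,4,8,16,96,160,512],[104,2,109,123,10,11,160,619]),([520,525,522,630,8,16,33,129,257],[628,126,630,7,713,512,376,945,290]),([1,2,4,8,16,96,160],[104,2,109,123,10,11,160])] [(1,0,[5,7,60]),(1,1,[1,5,94]),(1,2,[192,194,163]),(2,3,[21,16,6]),(1,4,[10,8,7])] ([5,7,124],[121,123,7]) = true := by decide +kernel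
theorem c20016337 : chkDer M20234 [([1,2,4,8,16,96],[11,2,14,8,121,104]),([5,643,2,741,538,121,617],[520,284,2,877,636,121,710]),([520,525,522,630,8,16,33,129,257],[630,124,628,5,713,512,376,945,288])] [(0,256,[]),(1,0,[60,62,7]),(1,1,[94,90,5]),(2,2,[37,32,6]),(1,0,[18,16,7])] ([5,7,124],[123,121,7]) = true := by decide +kernel
theorem c20016415 : chkDer M20234 [([1,2,4,8,16,96],[11,2,14,8,121,104]),([5,643,2,741,538,121,617],[520,284,2,877,636,121,708]),([520,525,522,630,8,16,33,129,257],[628,126,630,7,713,512,376,947,345])] [(0,256,[]),(1,0,[60,62,7]),(1,1,[94,90,5]),(2,2,[32,37,6]),(1,0,[16,18,7])] ([5,7,124],[121,123,7]) = true := by decide +kernel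
theorem c20016737 : chkDer M20234 [([1,2,4,8,16,96],[11,2,14,8,121,104]),([5,643,2,741,538,121,617],[520,284,2,877,116,121,204]),([520,525,522,630,8,16,33,129,257],[527,7,525,126,512,713,376,866,288]),([1,2,4,8,16,96,160],[104,2,109,123,10,11,160])] [(0,256,[]),(1,0,[60,62,7]),(1,1,[94,90,5]),(2,2,[16,21,6]),(1,3,[8,10,7])] ([5,7,124],[123,121,7]) = true := by decide +kernel
theorem c20017155 : chkDer M20234 [([1,2,4,8,16,96],[11,2,14,8,121,104]),([5,643,2,741,538,121,617],[520,788,2,357,636,123,708]),([520,525,522,630,8,16,33,129,257],[628,126,630,7,713,512,376,947,345])] [(0,256,[]),(1,0,[60,62,7]),(1,1,[94,90,5]),(2,2,[32,37,6]),(1,0,[16,18,7])] ([5,7,124],[121,123,7]) = true := by decide +kernel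
theorem c20017459 : chkDer M20234 [([1,2,4,8,16,96],[11,2,14,8,121,104]),([5,643,2,741,538,121,617],[520,788,2,357,116,123,204]),([520,525,522,630,8,16,33,129,257],[630,124,628,5,713,512,376,945,288])] [(0,256,[]),(1,0,[60,62,7]),(1,1,[94,90,5]),(2,2,[32,37,6]),(1,0,[16,18,7])] ([5,7,124],[121,123,7]) = true := by decide +kernel
theorem c20018378 : chkDer M20234 [([5,643,2,741,538,121,617],[528,816,2,345,196,121,703]),([1,2,4,8,16,96,160,512],[104,2,109,123,10,11,160,619]),([1,2,4,8,16,96,160],[104,2,109,123,10,11,160])] [(2,0,[74,78,106]),(0,32,[]),(1,1,[177,179,136]),(2,0,[112,116,1]),(1,2,[10,8,5])] ([5,7,124],[121,123,5]) = true := by decide +kernel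
theorem c20017836 : chkDer M20234 [([1,2,4,8,16,96],[11,2,14,8,121,104]),([520,525,522,630,8,16,33,129,257],[527,126,525,7,721,609,257,937,347]),([1,2,4,8,16,96,160,512],[104,2,109,123,10,11,160,619]),([5,643,2,741,538,121,617],[528,288,2,841,108,121,7])] [(1,0,[5,7,60]),(1,1,[3,6,35]),(2,2,[171,169,59]),(2,3,[37,33,36])] ([5,7,124],[126,124,123]) = true := by decide +kernel
theorem c20018740 : chkDer M20234 [([1,2,4,8,16,96],[11,2,14,8,121,104]),([5,643,2,741,538,121,617],[672,33,2,665,716,121,535]),([1,2,4,8,16,96,160,512],[104,2,109,123,10,11,160,619]),([520,525,522,630,8,16,33,129,257],[628,126,630,7,713,512,376,945,290]),([1,2,4,8,16,96,160],[104,2,109,123,10,11,160])] [(1,0,[5,7,60]),(1,1,[1,5,94]),(1,2,[192,194,161]),(2,3,[21,16,3]),(1,4,[10,8,5])] ([5,7,124],[121,123,5]) = true := by decide +kernel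
theorem c20016424 : chkDer M20234 [([1,2,4,8,16,96,160],[104,2,109,123,10,11,160]),([5,643,2,741,538,121,617],[520,284,2,877,636,121,708]),([520,525,522,630,8,16,33,129,257],[628,126,630,7,189,13,257,278,347])] [(0,256,[]),(2,0,[15,13,7]),(2,1,[49,53,106]),(1,2,[40,45,8]),(1,0,[10,8,7])] ([5,7,124],[121,123,7]) = true := by decide +kernel
theorem c20017741 : chkDer M20234 [([1,2,4,8,16,96],[11,2,14,8,121,104]),([520,525,522,630,8,16,33,129,257],[527,126,525,7,721,609,257,939,288]),([1,2,4,8,16,96,160,512],[104,2,109,123,10,11,160,619]),([5,643,2,741,538,121,617],[528,288,2,841,636,123,708])] [(1,0,[5,7,60]),(1,1,[3,6,35]),(2,2,[171,169,59]),(2,3,[33,37,32])] ([5,7,124],[124,126,121]) = true := by decide +kernel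
theorem c20017996 : chkDer M20234 [([1,2,4,8,16,96],[11,2,14,8,121,104]),([520,525,522,630,8,16,33,129,257],[126,522,124,625,189,21,345,389,35]),([1,2,4,8,16,96,160,512],[104,2,109,123,10,11,160,619]),([5,643,2,741,538,121,617],[528,288,2,841,108,123,214])] [(1,0,[5,7,60]),(2,1,[14,11,32]),(2,2,[169,171,57]),(2,3,[37,33,36])] ([5,7,124],[126,124,123]) = true := by decide +kernel
theorem c20017094 : chkDer M20234 [([1,2,4,8,16,96,160],[104,2,109,123,10,11,160]),([5,643,2,741,538,121,617],[520,788,2,357,636,123,710]),([520,525,522,630,8,16,33,129,257],[630,124,628,5,189,13,257,276,290])] [(0,256,[]),(2,0,[15,13,7]),(2,1,[53,49,106]),(1,2,[45,40,8]),(1,0,[10,8,5])] ([5,7,124],[121,123,5]) = true := by decide +kernel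
theorem c20018437 : chkDer M20234 [([5,643,2,741,538,121,617],[528,816,2,345,196,121,175]),([1,2,4,8,16,96,160,512],[104,2,109,123,10,11,160,619]),([520,525,522,630,8,16,33,129,257],[7,520,5,627,512,721,288,912,88])] [(1,0,[1,5,33]),(0,32,[]),(2,1,[133,135,141]),(1,2,[18,23,2]),(1,1,[8,10,136]),(2,0,[36,32,1])] ([5,7,124],[123,121,5]) = true := by decide +kernel
theorem c20018386 : chkDer M20234 [([5,643,2,741,538,121,617],[528,816,2,345,196,121,175])] [(0,1,[]),(1,0,[74,75,78,111]),(0,1,[]),(2,0,[5,75,1,107])] ([520,525,522,630],[7,520,5,627]) = true := by decide +kernel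
theorem c20016587 : chkDer M20234 [([1,2,4,8,16,96,160],[104,2,109,123,10,11,160]),([520,525,522,630,8,16,33,129,257],[7,520,5,627,517,685,288,917,33]),([1,2,4,8,16,96,160,512],[104,2,109,123,10,11,160,619]),([5,643,2,741,538,121,617],[520,284,2,877,636,123,525])] [(2,0,[5,7,15]),(1,1,[3,6,22]),(1,2,[143,141,8]),(1,3,[101,97,36])] ([5,7,124],[124,126,121]) = true := by decide +kernel
theorem c20017031 : chkDer M20234 [([1,2,4,8,16,96,160],[104,2,109,123,10,11,160]),([520,525,522,630,8,16,33,129,257],[7,520,5,627,517,685,288,917,33]),([1,2,4,8,16,96,160,512],[104,2,109,123,10,11,160,619]),([5,643,2,741,538,121,617],[520,788,2,357,636,121,525])] [(2,0,[5,7,15]),(1,1,[3,6,22]),(1,2,[143,141,8]),(1,3,[101,97,36])] ([5,7,124],[126,124,123]) = true := by decide +kernel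
theorem c20018266 : chkDer M20234 [([1,2,4,8,16,96,160],[104,2,109,123,10,11,160]),([520,525,522,630,8,16,33,129,257],[525,5,527,124,13,189,257,446,290]),([1,2,4,8,16,96,160,512],[104,2,109,123,10,11,160,619]),([5,643,2,741,538,121,617],[528,816,2,345,724,123,622])] [(0,256,[]),(2,0,[15,13,7]),(2,1,[21,16,7]),(1,2,[10,8,143]),(1,3,[32,36,101])] ([5,7,124],[123,121,7]) = true := by decide +kernel
theorem c20018646 : chkDer M20234 [([1,2,4,8,16,96],[11,2,14,8,121,104]),([520,525,522,630,8,16,33,129,257],[630,124,628,5,713,512,376,945,290]),([1,2,4,8,16,96,160,512],[104,2,109,123,10,11,160,619]),([5,643,2,741,538,121,617],[528,816,2,345,196,123,124])] [(0,256,[]),(1,0,[60,62,7]),(1,1,[35,38,6]),(1,2,[8,10,138]),(1,3,[36,32,100])] ([5,7,124],[121,123,5]) = true := by decide +kernel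
theorem c20018082 : chkDer M20234 [([5,643,2,741,538,121,617],[528,816,2,345,724,121,703])] [(0,1,[]),(1,0,[74,75,78,111]),(0,1,[]),(2,0,[74,1,78,33])] ([520,525,522,630],[525,5,527,124]) = true := by decide +kernel
theorem c20016885 : chkDer M20234 [([5,643,2,741,538,121,617],[520,284,2,877,116,123,5]),([1,2,4,8,16,96,160,512],[104,2,109,123,10,11,160,619]),([520,525,522,630,8,16,33,129,257],[7,520,5,627,517,685,288,919,88]),([1,2,4,8,16,96,160],[104,2,109,123,10,11,160])] [(2,0,[64,68,100]),(0,1,[]),(2,1,[133,135,143]),(2,2,[16,21,3]),(1,3,[8,10,5])] ([5,7,124],[123,121,5]) = true := by decide +kernel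
theorem c20017259 : chkDer M20234 [([5,643,2,741,538,121,617],[520,788,2,357,116,121,7]),([1,2,4,8,16,96,160,512],[104,2,109,123,10,11,160,619]),([520,525,522,630,8,16,33,129,257],[7,520,5,627,517,685,288,919,88]),([1,2,4,8,16,96,160],[104,2,109,123,10,11,160])] [(2,0,[68,64,100]),(0,1,[]),(2,1,[135,133,143]),(2,2,[21,16,3]),(1,3,[10,8,5])] ([5,7,124],[121,123,5]) = true := by decide +kernel
theorem c20018127 : chkDer M20234 [([1,2,4,8,16,96,160],[104,2,109,123,10,11,160]),([520,525,522,630,8,16,33,129,257],[525,5,527,124,512,713,376,866,288]),([1,2,4,8,16,96,160,512],[104,2,109,123,10,11,160,619]),([5,643,2,741,538,121,617],[528,816,2,345,724,121,703])] [(0,256,[]),(2,0,[15,13,7]),(1,1,[22,19,6]),(1,2,[10,8,138]),(2,3,[32,36,5])] ([5,7,124],[121,123,7]) = true := by decide +kernel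
theorem c20018357 : chkDer M20234 [([1,2,4,8,16,96,160],[104,2,109,123,10,11,160]),([520,525,522,630,8,16,33,129,257],[527,7,525,126,512,713,376,866,288]),([1,2,4,8,16,96,160,512],[104,2,109,123,10,11,160,619]),([5,643,2,741,538,121,617],[528,816,2,345,724,123,620])] [(0,256,[]),(2,0,[15,13,7]),(1,1,[22,19,6]),(1,2,[10,8,138]),(2,3,[36,32,5])] ([5,7,124],[123,121,7]) = true := by decide +kernel
theorem c20017332 : chkDer M20234 [([5,643,2,741,538,121,617],[520,788,2,357,116,121,5]),([1,2,4,8,16,96,160,512],[104,2,109,123,10,11,160,619]),([520,525,522,630,8,16,33,129,257],[7,520,5,627,517,685,288,919,90]),([1,2,4,8,16,96,160],[104,2,109,123,10,11,160])] [(2,0,[64,68,96]),(0,1,[]),(2,1,[133,135,141]),(2,2,[16,21,6]),(1,3,[8,10,7])] ([5,7,124],[123,121,7]) = true := by decide +kernel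
theorem c20017590 : chkDer M20234 [([1,2,4,8,16,96],[11,2,14,8,121,104]),([520,525,522,630,8,16,33,129,257],[5,625,7,522,21,189,345,340,35]),([1,2,4,8,16,96,160,512],[104,2,109,123,10,11,160,619]),([5,643,2,741,538,121,617],[528,288,2,841,636,121,533])] [(0,256,[]),(1,0,[60,62,7]),(2,1,[16,21,4]),(1,2,[8,10,138]),(2,3,[36,32,5])] ([5,7,124],[123,121,7]) = true := by decide +kernel
theorem c20018348 : chkDer M20234 [([1,2,4,8,16,96,160],[104,2,109,123,10,11,160]),([520,525,522,630,8,16,33,129,257],[527,7,525,126,13,189,257,446,290]),([1,2,4,8,16,96,160,512],[104,2,109,123,10,11,160,619]),([5,643,2,741,538,121,617],[528,816,2,345,724,123,620])] [(0,256,[]),(2,0,[15,13,7]),(2,1,[21,16,2]),(1,2,[10,8,141]),(1,3,[32,36,97])] ([5,7,124],[123,121,7]) = true := by decide +kernel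
theorem c20018200 : chkDer M20234 [([1,2,4,8,16,96,160],[104,2,109,123,10,11,160]),([520,525,522,630,8,16,33,129,257],[525,7,527,126,512,713,376,866,290]),([1,2,4,8,16,96,160,512],[104,2,109,123,10,11,160,619]),([5,643,2,741,538,121,617],[528,816,2,345,724,121,701])] [(0,256,[]),(2,0,[15,13,7]),(1,1,[22,19,6]),(1,2,[8,10,136]),(2,3,[36,32,1])] ([5,7,124],[123,121,5]) = true := by decide +kernel
theorem c20016598 : chkDer M20234 [([1,2,4,8,16,96,160],[104,2,109,123,10,11,160]),([5,643,2,741,538,121,617],[520,284,2,877,636,123,5]),([1,2,4,8,16,96,160,512],[104,2,109,123,10,11,160,619])] [(2,0,[5,7,15]),(1,1,[1,5,113]),(1,2,[136,138,8]),(1,1,[96,100,36])] ([5,7,124],[126,124,121]) = true := by decide +kernel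
theorem c20016800 : chkDer M20234 [([1,2,4,8,16,96,160],[104,2,109,123,10,11,160]),([520,525,522,630,8,16,33,129,257],[7,520,5,627,13,220,288,309,35]),([1,2,4,8,16,96,160,512],[104,2,109,123,10,11,160,619]),([5,643,2,741,538,121,617],[520,284,2,877,116,123,7])] [(2,0,[5,7,15]),(2,1,[4,1,21]),(1,2,[138,136,10]),(1,3,[100,96,32])] ([5,7,124],[126,124,123]) = true := by decide +kernel
theorem c20017244 : chkDer M20234 [([1,2,4,8,16,96,160],[104,2,109,123,10,11,160]),([520,525,522,630,8,16,33,129,257],[7,520,5,627,13,220,288,309,35]),([1,2,4,8,16,96,160,512],[104,2,109,123,10,11,160,619]),([5,643,2,741,538,121,617],[520,788,2,357,116,121,7])] [(2,0,[5,7,15]),(2,1,[4,1,21]),(1,2,[138,136,10]),(1,3,[100,96,32])] ([5,7,124],[124,126,121]) = true := by decide +kernel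
theorem c20016680 : chkDer M20234 [([5,643,2,741,538,121,617],[520,284,2,877,116,121,204])] [(0,128,[]),(1,0,[110,111,106,79])] ([520,525,522,630],[527,7,525,126]) = true := by decide +kernel
theorem c20017116 : chkDer M20234 [([5,643,2,741,538,121,617],[520,788,2,357,636,123,708])] [(0,8,[]),(1,0,[75,74,79,110])] ([520,525,522,630],[628,126,630,7]) = true := by decide +kernel
theorem c20014914 : chkDer M20234 [([5,643,2,741,538,121],[520,788,2,284,113,627])] [(0,256,[]),(1,0,[33,37,5]),(0,64,[]),(2,0,[33,37,36])] ([5,7,124],[124,126,123]) = true := by decide +kernel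
theorem c20015528 : chkDer M20234 [([5,643,2,741,538,121],[528,816,2,288,105,619])] [(0,256,[]),(1,0,[33,37,5]),(0,64,[]),(2,0,[33,37,36])] ([5,7,124],[124,126,123]) = true := by decide +kernel
theorem c20016007 : chkDer M20234 [([5,643,2,741,538,121],[672,641,2,57,108,731])] [(0,256,[]),(1,0,[33,37,5]),(0,257,[]),(2,0,[33,37,36])] ([5,7,124],[124,126,123]) = true := by decide +kernel
theorem c20014922 : chkDer M20234 [([5,643,2,741,538,121],[520,788,2,357,636,625])] [(0,256,[]),(1,0,[33,37,5]),(0,64,[]),(2,0,[33,37,32])] ([5,7,124],[124,126,121]) = true := by decide +kernel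
theorem c20015536 : chkDer M20234 [([5,643,2,741,538,121],[528,816,2,345,724,617])] [(0,256,[]),(1,0,[33,37,5]),(0,64,[]),(2,0,[33,37,32])] ([5,7,124],[124,126,121]) = true := by decide +kernel
theorem c20016021 : chkDer M20234 [([5,643,2,741,538,121],[672,641,2,64,633,729])] [(0,256,[]),(1,0,[33,37,5]),(0,257,[]),(2,0,[33,37,32])] ([5,7,124],[124,126,121]) = true := by decide +kernel
theorem c20014295 : chkDer M20234 [([104,2,109,123,9,128,33,257,513],[106,123,111,121,225,9,319,206,634]),([1,2,4,8,16,96,160,512],[104,2,109,123,10,11,160,619])] [(0,4,[]),(1,0,[393]),(2,1,[215]),(0,256,[]),(1,1,[161])] ([788],[520]) = true := by decide +kernel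
theorem c20014291 : chkDer M20234 [([1,2,4,8,16,96,160,512],[104,2,109,123,10,11,160,619])] [(0,1,[]),(2,0,[215]),(0,256,[]),(1,0,[161])] ([672],[520]) = true := by decide +kernel
theorem c20019910 : chkDer M20234 [] [(0,32,[])] ([1,2,4,8,16,96,160,512],[1,2,6,16,8,96,160,614]) = true := by decide +kernel
theorem c20014275 : chkDer M20234 [([104,2,109,123,9,128,33,257],[106,123,111,121,225,9,319,206])] [(0,256,[]),(2,0,[64])] ([284],[33]) = true := by decide +kernel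
theorem c20014576 : chkDer M20234 [] [(0,256,[])] ([1],[32]) = true := by decide +kernel
theorem c20016238 : chkDer M20234 [] [(0,512,[])] ([641],[736]) = true := by decide +kernel
theorem c20019862 : chkDer M20234 [] [(0,96,[])] ([512],[519]) = true := by decide +kernel

end Cfsg.Lib.D8
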