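import Cfsg.Agent.D8.R1C1

set_option autoImplicit false
set_option maxRecDepth 100000
set_option linter.all false
set_option Elab.async false

namespace Cfsg.Lib.D8

theorem c20019869 : chkTT2 M20234 E20019866 L20019868 0x7a00000a00 [5,19,519] [1,2,4,8,16,96,128,512] [2,8,33,121,284] 0 [⟨3,0,[⟨6,0,0,1⟩,⟨4,0,0,1⟩],1,2,false⟩,⟨3,0,[⟨6,0,0,1⟩,⟨4,0,0,2⟩,⟨0,2,3,0⟩],2,3,false⟩] [] = true := by decide +kernel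
theorem c20017866 : chkFrat M20234 E20016292 [520,525,522,630] [628,5,630,124] [520,525,522,630,8,16,33,129,257] [520,525,522,630,8,16,33,129,257] [(0,[1,2,4,8]),(0,[1,2,4,8]),(0,[1,2,4,8]),(0,[1,2,4,8]),(16,[1,2,4,13]),(160,[4,7,1,8]),(257,[14,8,11,2]),(417,[14,13,11,2]),(288,[4,13,1,7])] [⟨0,0,[],0,2,false⟩,⟨0,0,[],0,0,false⟩,⟨0,0,[],0,0,false⟩,⟨4,0,[⟨4,0,0,0⟩,⟨4,1,0,1⟩,⟨0,8,13,0⟩],2,0,false⟩,⟨2,0,[⟨4,0,0,2⟩,⟨4,3,0,3⟩,⟨0,1,4,0⟩,⟨0,8,8,0⟩,⟨0,16,21,0⟩],2,0,false⟩,⟨2,0,[⟨4,0,0,4⟩,⟨4,5,0,5⟩,⟨0,1,14,0⟩,⟨0,2,8,0⟩,⟨0,16,32,0⟩],2,0,false⟩,⟨2,0,[⟨4,17,0,6⟩,⟨4,18,0,7⟩,⟨0,1,11,0⟩,⟨0,16,37,0⟩,⟨0,64,127,0⟩],0,0,false⟩,⟨2,0,[⟨4,0,0,8⟩,⟨4,5,0,9⟩,⟨0,1,4,0⟩,⟨0,2,13,0⟩,⟨0,16,250,0⟩],0,0,false⟩] [([520,525,522,630,8,16,33,129,257],[628,5,630,124,16,160,376,474,288]),([520,525,522,630,8,16,33,129,257],[628,5,630,124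,16,160,376,474,290]),([520,525,522,630,8,16,33,129,257],[628,5,630,124,16,160,376,472,345]),([520,525,522,630,8,16,33,129,257],[628,5,630,124,16,160,376,472,347]),([520,525,522,630,8,16,33,129,257],[628,5,630,124,21,220,376,422,288]),([520,525,522,630,8,16,33,129,257],[628,5,630,124,21,220,376,422,290]),([520,525,522,630,8,16,33,129,257],[628,5,630,124,21,220,376,420,345]),([520,525,522,630,8,16,33,129,257],[628,5,630,124,21,220,376,420,347]),([520,525,522,630,8,16,33,129,257],[628,5,630,124,609,721,257,771,288]),([520,525,522,630,8,16,33,129,257],[628,5,630,124,609,721,257,771,290]),([520,525,522,630,8,16,33,129,257],[628,5,630,124,609,721,257,769,345]),([520,525,522,630,8,16,33,129,257],[628,5,630,124,609,721,257,769,347]),([520,525,522,630,8,16,33,129,257],[628,5,630,124,612,685,376,774,345]),([520,525,522,630,8,16,33,129,257],[628,5,630,124,612,685,376,774,347]),([520,525,522,630,8,16,33,129,257],[628,5,630,124,612,685,376,772,288]),([520,525,522,630,8,16,33,129,257],[628,5,630,124,612,685,376,772,290])]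 = true := by decide +kernel
theorem c20018536 : chkFrat M20234 E20016292 [520,525,522,630] [525,5,527,124] [520,525,522,630,8,16,33,129,257] [520,525,522,630,8,16,33,129,257] [(0,[1,2,4,8]),(0,[1,2,4,8]),(0,[1,2,4,8]),(0,[1,2,4,8]),(8,[1,2,4,13]),(184,[4,7,1,8]),(257,[14,8,11,2]),(441,[14,13,11,2]),(288,[4,13,1,7])] [⟨0,0,[],0,2,false⟩,⟨0,0,[],0,0,false⟩,⟨0,0,[],0,0,false⟩,⟨4,0,[⟨4,0,0,0⟩,⟨4,1,0,1⟩,⟨0,8,13,0⟩],2,0,false⟩,⟨2,0,[⟨4,0,0,2⟩,⟨4,3,0,3⟩,⟨0,1,4,0⟩,⟨0,8,8,0⟩,⟨0,16,21,0⟩],2,0,false⟩,⟨2,0,[⟨4,0,0,4⟩,⟨4,5,0,5⟩,⟨0,1,14,0⟩,⟨0,2,8,0⟩,⟨0,16,32,0⟩],2,0,false⟩,⟨2,0,[⟨4,17,0,6⟩,⟨4,18,0,7⟩,⟨0,1,11,0⟩,⟨0,16,37,0⟩,⟨0,64,127,0⟩],0,0,false⟩,⟨2,0,[⟨4,0,0,8⟩,⟨4,5,0,9⟩,⟨0,1,4,0⟩,⟨0,2,13,0⟩,⟨0,16,250,0⟩],0,0,false⟩] [([520,525,522,630,8,16,33,129,257],[525,5,527,124,8,193,376,443,345]),([520,525,522,630,8,16,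33,129,257],[525,5,527,124,8,193,376,443,347]),([520,525,522,630,8,16,33,129,257],[525,5,527,124,8,193,376,441,288]),([520,525,522,630,8,16,33,129,257],[525,5,527,124,8,193,376,441,290]),([520,525,522,630,8,16,33,129,257],[525,5,527,124,13,189,257,446,288]),([520,525,522,630,8,16,33,129,257],[525,5,527,124,13,189,257,446,290]),([520,525,522,630,8,16,33,129,257],[525,5,527,124,13,189,257,444,345]),([520,525,522,630,8,16,33,129,257],[525,5,527,124,13,189,257,444,347]),([520,525,522,630,8,16,33,129,257],[525,5,527,124,512,713,376,866,288]),([520,525,522,630,8,16,33,129,257],[525,5,527,124,512,713,376,866,290]),([520,525,522,630,8,16,33,129,257],[525,5,527,124,512,713,376,864,345]),([520,525,522,630,8,16,33,129,257],[525,5,527,124,512,713,376,864,347]),([520,525,522,630,8,16,33,129,257],[525,5,527,124,517,693,376,798,345]),([520,525,522,630,8,16,33,129,257],[525,5,527,124,517,693,376,798,347]),([520,525,522,630,8,16,33,129,257],[525,5,527,124,517,693,376,796,288]),([520,525,522,630,8,16,33,129,257],[525,5,527,124,517,693,376,796,290])]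 = true := by decide +kernel
theorem c20017048 : chkFrat M20234 E20016292 [520,525,522,630] [630,124,628,5] [520,525,522,630,8,16,33,129,257] [520,525,522,630,8,16,33,129,257] [(0,[1,2,4,8]),(0,[1,2,4,8]),(0,[1,2,4,8]),(0,[1,2,4,8]),(184,[1,2,4,13]),(8,[4,7,1,8]),(257,[14,8,11,2]),(273,[14,13,11,2]),(288,[4,13,1,7])] [⟨0,0,[],0,2,false⟩,⟨0,0,[],0,0,false⟩,⟨0,0,[],0,0,false⟩,⟨4,0,[⟨4,0,0,0⟩,⟨4,1,0,1⟩,⟨0,8,13,0⟩],2,0,false⟩,⟨2,0,[⟨4,0,0,2⟩,⟨4,3,0,3⟩,⟨0,1,4,0⟩,⟨0,8,8,0⟩,⟨0,16,21,0⟩],2,0,false⟩,⟨2,0,[⟨4,0,0,4⟩,⟨4,5,0,5⟩,⟨0,1,14,0⟩,⟨0,2,8,0⟩,⟨0,16,32,0⟩],2,0,false⟩,⟨2,0,[⟨4,17,0,6⟩,⟨4,18,0,7⟩,⟨0,1,11,0⟩,⟨0,16,37,0⟩,⟨0,64,127,0⟩],0,0,false⟩,⟨2,0,[⟨4,0,0,8⟩,⟨4,5,0,9⟩,⟨0,1,4,0⟩,⟨0,2,13,0⟩,⟨0,16,250,0⟩],0,0,false⟩] [([520,525,522,630,8,16,33,129,257],[630,124,628,5,189,13,257,278,345]),([520,525,522,630,8,16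,33,129,257],[630,124,628,5,189,13,257,278,347]),([520,525,522,630,8,16,33,129,257],[630,124,628,5,189,13,257,276,288]),([520,525,522,630,8,16,33,129,257],[630,124,628,5,189,13,257,276,290]),([520,525,522,630,8,16,33,129,257],[630,124,628,5,193,8,376,362,288]),([520,525,522,630,8,16,33,129,257],[630,124,628,5,193,8,376,362,290]),([520,525,522,630,8,16,33,129,257],[630,124,628,5,193,8,376,360,345]),([520,525,522,630,8,16,33,129,257],[630,124,628,5,193,8,376,360,347]),([520,525,522,630,8,16,33,129,257],[630,124,628,5,693,517,376,950,288]),([520,525,522,630,8,16,33,129,257],[630,124,628,5,693,517,376,950,290]),([520,525,522,630,8,16,33,129,257],[630,124,628,5,693,517,376,948,345]),([520,525,522,630,8,16,33,129,257],[630,124,628,5,693,517,376,948,347]),([520,525,522,630,8,16,33,129,257],[630,124,628,5,713,512,376,947,345]),([520,525,522,630,8,16,33,129,257],[630,124,628,5,713,512,376,947,347]),([520,525,522,630,8,16,33,129,257],[630,124,628,5,713,512,376,945,288]),([520,525,522,630,8,16,33,129,257],[630,124,628,5,713,512,376,945,290])]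 = true := by decide +kernel
theorem c20017944 : chkFrat M20234 E20016292 [520,525,522,630] [126,522,124,625] [520,525,522,630,8,16,33,129,257] [520,525,522,630,8,16,33,129,257] [(0,[1,2,4,8]),(0,[1,2,4,8]),(0,[1,2,4,8]),(0,[1,2,4,8]),(184,[1,2,4,13]),(16,[4,7,1,8]),(288,[14,8,11,2]),(384,[14,13,11,2]),(33,[4,13,1,7])] [⟨0,0,[],0,2,false⟩,⟨0,0,[],0,0,false⟩,⟨0,0,[],0,0,false⟩,⟨4,0,[⟨4,0,0,0⟩,⟨4,1,0,1⟩,⟨0,8,13,0⟩],2,0,false⟩,⟨2,0,[⟨4,0,0,2⟩,⟨4,3,0,3⟩,⟨0,1,4,0⟩,⟨0,8,8,0⟩,⟨0,16,21,0⟩],2,0,false⟩,⟨2,0,[⟨4,0,0,4⟩,⟨4,5,0,5⟩,⟨0,1,14,0⟩,⟨0,2,8,0⟩,⟨0,16,32,0⟩],2,0,false⟩,⟨2,0,[⟨4,17,0,6⟩,⟨4,18,0,7⟩,⟨0,1,11,0⟩,⟨0,16,37,0⟩,⟨0,64,127,0⟩],0,0,false⟩,⟨2,0,[⟨4,0,0,8⟩,⟨4,5,0,9⟩,⟨0,1,4,0⟩,⟨0,2,13,0⟩,⟨0,16,250,0⟩],0,0,false⟩] [([520,525,522,630,8,16,33,129,257],[126,522,124,625,189,21,345,391,88]),([520,525,522,630,8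,16,33,129,257],[126,522,124,625,189,21,345,391,90]),([520,525,522,630,8,16,33,129,257],[126,522,124,625,189,21,345,389,33]),([520,525,522,630,8,16,33,129,257],[126,522,124,625,189,21,345,389,35]),([520,525,522,630,8,16,33,129,257],[126,522,124,625,193,16,345,507,88]),([520,525,522,630,8,16,33,129,257],[126,522,124,625,193,16,345,507,90]),([520,525,522,630,8,16,33,129,257],[126,522,124,625,193,16,345,505,33]),([520,525,522,630,8,16,33,129,257],[126,522,124,625,193,16,345,505,35]),([520,525,522,630,8,16,33,129,257],[126,522,124,625,693,612,288,862,33]),([520,525,522,630,8,16,33,129,257],[126,522,124,625,693,612,288,862,35]),([520,525,522,630,8,16,33,129,257],[126,522,124,625,693,612,288,860,88]),([520,525,522,630,8,16,33,129,257],[126,522,124,625,693,612,288,860,90]),([520,525,522,630,8,16,33,129,257],[126,522,124,625,713,609,345,859,33]),([520,525,522,630,8,16,33,129,257],[126,522,124,625,713,609,345,859,35]),([520,525,522,630,8,16,33,129,257],[126,522,124,625,713,609,345,857,88]),([520,525,522,630,8,16,33,129,257],[126,522,124,625,713,609,345,857,90])]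 = true := by decide +kernel
theorem c20019050 : chkFrat M20234 E20016292 [520,525,522,630] [126,625,124,522] [520,525,522,630,8,16,33,129,257] [520,525,522,630,8,16,33,129,257] [(0,[1,2,4,8]),(0,[1,2,4,8]),(0,[1,2,4,8]),(0,[1,2,4,8]),(160,[1,2,4,13]),(8,[4,7,1,8]),(288,[14,8,11,2]),(408,[14,13,11,2]),(33,[4,13,1,7])] [⟨0,0,[],0,2,false⟩,⟨0,0,[],0,0,false⟩,⟨0,0,[],0,0,false⟩,⟨4,0,[⟨4,0,0,0⟩,⟨4,1,0,1⟩,⟨0,8,13,0⟩],2,0,false⟩,⟨2,0,[⟨4,0,0,2⟩,⟨4,3,0,3⟩,⟨0,1,4,0⟩,⟨0,8,8,0⟩,⟨0,16,21,0⟩],2,0,false⟩,⟨2,0,[⟨4,0,0,4⟩,⟨4,5,0,5⟩,⟨0,1,14,0⟩,⟨0,2,8,0⟩,⟨0,16,32,0⟩],2,0,false⟩,⟨2,0,[⟨4,17,0,6⟩,⟨4,18,0,7⟩,⟨0,1,11,0⟩,⟨0,16,37,0⟩,⟨0,64,127,0⟩],0,0,false⟩,⟨2,0,[⟨4,0,0,8⟩,⟨4,5,0,9⟩,⟨0,1,4,0⟩,⟨0,2,13,0⟩,⟨0,16,250,0⟩],0,0,false⟩] [([520,525,522,630,8,16,33,129,257],[126,625,124,522,160,8,345,410,33]),([520,525,522,630,8,1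6,33,129,257],[126,625,124,522,160,8,345,410,35]),([520,525,522,630,8,16,33,129,257],[126,625,124,522,160,8,345,408,88]),([520,525,522,630,8,16,33,129,257],[126,625,124,522,160,8,345,408,90]),([520,525,522,630,8,16,33,129,257],[126,625,124,522,220,13,288,415,33]),([520,525,522,630,8,16,33,129,257],[126,625,124,522,220,13,288,415,35]),([520,525,522,630,8,16,33,129,257],[126,625,124,522,220,13,288,413,88]),([520,525,522,630,8,16,33,129,257],[126,625,124,522,220,13,288,413,90]),([520,525,522,630,8,16,33,129,257],[126,625,124,522,685,517,288,838,33]),([520,525,522,630,8,16,33,129,257],[126,625,124,522,685,517,288,838,35]),([520,525,522,630,8,16,33,129,257],[126,625,124,522,685,517,288,836,88]),([520,525,522,630,8,16,33,129,257],[126,625,124,522,685,517,288,836,90]),([520,525,522,630,8,16,33,129,257],[126,625,124,522,721,512,288,826,88]),([520,525,522,630,8,16,33,129,257],[126,625,124,522,721,512,288,826,90]),([520,525,522,630,8,16,33,129,257],[126,625,124,522,721,512,288,824,33]),([520,525,522,630,8,16,33,129,257],[126,625,124,522,721,512,288,824,35])]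 = true := by decide +kernel
theorem c20019720 : chkFrat M20234 E20016292 [520,525,522,630] [527,124,525,5] [520,525,522,630,8,16,33,129,257] [520,525,522,630,8,16,33,129,257] [(0,[1,2,4,8]),(0,[1,2,4,8]),(0,[1,2,4,8]),(0,[1,2,4,8]),(160,[1,2,4,13]),(16,[4,7,1,8]),(257,[14,8,11,2]),(265,[14,13,11,2]),(288,[4,13,1,7])] [⟨0,0,[],0,2,false⟩,⟨0,0,[],0,0,false⟩,⟨0,0,[],0,0,false⟩,⟨4,0,[⟨4,0,0,0⟩,⟨4,1,0,1⟩,⟨0,8,13,0⟩],2,0,false⟩,⟨2,0,[⟨4,0,0,2⟩,⟨4,3,0,3⟩,⟨0,1,4,0⟩,⟨0,8,8,0⟩,⟨0,16,21,0⟩],2,0,false⟩,⟨2,0,[⟨4,0,0,4⟩,⟨4,5,0,5⟩,⟨0,1,14,0⟩,⟨0,2,8,0⟩,⟨0,16,32,0⟩],2,0,false⟩,⟨2,0,[⟨4,17,0,6⟩,⟨4,18,0,7⟩,⟨0,1,11,0⟩,⟨0,16,37,0⟩,⟨0,64,127,0⟩],0,0,false⟩,⟨2,0,[⟨4,0,0,8⟩,⟨4,5,0,9⟩,⟨0,1,4,0⟩,⟨0,2,13,0⟩,⟨0,16,250,0⟩],0,0,false⟩] [([520,525,522,630,8,16,33,129,257],[527,124,525,5,160,16,376,370,345]),([520,525,522,630,8,1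6,33,129,257],[527,124,525,5,160,16,376,370,347]),([520,525,522,630,8,16,33,129,257],[527,124,525,5,160,16,376,368,288]),([520,525,522,630,8,16,33,129,257],[527,124,525,5,160,16,376,368,290]),([520,525,522,630,8,16,33,129,257],[527,124,525,5,220,21,376,375,288]),([520,525,522,630,8,16,33,129,257],[527,124,525,5,220,21,376,375,290]),([520,525,522,630,8,16,33,129,257],[527,124,525,5,220,21,376,373,345]),([520,525,522,630,8,16,33,129,257],[527,124,525,5,220,21,376,373,347]),([520,525,522,630,8,16,33,129,257],[527,124,525,5,685,612,376,983,288]),([520,525,522,630,8,16,33,129,257],[527,124,525,5,685,612,376,983,290]),([520,525,522,630,8,16,33,129,257],[527,124,525,5,685,612,376,981,345]),([520,525,522,630,8,16,33,129,257],[527,124,525,5,685,612,376,981,347]),([520,525,522,630,8,16,33,129,257],[527,124,525,5,721,609,257,939,288]),([520,525,522,630,8,16,33,129,257],[527,124,525,5,721,609,257,939,290]),([520,525,522,630,8,16,33,129,257],[527,124,525,5,721,609,257,937,345]),([520,525,522,630,8,16,33,129,257],[527,124,525,5,721,609,257,937,347])]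 = true := by decide +kernel
theorem c20014623 : chkFrat M20234 E20014588 [5,7,124] [124,126,123] [5,7,124,1,8,16,32,128,512] [5,7,124,1,8,16,32,128,512] [(0,[1,2,4]),(0,[1,2,4]),(0,[1,2,4]),(32,[1,2,7]),(32,[1,2,7]),(32,[1,2,7]),(33,[2,1,4]),(0,[1,2,4]),(32,[1,2,7])] [⟨0,0,[],0,0,false⟩,⟨0,0,[],0,2,false⟩,⟨3,0,[⟨6,0,0,1⟩,⟨4,0,0,0⟩,⟨0,4,7,0⟩],2,2,false⟩,⟨5,0,[⟨6,0,0,0⟩,⟨4,0,0,1⟩,⟨4,1,0,2⟩,⟨0,4,7,0⟩,⟨5,0,8,0⟩],3,2,false⟩,⟨5,0,[⟨6,0,0,0⟩,⟨4,0,0,3⟩,⟨4,1,0,4⟩,⟨0,4,7,0⟩,⟨0,16,19,0⟩,⟨5,0,8,0⟩],4,5,false⟩,⟨2,0,[⟨6,0,0,1⟩,⟨4,0,0,5⟩,⟨4,4,0,6⟩,⟨4,8,0,7⟩,⟨0,1,2,0⟩],5,3,false⟩] [] = true := by decide +kernel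
theorem c20014912 : chkFrat M20234 E20014588 [5,7,124] [124,126,121] [5,7,124,1,8,16,32,128,512] [5,7,124,1,8,16,32,128,512] [(0,[1,2,4]),(0,[1,2,4]),(0,[1,2,4]),(32,[1,2,7]),(32,[1,2,7]),(32,[1,2,7]),(33,[2,1,4]),(0,[1,2,4]),(32,[1,2,7])] [⟨0,0,[],0,0,false⟩,⟨0,0,[],0,2,false⟩,⟨3,0,[⟨6,0,0,1⟩,⟨4,0,0,0⟩,⟨0,4,7,0⟩],2,2,false⟩,⟨5,0,[⟨6,0,0,0⟩,⟨4,0,0,1⟩,⟨4,1,0,2⟩,⟨0,4,7,0⟩,⟨5,0,8,0⟩],3,2,false⟩,⟨5,0,[⟨6,0,0,0⟩,⟨4,0,0,3⟩,⟨4,1,0,4⟩,⟨0,4,7,0⟩,⟨0,16,19,0⟩,⟨5,0,8,0⟩],4,5,false⟩,⟨2,0,[⟨6,0,0,1⟩,⟨4,0,0,5⟩,⟨4,4,0,6⟩,⟨4,8,0,7⟩,⟨0,1,2,0⟩],5,3,false⟩] [] = true := by decide +kernel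
theorem c20015200 : chkFrat M20234 E20014588 [5,7,124] [126,124,123] [5,7,124,1,8,16,32,128,512] [5,7,124,1,8,16,32,128,512] [(0,[1,2,4]),(0,[1,2,4]),(0,[1,2,4]),(32,[1,2,7]),(32,[1,2,7]),(32,[1,2,7]),(33,[2,1,4]),(0,[1,2,4]),(32,[1,2,7])] [⟨0,0,[],0,0,false⟩,⟨0,0,[],0,2,false⟩,⟨3,0,[⟨6,0,0,1⟩,⟨4,0,0,0⟩,⟨0,4,7,0⟩],2,2,false⟩,⟨5,0,[⟨6,0,0,0⟩,⟨4,0,0,1⟩,⟨4,1,0,2⟩,⟨0,4,7,0⟩,⟨5,0,8,0⟩],3,2,false⟩,⟨5,0,[⟨6,0,0,0⟩,⟨4,0,0,3⟩,⟨4,1,0,4⟩,⟨0,4,7,0⟩,⟨0,16,19,0⟩,⟨5,0,8,0⟩],4,5,false⟩,⟨2,0,[⟨6,0,0,1⟩,⟨4,0,0,5⟩,⟨4,4,0,6⟩,⟨4,8,0,7⟩,⟨0,1,2,0⟩],5,3,false⟩] [] = true := by decide +kernel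
theorem c20015233 : chkFrat M20234 E20014588 [5,7,124] [124,126,121] [5,7,124,1,8,16,32,128,512] [5,7,124,1,8,16,32,128,512] [(0,[1,2,4]),(0,[1,2,4]),(0,[1,2,4]),(32,[1,2,7]),(32,[1,2,7]),(32,[1,2,7]),(33,[2,1,4]),(0,[1,2,4]),(32,[1,2,7])] [⟨0,0,[],0,0,false⟩,⟨0,0,[],0,2,false⟩,⟨3,0,[⟨6,0,0,1⟩,⟨4,0,0,0⟩,⟨0,4,7,0⟩],2,2,false⟩,⟨5,0,[⟨6,0,0,0⟩,⟨4,0,0,1⟩,⟨4,1,0,2⟩,⟨0,4,7,0⟩,⟨5,0,8,0⟩],3,2,false⟩,⟨5,0,[⟨6,0,0,0⟩,⟨4,0,0,3⟩,⟨4,1,0,4⟩,⟨0,4,7,0⟩,⟨0,16,19,0⟩,⟨5,0,8,0⟩],4,5,false⟩,⟨2,0,[⟨6,0,0,1⟩,⟨4,0,0,5⟩,⟨4,4,0,6⟩,⟨4,8,0,7⟩,⟨0,1,2,0⟩],5,3,false⟩] [] = true := by decide +kernel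
theorem c20015513 : chkFrat M20234 E20014588 [5,7,124] [124,126,123] [5,7,124,1,8,16,32,128,512] [5,7,124,1,8,16,32,128,512] [(0,[1,2,4]),(0,[1,2,4]),(0,[1,2,4]),(32,[1,2,7]),(32,[1,2,7]),(32,[1,2,7]),(33,[2,1,4]),(0,[1,2,4]),(32,[1,2,7])] [⟨0,0,[],0,0,false⟩,⟨0,0,[],0,2,false⟩,⟨3,0,[⟨6,0,0,1⟩,⟨4,0,0,0⟩,⟨0,4,7,0⟩],2,2,false⟩,⟨5,0,[⟨6,0,0,0⟩,⟨4,0,0,1⟩,⟨4,1,0,2⟩,⟨0,4,7,0⟩,⟨5,0,8,0⟩],3,2,false⟩,⟨5,0,[⟨6,0,0,0⟩,⟨4,0,0,3⟩,⟨4,1,0,4⟩,⟨0,4,7,0⟩,⟨0,16,19,0⟩,⟨5,0,8,0⟩],4,5,false⟩,⟨2,0,[⟨6,0,0,1⟩,⟨4,0,0,5⟩,⟨4,4,0,6⟩,⟨4,8,0,7⟩,⟨0,1,2,0⟩],5,3,false⟩] [] = true := by decide +kernel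
theorem c20015549 : chkFrat M20234 E20014588 [5,7,124] [124,126,121] [5,7,124,1,8,16,32,128,512] [5,7,124,1,8,16,32,128,512] [(0,[1,2,4]),(0,[1,2,4]),(0,[1,2,4]),(32,[1,2,7]),(32,[1,2,7]),(32,[1,2,7]),(33,[2,1,4]),(0,[1,2,4]),(32,[1,2,7])] [⟨0,0,[],0,0,false⟩,⟨0,0,[],0,2,false⟩,⟨3,0,[⟨6,0,0,1⟩,⟨4,0,0,0⟩,⟨0,4,7,0⟩],2,2,false⟩,⟨5,0,[⟨6,0,0,0⟩,⟨4,0,0,1⟩,⟨4,1,0,2⟩,⟨0,4,7,0⟩,⟨5,0,8,0⟩],3,2,false⟩,⟨5,0,[⟨6,0,0,0⟩,⟨4,0,0,3⟩,⟨4,1,0,4⟩,⟨0,4,7,0⟩,⟨0,16,19,0⟩,⟨5,0,8,0⟩],4,5,false⟩,⟨2,0,[⟨6,0,0,1⟩,⟨4,0,0,5⟩,⟨4,4,0,6⟩,⟨4,8,0,7⟩,⟨0,1,2,0⟩],5,3,false⟩] [] = true := by decide +kernel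
theorem c20015693 : chkFrat M20234 E20014588 [5,7,124] [124,126,121] [5,7,124,1,8,16,32,128,512] [5,7,124,1,8,16,32,128,512] [(0,[1,2,4]),(0,[1,2,4]),(0,[1,2,4]),(32,[1,2,7]),(32,[1,2,7]),(32,[1,2,7]),(33,[2,1,4]),(0,[1,2,4]),(32,[1,2,7])] [⟨0,0,[],0,0,false⟩,⟨0,0,[],0,2,false⟩,⟨3,0,[⟨6,0,0,1⟩,⟨4,0,0,0⟩,⟨0,4,7,0⟩],2,2,false⟩,⟨5,0,[⟨6,0,0,0⟩,⟨4,0,0,1⟩,⟨4,1,0,2⟩,⟨0,4,7,0⟩,⟨5,0,8,0⟩],3,2,false⟩,⟨5,0,[⟨6,0,0,0⟩,⟨4,0,0,3⟩,⟨4,1,0,4⟩,⟨0,4,7,0⟩,⟨0,16,19,0⟩,⟨5,0,8,0⟩],4,5,false⟩,⟨2,0,[⟨6,0,0,1⟩,⟨4,0,0,5⟩,⟨4,4,0,6⟩,⟨4,8,0,7⟩,⟨0,1,2,0⟩],5,3,false⟩] [] = true := by decide +kernel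
theorem c20015994 : chkFrat M20234 E20014588 [5,7,124] [124,126,121] [5,7,124,1,8,16,32,128,512] [5,7,124,1,8,16,32,128,512] [(0,[1,2,4]),(0,[1,2,4]),(0,[1,2,4]),(32,[1,2,7]),(32,[1,2,7]),(32,[1,2,7]),(33,[2,1,4]),(0,[1,2,4]),(32,[1,2,7])] [⟨0,0,[],0,0,false⟩,⟨0,0,[],0,2,false⟩,⟨3,0,[⟨6,0,0,1⟩,⟨4,0,0,0⟩,⟨0,4,7,0⟩],2,2,false⟩,⟨5,0,[⟨6,0,0,0⟩,⟨4,0,0,1⟩,⟨4,1,0,2⟩,⟨0,4,7,0⟩,⟨5,0,8,0⟩],3,2,false⟩,⟨5,0,[⟨6,0,0,0⟩,⟨4,0,0,3⟩,⟨4,1,0,4⟩,⟨0,4,7,0⟩,⟨0,16,19,0⟩,⟨5,0,8,0⟩],4,5,false⟩,⟨2,0,[⟨6,0,0,1⟩,⟨4,0,0,5⟩,⟨4,4,0,6⟩,⟨4,8,0,7⟩,⟨0,1,2,0⟩],5,3,false⟩] [] = true := by decide +kernel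
theorem c20016027 : chkFrat M20234 E20014588 [5,7,124] [124,126,123] [5,7,124,1,8,16,32,128,512] [5,7,124,1,8,16,32,128,512] [(0,[1,2,4]),(0,[1,2,4]),(0,[1,2,4]),(32,[1,2,7]),(32,[1,2,7]),(32,[1,2,7]),(33,[2,1,4]),(0,[1,2,4]),(32,[1,2,7])] [⟨0,0,[],0,0,false⟩,⟨0,0,[],0,2,false⟩,⟨3,0,[⟨6,0,0,1⟩,⟨4,0,0,0⟩,⟨0,4,7,0⟩],2,2,false⟩,⟨5,0,[⟨6,0,0,0⟩,⟨4,0,0,1⟩,⟨4,1,0,2⟩,⟨0,4,7,0⟩,⟨5,0,8,0⟩],3,2,false⟩,⟨5,0,[⟨6,0,0,0⟩,⟨4,0,0,3⟩,⟨4,1,0,4⟩,⟨0,4,7,0⟩,⟨0,16,19,0⟩,⟨5,0,8,0⟩],4,5,false⟩,⟨2,0,[⟨6,0,0,1⟩,⟨4,0,0,5⟩,⟨4,4,0,6⟩,⟨4,8,0,7⟩,⟨0,1,2,0⟩],5,3,false⟩] [] = true := by decide +kernel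
theorem c20016365 : chkFrat M20234 E20014588 [5,7,124] [124,126,123] [5,7,124,1,8,16,32,128,512] [5,7,124,1,8,16,32,128,512] [(0,[1,2,4]),(0,[1,2,4]),(0,[1,2,4]),(32,[1,2,7]),(32,[1,2,7]),(32,[1,2,7]),(33,[2,1,4]),(0,[1,2,4]),(32,[1,2,7])] [⟨0,0,[],0,0,false⟩,⟨0,0,[],0,2,false⟩,⟨3,0,[⟨6,0,0,1⟩,⟨4,0,0,0⟩,⟨0,4,7,0⟩],2,2,false⟩,⟨5,0,[⟨6,0,0,0⟩,⟨4,0,0,1⟩,⟨4,1,0,2⟩,⟨0,4,7,0⟩,⟨5,0,8,0⟩],3,2,false⟩,⟨5,0,[⟨6,0,0,0⟩,⟨4,0,0,3⟩,⟨4,1,0,4⟩,⟨0,4,7,0⟩,⟨0,16,19,0⟩,⟨5,0,8,0⟩],4,5,false⟩,⟨2,0,[⟨6,0,0,1⟩,⟨4,0,0,5⟩,⟨4,4,0,6⟩,⟨4,8,0,7⟩,⟨0,1,2,0⟩],5,3,false⟩] [] = true := by decide +kernel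
theorem c20016452 : chkFrat M20234 E20014588 [5,7,124] [126,124,121] [5,7,124,1,8,16,32,128,512] [5,7,124,1,8,16,32,128,512] [(0,[1,2,4]),(0,[1,2,4]),(0,[1,2,4]),(32,[1,2,7]),(32,[1,2,7]),(32,[1,2,7]),(33,[2,1,4]),(0,[1,2,4]),(32,[1,2,7])] [⟨0,0,[],0,0,false⟩,⟨0,0,[],0,2,false⟩,⟨3,0,[⟨6,0,0,1⟩,⟨4,0,0,0⟩,⟨0,4,7,0⟩],2,2,false⟩,⟨5,0,[⟨6,0,0,0⟩,⟨4,0,0,1⟩,⟨4,1,0,2⟩,⟨0,4,7,0⟩,⟨5,0,8,0⟩],3,2,false⟩,⟨5,0,[⟨6,0,0,0⟩,⟨4,0,0,3⟩,⟨4,1,0,4⟩,⟨0,4,7,0⟩,⟨0,16,19,0⟩,⟨5,0,8,0⟩],4,5,false⟩,⟨2,0,[⟨6,0,0,1⟩,⟨4,0,0,5⟩,⟨4,4,0,6⟩,⟨4,8,0,7⟩,⟨0,1,2,0⟩],5,3,false⟩] [] = true := by decide +kernel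
theorem c20016519 : chkFrat M20234 E20014588 [5,7,124] [126,124,121] [5,7,124,1,8,16,32,128,512] [5,7,124,1,8,16,32,128,512] [(0,[1,2,4]),(0,[1,2,4]),(0,[1,2,4]),(32,[1,2,7]),(32,[1,2,7]),(32,[1,2,7]),(33,[2,1,4]),(0,[1,2,4]),(32,[1,2,7])] [⟨0,0,[],0,0,false⟩,⟨0,0,[],0,2,false⟩,⟨3,0,[⟨6,0,0,1⟩,⟨4,0,0,0⟩,⟨0,4,7,0⟩],2,2,false⟩,⟨5,0,[⟨6,0,0,0⟩,⟨4,0,0,1⟩,⟨4,1,0,2⟩,⟨0,4,7,0⟩,⟨5,0,8,0⟩],3,2,false⟩,⟨5,0,[⟨6,0,0,0⟩,⟨4,0,0,3⟩,⟨4,1,0,4⟩,⟨0,4,7,0⟩,⟨0,16,19,0⟩,⟨5,0,8,0⟩],4,5,false⟩,⟨2,0,[⟨6,0,0,1⟩,⟨4,0,0,5⟩,⟨4,4,0,6⟩,⟨4,8,0,7⟩,⟨0,1,2,0⟩],5,3,false⟩] [] = true := by decide +kernel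
theorem c20016586 : chkFrat M20234 E20014588 [5,7,124] [124,126,121] [5,7,124,1,8,16,32,128,512] [5,7,124,1,8,16,32,128,512] [(0,[1,2,4]),(0,[1,2,4]),(0,[1,2,4]),(32,[1,2,7]),(32,[1,2,7]),(32,[1,2,7]),(33,[2,1,4]),(0,[1,2,4]),(32,[1,2,7])] [⟨0,0,[],0,0,false⟩,⟨0,0,[],0,2,false⟩,⟨3,0,[⟨6,0,0,1⟩,⟨4,0,0,0⟩,⟨0,4,7,0⟩],2,2,false⟩,⟨5,0,[⟨6,0,0,0⟩,⟨4,0,0,1⟩,⟨4,1,0,2⟩,⟨0,4,7,0⟩,⟨5,0,8,0⟩],3,2,false⟩,⟨5,0,[⟨6,0,0,0⟩,⟨4,0,0,3⟩,⟨4,1,0,4⟩,⟨0,4,7,0⟩,⟨0,16,19,0⟩,⟨5,0,8,0⟩],4,5,false⟩,⟨2,0,[⟨6,0,0,1⟩,⟨4,0,0,5⟩,⟨4,4,0,6⟩,⟨4,8,0,7⟩,⟨0,1,2,0⟩],5,3,false⟩] [] = true := by decide +kernel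
theorem c20016669 : chkFrat M20234 E20014588 [5,7,124] [124,126,121] [5,7,124,1,8,16,32,128,512] [5,7,124,1,8,16,32,128,512] [(0,[1,2,4]),(0,[1,2,4]),(0,[1,2,4]),(32,[1,2,7]),(32,[1,2,7]),(32,[1,2,7]),(33,[2,1,4]),(0,[1,2,4]),(32,[1,2,7])] [⟨0,0,[],0,0,false⟩,⟨0,0,[],0,2,false⟩,⟨3,0,[⟨6,0,0,1⟩,⟨4,0,0,0⟩,⟨0,4,7,0⟩],2,2,false⟩,⟨5,0,[⟨6,0,0,0⟩,⟨4,0,0,1⟩,⟨4,1,0,2⟩,⟨0,4,7,0⟩,⟨5,0,8,0⟩],3,2,false⟩,⟨5,0,[⟨6,0,0,0⟩,⟨4,0,0,3⟩,⟨4,1,0,4⟩,⟨0,4,7,0⟩,⟨0,16,19,0⟩,⟨5,0,8,0⟩],4,5,false⟩,⟨2,0,[⟨6,0,0,1⟩,⟨4,0,0,5⟩,⟨4,4,0,6⟩,⟨4,8,0,7⟩,⟨0,1,2,0⟩],5,3,false⟩] [] = true := by decide +kernel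
theorem c20016724 : chkFrat M20234 E20014588 [5,7,124] [126,124,123] [5,7,124,1,8,16,32,128,512] [5,7,124,1,8,16,32,128,512] [(0,[1,2,4]),(0,[1,2,4]),(0,[1,2,4]),(32,[1,2,7]),(32,[1,2,7]),(32,[1,2,7]),(33,[2,1,4]),(0,[1,2,4]),(32,[1,2,7])] [⟨0,0,[],0,0,false⟩,⟨0,0,[],0,2,false⟩,⟨3,0,[⟨6,0,0,1⟩,⟨4,0,0,0⟩,⟨0,4,7,0⟩],2,2,false⟩,⟨5,0,[⟨6,0,0,0⟩,⟨4,0,0,1⟩,⟨4,1,0,2⟩,⟨0,4,7,0⟩,⟨5,0,8,0⟩],3,2,false⟩,⟨5,0,[⟨6,0,0,0⟩,⟨4,0,0,3⟩,⟨4,1,0,4⟩,⟨0,4,7,0⟩,⟨0,16,19,0⟩,⟨5,0,8,0⟩],4,5,false⟩,⟨2,0,[⟨6,0,0,1⟩,⟨4,0,0,5⟩,⟨4,4,0,6⟩,⟨4,8,0,7⟩,⟨0,1,2,0⟩],5,3,false⟩] [] = true := by decide +kernel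
theorem c20016869 : chkFrat M20234 E20014588 [5,7,124] [124,126,123] [5,7,124,1,8,16,32,128,512] [5,7,124,1,8,16,32,128,512] [(0,[1,2,4]),(0,[1,2,4]),(0,[1,2,4]),(32,[1,2,7]),(32,[1,2,7]),(32,[1,2,7]),(33,[2,1,4]),(0,[1,2,4]),(32,[1,2,7])] [⟨0,0,[],0,0,false⟩,⟨0,0,[],0,2,false⟩,⟨3,0,[⟨6,0,0,1⟩,⟨4,0,0,0⟩,⟨0,4,7,0⟩],2,2,false⟩,⟨5,0,[⟨6,0,0,0⟩,⟨4,0,0,1⟩,⟨4,1,0,2⟩,⟨0,4,7,0⟩,⟨5,0,8,0⟩],3,2,false⟩,⟨5,0,[⟨6,0,0,0⟩,⟨4,0,0,3⟩,⟨4,1,0,4⟩,⟨0,4,7,0⟩,⟨0,16,19,0⟩,⟨5,0,8,0⟩],4,5,false⟩,⟨2,0,[⟨6,0,0,1⟩,⟨4,0,0,5⟩,⟨4,4,0,6⟩,⟨4,8,0,7⟩,⟨0,1,2,0⟩],5,3,false⟩] [] = true := by decide +kernel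
theorem c20016960 : chkFrat M20234 E20014588 [5,7,124] [124,126,123] [5,7,124,1,8,16,32,128,512] [5,7,124,1,8,16,32,128,512] [(0,[1,2,4]),(0,[1,2,4]),(0,[1,2,4]),(32,[1,2,7]),(32,[1,2,7]),(32,[1,2,7]),(33,[2,1,4]),(0,[1,2,4]),(32,[1,2,7])] [⟨0,0,[],0,0,false⟩,⟨0,0,[],0,2,false⟩,⟨3,0,[⟨6,0,0,1⟩,⟨4,0,0,0⟩,⟨0,4,7,0⟩],2,2,false⟩,⟨5,0,[⟨6,0,0,0⟩,⟨4,0,0,1⟩,⟨4,1,0,2⟩,⟨0,4,7,0⟩,⟨5,0,8,0⟩],3,2,false⟩,⟨5,0,[⟨6,0,0,0⟩,⟨4,0,0,3⟩,⟨4,1,0,4⟩,⟨0,4,7,0⟩,⟨0,16,19,0⟩,⟨5,0,8,0⟩],4,5,false⟩,⟨2,0,[⟨6,0,0,1⟩,⟨4,0,0,5⟩,⟨4,4,0,6⟩,⟨4,8,0,7⟩,⟨0,1,2,0⟩],5,3,false⟩] [] = true := by decide +kernel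
theorem c20017027 : chkFrat M20234 E20014588 [5,7,124] [126,124,123] [5,7,124,1,8,16,32,128,512] [5,7,124,1,8,16,32,128,512] [(0,[1,2,4]),(0,[1,2,4]),(0,[1,2,4]),(32,[1,2,7]),(32,[1,2,7]),(32,[1,2,7]),(33,[2,1,4]),(0,[1,2,4]),(32,[1,2,7])] [⟨0,0,[],0,0,false⟩,⟨0,0,[],0,2,false⟩,⟨3,0,[⟨6,0,0,1⟩,⟨4,0,0,0⟩,⟨0,4,7,0⟩],2,2,false⟩,⟨5,0,[⟨6,0,0,0⟩,⟨4,0,0,1⟩,⟨4,1,0,2⟩,⟨0,4,7,0⟩,⟨5,0,8,0⟩],3,2,false⟩,⟨5,0,[⟨6,0,0,0⟩,⟨4,0,0,3⟩,⟨4,1,0,4⟩,⟨0,4,7,0⟩,⟨0,16,19,0⟩,⟨5,0,8,0⟩],4,5,false⟩,⟨2,0,[⟨6,0,0,1⟩,⟨4,0,0,5⟩,⟨4,4,0,6⟩,⟨4,8,0,7⟩,⟨0,1,2,0⟩],5,3,false⟩] [] = true := by decide +kernel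
theorem c20017084 : chkFrat M20234 E20014588 [5,7,124] [124,126,123] [5,7,124,1,8,16,32,128,512] [5,7,124,1,8,16,32,128,512] [(0,[1,2,4]),(0,[1,2,4]),(0,[1,2,4]),(32,[1,2,7]),(32,[1,2,7]),(32,[1,2,7]),(33,[2,1,4]),(0,[1,2,4]),(32,[1,2,7])] [⟨0,0,[],0,0,false⟩,⟨0,0,[],0,2,false⟩,⟨3,0,[⟨6,0,0,1⟩,⟨4,0,0,0⟩,⟨0,4,7,0⟩],2,2,false⟩,⟨5,0,[⟨6,0,0,0⟩,⟨4,0,0,1⟩,⟨4,1,0,2⟩,⟨0,4,7,0⟩,⟨5,0,8,0⟩],3,2,false⟩,⟨5,0,[⟨6,0,0,0⟩,⟨4,0,0,3⟩,⟨4,1,0,4⟩,⟨0,4,7,0⟩,⟨0,16,19,0⟩,⟨5,0,8,0⟩],4,5,false⟩,⟨2,0,[⟨6,0,0,1⟩,⟨4,0,0,5⟩,⟨4,4,0,6⟩,⟨4,8,0,7⟩,⟨0,1,2,0⟩],5,3,false⟩] [] = true := by decide +kernel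
theorem c20017188 : chkFrat M20234 E20014588 [5,7,124] [126,124,123] [5,7,124,1,8,16,32,128,512] [5,7,124,1,8,16,32,128,512] [(0,[1,2,4]),(0,[1,2,4]),(0,[1,2,4]),(32,[1,2,7]),(32,[1,2,7]),(32,[1,2,7]),(33,[2,1,4]),(0,[1,2,4]),(32,[1,2,7])] [⟨0,0,[],0,0,false⟩,⟨0,0,[],0,2,false⟩,⟨3,0,[⟨6,0,0,1⟩,⟨4,0,0,0⟩,⟨0,4,7,0⟩],2,2,false⟩,⟨5,0,[⟨6,0,0,0⟩,⟨4,0,0,1⟩,⟨4,1,0,2⟩,⟨0,4,7,0⟩,⟨5,0,8,0⟩],3,2,false⟩,⟨5,0,[⟨6,0,0,0⟩,⟨4,0,0,3⟩,⟨4,1,0,4⟩,⟨0,4,7,0⟩,⟨0,16,19,0⟩,⟨5,0,8,0⟩],4,5,false⟩,⟨2,0,[⟨6,0,0,1⟩,⟨4,0,0,5⟩,⟨4,4,0,6⟩,⟨4,8,0,7⟩,⟨0,1,2,0⟩],5,3,false⟩] [] = true := by decide +kernel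
theorem c20017310 : chkFrat M20234 E20014588 [5,7,124] [126,124,121] [5,7,124,1,8,16,32,128,512] [5,7,124,1,8,16,32,128,512] [(0,[1,2,4]),(0,[1,2,4]),(0,[1,2,4]),(32,[1,2,7]),(32,[1,2,7]),(32,[1,2,7]),(33,[2,1,4]),(0,[1,2,4]),(32,[1,2,7])] [⟨0,0,[],0,0,false⟩,⟨0,0,[],0,2,false⟩,⟨3,0,[⟨6,0,0,1⟩,⟨4,0,0,0⟩,⟨0,4,7,0⟩],2,2,false⟩,⟨5,0,[⟨6,0,0,0⟩,⟨4,0,0,1⟩,⟨4,1,0,2⟩,⟨0,4,7,0⟩,⟨5,0,8,0⟩],3,2,false⟩,⟨5,0,[⟨6,0,0,0⟩,⟨4,0,0,3⟩,⟨4,1,0,4⟩,⟨0,4,7,0⟩,⟨0,16,19,0⟩,⟨5,0,8,0⟩],4,5,false⟩,⟨2,0,[⟨6,0,0,1⟩,⟨4,0,0,5⟩,⟨4,4,0,6⟩,⟨4,8,0,7⟩,⟨0,1,2,0⟩],5,3,false⟩] [] = true := by decide +kernel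
theorem c20017409 : chkFrat M20234 E20014588 [5,7,124] [124,126,121] [5,7,124,1,8,16,32,128,512] [5,7,124,1,8,16,32,128,512] [(0,[1,2,4]),(0,[1,2,4]),(0,[1,2,4]),(32,[1,2,7]),(32,[1,2,7]),(32,[1,2,7]),(33,[2,1,4]),(0,[1,2,4]),(32,[1,2,7])] [⟨0,0,[],0,0,false⟩,⟨0,0,[],0,2,false⟩,⟨3,0,[⟨6,0,0,1⟩,⟨4,0,0,0⟩,⟨0,4,7,0⟩],2,2,false⟩,⟨5,0,[⟨6,0,0,0⟩,⟨4,0,0,1⟩,⟨4,1,0,2⟩,⟨0,4,7,0⟩,⟨5,0,8,0⟩],3,2,false⟩,⟨5,0,[⟨6,0,0,0⟩,⟨4,0,0,3⟩,⟨4,1,0,4⟩,⟨0,4,7,0⟩,⟨0,16,19,0⟩,⟨5,0,8,0⟩],4,5,false⟩,⟨2,0,[⟨6,0,0,1⟩,⟨4,0,0,5⟩,⟨4,4,0,6⟩,⟨4,8,0,7⟩,⟨0,1,2,0⟩],5,3,false⟩] [] = true := by decide +kernel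
theorem c20017526 : chkFrat M20234 E20014588 [5,7,124] [124,126,121] [5,7,124,1,8,16,32,128,512] [5,7,124,1,8,16,32,128,512] [(0,[1,2,4]),(0,[1,2,4]),(0,[1,2,4]),(32,[1,2,7]),(32,[1,2,7]),(32,[1,2,7]),(33,[2,1,4]),(0,[1,2,4]),(32,[1,2,7])] [⟨0,0,[],0,0,false⟩,⟨0,0,[],0,2,false⟩,⟨3,0,[⟨6,0,0,1⟩,⟨4,0,0,0⟩,⟨0,4,7,0⟩],2,2,false⟩,⟨5,0,[⟨6,0,0,0⟩,⟨4,0,0,1⟩,⟨4,1,0,2⟩,⟨0,4,7,0⟩,⟨5,0,8,0⟩],3,2,false⟩,⟨5,0,[⟨6,0,0,0⟩,⟨4,0,0,3⟩,⟨4,1,0,4⟩,⟨0,4,7,0⟩,⟨0,16,19,0⟩,⟨5,0,8,0⟩],4,5,false⟩,⟨2,0,[⟨6,0,0,1⟩,⟨4,0,0,5⟩,⟨4,4,0,6⟩,⟨4,8,0,7⟩,⟨0,1,2,0⟩],5,3,false⟩] [] = true := by decide +kernel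
theorem c20017632 : chkFrat M20234 E20014588 [5,7,124] [126,124,123] [5,7,124,1,8,16,32,128,512] [5,7,124,1,8,16,32,128,512] [(0,[1,2,4]),(0,[1,2,4]),(0,[1,2,4]),(32,[1,2,7]),(32,[1,2,7]),(32,[1,2,7]),(33,[2,1,4]),(0,[1,2,4]),(32,[1,2,7])] [⟨0,0,[],0,0,false⟩,⟨0,0,[],0,2,false⟩,⟨3,0,[⟨6,0,0,1⟩,⟨4,0,0,0⟩,⟨0,4,7,0⟩],2,2,false⟩,⟨5,0,[⟨6,0,0,0⟩,⟨4,0,0,1⟩,⟨4,1,0,2⟩,⟨0,4,7,0⟩,⟨5,0,8,0⟩],3,2,false⟩,⟨5,0,[⟨6,0,0,0⟩,⟨4,0,0,3⟩,⟨4,1,0,4⟩,⟨0,4,7,0⟩,⟨0,16,19,0⟩,⟨5,0,8,0⟩],4,5,false⟩,⟨2,0,[⟨6,0,0,1⟩,⟨4,0,0,5⟩,⟨4,4,0,6⟩,⟨4,8,0,7⟩,⟨0,1,2,0⟩],5,3,false⟩] [] = true := by decide +kernel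
theorem c20017700 : chkFrat M20234 E20014588 [5,7,124] [126,124,123] [5,7,124,1,8,16,32,128,512] [5,7,124,1,8,16,32,128,512] [(0,[1,2,4]),(0,[1,2,4]),(0,[1,2,4]),(32,[1,2,7]),(32,[1,2,7]),(32,[1,2,7]),(33,[2,1,4]),(0,[1,2,4]),(32,[1,2,7])] [⟨0,0,[],0,0,false⟩,⟨0,0,[],0,2,false⟩,⟨3,0,[⟨6,0,0,1⟩,⟨4,0,0,0⟩,⟨0,4,7,0⟩],2,2,false⟩,⟨5,0,[⟨6,0,0,0⟩,⟨4,0,0,1⟩,⟨4,1,0,2⟩,⟨0,4,7,0⟩,⟨5,0,8,0⟩],3,2,false⟩,⟨5,0,[⟨6,0,0,0⟩,⟨4,0,0,3⟩,⟨4,1,0,4⟩,⟨0,4,7,0⟩,⟨0,16,19,0⟩,⟨5,0,8,0⟩],4,5,false⟩,⟨2,0,[⟨6,0,0,1⟩,⟨4,0,0,5⟩,⟨4,4,0,6⟩,⟨4,8,0,7⟩,⟨0,1,2,0⟩],5,3,false⟩] [] = true := by decide +kernel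
theorem c20017770 : chkFrat M20234 E20014588 [5,7,124] [126,124,121] [5,7,124,1,8,16,32,128,512] [5,7,124,1,8,16,32,128,512] [(0,[1,2,4]),(0,[1,2,4]),(0,[1,2,4]),(32,[1,2,7]),(32,[1,2,7]),(32,[1,2,7]),(33,[2,1,4]),(0,[1,2,4]),(32,[1,2,7])] [⟨0,0,[],0,0,false⟩,⟨0,0,[],0,2,false⟩,⟨3,0,[⟨6,0,0,1⟩,⟨4,0,0,0⟩,⟨0,4,7,0⟩],2,2,false⟩,⟨5,0,[⟨6,0,0,0⟩,⟨4,0,0,1⟩,⟨4,1,0,2⟩,⟨0,4,7,0⟩,⟨5,0,8,0⟩],3,2,false⟩,⟨5,0,[⟨6,0,0,0⟩,⟨4,0,0,3⟩,⟨4,1,0,4⟩,⟨0,4,7,0⟩,⟨0,16,19,0⟩,⟨5,0,8,0⟩],4,5,false⟩,⟨2,0,[⟨6,0,0,1⟩,⟨4,0,0,5⟩,⟨4,4,0,6⟩,⟨4,8,0,7⟩,⟨0,1,2,0⟩],5,3,false⟩] [] = true := by decide +kernel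
theorem c20017838 : chkFrat M20234 E20014588 [5,7,124] [126,124,123] [5,7,124,1,8,16,32,128,512] [5,7,124,1,8,16,32,128,512] [(0,[1,2,4]),(0,[1,2,4]),(0,[1,2,4]),(32,[1,2,7]),(32,[1,2,7]),(32,[1,2,7]),(33,[2,1,4]),(0,[1,2,4]),(32,[1,2,7])] [⟨0,0,[],0,0,false⟩,⟨0,0,[],0,2,false⟩,⟨3,0,[⟨6,0,0,1⟩,⟨4,0,0,0⟩,⟨0,4,7,0⟩],2,2,false⟩,⟨5,0,[⟨6,0,0,0⟩,⟨4,0,0,1⟩,⟨4,1,0,2⟩,⟨0,4,7,0⟩,⟨5,0,8,0⟩],3,2,false⟩,⟨5,0,[⟨6,0,0,0⟩,⟨4,0,0,3⟩,⟨4,1,0,4⟩,⟨0,4,7,0⟩,⟨0,16,19,0⟩,⟨5,0,8,0⟩],4,5,false⟩,⟨2,0,[⟨6,0,0,1⟩,⟨4,0,0,5⟩,⟨4,4,0,6⟩,⟨4,8,0,7⟩,⟨0,1,2,0⟩],5,3,false⟩] [] = true := by decide +kernel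
theorem c20017932 : chkFrat M20234 E20014588 [5,7,124] [124,126,121] [5,7,124,1,8,16,32,128,512] [5,7,124,1,8,16,32,128,512] [(0,[1,2,4]),(0,[1,2,4]),(0,[1,2,4]),(32,[1,2,7]),(32,[1,2,7]),(32,[1,2,7]),(33,[2,1,4]),(0,[1,2,4]),(32,[1,2,7])] [⟨0,0,[],0,0,false⟩,⟨0,0,[],0,2,false⟩,⟨3,0,[⟨6,0,0,1⟩,⟨4,0,0,0⟩,⟨0,4,7,0⟩],2,2,false⟩,⟨5,0,[⟨6,0,0,0⟩,⟨4,0,0,1⟩,⟨4,1,0,2⟩,⟨0,4,7,0⟩,⟨5,0,8,0⟩],3,2,false⟩,⟨5,0,[⟨6,0,0,0⟩,⟨4,0,0,3⟩,⟨4,1,0,4⟩,⟨0,4,7,0⟩,⟨0,16,19,0⟩,⟨5,0,8,0⟩],4,5,false⟩,⟨2,0,[⟨6,0,0,1⟩,⟨4,0,0,5⟩,⟨4,4,0,6⟩,⟨4,8,0,7⟩,⟨0,1,2,0⟩],5,3,false⟩] [] = true := by decide +kernel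
theorem c20018068 : chkFrat M20234 E20014588 [5,7,124] [124,126,123] [5,7,124,1,8,16,32,128,512] [5,7,124,1,8,16,32,128,512] [(0,[1,2,4]),(0,[1,2,4]),(0,[1,2,4]),(32,[1,2,7]),(32,[1,2,7]),(32,[1,2,7]),(33,[2,1,4]),(0,[1,2,4]),(32,[1,2,7])] [⟨0,0,[],0,0,false⟩,⟨0,0,[],0,2,false⟩,⟨3,0,[⟨6,0,0,1⟩,⟨4,0,0,0⟩,⟨0,4,7,0⟩],2,2,false⟩,⟨5,0,[⟨6,0,0,0⟩,⟨4,0,0,1⟩,⟨4,1,0,2⟩,⟨0,4,7,0⟩,⟨5,0,8,0⟩],3,2,false⟩,⟨5,0,[⟨6,0,0,0⟩,⟨4,0,0,3⟩,⟨4,1,0,4⟩,⟨0,4,7,0⟩,⟨0,16,19,0⟩,⟨5,0,8,0⟩],4,5,false⟩,⟨2,0,[⟨6,0,0,1⟩,⟨4,0,0,5⟩,⟨4,4,0,6⟩,⟨4,8,0,7⟩,⟨0,1,2,0⟩],5,3,false⟩] [] = true := by decide +kernel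
theorem c20018666 : chkFrat M20234 E20014588 [5,7,124] [124,126,123] [5,7,124,1,8,16,32,128,512] [5,7,124,1,8,16,32,128,512] [(0,[1,2,4]),(0,[1,2,4]),(0,[1,2,4]),(32,[1,2,7]),(32,[1,2,7]),(32,[1,2,7]),(33,[2,1,4]),(0,[1,2,4]),(32,[1,2,7])] [⟨0,0,[],0,0,false⟩,⟨0,0,[],0,2,false⟩,⟨3,0,[⟨6,0,0,1⟩,⟨4,0,0,0⟩,⟨0,4,7,0⟩],2,2,false⟩,⟨5,0,[⟨6,0,0,0⟩,⟨4,0,0,1⟩,⟨4,1,0,2⟩,⟨0,4,7,0⟩,⟨5,0,8,0⟩],3,2,false⟩,⟨5,0,[⟨6,0,0,0⟩,⟨4,0,0,3⟩,⟨4,1,0,4⟩,⟨0,4,7,0⟩,⟨0,16,19,0⟩,⟨5,0,8,0⟩],4,5,false⟩,⟨2,0,[⟨6,0,0,1⟩,⟨4,0,0,5⟩,⟨4,4,0,6⟩,⟨4,8,0,7⟩,⟨0,1,2,0⟩],5,3,false⟩] [] = true := by decide +kernel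
theorem c20018794 : chkFrat M20234 E20014588 [5,7,124] [126,124,123] [5,7,124,1,8,16,32,128,512] [5,7,124,1,8,16,32,128,512] [(0,[1,2,4]),(0,[1,2,4]),(0,[1,2,4]),(32,[1,2,7]),(32,[1,2,7]),(32,[1,2,7]),(33,[2,1,4]),(0,[1,2,4]),(32,[1,2,7])] [⟨0,0,[],0,0,false⟩,⟨0,0,[],0,2,false⟩,⟨3,0,[⟨6,0,0,1⟩,⟨4,0,0,0⟩,⟨0,4,7,0⟩],2,2,false⟩,⟨5,0,[⟨6,0,0,0⟩,⟨4,0,0,1⟩,⟨4,1,0,2⟩,⟨0,4,7,0⟩,⟨5,0,8,0⟩],3,2,false⟩,⟨5,0,[⟨6,0,0,0⟩,⟨4,0,0,3⟩,⟨4,1,0,4⟩,⟨0,4,7,0⟩,⟨0,16,19,0⟩,⟨5,0,8,0⟩],4,5,false⟩,⟨2,0,[⟨6,0,0,1⟩,⟨4,0,0,5⟩,⟨4,4,0,6⟩,⟨4,8,0,7⟩,⟨0,1,2,0⟩],5,3,false⟩] [] = true := by decide +kernel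
theorem c20018878 : chkFrat M20234 E20014588 [5,7,124] [126,124,123] [5,7,124,1,8,16,32,128,512] [5,7,124,1,8,16,32,128,512] [(0,[1,2,4]),(0,[1,2,4]),(0,[1,2,4]),(32,[1,2,7]),(32,[1,2,7]),(32,[1,2,7]),(33,[2,1,4]),(0,[1,2,4]),(32,[1,2,7])] [⟨0,0,[],0,0,false⟩,⟨0,0,[],0,2,false⟩,⟨3,0,[⟨6,0,0,1⟩,⟨4,0,0,0⟩,⟨0,4,7,0⟩],2,2,false⟩,⟨5,0,[⟨6,0,0,0⟩,⟨4,0,0,1⟩,⟨4,1,0,2⟩,⟨0,4,7,0⟩,⟨5,0,8,0⟩],3,2,false⟩,⟨5,0,[⟨6,0,0,0⟩,⟨4,0,0,3⟩,⟨4,1,0,4⟩,⟨0,4,7,0⟩,⟨0,16,19,0⟩,⟨5,0,8,0⟩],4,5,false⟩,⟨2,0,[⟨6,0,0,1⟩,⟨4,0,0,5⟩,⟨4,4,0,6⟩,⟨4,8,0,7⟩,⟨0,1,2,0⟩],5,3,false⟩] [] = true := by decide +kernel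
theorem c20018948 : chkFrat M20234 E20014588 [5,7,124] [124,126,123] [5,7,124,1,8,16,32,128,512] [5,7,124,1,8,16,32,128,512] [(0,[1,2,4]),(0,[1,2,4]),(0,[1,2,4]),(32,[1,2,7]),(32,[1,2,7]),(32,[1,2,7]),(33,[2,1,4]),(0,[1,2,4]),(32,[1,2,7])] [⟨0,0,[],0,0,false⟩,⟨0,0,[],0,2,false⟩,⟨3,0,[⟨6,0,0,1⟩,⟨4,0,0,0⟩,⟨0,4,7,0⟩],2,2,false⟩,⟨5,0,[⟨6,0,0,0⟩,⟨4,0,0,1⟩,⟨4,1,0,2⟩,⟨0,4,7,0⟩,⟨5,0,8,0⟩],3,2,false⟩,⟨5,0,[⟨6,0,0,0⟩,⟨4,0,0,3⟩,⟨4,1,0,4⟩,⟨0,4,7,0⟩,⟨0,16,19,0⟩,⟨5,0,8,0⟩],4,5,false⟩,⟨2,0,[⟨6,0,0,1⟩,⟨4,0,0,5⟩,⟨4,4,0,6⟩,⟨4,8,0,7⟩,⟨0,1,2,0⟩],5,3,false⟩] [] = true := by decide +kernel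
theorem c20019016 : chkFrat M20234 E20014588 [5,7,124] [124,126,123] [5,7,124,1,8,16,32,128,512] [5,7,124,1,8,16,32,128,512] [(0,[1,2,4]),(0,[1,2,4]),(0,[1,2,4]),(32,[1,2,7]),(32,[1,2,7]),(32,[1,2,7]),(33,[2,1,4]),(0,[1,2,4]),(32,[1,2,7])] [⟨0,0,[],0,0,false⟩,⟨0,0,[],0,2,false⟩,⟨3,0,[⟨6,0,0,1⟩,⟨4,0,0,0⟩,⟨0,4,7,0⟩],2,2,false⟩,⟨5,0,[⟨6,0,0,0⟩,⟨4,0,0,1⟩,⟨4,1,0,2⟩,⟨0,4,7,0⟩,⟨5,0,8,0⟩],3,2,false⟩,⟨5,0,[⟨6,0,0,0⟩,⟨4,0,0,3⟩,⟨4,1,0,4⟩,⟨0,4,7,0⟩,⟨0,16,19,0⟩,⟨5,0,8,0⟩],4,5,false⟩,⟨2,0,[⟨6,0,0,1⟩,⟨4,0,0,5⟩,⟨4,4,0,6⟩,⟨4,8,0,7⟩,⟨0,1,2,0⟩],5,3,false⟩] [] = true := by decide +kernel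
theorem c20019046 : chkFrat M20234 E20014588 [5,7,124] [124,126,121] [5,7,124,1,8,16,32,128,512] [5,7,124,1,8,16,32,128,512] [(0,[1,2,4]),(0,[1,2,4]),(0,[1,2,4]),(32,[1,2,7]),(32,[1,2,7]),(32,[1,2,7]),(33,[2,1,4]),(0,[1,2,4]),(32,[1,2,7])] [⟨0,0,[],0,0,false⟩,⟨0,0,[],0,2,false⟩,⟨3,0,[⟨6,0,0,1⟩,⟨4,0,0,0⟩,⟨0,4,7,0⟩],2,2,false⟩,⟨5,0,[⟨6,0,0,0⟩,⟨4,0,0,1⟩,⟨4,1,0,2⟩,⟨0,4,7,0⟩,⟨5,0,8,0⟩],3,2,false⟩,⟨5,0,[⟨6,0,0,0⟩,⟨4,0,0,3⟩,⟨4,1,0,4⟩,⟨0,4,7,0⟩,⟨0,16,19,0⟩,⟨5,0,8,0⟩],4,5,false⟩,⟨2,0,[⟨6,0,0,1⟩,⟨4,0,0,5⟩,⟨4,4,0,6⟩,⟨4,8,0,7⟩,⟨0,1,2,0⟩],5,3,false⟩] [] = true := by decide +kernel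
theorem c20019104 : chkFrat M20234 E20014588 [5,7,124] [124,126,123] [5,7,124,1,8,16,32,128,512] [5,7,124,1,8,16,32,128,512] [(0,[1,2,4]),(0,[1,2,4]),(0,[1,2,4]),(32,[1,2,7]),(32,[1,2,7]),(32,[1,2,7]),(33,[2,1,4]),(0,[1,2,4]),(32,[1,2,7])] [⟨0,0,[],0,0,false⟩,⟨0,0,[],0,2,false⟩,⟨3,0,[⟨6,0,0,1⟩,⟨4,0,0,0⟩,⟨0,4,7,0⟩],2,2,false⟩,⟨5,0,[⟨6,0,0,0⟩,⟨4,0,0,1⟩,⟨4,1,0,2⟩,⟨0,4,7,0⟩,⟨5,0,8,0⟩],3,2,false⟩,⟨5,0,[⟨6,0,0,0⟩,⟨4,0,0,3⟩,⟨4,1,0,4⟩,⟨0,4,7,0⟩,⟨0,16,19,0⟩,⟨5,0,8,0⟩],4,5,false⟩,⟨2,0,[⟨6,0,0,1⟩,⟨4,0,0,5⟩,⟨4,4,0,6⟩,⟨4,8,0,7⟩,⟨0,1,2,0⟩],5,3,false⟩] [] = true := by decide +kernel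
theorem c20019170 : chkFrat M20234 E20014588 [5,7,124] [126,124,121] [5,7,124,1,8,16,32,128,512] [5,7,124,1,8,16,32,128,512] [(0,[1,2,4]),(0,[1,2,4]),(0,[1,2,4]),(32,[1,2,7]),(32,[1,2,7]),(32,[1,2,7]),(33,[2,1,4]),(0,[1,2,4]),(32,[1,2,7])] [⟨0,0,[],0,0,false⟩,⟨0,0,[],0,2,false⟩,⟨3,0,[⟨6,0,0,1⟩,⟨4,0,0,0⟩,⟨0,4,7,0⟩],2,2,false⟩,⟨5,0,[⟨6,0,0,0⟩,⟨4,0,0,1⟩,⟨4,1,0,2⟩,⟨0,4,7,0⟩,⟨5,0,8,0⟩],3,2,false⟩,⟨5,0,[⟨6,0,0,0⟩,⟨4,0,0,3⟩,⟨4,1,0,4⟩,⟨0,4,7,0⟩,⟨0,16,19,0⟩,⟨5,0,8,0⟩],4,5,false⟩,⟨2,0,[⟨6,0,0,1⟩,⟨4,0,0,5⟩,⟨4,4,0,6⟩,⟨4,8,0,7⟩,⟨0,1,2,0⟩],5,3,false⟩] [] = true := by decide +kernel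
theorem c20019240 : chkFrat M20234 E20014588 [5,7,124] [126,124,121] [5,7,124,1,8,16,32,128,512] [5,7,124,1,8,16,32,128,512] [(0,[1,2,4]),(0,[1,2,4]),(0,[1,2,4]),(32,[1,2,7]),(32,[1,2,7]),(32,[1,2,7]),(33,[2,1,4]),(0,[1,2,4]),(32,[1,2,7])] [⟨0,0,[],0,0,false⟩,⟨0,0,[],0,2,false⟩,⟨3,0,[⟨6,0,0,1⟩,⟨4,0,0,0⟩,⟨0,4,7,0⟩],2,2,false⟩,⟨5,0,[⟨6,0,0,0⟩,⟨4,0,0,1⟩,⟨4,1,0,2⟩,⟨0,4,7,0⟩,⟨5,0,8,0⟩],3,2,false⟩,⟨5,0,[⟨6,0,0,0⟩,⟨4,0,0,3⟩,⟨4,1,0,4⟩,⟨0,4,7,0⟩,⟨0,16,19,0⟩,⟨5,0,8,0⟩],4,5,false⟩,⟨2,0,[⟨6,0,0,1⟩,⟨4,0,0,5⟩,⟨4,4,0,6⟩,⟨4,8,0,7⟩,⟨0,1,2,0⟩],5,3,false⟩] [] = true := by decide +kernel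
theorem c20019264 : chkFrat M20234 E20014588 [5,7,124] [126,124,121] [5,7,124,1,8,16,32,128,512] [5,7,124,1,8,16,32,128,512] [(0,[1,2,4]),(0,[1,2,4]),(0,[1,2,4]),(32,[1,2,7]),(32,[1,2,7]),(32,[1,2,7]),(33,[2,1,4]),(0,[1,2,4]),(32,[1,2,7])] [⟨0,0,[],0,0,false⟩,⟨0,0,[],0,2,false⟩,⟨3,0,[⟨6,0,0,1⟩,⟨4,0,0,0⟩,⟨0,4,7,0⟩],2,2,false⟩,⟨5,0,[⟨6,0,0,0⟩,⟨4,0,0,1⟩,⟨4,1,0,2⟩,⟨0,4,7,0⟩,⟨5,0,8,0⟩],3,2,false⟩,⟨5,0,[⟨6,0,0,0⟩,⟨4,0,0,3⟩,⟨4,1,0,4⟩,⟨0,4,7,0⟩,⟨0,16,19,0⟩,⟨5,0,8,0⟩],4,5,false⟩,⟨2,0,[⟨6,0,0,1⟩,⟨4,0,0,5⟩,⟨4,4,0,6⟩,⟨4,8,0,7⟩,⟨0,1,2,0⟩],5,3,false⟩] [] = true := by decide +kernel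
theorem c20019386 : chkFrat M20234 E20014588 [5,7,124] [126,124,123] [5,7,124,1,8,16,32,128,512] [5,7,124,1,8,16,32,128,512] [(0,[1,2,4]),(0,[1,2,4]),(0,[1,2,4]),(32,[1,2,7]),(32,[1,2,7]),(32,[1,2,7]),(33,[2,1,4]),(0,[1,2,4]),(32,[1,2,7])] [⟨0,0,[],0,0,false⟩,⟨0,0,[],0,2,false⟩,⟨3,0,[⟨6,0,0,1⟩,⟨4,0,0,0⟩,⟨0,4,7,0⟩],2,2,false⟩,⟨5,0,[⟨6,0,0,0⟩,⟨4,0,0,1⟩,⟨4,1,0,2⟩,⟨0,4,7,0⟩,⟨5,0,8,0⟩],3,2,false⟩,⟨5,0,[⟨6,0,0,0⟩,⟨4,0,0,3⟩,⟨4,1,0,4⟩,⟨0,4,7,0⟩,⟨0,16,19,0⟩,⟨5,0,8,0⟩],4,5,false⟩,⟨2,0,[⟨6,0,0,1⟩,⟨4,0,0,5⟩,⟨4,4,0,6⟩,⟨4,8,0,7⟩,⟨0,1,2,0⟩],5,3,false⟩] [] = true := by decide +kernel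
theorem c20019470 : chkFrat M20234 E20014588 [5,7,124] [126,124,123] [5,7,124,1,8,16,32,128,512] [5,7,124,1,8,16,32,128,512] [(0,[1,2,4]),(0,[1,2,4]),(0,[1,2,4]),(32,[1,2,7]),(32,[1,2,7]),(32,[1,2,7]),(33,[2,1,4]),(0,[1,2,4]),(32,[1,2,7])] [⟨0,0,[],0,0,false⟩,⟨0,0,[],0,2,false⟩,⟨3,0,[⟨6,0,0,1⟩,⟨4,0,0,0⟩,⟨0,4,7,0⟩],2,2,false⟩,⟨5,0,[⟨6,0,0,0⟩,⟨4,0,0,1⟩,⟨4,1,0,2⟩,⟨0,4,7,0⟩,⟨5,0,8,0⟩],3,2,false⟩,⟨5,0,[⟨6,0,0,0⟩,⟨4,0,0,3⟩,⟨4,1,0,4⟩,⟨0,4,7,0⟩,⟨0,16,19,0⟩,⟨5,0,8,0⟩],4,5,false⟩,⟨2,0,[⟨6,0,0,1⟩,⟨4,0,0,5⟩,⟨4,4,0,6⟩,⟨4,8,0,7⟩,⟨0,1,2,0⟩],5,3,false⟩] [] = true := by decide +kernel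
theorem c20019540 : chkFrat M20234 E20014588 [5,7,124] [124,126,123] [5,7,124,1,8,16,32,128,512] [5,7,124,1,8,16,32,128,512] [(0,[1,2,4]),(0,[1,2,4]),(0,[1,2,4]),(32,[1,2,7]),(32,[1,2,7]),(32,[1,2,7]),(33,[2,1,4]),(0,[1,2,4]),(32,[1,2,7])] [⟨0,0,[],0,0,false⟩,⟨0,0,[],0,2,false⟩,⟨3,0,[⟨6,0,0,1⟩,⟨4,0,0,0⟩,⟨0,4,7,0⟩],2,2,false⟩,⟨5,0,[⟨6,0,0,0⟩,⟨4,0,0,1⟩,⟨4,1,0,2⟩,⟨0,4,7,0⟩,⟨5,0,8,0⟩],3,2,false⟩,⟨5,0,[⟨6,0,0,0⟩,⟨4,0,0,3⟩,⟨4,1,0,4⟩,⟨0,4,7,0⟩,⟨0,16,19,0⟩,⟨5,0,8,0⟩],4,5,false⟩,⟨2,0,[⟨6,0,0,1⟩,⟨4,0,0,5⟩,⟨4,4,0,6⟩,⟨4,8,0,7⟩,⟨0,1,2,0⟩],5,3,false⟩] [] = true := by decide +kernel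
theorem c20019608 : chkFrat M20234 E20014588 [5,7,124] [124,126,123] [5,7,124,1,8,16,32,128,512] [5,7,124,1,8,16,32,128,512] [(0,[1,2,4]),(0,[1,2,4]),(0,[1,2,4]),(32,[1,2,7]),(32,[1,2,7]),(32,[1,2,7]),(33,[2,1,4]),(0,[1,2,4]),(32,[1,2,7])] [⟨0,0,[],0,0,false⟩,⟨0,0,[],0,2,false⟩,⟨3,0,[⟨6,0,0,1⟩,⟨4,0,0,0⟩,⟨0,4,7,0⟩],2,2,false⟩,⟨5,0,[⟨6,0,0,0⟩,⟨4,0,0,1⟩,⟨4,1,0,2⟩,⟨0,4,7,0⟩,⟨5,0,8,0⟩],3,2,false⟩,⟨5,0,[⟨6,0,0,0⟩,⟨4,0,0,3⟩,⟨4,1,0,4⟩,⟨0,4,7,0⟩,⟨0,16,19,0⟩,⟨5,0,8,0⟩],4,5,false⟩,⟨2,0,[⟨6,0,0,1⟩,⟨4,0,0,5⟩,⟨4,4,0,6⟩,⟨4,8,0,7⟩,⟨0,1,2,0⟩],5,3,false⟩] [] = true := by decide +kernel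
theorem c20019638 : chkFrat M20234 E20014588 [5,7,124] [124,126,121] [5,7,124,1,8,16,32,128,512] [5,7,124,1,8,16,32,128,512] [(0,[1,2,4]),(0,[1,2,4]),(0,[1,2,4]),(32,[1,2,7]),(32,[1,2,7]),(32,[1,2,7]),(33,[2,1,4]),(0,[1,2,4]),(32,[1,2,7])] [⟨0,0,[],0,0,false⟩,⟨0,0,[],0,2,false⟩,⟨3,0,[⟨6,0,0,1⟩,⟨4,0,0,0⟩,⟨0,4,7,0⟩],2,2,false⟩,⟨5,0,[⟨6,0,0,0⟩,⟨4,0,0,1⟩,⟨4,1,0,2⟩,⟨0,4,7,0⟩,⟨5,0,8,0⟩],3,2,false⟩,⟨5,0,[⟨6,0,0,0⟩,⟨4,0,0,3⟩,⟨4,1,0,4⟩,⟨0,4,7,0⟩,⟨0,16,19,0⟩,⟨5,0,8,0⟩],4,5,false⟩,⟨2,0,[⟨6,0,0,1⟩,⟨4,0,0,5⟩,⟨4,4,0,6⟩,⟨4,8,0,7⟩,⟨0,1,2,0⟩],5,3,false⟩] [] = true := by decide +kernel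
theorem c20019696 : chkFrat M20234 E20014588 [5,7,124] [124,126,123] [5,7,124,1,8,16,32,128,512] [5,7,124,1,8,16,32,128,512] [(0,[1,2,4]),(0,[1,2,4]),(0,[1,2,4]),(32,[1,2,7]),(32,[1,2,7]),(32,[1,2,7]),(33,[2,1,4]),(0,[1,2,4]),(32,[1,2,7])] [⟨0,0,[],0,0,false⟩,⟨0,0,[],0,2,false⟩,⟨3,0,[⟨6,0,0,1⟩,⟨4,0,0,0⟩,⟨0,4,7,0⟩],2,2,false⟩,⟨5,0,[⟨6,0,0,0⟩,⟨4,0,0,1⟩,⟨4,1,0,2⟩,⟨0,4,7,0⟩,⟨5,0,8,0⟩],3,2,false⟩,⟨5,0,[⟨6,0,0,0⟩,⟨4,0,0,3⟩,⟨4,1,0,4⟩,⟨0,4,7,0⟩,⟨0,16,19,0⟩,⟨5,0,8,0⟩],4,5,false⟩,⟨2,0,[⟨6,0,0,1⟩,⟨4,0,0,5⟩,⟨4,4,0,6⟩,⟨4,8,0,7⟩,⟨0,1,2,0⟩],5,3,false⟩] [] = true := by decide +kernel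
theorem c20019762 : chkFrat M20234 E20014588 [5,7,124] [126,124,121] [5,7,124,1,8,16,32,128,512] [5,7,124,1,8,16,32,128,512] [(0,[1,2,4]),(0,[1,2,4]),(0,[1,2,4]),(32,[1,2,7]),(32,[1,2,7]),(32,[1,2,7]),(33,[2,1,4]),(0,[1,2,4]),(32,[1,2,7])] [⟨0,0,[],0,0,false⟩,⟨0,0,[],0,2,false⟩,⟨3,0,[⟨6,0,0,1⟩,⟨4,0,0,0⟩,⟨0,4,7,0⟩],2,2,false⟩,⟨5,0,[⟨6,0,0,0⟩,⟨4,0,0,1⟩,⟨4,1,0,2⟩,⟨0,4,7,0⟩,⟨5,0,8,0⟩],3,2,false⟩,⟨5,0,[⟨6,0,0,0⟩,⟨4,0,0,3⟩,⟨4,1,0,4⟩,⟨0,4,7,0⟩,⟨0,16,19,0⟩,⟨5,0,8,0⟩],4,5,false⟩,⟨2,0,[⟨6,0,0,1⟩,⟨4,0,0,5⟩,⟨4,4,0,6⟩,⟨4,8,0,7⟩,⟨0,1,2,0⟩],5,3,false⟩] [] = true := by decide +kernel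
theorem c20019832 : chkFrat M20234 E20014588 [5,7,124] [126,124,121] [5,7,124,1,8,16,32,128,512] [5,7,124,1,8,16,32,128,512] [(0,[1,2,4]),(0,[1,2,4]),(0,[1,2,4]),(32,[1,2,7]),(32,[1,2,7]),(32,[1,2,7]),(33,[2,1,4]),(0,[1,2,4]),(32,[1,2,7])] [⟨0,0,[],0,0,false⟩,⟨0,0,[],0,2,false⟩,⟨3,0,[⟨6,0,0,1⟩,⟨4,0,0,0⟩,⟨0,4,7,0⟩],2,2,false⟩,⟨5,0,[⟨6,0,0,0⟩,⟨4,0,0,1⟩,⟨4,1,0,2⟩,⟨0,4,7,0⟩,⟨5,0,8,0⟩],3,2,false⟩,⟨5,0,[⟨6,0,0,0⟩,⟨4,0,0,3⟩,⟨4,1,0,4⟩,⟨0,4,7,0⟩,⟨0,16,19,0⟩,⟨5,0,8,0⟩],4,5,false⟩,⟨2,0,[⟨6,0,0,1⟩,⟨4,0,0,5⟩,⟨4,4,0,6⟩,⟨4,8,0,7⟩,⟨0,1,2,0⟩],5,3,false⟩] [] = true := by decide +kernel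
theorem c20019856 : chkFrat M20234 E20014588 [5,7,124] [126,124,121] [5,7,124,1,8,16,32,128,512] [5,7,124,1,8,16,32,128,512] [(0,[1,2,4]),(0,[1,2,4]),(0,[1,2,4]),(32,[1,2,7]),(32,[1,2,7]),(32,[1,2,7]),(33,[2,1,4]),(0,[1,2,4]),(32,[1,2,7])] [⟨0,0,[],0,0,false⟩,⟨0,0,[],0,2,false⟩,⟨3,0,[⟨6,0,0,1⟩,⟨4,0,0,0⟩,⟨0,4,7,0⟩],2,2,false⟩,⟨5,0,[⟨6,0,0,0⟩,⟨4,0,0,1⟩,⟨4,1,0,2⟩,⟨0,4,7,0⟩,⟨5,0,8,0⟩],3,2,false⟩,⟨5,0,[⟨6,0,0,0⟩,⟨4,0,0,3⟩,⟨4,1,0,4⟩,⟨0,4,7,0⟩,⟨0,16,19,0⟩,⟨5,0,8,0⟩],4,5,false⟩,⟨2,0,[⟨6,0,0,1⟩,⟨4,0,0,5⟩,⟨4,4,0,6⟩,⟨4,8,0,7⟩,⟨0,1,2,0⟩],5,3,false⟩] [] = true := by decide +kernel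
theorem c20014904 : chkFrat M20234 E20014546 [5,7,124] [123,121,7] [5,7,124,1,8,16,32,128,512] [5,7,124,1,8,16,32,128,512] [(0,[1,2,4]),(0,[1,2,4]),(0,[1,2,4]),(33,[1,2,7]),(33,[1,2,7]),(33,[1,2,7]),(1,[2,1,4]),(0,[1,2,4]),(33,[1,2,7])] [⟨0,0,[],0,0,false⟩,⟨0,0,[],0,2,false⟩,⟨3,0,[⟨6,0,0,1⟩,⟨4,0,0,0⟩,⟨0,4,7,0⟩],2,2,false⟩] [] = true := by decide +kernel
theorem c20016371 : chkFrat M20234 E20014546 [5,7,124] [123,121,7] [5,7,124,1,8,16,32,128,512] [5,7,124,1,8,16,32,128,512] [(0,[1,2,4]),(0,[1,2,4]),(0,[1,2,4]),(33,[1,2,7]),(33,[1,2,7]),(33,[1,2,7]),(1,[2,1,4]),(0,[1,2,4]),(33,[1,2,7])] [⟨0,0,[],0,0,false⟩,⟨0,0,[],0,2,false⟩,⟨3,0,[⟨6,0,0,1⟩,⟨4,0,0,0⟩,⟨0,4,7,0⟩],2,2,false⟩] [] = true := by decide +kernel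
theorem c20016441 : chkFrat M20234 E20014546 [5,7,124] [121,123,7] [5,7,124,1,8,16,32,128,512] [5,7,124,1,8,16,32,128,512] [(0,[1,2,4]),(0,[1,2,4]),(0,[1,2,4]),(33,[1,2,7]),(33,[1,2,7]),(33,[1,2,7]),(1,[2,1,4]),(0,[1,2,4]),(33,[1,2,7])] [⟨0,0,[],0,0,false⟩,⟨0,0,[],0,2,false⟩,⟨3,0,[⟨6,0,0,1⟩,⟨4,0,0,0⟩,⟨0,4,7,0⟩],2,2,false⟩] [] = true := by decide +kernel
theorem c20016565 : chkFrat M20234 E20014546 [5,7,124] [123,121,5] [5,7,124,1,8,16,32,128,512] [5,7,124,1,8,16,32,128,512] [(0,[1,2,4]),(0,[1,2,4]),(0,[1,2,4]),(33,[1,2,7]),(33,[1,2,7]),(33,[1,2,7]),(1,[2,1,4]),(0,[1,2,4]),(33,[1,2,7])] [⟨0,0,[],0,0,false⟩,⟨0,0,[],0,2,false⟩,⟨3,0,[⟨6,0,0,1⟩,⟨4,0,0,0⟩,⟨0,4,7,0⟩],2,2,false⟩] [] = true := by decide +kernel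
theorem c20016663 : chkFrat M20234 E20014546 [5,7,124] [121,123,7] [5,7,124,1,8,16,32,128,512] [5,7,124,1,8,16,32,128,512] [(0,[1,2,4]),(0,[1,2,4]),(0,[1,2,4]),(33,[1,2,7]),(33,[1,2,7]),(33,[1,2,7]),(1,[2,1,4]),(0,[1,2,4]),(33,[1,2,7])] [⟨0,0,[],0,0,false⟩,⟨0,0,[],0,2,false⟩,⟨3,0,[⟨6,0,0,1⟩,⟨4,0,0,0⟩,⟨0,4,7,0⟩],2,2,false⟩] [] = true := by decide +kernel
theorem c20016745 : chkFrat M20234 E20014546 [5,7,124] [123,121,7] [5,7,124,1,8,16,32,128,512] [5,7,124,1,8,16,32,128,512] [(0,[1,2,4]),(0,[1,2,4]),(0,[1,2,4]),(33,[1,2,7]),(33,[1,2,7]),(33,[1,2,7]),(1,[2,1,4]),(0,[1,2,4]),(33,[1,2,7])] [⟨0,0,[],0,0,false⟩,⟨0,0,[],0,2,false⟩,⟨3,0,[⟨6,0,0,1⟩,⟨4,0,0,0⟩,⟨0,4,7,0⟩],2,2,false⟩] [] = true := by decide +kernel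
theorem c20016817 : chkFrat M20234 E20014546 [5,7,124] [121,123,7] [5,7,124,1,8,16,32,128,512] [5,7,124,1,8,16,32,128,512] [(0,[1,2,4]),(0,[1,2,4]),(0,[1,2,4]),(33,[1,2,7]),(33,[1,2,7]),(33,[1,2,7]),(1,[2,1,4]),(0,[1,2,4]),(33,[1,2,7])] [⟨0,0,[],0,0,false⟩,⟨0,0,[],0,2,false⟩,⟨3,0,[⟨6,0,0,1⟩,⟨4,0,0,0⟩,⟨0,4,7,0⟩],2,2,false⟩] [] = true := by decide +kernel
theorem c20016887 : chkFrat M20234 E20014546 [5,7,124] [123,121,5] [5,7,124,1,8,16,32,128,512] [5,7,124,1,8,16,32,128,512] [(0,[1,2,4]),(0,[1,2,4]),(0,[1,2,4]),(33,[1,2,7]),(33,[1,2,7]),(33,[1,2,7]),(1,[2,1,4]),(0,[1,2,4]),(33,[1,2,7])] [⟨0,0,[],0,0,false⟩,⟨0,0,[],0,2,false⟩,⟨3,0,[⟨6,0,0,1⟩,⟨4,0,0,0⟩,⟨0,4,7,0⟩],2,2,false⟩] [] = true := by decide +kernel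
theorem c20017003 : chkFrat M20234 E20014546 [5,7,124] [121,123,5] [5,7,124,1,8,16,32,128,512] [5,7,124,1,8,16,32,128,512] [(0,[1,2,4]),(0,[1,2,4]),(0,[1,2,4]),(33,[1,2,7]),(33,[1,2,7]),(33,[1,2,7]),(1,[2,1,4]),(0,[1,2,4]),(33,[1,2,7])] [⟨0,0,[],0,0,false⟩,⟨0,0,[],0,2,false⟩,⟨3,0,[⟨6,0,0,1⟩,⟨4,0,0,0⟩,⟨0,4,7,0⟩],2,2,false⟩] [] = true := by decide +kernel
theorem c20017093 : chkFrat M20234 E20014546 [5,7,124] [121,123,5] [5,7,124,1,8,16,32,128,512] [5,7,124,1,8,16,32,128,512] [(0,[1,2,4]),(0,[1,2,4]),(0,[1,2,4]),(33,[1,2,7]),(33,[1,2,7]),(33,[1,2,7]),(1,[2,1,4]),(0,[1,2,4]),(33,[1,2,7])] [⟨0,0,[],0,0,false⟩,⟨0,0,[],0,2,false⟩,⟨3,0,[⟨6,0,0,1⟩,⟨4,0,0,0⟩,⟨0,4,7,0⟩],2,2,false⟩] [] = true := by decide +kernel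
theorem c20017163 : chkFrat M20234 E20014546 [5,7,124] [123,121,5] [5,7,124,1,8,16,32,128,512] [5,7,124,1,8,16,32,128,512] [(0,[1,2,4]),(0,[1,2,4]),(0,[1,2,4]),(33,[1,2,7]),(33,[1,2,7]),(33,[1,2,7]),(1,[2,1,4]),(0,[1,2,4]),(33,[1,2,7])] [⟨0,0,[],0,0,false⟩,⟨0,0,[],0,2,false⟩,⟨3,0,[⟨6,0,0,1⟩,⟨4,0,0,0⟩,⟨0,4,7,0⟩],2,2,false⟩] [] = true := by decide +kernel
theorem c20017255 : chkFrat M20234 E20014546 [5,7,124] [121,123,7] [5,7,124,1,8,16,32,128,512] [5,7,124,1,8,16,32,128,512] [(0,[1,2,4]),(0,[1,2,4]),(0,[1,2,4]),(33,[1,2,7]),(33,[1,2,7]),(33,[1,2,7]),(1,[2,1,4]),(0,[1,2,4]),(33,[1,2,7])] [⟨0,0,[],0,0,false⟩,⟨0,0,[],0,2,false⟩,⟨3,0,[⟨6,0,0,1⟩,⟨4,0,0,0⟩,⟨0,4,7,0⟩],2,2,false⟩] [] = true := by decide +kernel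
theorem c20017325 : chkFrat M20234 E20014546 [5,7,124] [121,123,5] [5,7,124,1,8,16,32,128,512] [5,7,124,1,8,16,32,128,512] [(0,[1,2,4]),(0,[1,2,4]),(0,[1,2,4]),(33,[1,2,7]),(33,[1,2,7]),(33,[1,2,7]),(1,[2,1,4]),(0,[1,2,4]),(33,[1,2,7])] [⟨0,0,[],0,0,false⟩,⟨0,0,[],0,2,false⟩,⟨3,0,[⟨6,0,0,1⟩,⟨4,0,0,0⟩,⟨0,4,7,0⟩],2,2,false⟩] [] = true := by decide +kernel
theorem c20017391 : chkFrat M20234 E20014546 [5,7,124] [123,121,7] [5,7,124,1,8,16,32,128,512] [5,7,124,1,8,16,32,128,512] [(0,[1,2,4]),(0,[1,2,4]),(0,[1,2,4]),(33,[1,2,7]),(33,[1,2,7]),(33,[1,2,7]),(1,[2,1,4]),(0,[1,2,4]),(33,[1,2,7])] [⟨0,0,[],0,0,false⟩,⟨0,0,[],0,2,false⟩,⟨3,0,[⟨6,0,0,1⟩,⟨4,0,0,0⟩,⟨0,4,7,0⟩],2,2,false⟩] [] = true := by decide +kernel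
theorem c20017461 : chkFrat M20234 E20014546 [5,7,124] [121,123,7] [5,7,124,1,8,16,32,128,512] [5,7,124,1,8,16,32,128,512] [(0,[1,2,4]),(0,[1,2,4]),(0,[1,2,4]),(33,[1,2,7]),(33,[1,2,7]),(33,[1,2,7]),(1,[2,1,4]),(0,[1,2,4]),(33,[1,2,7])] [⟨0,0,[],0,0,false⟩,⟨0,0,[],0,2,false⟩,⟨3,0,[⟨6,0,0,1⟩,⟨4,0,0,0⟩,⟨0,4,7,0⟩],2,2,false⟩] [] = true := by decide +kernel
theorem c20017529 : chkFrat M20234 E20014546 [5,7,124] [121,123,7] [5,7,124,1,8,16,32,128,512] [5,7,124,1,8,16,32,128,512] [(0,[1,2,4]),(0,[1,2,4]),(0,[1,2,4]),(33,[1,2,7]),(33,[1,2,7]),(33,[1,2,7]),(1,[2,1,4]),(0,[1,2,4]),(33,[1,2,7])] [⟨0,0,[],0,0,false⟩,⟨0,0,[],0,2,false⟩,⟨3,0,[⟨6,0,0,1⟩,⟨4,0,0,0⟩,⟨0,4,7,0⟩],2,2,false⟩] [] = true := by decide +kernel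
theorem c20017601 : chkFrat M20234 E20014546 [5,7,124] [123,121,7] [5,7,124,1,8,16,32,128,512] [5,7,124,1,8,16,32,128,512] [(0,[1,2,4]),(0,[1,2,4]),(0,[1,2,4]),(33,[1,2,7]),(33,[1,2,7]),(33,[1,2,7]),(1,[2,1,4]),(0,[1,2,4]),(33,[1,2,7])] [⟨0,0,[],0,0,false⟩,⟨0,0,[],0,2,false⟩,⟨3,0,[⟨6,0,0,1⟩,⟨4,0,0,0⟩,⟨0,4,7,0⟩],2,2,false⟩] [] = true := by decide +kernel
theorem c20017691 : chkFrat M20234 E20014546 [5,7,124] [121,123,5] [5,7,124,1,8,16,32,128,512] [5,7,124,1,8,16,32,128,512] [(0,[1,2,4]),(0,[1,2,4]),(0,[1,2,4]),(33,[1,2,7]),(33,[1,2,7]),(33,[1,2,7]),(1,[2,1,4]),(0,[1,2,4]),(33,[1,2,7])] [⟨0,0,[],0,0,false⟩,⟨0,0,[],0,2,false⟩,⟨3,0,[⟨6,0,0,1⟩,⟨4,0,0,0⟩,⟨0,4,7,0⟩],2,2,false⟩] [] = true := by decide +kernel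
theorem c20017841 : chkFrat M20234 E20014546 [5,7,124] [121,123,7] [5,7,124,1,8,16,32,128,512] [5,7,124,1,8,16,32,128,512] [(0,[1,2,4]),(0,[1,2,4]),(0,[1,2,4]),(33,[1,2,7]),(33,[1,2,7]),(33,[1,2,7]),(1,[2,1,4]),(0,[1,2,4]),(33,[1,2,7])] [⟨0,0,[],0,0,false⟩,⟨0,0,[],0,2,false⟩,⟨3,0,[⟨6,0,0,1⟩,⟨4,0,0,0⟩,⟨0,4,7,0⟩],2,2,false⟩] [] = true := by decide +kernel
theorem c20017891 : chkFrat M20234 E20014546 [5,7,124] [121,123,5] [5,7,124,1,8,16,32,128,512] [5,7,124,1,8,16,32,128,512] [(0,[1,2,4]),(0,[1,2,4]),(0,[1,2,4]),(33,[1,2,7]),(33,[1,2,7]),(33,[1,2,7]),(1,[2,1,4]),(0,[1,2,4]),(33,[1,2,7])] [⟨0,0,[],0,0,false⟩,⟨0,0,[],0,2,false⟩,⟨3,0,[⟨6,0,0,1⟩,⟨4,0,0,0⟩,⟨0,4,7,0⟩],2,2,false⟩] [] = true := by decide +kernel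
theorem c20017983 : chkFrat M20234 E20014546 [5,7,124] [121,123,7] [5,7,124,1,8,16,32,128,512] [5,7,124,1,8,16,32,128,512] [(0,[1,2,4]),(0,[1,2,4]),(0,[1,2,4]),(33,[1,2,7]),(33,[1,2,7]),(33,[1,2,7]),(1,[2,1,4]),(0,[1,2,4]),(33,[1,2,7])] [⟨0,0,[],0,0,false⟩,⟨0,0,[],0,2,false⟩,⟨3,0,[⟨6,0,0,1⟩,⟨4,0,0,0⟩,⟨0,4,7,0⟩],2,2,false⟩] [] = true := by decide +kernel
theorem c20018053 : chkFrat M20234 E20014546 [5,7,124] [121,123,7] [5,7,124,1,8,16,32,128,512] [5,7,124,1,8,16,32,128,512] [(0,[1,2,4]),(0,[1,2,4]),(0,[1,2,4]),(33,[1,2,7]),(33,[1,2,7]),(33,[1,2,7]),(1,[2,1,4]),(0,[1,2,4]),(33,[1,2,7])] [⟨0,0,[],0,0,false⟩,⟨0,0,[],0,2,false⟩,⟨3,0,[⟨6,0,0,1⟩,⟨4,0,0,0⟩,⟨0,4,7,0⟩],2,2,false⟩] [] = true := by decide +kernel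
theorem c20018123 : chkFrat M20234 E20014546 [5,7,124] [121,123,7] [5,7,124,1,8,16,32,128,512] [5,7,124,1,8,16,32,128,512] [(0,[1,2,4]),(0,[1,2,4]),(0,[1,2,4]),(33,[1,2,7]),(33,[1,2,7]),(33,[1,2,7]),(1,[2,1,4]),(0,[1,2,4]),(33,[1,2,7])] [⟨0,0,[],0,0,false⟩,⟨0,0,[],0,2,false⟩,⟨3,0,[⟨6,0,0,1⟩,⟨4,0,0,0⟩,⟨0,4,7,0⟩],2,2,false⟩] [] = true := by decide +kernel
theorem c20018147 : chkFrat M20234 E20014546 [5,7,124] [121,123,7] [5,7,124,1,8,16,32,128,512] [5,7,124,1,8,16,32,128,512] [(0,[1,2,4]),(0,[1,2,4]),(0,[1,2,4]),(33,[1,2,7]),(33,[1,2,7]),(33,[1,2,7]),(1,[2,1,4]),(0,[1,2,4]),(33,[1,2,7])] [⟨0,0,[],0,0,false⟩,⟨0,0,[],0,2,false⟩,⟨3,0,[⟨6,0,0,1⟩,⟨4,0,0,0⟩,⟨0,4,7,0⟩],2,2,false⟩] [] = true := by decide +kernel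
theorem c20018205 : chkFrat M20234 E20014546 [5,7,124] [123,121,5] [5,7,124,1,8,16,32,128,512] [5,7,124,1,8,16,32,128,512] [(0,[1,2,4]),(0,[1,2,4]),(0,[1,2,4]),(33,[1,2,7]),(33,[1,2,7]),(33,[1,2,7]),(1,[2,1,4]),(0,[1,2,4]),(33,[1,2,7])] [⟨0,0,[],0,0,false⟩,⟨0,0,[],0,2,false⟩,⟨3,0,[⟨6,0,0,1⟩,⟨4,0,0,0⟩,⟨0,4,7,0⟩],2,2,false⟩] [] = true := by decide +kernel
theorem c20018265 : chkFrat M20234 E20014546 [5,7,124] [123,121,7] [5,7,124,1,8,16,32,128,512] [5,7,124,1,8,16,32,128,512] [(0,[1,2,4]),(0,[1,2,4]),(0,[1,2,4]),(33,[1,2,7]),(33,[1,2,7]),(33,[1,2,7]),(1,[2,1,4]),(0,[1,2,4]),(33,[1,2,7])] [⟨0,0,[],0,0,false⟩,⟨0,0,[],0,2,false⟩,⟨3,0,[⟨6,0,0,1⟩,⟨4,0,0,0⟩,⟨0,4,7,0⟩],2,2,false⟩] [] = true := by decide +kernel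
theorem c20018289 : chkFrat M20234 E20014546 [5,7,124] [121,123,7] [5,7,124,1,8,16,32,128,512] [5,7,124,1,8,16,32,128,512] [(0,[1,2,4]),(0,[1,2,4]),(0,[1,2,4]),(33,[1,2,7]),(33,[1,2,7]),(33,[1,2,7]),(1,[2,1,4]),(0,[1,2,4]),(33,[1,2,7])] [⟨0,0,[],0,0,false⟩,⟨0,0,[],0,2,false⟩,⟨3,0,[⟨6,0,0,1⟩,⟨4,0,0,0⟩,⟨0,4,7,0⟩],2,2,false⟩] [] = true := by decide +kernel
theorem c20018347 : chkFrat M20234 E20014546 [5,7,124] [123,121,7] [5,7,124,1,8,16,32,128,512] [5,7,124,1,8,16,32,128,512] [(0,[1,2,4]),(0,[1,2,4]),(0,[1,2,4]),(33,[1,2,7]),(33,[1,2,7]),(33,[1,2,7]),(1,[2,1,4]),(0,[1,2,4]),(33,[1,2,7])] [⟨0,0,[],0,0,false⟩,⟨0,0,[],0,2,false⟩,⟨3,0,[⟨6,0,0,1⟩,⟨4,0,0,0⟩,⟨0,4,7,0⟩],2,2,false⟩] [] = true := by decide +kernel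
theorem c20018380 : chkFrat M20234 E20014546 [5,7,124] [121,123,5] [5,7,124,1,8,16,32,128,512] [5,7,124,1,8,16,32,128,512] [(0,[1,2,4]),(0,[1,2,4]),(0,[1,2,4]),(33,[1,2,7]),(33,[1,2,7]),(33,[1,2,7]),(1,[2,1,4]),(0,[1,2,4]),(33,[1,2,7])] [⟨0,0,[],0,0,false⟩,⟨0,0,[],0,2,false⟩,⟨3,0,[⟨6,0,0,1⟩,⟨4,0,0,0⟩,⟨0,4,7,0⟩],2,2,false⟩] [] = true := by decide +kernel
theorem c20018439 : chkFrat M20234 E20014546 [5,7,124] [123,121,5] [5,7,124,1,8,16,32,128,512] [5,7,124,1,8,16,32,128,512] [(0,[1,2,4]),(0,[1,2,4]),(0,[1,2,4]),(33,[1,2,7]),(33,[1,2,7]),(33,[1,2,7]),(1,[2,1,4]),(0,[1,2,4]),(33,[1,2,7])] [⟨0,0,[],0,0,false⟩,⟨0,0,[],0,2,false⟩,⟨3,0,[⟨6,0,0,1⟩,⟨4,0,0,0⟩,⟨0,4,7,0⟩],2,2,false⟩] [] = true := by decide +kernel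
theorem c20018497 : chkFrat M20234 E20014546 [5,7,124] [123,121,7] [5,7,124,1,8,16,32,128,512] [5,7,124,1,8,16,32,128,512] [(0,[1,2,4]),(0,[1,2,4]),(0,[1,2,4]),(33,[1,2,7]),(33,[1,2,7]),(33,[1,2,7]),(1,[2,1,4]),(0,[1,2,4]),(33,[1,2,7])] [⟨0,0,[],0,0,false⟩,⟨0,0,[],0,2,false⟩,⟨3,0,[⟨6,0,0,1⟩,⟨4,0,0,0⟩,⟨0,4,7,0⟩],2,2,false⟩] [] = true := by decide +kernel
theorem c20018521 : chkFrat M20234 E20014546 [5,7,124] [123,121,5] [5,7,124,1,8,16,32,128,512] [5,7,124,1,8,16,32,128,512] [(0,[1,2,4]),(0,[1,2,4]),(0,[1,2,4]),(33,[1,2,7]),(33,[1,2,7]),(33,[1,2,7]),(1,[2,1,4]),(0,[1,2,4]),(33,[1,2,7])] [⟨0,0,[],0,0,false⟩,⟨0,0,[],0,2,false⟩,⟨3,0,[⟨6,0,0,1⟩,⟨4,0,0,0⟩,⟨0,4,7,0⟩],2,2,false⟩] [] = true := by decide +kernel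
theorem c20018587 : chkFrat M20234 E20014546 [5,7,124] [123,121,7] [5,7,124,1,8,16,32,128,512] [5,7,124,1,8,16,32,128,512] [(0,[1,2,4]),(0,[1,2,4]),(0,[1,2,4]),(33,[1,2,7]),(33,[1,2,7]),(33,[1,2,7]),(1,[2,1,4]),(0,[1,2,4]),(33,[1,2,7])] [⟨0,0,[],0,0,false⟩,⟨0,0,[],0,2,false⟩,⟨3,0,[⟨6,0,0,1⟩,⟨4,0,0,0⟩,⟨0,4,7,0⟩],2,2,false⟩] [] = true := by decide +kernel
theorem c20018645 : chkFrat M20234 E20014546 [5,7,124] [121,123,5] [5,7,124,1,8,16,32,128,512] [5,7,124,1,8,16,32,128,512] [(0,[1,2,4]),(0,[1,2,4]),(0,[1,2,4]),(33,[1,2,7]),(33,[1,2,7]),(33,[1,2,7]),(1,[2,1,4]),(0,[1,2,4]),(33,[1,2,7])] [⟨0,0,[],0,0,false⟩,⟨0,0,[],0,2,false⟩,⟨3,0,[⟨6,0,0,1⟩,⟨4,0,0,0⟩,⟨0,4,7,0⟩],2,2,false⟩] [] = true := by decide +kernel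
theorem c20018715 : chkFrat M20234 E20014546 [5,7,124] [121,123,5] [5,7,124,1,8,16,32,128,512] [5,7,124,1,8,16,32,128,512] [(0,[1,2,4]),(0,[1,2,4]),(0,[1,2,4]),(33,[1,2,7]),(33,[1,2,7]),(33,[1,2,7]),(1,[2,1,4]),(0,[1,2,4]),(33,[1,2,7])] [⟨0,0,[],0,0,false⟩,⟨0,0,[],0,2,false⟩,⟨3,0,[⟨6,0,0,1⟩,⟨4,0,0,0⟩,⟨0,4,7,0⟩],2,2,false⟩] [] = true := by decide +kernel
theorem c20018785 : chkFrat M20234 E20014546 [5,7,124] [121,123,7] [5,7,124,1,8,16,32,128,512] [5,7,124,1,8,16,32,128,512] [(0,[1,2,4]),(0,[1,2,4]),(0,[1,2,4]),(33,[1,2,7]),(33,[1,2,7]),(33,[1,2,7]),(1,[2,1,4]),(0,[1,2,4]),(33,[1,2,7])] [⟨0,0,[],0,0,false⟩,⟨0,0,[],0,2,false⟩,⟨3,0,[⟨6,0,0,1⟩,⟨4,0,0,0⟩,⟨0,4,7,0⟩],2,2,false⟩] [] = true := by decide +kernel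
theorem c20018913 : chkFrat M20234 E20014546 [5,7,124] [123,121,7] [5,7,124,1,8,16,32,128,512] [5,7,124,1,8,16,32,128,512] [(0,[1,2,4]),(0,[1,2,4]),(0,[1,2,4]),(33,[1,2,7]),(33,[1,2,7]),(33,[1,2,7]),(1,[2,1,4]),(0,[1,2,4]),(33,[1,2,7])] [⟨0,0,[],0,0,false⟩,⟨0,0,[],0,2,false⟩,⟨3,0,[⟨6,0,0,1⟩,⟨4,0,0,0⟩,⟨0,4,7,0⟩],2,2,false⟩] [] = true := by decide +kernel
theorem c20019120 : chkFrat M20234 E20014546 [5,7,124] [121,123,5] [5,7,124,1,8,16,32,128,512] [5,7,124,1,8,16,32,128,512] [(0,[1,2,4]),(0,[1,2,4]),(0,[1,2,4]),(33,[1,2,7]),(33,[1,2,7]),(33,[1,2,7]),(1,[2,1,4]),(0,[1,2,4]),(33,[1,2,7])] [⟨0,0,[],0,0,false⟩,⟨0,0,[],0,2,false⟩,⟨3,0,[⟨6,0,0,1⟩,⟨4,0,0,0⟩,⟨0,4,7,0⟩],2,2,false⟩] [] = true := by decide +kernel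
theorem c20019307 : chkFrat M20234 E20014546 [5,7,124] [121,123,5] [5,7,124,1,8,16,32,128,512] [5,7,124,1,8,16,32,128,512] [(0,[1,2,4]),(0,[1,2,4]),(0,[1,2,4]),(33,[1,2,7]),(33,[1,2,7]),(33,[1,2,7]),(1,[2,1,4]),(0,[1,2,4]),(33,[1,2,7])] [⟨0,0,[],0,0,false⟩,⟨0,0,[],0,2,false⟩,⟨3,0,[⟨6,0,0,1⟩,⟨4,0,0,0⟩,⟨0,4,7,0⟩],2,2,false⟩] [] = true := by decide +kernel
theorem c20019377 : chkFrat M20234 E20014546 [5,7,124] [121,123,7] [5,7,124,1,8,16,32,128,512] [5,7,124,1,8,16,32,128,512] [(0,[1,2,4]),(0,[1,2,4]),(0,[1,2,4]),(33,[1,2,7]),(33,[1,2,7]),(33,[1,2,7]),(1,[2,1,4]),(0,[1,2,4]),(33,[1,2,7])] [⟨0,0,[],0,0,false⟩,⟨0,0,[],0,2,false⟩,⟨3,0,[⟨6,0,0,1⟩,⟨4,0,0,0⟩,⟨0,4,7,0⟩],2,2,false⟩] [] = true := by decide +kernel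
theorem c20019505 : chkFrat M20234 E20014546 [5,7,124] [123,121,7] [5,7,124,1,8,16,32,128,512] [5,7,124,1,8,16,32,128,512] [(0,[1,2,4]),(0,[1,2,4]),(0,[1,2,4]),(33,[1,2,7]),(33,[1,2,7]),(33,[1,2,7]),(1,[2,1,4]),(0,[1,2,4]),(33,[1,2,7])] [⟨0,0,[],0,0,false⟩,⟨0,0,[],0,2,false⟩,⟨3,0,[⟨6,0,0,1⟩,⟨4,0,0,0⟩,⟨0,4,7,0⟩],2,2,false⟩] [] = true := by decide +kernel
theorem c20019712 : chkFrat M20234 E20014546 [5,7,124] [121,123,5] [5,7,124,1,8,16,32,128,512] [5,7,124,1,8,16,32,128,512] [(0,[1,2,4]),(0,[1,2,4]),(0,[1,2,4]),(33,[1,2,7]),(33,[1,2,7]),(33,[1,2,7]),(1,[2,1,4]),(0,[1,2,4]),(33,[1,2,7])] [⟨0,0,[],0,0,false⟩,⟨0,0,[],0,2,false⟩,⟨3,0,[⟨6,0,0,1⟩,⟨4,0,0,0⟩,⟨0,4,7,0⟩],2,2,false⟩] [] = true := by decide +kernel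
theorem c20016483 : chkFrat M20234 E20016357 [528,533,530,622,24,33,137,257] [319,284,317,359,62,66,808,466] [528,533,530,622,24,33,137,257,1] [528,533,530,622,24,33,137,257,1] [(317,[1,2,4,8,21,47,74,143]),(284,[1,2,4,8,21,42,74,128]),(317,[1,2,4,8,21,47,74,143]),(284,[1,2,4,8,21,42,74,128]),(60,[4,7,1,13,16,37,64,138]),(57,[14,8,11,2,21,32,79,128]),(808,[11,8,14,2,16,47,64,133]),(425,[14,2,11,8,26,32,69,128]),(61,[2,1,7,14,16,32,95,160])] [⟨0,0,[],0,0,false⟩,⟨0,0,[],0,0,false⟩,⟨0,0,[],0,0,false⟩,⟨0,0,[],0,0,false⟩,⟨0,0,[],0,0,false⟩,⟨0,0,[],0,0,false⟩,⟨0,0,[],0,0,false⟩,⟨2,0,[⟨6,0,0,1⟩,⟨4,0,0,0⟩,⟨4,3,0,1⟩,⟨0,1,2,0⟩,⟨0,32,32,0⟩,⟨7,0,16,0⟩],1,0,false⟩] [] = true := by decide +kernel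
theorem c20017099 : chkFrat M20234 E20016357 [528,533,530,622,24,33,137,257] [324,286,326,357,69,64,808,466] [528,533,530,622,24,33,137,257,1] [528,533,530,622,24,33,137,257,1] [(317,[1,2,4,8,21,47,74,143]),(284,[1,2,4,8,21,42,74,128]),(317,[1,2,4,8,21,47,74,143]),(284,[1,2,4,8,21,42,74,128]),(60,[4,7,1,13,16,37,64,138]),(57,[14,8,11,2,21,32,79,128]),(808,[11,8,14,2,16,47,64,133]),(425,[14,2,11,8,26,32,69,128]),(25,[2,1,7,14,16,32,95,160])] [⟨0,0,[],0,0,false⟩,⟨0,0,[],0,0,false⟩,⟨0,0,[],0,0,false⟩,⟨0,0,[],0,0,false⟩,⟨0,0,[],0,0,false⟩,⟨0,0,[],0,0,false⟩,⟨0,0,[],0,0,false⟩,⟨2,0,[⟨6,0,0,1⟩,⟨4,0,0,0⟩,⟨4,3,0,1⟩,⟨0,1,2,0⟩,⟨0,32,32,0⟩,⟨7,0,16,0⟩],1,0,false⟩] [] = true := by decide +kernel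
theorem c20017662 : chkFrat M20234 E20016357 [528,533,530,622,24,33,137,257] [405,436,407,461,38,7,991,625] [528,533,530,622,24,33,137,257,1] [528,533,530,622,24,33,137,257,1] [(405,[1,2,4,8,21,47,74,143]),(436,[1,2,4,8,21,42,74,128]),(405,[1,2,4,8,21,47,74,143]),(436,[1,2,4,8,21,42,74,128]),(36,[4,7,1,13,16,37,64,138]),(5,[14,8,11,2,21,32,79,128]),(932,[11,8,14,2,16,47,64,133]),(520,[14,2,11,8,26,32,69,128]),(1,[2,1,7,14,16,32,95,160])] [⟨0,0,[],0,0,false⟩,⟨0,0,[],0,0,false⟩,⟨0,0,[],0,0,false⟩,⟨0,0,[],0,0,false⟩,⟨0,0,[],0,0,false⟩,⟨0,0,[],0,0,false⟩,⟨0,0,[],0,0,false⟩,⟨2,0,[⟨6,0,0,1⟩,⟨4,0,0,0⟩,⟨4,3,0,1⟩,⟨0,1,2,0⟩,⟨0,32,32,0⟩,⟨7,0,16,0⟩],1,0,false⟩] [] = true := by decide +kernel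
theorem c20018262 : chkFrat M20234 E20016357 [528,533,530,622,24,33,137,257] [324,286,326,357,69,64,808,466] [528,533,530,622,24,33,137,257,1] [528,533,530,622,24,33,137,257,1] [(317,[1,2,4,8,21,47,74,143]),(284,[1,2,4,8,21,42,74,128]),(317,[1,2,4,8,21,47,74,143]),(284,[1,2,4,8,21,42,74,128]),(60,[4,7,1,13,16,37,64,138]),(57,[14,8,11,2,21,32,79,128]),(808,[11,8,14,2,16,47,64,133]),(425,[14,2,11,8,26,32,69,128]),(25,[2,1,7,14,16,32,95,160])] [⟨0,0,[],0,0,false⟩,⟨0,0,[],0,0,false⟩,⟨0,0,[],0,0,false⟩,⟨0,0,[],0,0,false⟩,⟨0,0,[],0,0,false⟩,⟨0,0,[],0,0,false⟩,⟨0,0,[],0,0,false⟩,⟨2,0,[⟨6,0,0,1⟩,⟨4,0,0,0⟩,⟨4,3,0,1⟩,⟨0,1,2,0⟩,⟨0,32,32,0⟩,⟨7,0,16,0⟩],1,0,false⟩] [] = true := by decide +kernel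
theorem c20018854 : chkFrat M20234 E20016357 [528,533,530,622,24,33,137,257] [324,286,326,357,69,64,808,466] [528,533,530,622,24,33,137,257,1] [528,533,530,622,24,33,137,257,1] [(317,[1,2,4,8,21,47,74,143]),(284,[1,2,4,8,21,42,74,128]),(317,[1,2,4,8,21,47,74,143]),(284,[1,2,4,8,21,42,74,128]),(60,[4,7,1,13,16,37,64,138]),(57,[14,8,11,2,21,32,79,128]),(808,[11,8,14,2,16,47,64,133]),(425,[14,2,11,8,26,32,69,128]),(25,[2,1,7,14,16,32,95,160])] [⟨0,0,[],0,0,false⟩,⟨0,0,[],0,0,false⟩,⟨0,0,[],0,0,false⟩,⟨0,0,[],0,0,false⟩,⟨0,0,[],0,0,false⟩,⟨0,0,[],0,0,false⟩,⟨0,0,[],0,0,false⟩,⟨2,0,[⟨6,0,0,1⟩,⟨4,0,0,0⟩,⟨4,3,0,1⟩,⟨0,1,2,0⟩,⟨0,32,32,0⟩,⟨7,0,16,0⟩],1,0,false⟩] [] = true := by decide +kernel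
theorem c20019446 : chkFrat M20234 E20016357 [528,533,530,622,24,33,137,257] [324,286,326,357,69,64,808,466] [528,533,530,622,24,33,137,257,1] [528,533,530,622,24,33,137,257,1] [(317,[1,2,4,8,21,47,74,143]),(284,[1,2,4,8,21,42,74,128]),(317,[1,2,4,8,21,47,74,143]),(284,[1,2,4,8,21,42,74,128]),(60,[4,7,1,13,16,37,64,138]),(57,[14,8,11,2,21,32,79,128]),(808,[11,8,14,2,16,47,64,133]),(425,[14,2,11,8,26,32,69,128]),(25,[2,1,7,14,16,32,95,160])] [⟨0,0,[],0,0,false⟩,⟨0,0,[],0,0,false⟩,⟨0,0,[],0,0,false⟩,⟨0,0,[],0,0,false⟩,⟨0,0,[],0,0,false⟩,⟨0,0,[],0,0,false⟩,⟨0,0,[],0,0,false⟩,⟨2,0,[⟨6,0,0,1⟩,⟨4,0,0,0⟩,⟨4,3,0,1⟩,⟨0,1,2,0⟩,⟨0,32,32,0⟩,⟨7,0,16,0⟩],1,0,false⟩] [] = true := by decide +kernel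
theorem c20014542 : chkSyM M20234 [5,7,124] [5,7,124,1,8,16,32,128,512] = true := by decide +kernel
theorem c20016703 : chkLift M20234 D20234 E20016323 [528,533,530,622,24,33,137,257] [530,535,528,620,24,35,137,378] [528,533,530,622,24,33,137,257,1,8] [(1,[2,1,7,14,16,32,95,160]),(0,[1,2,4,8,16,32,64,128]),(4,[2,1,7,14,16,37,95,170]),(8,[4,7,1,8,21,48,80,234]),(16,[1,2,4,13,21,53,80,229]),(32,[8,14,13,1,21,32,85,160]),(57,[11,13,14,7,21,37,79,138]),(128,[13,14,8,4,21,63,74,223]),(256,[2,14,7,1,26,32,80,160]),(512,[1,2,4,13,16,63,95,239])] 0 [4,7,1,13,16,37,64,143] [⟨0,0,[],0,0,false⟩,⟨0,0,[],0,0,false⟩,⟨0,0,[],0,0,false⟩,⟨0,0,[],0,0,false⟩,⟨0,0,[],0,0,false⟩,⟨0,0,[],0,0,false⟩,⟨0,0,[],0,0,false⟩,⟨1,2,[⟨4,0,0,0⟩,⟨0,8,14,0⟩,⟨0,32,32,0⟩],1,0,false⟩,⟨1,4,[⟨4,0,0,1⟩,⟨4,3,0,2⟩,⟨0,8,8,0⟩,⟨0,16,21,0⟩,⟨0,32,48,0⟩],0,0,false⟩]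 [] [256,5,259,512,533,288,63,842,416,532] [([530,535,528,620,24,35,137,378,1,8],[]),([530,535,528,620,24,35,137,378,1,10],[])] [] = true := by decide +kernel
theorem c20017295 : chkLift M20234 D20234 E20016323 [528,533,530,622,24,33,137,257] [528,533,530,622,24,33,137,259] [528,533,530,622,24,33,137,257,1,8] [(1,[2,1,7,14,16,32,95,160]),(0,[1,2,4,8,16,32,64,128]),(4,[2,1,7,14,16,37,95,170]),(8,[4,7,1,8,21,48,80,234]),(16,[1,2,4,13,21,53,80,229]),(32,[8,14,13,1,21,32,85,160]),(57,[11,13,14,7,21,37,79,138]),(128,[13,14,8,4,21,63,74,223]),(256,[2,14,7,1,26,32,80,160]),(512,[1,2,4,13,16,63,95,239])] 0 [1,2,4,8,16,32,64,133] [⟨0,0,[],0,0,false⟩,⟨0,0,[],0,0,false⟩,⟨0,0,[],0,0,false⟩,⟨0,0,[],0,0,false⟩,⟨0,0,[],0,0,false⟩,⟨0,0,[],0,0,false⟩,⟨0,0,[],0,0,false⟩,⟨1,2,[⟨4,0,0,0⟩,⟨0,8,14,0⟩,⟨0,32,32,0⟩],1,0,false⟩,⟨1,4,[⟨4,0,0,1⟩,⟨4,3,0,2⟩,⟨0,8,8,0⟩,⟨0,16,21,0⟩,⟨0,32,48,0⟩],0,0,false⟩]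 [] [256,5,259,512,533,288,63,842,416,532] [([528,533,530,622,24,33,137,259,1,8],[]),([528,533,530,622,24,33,137,259,1,10],[])] [] = true := by decide +kernel
theorem c20017911 : chkLift M20234 D20234 E20016323 [528,533,530,622,24,33,137,257] [530,535,528,620,24,35,137,378] [528,533,530,622,24,33,137,257,1,8] [(1,[2,1,7,14,16,32,95,160]),(0,[1,2,4,8,16,32,64,128]),(4,[2,1,7,14,16,37,95,170]),(8,[4,7,1,8,21,48,80,234]),(16,[1,2,4,13,21,53,80,229]),(32,[8,14,13,1,21,32,85,160]),(57,[11,13,14,7,21,37,79,138]),(128,[13,14,8,4,21,63,74,223]),(256,[2,14,7,1,26,32,80,160]),(512,[1,2,4,13,16,63,95,239])] 0 [4,7,1,13,16,37,64,143] [⟨0,0,[],0,0,false⟩,⟨0,0,[],0,0,false⟩,⟨0,0,[],0,0,false⟩,⟨0,0,[],0,0,false⟩,⟨0,0,[],0,0,false⟩,⟨0,0,[],0,0,false⟩,⟨0,0,[],0,0,false⟩,⟨1,2,[⟨4,0,0,0⟩,⟨0,8,14,0⟩,⟨0,32,32,0⟩],1,0,false⟩,⟨1,4,[⟨4,0,0,1⟩,⟨4,3,0,2⟩,⟨0,8,8,0⟩,⟨0,16,21,0⟩,⟨0,32,48,0⟩],0,0,false⟩]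 [] [256,5,259,512,533,288,63,842,416,532] [([530,535,528,620,24,35,137,378,1,8],[]),([530,535,528,620,24,35,137,378,1,10],[])] [] = true := by decide +kernel
theorem c20018633 : chkLift M20234 D20234 E20016323 [528,533,530,622,24,33,137,257] [530,535,528,620,24,35,137,378] [528,533,530,622,24,33,137,257,1,8] [(1,[2,1,7,14,16,32,95,160]),(0,[1,2,4,8,16,32,64,128]),(4,[2,1,7,14,16,37,95,170]),(8,[4,7,1,8,21,48,80,234]),(16,[1,2,4,13,21,53,80,229]),(32,[8,14,13,1,21,32,85,160]),(57,[11,13,14,7,21,37,79,138]),(128,[13,14,8,4,21,63,74,223]),(256,[2,14,7,1,26,32,80,160]),(512,[1,2,4,13,16,63,95,239])] 0 [4,7,1,13,16,37,64,143] [⟨0,0,[],0,0,false⟩,⟨0,0,[],0,0,false⟩,⟨0,0,[],0,0,false⟩,⟨0,0,[],0,0,false⟩,⟨0,0,[],0,0,false⟩,⟨0,0,[],0,0,false⟩,⟨0,0,[],0,0,false⟩,⟨1,2,[⟨4,0,0,0⟩,⟨0,8,14,0⟩,⟨0,32,32,0⟩],1,0,false⟩,⟨1,4,[⟨4,0,0,1⟩,⟨4,3,0,2⟩,⟨0,8,8,0⟩,⟨0,16,21,0⟩,⟨0,32,48,0⟩],0,0,false⟩]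 [] [256,5,259,512,533,288,63,842,416,532] [([530,535,528,620,24,35,137,378,1,8],[]),([530,535,528,620,24,35,137,378,1,10],[])] [] = true := by decide +kernel
theorem c20019298 : chkLift M20234 D20234 E20016323 [528,533,530,622,24,33,137,257] [530,535,528,620,24,35,137,378] [528,533,530,622,24,33,137,257,1,8] [(1,[2,1,7,14,16,32,95,160]),(0,[1,2,4,8,16,32,64,128]),(4,[2,1,7,14,16,37,95,170]),(8,[4,7,1,8,21,48,80,234]),(16,[1,2,4,13,21,53,80,229]),(32,[8,14,13,1,21,32,85,160]),(57,[11,13,14,7,21,37,79,138]),(128,[13,14,8,4,21,63,74,223]),(256,[2,14,7,1,26,32,80,160]),(512,[1,2,4,13,16,63,95,239])] 0 [4,7,1,13,16,37,64,143] [⟨0,0,[],0,0,false⟩,⟨0,0,[],0,0,false⟩,⟨0,0,[],0,0,false⟩,⟨0,0,[],0,0,false⟩,⟨0,0,[],0,0,false⟩,⟨0,0,[],0,0,false⟩,⟨0,0,[],0,0,false⟩,⟨1,2,[⟨4,0,0,0⟩,⟨0,8,14,0⟩,⟨0,32,32,0⟩],1,0,false⟩,⟨1,4,[⟨4,0,0,1⟩,⟨4,3,0,2⟩,⟨0,8,8,0⟩,⟨0,16,21,0⟩,⟨0,32,48,0⟩],0,0,false⟩]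 [] [256,5,259,512,533,288,63,842,416,532] [([530,535,528,620,24,35,137,378,1,8],[]),([530,535,528,620,24,35,137,378,1,10],[])] [] = true := by decide +kernel
theorem c20018041 : chkLift M20234 D20234 E20016323 [528,533,530,622,24,33,137,257] [619,620,617,535,24,35,139,378] [528,533,530,622,24,33,137,257,1,8] [(1,[2,1,7,14,16,32,95,160]),(0,[1,2,4,8,16,32,64,128]),(4,[2,1,7,14,16,37,95,170]),(21,[4,7,1,8,21,48,80,234]),(13,[1,2,4,13,21,53,80,229]),(32,[8,14,13,1,21,32,85,160]),(57,[11,13,14,7,21,37,79,138]),(157,[13,14,8,4,21,63,74,223]),(256,[2,14,7,1,26,32,80,160]),(541,[1,2,4,13,16,63,95,239])] 0 [11,13,14,7,16,37,69,143] [⟨0,0,[],0,0,false⟩,⟨0,0,[],0,0,false⟩,⟨0,0,[],0,0,false⟩,⟨0,0,[],0,0,false⟩,⟨0,0,[],0,0,false⟩,⟨0,0,[],0,0,false⟩,⟨0,0,[],0,0,false⟩,⟨1,2,[⟨4,0,0,0⟩,⟨0,8,14,0⟩,⟨0,32,32,0⟩],1,0,false⟩,⟨1,4,[⟨4,0,0,1⟩,⟨4,3,0,2⟩,⟨0,8,8,0⟩,⟨0,16,21,0⟩,⟨0,32,48,0⟩,⟨5,0,256,0⟩],0,0,false⟩]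 [] [256,5,259,512,533,288,63,842,416,532] [] [] = true := by decide +kernel
theorem c20016429 : chkLift M20234 D20234 E20014166 [520,525,522,630,8,16,33,129,257] [625,630,627,525,16,8,35,224,376] [520,525,522,630,8,16,33,129,257,1] [(1,[2,1,7,14,16,32,64,186,320]),(0,[1,2,4,8,16,32,64,128,256]),(4,[2,1,7,14,16,32,69,186,335]),(16,[1,2,4,13,16,37,112,181,495]),(8,[4,7,1,8,21,32,117,176,485]),(32,[8,14,13,1,32,16,64,128,320]),(64,[11,13,14,7,32,16,69,186,271]),(225,[13,14,8,4,37,21,122,186,431]),(377,[13,4,8,11,250,197,64,101,320]),(609,[1,2,4,13,16,32,122,186,490])] 0 [14,8,11,2,32,16,69,186,271] [⟨0,0,[],0,0,false⟩,⟨0,0,[],0,0,false⟩,⟨0,0,[],0,0,false⟩,⟨0,0,[],0,0,false⟩,⟨0,0,[],0,0,false⟩,⟨0,0,[],0,0,false⟩,⟨0,0,[],0,0,false⟩,⟨0,0,[],0,0,false⟩,⟨1,2,[⟨4,0,0,0⟩,⟨0,8,14,0⟩,⟨0,64,64,0⟩],0,0,false⟩] []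 [512,5,515,16,32,576,122,698,832,17] [([625,630,627,525,16,8,35,224,376,3],[]),([625,630,627,525,16,8,35,224,376,1],[])] [] = true := by decide +kernel
theorem c20016712 : chkLift M20234 D20234 E20014166 [520,525,522,630,8,16,33,129,257] [522,527,520,628,8,16,33,129,257] [520,525,522,630,8,16,33,129,257,1] [(1,[2,1,7,14,16,32,64,186,320]),(0,[1,2,4,8,16,32,64,128,256]),(4,[2,1,7,14,16,32,69,186,335]),(8,[1,2,4,13,16,37,112,181,495]),(16,[4,7,1,8,21,32,117,176,485]),(32,[8,14,13,1,32,16,64,128,320]),(64,[11,13,14,7,32,16,69,186,271]),(128,[13,14,8,4,37,21,122,186,431]),(256,[13,4,8,11,250,197,64,101,320]),(512,[1,2,4,13,16,32,122,186,490])] 0 [4,7,1,13,16,32,64,128,256] [⟨0,0,[],0,0,false⟩,⟨0,0,[],0,0,false⟩,⟨0,0,[],0,0,false⟩,⟨0,0,[],0,0,false⟩,⟨0,0,[],0,0,false⟩,⟨0,0,[],0,0,false⟩,⟨0,0,[],0,0,false⟩,⟨0,0,[],0,0,false⟩,⟨1,2,[⟨4,0,0,0⟩,⟨0,8,14,0⟩,⟨0,64,64,0⟩],0,0,false⟩]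 [] [512,5,515,16,32,576,122,698,832,17] [([522,527,520,628,8,16,33,129,257,3],[]),([522,527,520,628,8,16,33,129,257,1],[])] [] = true := by decide +kernel
theorem c20017000 : chkLift M20234 D20234 E20014166 [520,525,522,630,8,16,33,129,257] [520,525,522,630,8,16,35,129,376] [520,525,522,630,8,16,33,129,257,1] [(1,[2,1,7,14,16,32,64,186,320]),(0,[1,2,4,8,16,32,64,128,256]),(4,[2,1,7,14,16,32,69,186,335]),(8,[1,2,4,13,16,37,112,181,495]),(16,[4,7,1,8,21,32,117,176,485]),(32,[8,14,13,1,32,16,64,128,320]),(64,[11,13,14,7,32,16,69,186,271]),(128,[13,14,8,4,37,21,122,186,431]),(377,[13,4,8,11,250,197,64,101,320]),(512,[1,2,4,13,16,32,122,186,490])] 0 [1,2,4,8,16,32,69,128,271] [⟨0,0,[],0,0,false⟩,⟨0,0,[],0,0,false⟩,⟨0,0,[],0,0,false⟩,⟨0,0,[],0,0,false⟩,⟨0,0,[],0,0,false⟩,⟨0,0,[],0,0,false⟩,⟨0,0,[],0,0,false⟩,⟨0,0,[],0,0,false⟩,⟨1,2,[⟨4,0,0,0⟩,⟨0,8,14,0⟩,⟨0,64,64,0⟩],0,0,false⟩]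 [] [512,5,515,16,32,576,122,698,832,17] [([520,525,522,630,8,16,35,129,376,3],[]),([520,525,522,630,8,16,35,129,376,1],[])] [] = true := by decide +kernel
theorem c20017304 : chkLift M20234 D20234 E20014166 [520,525,522,630,8,16,33,129,257] [520,525,522,630,8,16,35,129,376] [520,525,522,630,8,16,33,129,257,1] [(1,[2,1,7,14,16,32,64,186,320]),(0,[1,2,4,8,16,32,64,128,256]),(4,[2,1,7,14,16,32,69,186,335]),(8,[1,2,4,13,16,37,112,181,495]),(16,[4,7,1,8,21,32,117,176,485]),(32,[8,14,13,1,32,16,64,128,320]),(64,[11,13,14,7,32,16,69,186,271]),(128,[13,14,8,4,37,21,122,186,431]),(377,[13,4,8,11,250,197,64,101,320]),(512,[1,2,4,13,16,32,122,186,490])] 0 [1,2,4,8,16,32,69,128,271] [⟨0,0,[],0,0,false⟩,⟨0,0,[],0,0,false⟩,⟨0,0,[],0,0,false⟩,⟨0,0,[],0,0,false⟩,⟨0,0,[],0,0,false⟩,⟨0,0,[],0,0,false⟩,⟨0,0,[],0,0,false⟩,⟨0,0,[],0,0,false⟩,⟨1,2,[⟨4,0,0,0⟩,⟨0,8,14,0⟩,⟨0,64,64,0⟩],0,0,false⟩]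 [] [512,5,515,16,32,576,122,698,832,17] [([520,525,522,630,8,16,35,129,376,3],[]),([520,525,522,630,8,16,35,129,376,1],[])] [] = true := by decide +kernel
theorem c20017610 : chkLift M20234 D20234 E20014166 [520,525,522,630,8,16,33,129,257] [625,630,627,525,16,8,35,224,376] [520,525,522,630,8,16,33,129,257,1] [(1,[2,1,7,14,16,32,64,186,320]),(0,[1,2,4,8,16,32,64,128,256]),(4,[2,1,7,14,16,32,69,186,335]),(16,[1,2,4,13,16,37,112,181,495]),(8,[4,7,1,8,21,32,117,176,485]),(32,[8,14,13,1,32,16,64,128,320]),(64,[11,13,14,7,32,16,69,186,271]),(225,[13,14,8,4,37,21,122,186,431]),(377,[13,4,8,11,250,197,64,101,320]),(609,[1,2,4,13,16,32,122,186,490])] 0 [14,8,11,2,32,16,69,186,271] [⟨0,0,[],0,0,false⟩,⟨0,0,[],0,0,false⟩,⟨0,0,[],0,0,false⟩,⟨0,0,[],0,0,false⟩,⟨0,0,[],0,0,false⟩,⟨0,0,[],0,0,false⟩,⟨0,0,[],0,0,false⟩,⟨0,0,[],0,0,false⟩,⟨1,2,[⟨4,0,0,0⟩,⟨0,8,14,0⟩,⟨0,64,64,0⟩],0,0,false⟩]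 [] [512,5,515,16,32,576,122,698,832,17] [([625,630,627,525,16,8,35,224,376,3],[]),([625,630,627,525,16,8,35,224,376,1],[])] [] = true := by decide +kernel
theorem c20017914 : chkLift M20234 D20234 E20014166 [520,525,522,630,8,16,33,129,257] [627,628,625,527,16,8,35,224,378] [520,525,522,630,8,16,33,129,257,1] [(1,[2,1,7,14,16,32,64,186,320]),(0,[1,2,4,8,16,32,64,128,256]),(4,[2,1,7,14,16,32,69,186,335]),(16,[1,2,4,13,16,37,112,181,495]),(8,[4,7,1,8,21,32,117,176,485]),(32,[8,14,13,1,32,16,64,128,320]),(64,[11,13,14,7,32,16,69,186,271]),(225,[13,14,8,4,37,21,122,186,431]),(377,[13,4,8,11,250,197,64,101,320]),(609,[1,2,4,13,16,32,122,186,490])] 0 [11,13,14,7,32,16,69,186,266] [⟨0,0,[],0,0,false⟩,⟨0,0,[],0,0,false⟩,⟨0,0,[],0,0,false⟩,⟨0,0,[],0,0,false⟩,⟨0,0,[],0,0,false⟩,⟨0,0,[],0,0,false⟩,⟨0,0,[],0,0,false⟩,⟨0,0,[],0,0,false⟩,⟨1,2,[⟨4,0,0,0⟩,⟨0,8,14,0⟩,⟨0,64,64,0⟩],0,0,false⟩]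 [] [512,5,515,16,32,576,122,698,832,17] [([627,628,625,527,16,8,35,224,378,3],[]),([627,628,625,527,16,8,35,224,378,1],[])] [] = true := by decide +kernel
theorem c20018179 : chkLift M20234 D20234 E20014166 [520,525,522,630,8,16,33,129,257] [520,525,522,630,8,16,33,129,259] [520,525,522,630,8,16,33,129,257,1] [(1,[2,1,7,14,16,32,64,186,320]),(0,[1,2,4,8,16,32,64,128,256]),(4,[2,1,7,14,16,32,69,186,335]),(8,[1,2,4,13,16,37,112,181,495]),(16,[4,7,1,8,21,32,117,176,485]),(32,[8,14,13,1,32,16,64,128,320]),(64,[11,13,14,7,32,16,69,186,271]),(128,[13,14,8,4,37,21,122,186,431]),(256,[13,4,8,11,250,197,64,101,320]),(512,[1,2,4,13,16,32,122,186,490])] 0 [1,2,4,8,16,32,64,128,261] [⟨0,0,[],0,0,false⟩,⟨0,0,[],0,0,false⟩,⟨0,0,[],0,0,false⟩,⟨0,0,[],0,0,false⟩,⟨0,0,[],0,0,false⟩,⟨0,0,[],0,0,false⟩,⟨0,0,[],0,0,false⟩,⟨0,0,[],0,0,false⟩,⟨1,2,[⟨4,0,0,0⟩,⟨0,8,14,0⟩,⟨0,64,64,0⟩],0,0,false⟩]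 [] [512,5,515,16,32,576,122,698,832,17] [([520,525,522,630,8,16,33,129,259,3],[]),([520,525,522,630,8,16,33,129,259,1],[])] [] = true := by decide +kernel
theorem c20018488 : chkLift M20234 D20234 E20014166 [520,525,522,630,8,16,33,129,257] [520,525,522,630,8,16,35,129,376] [520,525,522,630,8,16,33,129,257,1] [(1,[2,1,7,14,16,32,64,186,320]),(0,[1,2,4,8,16,32,64,128,256]),(4,[2,1,7,14,16,32,69,186,335]),(8,[1,2,4,13,16,37,112,181,495]),(16,[4,7,1,8,21,32,117,176,485]),(32,[8,14,13,1,32,16,64,128,320]),(64,[11,13,14,7,32,16,69,186,271]),(128,[13,14,8,4,37,21,122,186,431]),(377,[13,4,8,11,250,197,64,101,320]),(512,[1,2,4,13,16,32,122,186,490])] 0 [1,2,4,8,16,32,69,128,271] [⟨0,0,[],0,0,false⟩,⟨0,0,[],0,0,false⟩,⟨0,0,[],0,0,false⟩,⟨0,0,[],0,0,false⟩,⟨0,0,[],0,0,false⟩,⟨0,0,[],0,0,false⟩,⟨0,0,[],0,0,false⟩,⟨0,0,[],0,0,false⟩,⟨1,2,[⟨4,0,0,0⟩,⟨0,8,14,0⟩,⟨0,64,64,0⟩],0,0,false⟩]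 [] [512,5,515,16,32,576,122,698,832,17] [([520,525,522,630,8,16,35,129,376,3],[]),([520,525,522,630,8,16,35,129,376,1],[])] [] = true := by decide +kernel
theorem c20018797 : chkLift M20234 D20234 E20014166 [520,525,522,630,8,16,33,129,257] [625,630,627,525,16,8,35,224,376] [520,525,522,630,8,16,33,129,257,1] [(1,[2,1,7,14,16,32,64,186,320]),(0,[1,2,4,8,16,32,64,128,256]),(4,[2,1,7,14,16,32,69,186,335]),(16,[1,2,4,13,16,37,112,181,495]),(8,[4,7,1,8,21,32,117,176,485]),(32,[8,14,13,1,32,16,64,128,320]),(64,[11,13,14,7,32,16,69,186,271]),(225,[13,14,8,4,37,21,122,186,431]),(377,[13,4,8,11,250,197,64,101,320]),(609,[1,2,4,13,16,32,122,186,490])] 0 [14,8,11,2,32,16,69,186,271] [⟨0,0,[],0,0,false⟩,⟨0,0,[],0,0,false⟩,⟨0,0,[],0,0,false⟩,⟨0,0,[],0,0,false⟩,⟨0,0,[],0,0,false⟩,⟨0,0,[],0,0,false⟩,⟨0,0,[],0,0,false⟩,⟨0,0,[],0,0,false⟩,⟨1,2,[⟨4,0,0,0⟩,⟨0,8,14,0⟩,⟨0,64,64,0⟩],0,0,false⟩]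 [] [512,5,515,16,32,576,122,698,832,17] [([625,630,627,525,16,8,35,224,376,3],[]),([625,630,627,525,16,8,35,224,376,1],[])] [] = true := by decide +kernel
theorem c20019095 : chkLift M20234 D20234 E20014166 [520,525,522,630,8,16,33,129,257] [627,628,625,527,16,8,35,224,378] [520,525,522,630,8,16,33,129,257,1] [(1,[2,1,7,14,16,32,64,186,320]),(0,[1,2,4,8,16,32,64,128,256]),(4,[2,1,7,14,16,32,69,186,335]),(16,[1,2,4,13,16,37,112,181,495]),(8,[4,7,1,8,21,32,117,176,485]),(32,[8,14,13,1,32,16,64,128,320]),(64,[11,13,14,7,32,16,69,186,271]),(225,[13,14,8,4,37,21,122,186,431]),(377,[13,4,8,11,250,197,64,101,320]),(609,[1,2,4,13,16,32,122,186,490])] 0 [11,13,14,7,32,16,69,186,266] [⟨0,0,[],0,0,false⟩,⟨0,0,[],0,0,false⟩,⟨0,0,[],0,0,false⟩,⟨0,0,[],0,0,false⟩,⟨0,0,[],0,0,false⟩,⟨0,0,[],0,0,false⟩,⟨0,0,[],0,0,false⟩,⟨0,0,[],0,0,false⟩,⟨1,2,[⟨4,0,0,0⟩,⟨0,8,14,0⟩,⟨0,64,64,0⟩],0,0,false⟩]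 [] [512,5,515,16,32,576,122,698,832,17] [([627,628,625,527,16,8,35,224,378,3],[]),([627,628,625,527,16,8,35,224,378,1],[])] [] = true := by decide +kernel
theorem c20019389 : chkLift M20234 D20234 E20014166 [520,525,522,630,8,16,33,129,257] [625,630,627,525,16,8,35,224,376] [520,525,522,630,8,16,33,129,257,1] [(1,[2,1,7,14,16,32,64,186,320]),(0,[1,2,4,8,16,32,64,128,256]),(4,[2,1,7,14,16,32,69,186,335]),(16,[1,2,4,13,16,37,112,181,495]),(8,[4,7,1,8,21,32,117,176,485]),(32,[8,14,13,1,32,16,64,128,320]),(64,[11,13,14,7,32,16,69,186,271]),(225,[13,14,8,4,37,21,122,186,431]),(377,[13,4,8,11,250,197,64,101,320]),(609,[1,2,4,13,16,32,122,186,490])] 0 [14,8,11,2,32,16,69,186,271] [⟨0,0,[],0,0,false⟩,⟨0,0,[],0,0,false⟩,⟨0,0,[],0,0,false⟩,⟨0,0,[],0,0,false⟩,⟨0,0,[],0,0,false⟩,⟨0,0,[],0,0,false⟩,⟨0,0,[],0,0,false⟩,⟨0,0,[],0,0,false⟩,⟨1,2,[⟨4,0,0,0⟩,⟨0,8,14,0⟩,⟨0,64,64,0⟩],0,0,false⟩]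 [] [512,5,515,16,32,576,122,698,832,17] [([625,630,627,525,16,8,35,224,376,3],[]),([625,630,627,525,16,8,35,224,376,1],[])] [] = true := by decide +kernel
theorem c20019687 : chkLift M20234 D20234 E20014166 [520,525,522,630,8,16,33,129,257] [627,628,625,527,16,8,35,224,378] [520,525,522,630,8,16,33,129,257,1] [(1,[2,1,7,14,16,32,64,186,320]),(0,[1,2,4,8,16,32,64,128,256]),(4,[2,1,7,14,16,32,69,186,335]),(16,[1,2,4,13,16,37,112,181,495]),(8,[4,7,1,8,21,32,117,176,485]),(32,[8,14,13,1,32,16,64,128,320]),(64,[11,13,14,7,32,16,69,186,271]),(225,[13,14,8,4,37,21,122,186,431]),(377,[13,4,8,11,250,197,64,101,320]),(609,[1,2,4,13,16,32,122,186,490])] 0 [11,13,14,7,32,16,69,186,266] [⟨0,0,[],0,0,false⟩,⟨0,0,[],0,0,false⟩,⟨0,0,[],0,0,false⟩,⟨0,0,[],0,0,false⟩,⟨0,0,[],0,0,false⟩,⟨0,0,[],0,0,false⟩,⟨0,0,[],0,0,false⟩,⟨0,0,[],0,0,false⟩,⟨1,2,[⟨4,0,0,0⟩,⟨0,8,14,0⟩,⟨0,64,64,0⟩],0,0,false⟩]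 [] [512,5,515,16,32,576,122,698,832,17] [([627,628,625,527,16,8,35,224,378,3],[]),([627,628,625,527,16,8,35,224,378,1],[])] [] = true := by decide +kernel
theorem c20014566 : chkCF M20234 (13,Z20014556) [1,9] = true := by decide +kernel
theorem c20016274 : chkCF M20234 (512,Z20014556) [1,9] = true := by decide +kernel
theorem c20019223 : chkDer M20234 [([528,533,530,622,24,33,137,257],[66,463,64,436,901,528,352,212])] [(0,8,[]),(2,0,[37,150,32,156,205,14,245,121]),(0,543,[]),(1,0,[58,252,63,243,189,14,154,124]),(0,1,[]),(2,0,[249,63,252,53,189,14,34,114]),(0,541,[]),(1,0,[147,32,150,47,205,14,56,119]),(0,1,[]),(0,8,[]),(0,1,[]),(2,0,[150,37,147,47,200,198,250,68]),(0,543,[]),(1,0,[252,58,249,53,184,182,144,94]),(0,1,[]),(2,0,[63,249,58,243,184,182,45,231]),(0,541,[]),(1,0,[32,147,37,156,200,198,50,141])]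 ([528,533,530,622,24,33,137,257],[528,533,530,622,24,33,137,259]) = true := by decide +kernel
theorem c20017909 : chkDer M20234 [([528,533,530,622,24,33,137,257],[59,438,57,461,901,619,354,175])] [(0,8,[]),(2,0,[42,153,47,147,205,4,245,118]),(0,543,[]),(1,0,[48,246,53,249,189,1,154,118]),(0,1,[]),(2,0,[249,58,252,48,184,1,45,114]),(0,541,[]),(1,0,[147,37,150,42,200,4,50,119]),(0,1,[]),(0,8,[]),(0,1,[]),(2,0,[147,37,150,47,205,204,245,78]),(0,543,[]),(1,0,[249,58,252,53,189,185,154,81]),(0,1,[]),(2,0,[48,246,53,252,184,188,45,232]),(0,541,[]),(1,0,[42,153,47,150,200,201,50,135])] ([528,533,530,622,24,33,137,257],[530,535,528,620,24,35,137,378]) = true := by decide +kernel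
theorem c20016475 : chkDer M20234 [([528,533,530,622,24,33,137,257],[326,33,324,90,777,461,491,670])] [(0,8,[]),(2,0,[198,58,195,48,148,150,181,72]),(0,543,[]),(1,0,[182,37,179,42,251,252,197,87]),(0,1,[]),(2,0,[37,182,32,188,251,252,62,171]),(0,541,[]),(1,0,[58,198,63,201,148,150,36,222]),(0,1,[]),(0,8,[]),(0,1,[]),(2,0,[63,195,58,201,145,2,186,102]),(0,543,[]),(1,0,[32,179,37,188,254,7,207,102]),(0,1,[]),(2,0,[179,32,182,42,254,7,49,100]),(0,541,[]),(1,0,[195,63,198,48,145,2,46,97])] ([528,533,530,622,24,33,137,257],[528,533,530,622,24,33,137,259]) = true := by decide +kernel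
theorem c20018407 : chkDer M20234 [([528,533,530,622,24,33,137,257],[326,33,324,90,777,461,491,670])] [(0,8,[]),(2,0,[198,58,195,48,148,150,181,72]),(0,543,[]),(1,0,[182,37,179,42,251,252,197,87]),(0,1,[]),(2,0,[37,182,32,188,251,252,62,171]),(0,541,[]),(1,0,[58,198,63,201,148,150,36,222]),(0,1,[]),(0,8,[]),(0,1,[]),(2,0,[63,195,58,201,145,2,186,102]),(0,543,[]),(1,0,[32,179,37,188,254,7,207,102]),(0,1,[]),(2,0,[179,32,182,42,254,7,49,100]),(0,541,[]),(1,0,[195,63,198,48,145,2,46,97])] ([528,533,530,622,24,33,137,257],[528,533,530,622,24,33,137,259]) = true := by decide +kernel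
theorem c20018774 : chkDer M20234 [([528,533,530,622,24,33,137,257],[57,438,59,461,903,528,281,173])] [(0,8,[]),(2,0,[37,156,32,150,199,1,245,118]),(0,543,[]),(1,0,[58,243,63,252,178,4,154,118]),(0,1,[]),(2,0,[252,48,249,58,183,4,34,119]),(0,541,[]),(1,0,[150,42,147,37,194,1,56,114]),(0,1,[]),(0,8,[]),(0,1,[]),(2,0,[150,42,147,32,199,195,245,68]),(0,543,[]),(1,0,[252,48,249,63,178,179,154,94]),(0,1,[]),(2,0,[58,243,63,249,183,182,34,237]),(0,541,[]),(1,0,[37,156,32,147,194,198,56,130])] ([528,533,530,622,24,33,137,257],[530,535,528,620,24,35,137,378]) = true := by decide +kernel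
theorem c20017963 : chkDer M20234 [([528,533,530,622,24,33,137,257],[627,701,625,710,168,920,898,668])] [(0,1,[]),(2,0,[18,100,23,110,111,130,151,65]),(2,0,[125,30,120,17,117,219,190,150]),(2,0,[13,4,8,14,21,63,69,213]),(0,1,[]),(1,0,[11,7,14,8,21,58,90,224]),(1,0,[20,114,17,120,117,222,203,66]),(1,0,[107,24,110,23,111,135,247,195])] ([528,533,530,622,24,33,137,257],[619,620,617,535,24,35,139,378]) = true := by decide +kernel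
theorem c20017816 : chkDer M20234 [([104,2,109,123,9,128,33,257,513],[106,123,111,121,225,9,319,206,634]),([520,525,522,630,8,16,33,129,257],[527,126,525,7,160,16,376,370,347])] [(0,455,[]),(1,0,[257,268,259,262,19,91,41,240]),(2,1,[214,209,217,212,368,152,218,69]),(1,0,[102,352,110,354,219,303,107,66]),(2,1,[271,158,261,145,165,11,264,471]),(1,0,[136,296,130,288,43,282,444,452]),(2,1,[61,9,56,3,213,406,422,161])] ([528,533,530,622,24,33,137,257],[622,124,620,5,170,494,502,760]) = true := by decide +kernel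
theorem c20018564 : chkDer M20234 [([104,2,109,123,9,128,33,257,513],[106,123,111,121,225,9,319,206,634]),([520,525,522,630,8,16,33,129,257],[525,5,527,124,8,193,376,441,290])] [(0,257,[]),(1,0,[259,268,257,260,19,64,50,128]),(2,1,[220,219,211,209,373,466,415,55]),(1,0,[108,362,100,352,217,454,184,270]),(1,1,[325,466,335,471,309,311,115,55]),(1,0,[72,220,66,222,176,181,472,119])] ([528,533,530,622,24,33,137,257],[324,286,326,357,69,64,808,466]) = true := by decide +kernel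
theorem c20017404 : chkDer M20234 [([104,2,109,123,9,128,33,257,513],[106,123,111,121,225,9,319,206,634]),([520,525,522,630,8,16,33,129,257],[628,126,630,7,193,8,376,360,347])] [(0,64,[]),(1,0,[257,262,259,270,25,66,58,136]),(2,1,[217,219,214,209,383,466,400,55]),(1,0,[110,362,102,352,211,454,176,270]),(1,1,[330,466,320,471,304,311,121,55]),(1,0,[74,212,64,214,186,181,464,125])] ([528,533,530,622,24,33,137,257],[317,359,319,284,71,64,851,464]) = true := by decide +kernel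
theorem c20016707 : chkDer M20234 [([104,2,109,123,9,128,33,257,513],[106,123,111,121,225,9,319,206,634]),([520,525,522,630,8,16,33,129,257],[527,7,525,126,8,193,376,441,288])] [(0,257,[]),(1,0,[259,268,257,260,19,64,50,128]),(2,1,[220,222,211,212,368,466,410,50]),(1,0,[108,360,100,354,219,454,186,268]),(1,1,[325,477,335,472,314,311,124,56]),(1,0,[74,212,64,214,186,181,464,125])] ([528,533,530,622,24,33,137,257],[317,359,319,284,71,64,851,464]) = true := by decide +kernel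
theorem c20016785 : chkDer M20234 [([104,2,109,123,9,128,33,257,513],[106,123,111,121,225,9,319,206,634]),([520,525,522,630,8,16,33,129,257],[7,520,5,627,8,160,345,329,33])] [(0,257,[]),(1,0,[259,268,257,260,19,64,50,128]),(1,1,[62,56,49,50,159,374,170,236]),(1,0,[110,362,102,352,219,460,186,270]),(2,1,[64,380,74,377,405,409,484,236]),(1,0,[64,214,74,212,178,191,472,119])] ([528,533,530,622,24,33,137,257],[319,284,317,359,62,66,808,466]) = true := by decide +kernel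
theorem c20018852 : chkDer M20234 [([104,2,109,123,9,128,33,257,513],[106,123,111,121,225,9,319,206,634]),([520,525,522,630,8,16,33,129,257],[5,522,7,625,8,160,345,329,35])] [(0,257,[]),(1,0,[259,268,257,260,19,64,50,128]),(1,1,[62,56,49,50,159,374,170,236]),(1,0,[108,360,100,354,219,462,186,270]),(2,1,[79,374,69,371,400,403,484,236]),(1,0,[72,220,66,222,176,181,472,119])] ([528,533,530,622,24,33,137,257],[324,286,326,357,69,64,808,466]) = true := by decide +kernel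
theorem c20018926 : chkDer M20234 [([104,2,109,123,9,128,33,257,513],[106,123,111,121,225,9,319,206,634]),([520,525,522,630,8,16,33,129,257],[126,520,124,627,193,16,345,507,90])] [(1,0,[265,268,267,260,27,64,48,128]),(1,1,[59,56,52,50,149,374,165,236]),(1,0,[108,352,100,362,219,454,178,270]),(2,1,[79,371,69,374,405,406,484,236]),(1,0,[72,222,66,220,178,183,472,119])] ([528,533,530,622,24,33,137,257],[324,357,326,286,62,59,808,466]) = true := by decide +kernel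
theorem c20017818 : chkDer M20234 [([528,533,530,622,24,33,137,257],[622,124,620,5,170,494,502,760])] [(0,1,[]),(2,0,[14,6,11,12,106,246,230,87]),(2,0,[12,13,9,2,112,188,220,231]),(2,0,[2,4,7,14,21,48,74,218]),(0,1,[]),(1,0,[1,7,4,8,21,48,80,234]),(1,0,[8,9,13,3,112,188,169,81]),(1,0,[3,11,6,4,106,246,131,161])] ([528,533,530,622,24,33,137,257],[530,535,528,620,24,33,137,257]) = true := by decide +kernel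
theorem c20017378 : chkDer M20234 [([520,525,522,630,8,16,33,129,257],[628,126,630,7,193,8,376,362,290]),([104,2,109,123,9,128,33,257,513],[106,123,111,121,225,9,319,206,634])] [(0,704,[]),(2,0,[212,220,209,214,223,335,405,256]),(2,1,[429,163,423,171,166,100,227,248]),(1,0,[306,426,312,421,425,211,469,485]),(1,1,[189,91,183,83,346,257,211,161])] ([528,533,530,622,24,33,137,257],[57,438,59,461,903,528,281,173]) = true := by decide +kernel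
theorem c20018319 : chkDer M20234 [([520,525,522,630,8,16,33,129,257],[527,7,525,126,8,193,376,443,345]),([104,2,109,123,9,128,33,257,513],[106,123,111,121,225,9,319,206,634])] [(0,704,[]),(2,0,[212,214,209,220,213,320,405,271]),(2,1,[429,171,423,163,174,102,227,250]),(1,0,[306,421,312,426,422,214,469,480]),(1,1,[189,81,183,89,336,265,209,163])] ([528,533,530,622,24,33,137,257],[57,436,59,463,901,617,354,212]) = true := by decide +kernel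
theorem c20019592 : chkDer M20234 [([520,525,522,630,8,16,33,129,257],[126,625,124,522,160,8,345,408,90]),([104,2,109,123,9,128,33,257,513],[106,123,111,121,225,9,319,206,634])] [(0,704,[]),(2,0,[230,237,227,231,224,271,314,79]),(2,1,[136,387,130,395,135,250,219,158]),(1,0,[271,414,261,401,262,480,368,307]),(1,1,[66,148,72,156,332,81,227,318])] ([528,533,530,622,24,33,137,257],[326,90,324,33,880,436,491,741]) = true := by decide +kernel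
theorem c20016917 : chkDer M20234 [([520,525,522,630,8,16,33,129,257],[7,520,5,627,8,160,345,331,88]),([104,2,109,123,9,128,33,257,513],[106,123,111,121,225,9,319,206,634])] [(0,704,[]),(2,0,[233,232,236,226,234,266,314,79]),(2,1,[138,393,128,385,143,240,219,158]),(1,0,[266,404,256,411,265,490,368,307]),(1,1,[66,156,72,148,324,83,227,316])] ([528,533,530,622,24,33,137,257],[326,33,324,90,777,461,491,670]) = true := by decide +kernel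
theorem c20014885 : chkDer M20234 [([5,643,2,741,538,121],[520,788,2,284,633,121]),([1,2,4,8,16,96,160,512],[104,2,109,123,10,11,160,619])] [(1,0,[1,5,33]),(0,1,[]),(2,1,[164,166,172]),(0,256,[]),(2,1,[235,233,138]),(2,0,[59,63,5]),(0,1,[]),(1,0,[58,62,5]),(0,32,[]),(2,1,[97,99,172]),(0,256,[]),(2,1,[59,57,138]),(2,0,[36,32,5])] ([5,7,124],[123,121,7]) = true := by decide +kernel
theorem c20015516 : chkDer M20234 [([5,643,2,741,538,121],[528,816,2,288,105,121]),([1,2,4,8,16,96,160,512],[104,2,109,123,10,11,160,619])] [(1,0,[1,5,33]),(0,1,[]),(2,1,[141,143,133]),(0,256,[]),(1,1,[138,136,235]),(2,0,[5,1,62]),(0,1,[]),(1,0,[5,1,63]),(0,32,[]),(1,1,[172,174,97]),(0,256,[]),(2,1,[169,171,59]),(2,0,[33,37,36])] ([5,7,124],[124,126,123]) = true := by decide +kernel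
theorem c20017450 : chkDer M20234 [([520,525,522,630,8,16,33,129,257],[630,124,628,5,193,8,376,362,290])] [(1,0,[1,2,4,8,16,32,64,128,256]),(0,1,[]),(2,0,[12,7,9,8,192,32,271,501,74]),(0,1,[]),(1,0,[9,4,12,14,255,32,330,437,79])] ([520,525,522,630,8,16,33,129,257],[627,628,625,527,16,8,33,224,257]) = true := by decide +kernel
theorem c20018109 : chkDer M20234 [([520,525,522,630,8,16,33,129,257],[525,5,527,124,8,193,376,441,288])] [(1,0,[1,2,4,8,16,32,64,128,256]),(0,1,[]),(2,0,[3,2,6,13,16,255,266,303,79]),(0,1,[]),(1,0,[3,1,6,11,16,192,335,362,74])] ([520,525,522,630,8,16,33,129,257],[520,525,522,630,8,16,33,129,259]) = true := by decide +kernel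
theorem c20016401 : chkDer M20234 [([520,525,522,630,8,16,33,129,257],[628,126,630,7,193,8,376,362,288])] [(1,0,[1,2,4,8,16,32,64,128,256]),(0,1,[]),(2,0,[9,7,12,8,192,32,266,496,79]),(0,1,[]),(1,0,[12,4,9,14,255,32,335,432,74])] ([520,525,522,630,8,16,33,129,257],[625,630,627,525,16,8,33,224,259]) = true := by decide +kernel
theorem c20019151 : chkDer M20234 [([520,525,522,630,8,16,33,129,257],[527,124,525,5,160,16,376,368,288])] [(1,0,[1,2,4,8,16,32,64,128,256]),(0,1,[]),(2,0,[9,7,12,8,192,32,266,496,79]),(0,1,[]),(1,0,[12,4,9,14,255,32,335,432,74])] ([520,525,522,630,8,16,33,129,257],[520,525,522,630,8,16,33,129,259]) = true := by decide +kernel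
theorem c20016922 : chkDer M20234 [([520,525,522,630,8,16,33,129,257],[7,520,5,627,8,160,345,331,90])] [(1,0,[1,2,4,8,16,32,64,128,256]),(0,1,[]),(2,0,[1,6,4,9,16,192,335,394,261]),(0,1,[]),(1,0,[2,6,7,12,16,255,266,463,325])] ([520,525,522,630,8,16,33,129,257],[520,525,522,630,8,16,33,129,259]) = true := by decide +kernel
theorem c20018410 : chkDer M20234 [([520,525,522,630,8,16,33,129,257],[7,520,5,627,8,160,345,331,90])] [(1,0,[1,2,4,8,16,32,64,128,256]),(0,1,[]),(2,0,[1,6,4,9,16,192,335,394,261]),(0,1,[]),(1,0,[2,6,7,12,16,255,266,463,325])] ([520,525,522,630,8,16,33,129,257],[520,525,522,630,8,16,33,129,259]) = true := by decide +kernel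
theorem c20019589 : chkDer M20234 [([520,525,522,630,8,16,33,129,257],[126,625,124,522,160,8,345,408,88])] [(1,0,[1,2,4,8,16,32,64,128,256]),(0,1,[]),(2,0,[4,9,1,6,255,32,330,351,261]),(0,1,[]),(1,0,[7,12,2,6,192,32,271,282,325])] ([520,525,522,630,8,16,33,129,257],[627,628,625,527,16,8,33,224,257]) = true := by decide +kernel
theorem c20016427 : chkDer M20234 [([520,525,522,630,8,16,33,129,257],[628,126,630,7,193,8,376,360,345])] [(1,0,[1,2,4,8,16,32,64,128,256]),(0,1,[]),(2,0,[9,7,12,8,197,32,256,511,64]),(0,1,[]),(1,0,[12,4,9,14,250,32,320,442,64])] ([520,525,522,630,8,16,33,129,257],[625,630,627,525,16,8,35,224,376]) = true := by decide +kernel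
theorem c20019145 : chkDer M20234 [([520,525,522,630,8,16,33,129,257],[527,124,525,5,160,16,376,370,345])] [(1,0,[1,2,4,8,16,32,64,128,256]),(0,1,[]),(2,0,[9,7,12,8,197,32,256,511,64]),(0,1,[]),(1,0,[12,4,9,14,250,32,320,442,64])] ([520,525,522,630,8,16,33,129,257],[520,525,522,630,8,16,35,129,376]) = true := by decide +kernel
theorem c20016704 : chkDer M20234 [([520,525,522,630,8,16,33,129,257],[527,7,525,126,8,193,376,443,347])] [(1,0,[1,2,4,8,16,32,64,128,256]),(0,1,[]),(2,0,[6,2,3,13,16,250,261,288,69]),(0,1,[]),(1,0,[6,1,3,11,16,197,325,352,69])] ([520,525,522,630,8,16,33,129,257],[522,527,520,628,8,16,35,129,378]) = true := by decide +kernel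
theorem c20016629 : chkDer M20234 [([520,525,522,630,8,16,33,129,257],[525,5,527,124,8,193,376,443,345])] [(1,0,[1,2,4,8,16,32,64,128,256]),(0,1,[]),(2,0,[3,2,6,13,16,250,256,293,64]),(0,1,[]),(1,0,[3,1,6,11,16,197,320,357,64])] ([520,525,522,630,8,16,33,129,257],[520,525,522,630,8,16,35,129,376]) = true := by decide +kernel
theorem c20016034 : chkDer M20234 [([5,643,2,741,538,121],[672,641,2,64,217,123]),([1,2,4,8,16,96,160,512],[104,2,109,123,10,11,160,619])] [(1,0,[1,5,33]),(0,256,[]),(1,1,[221,223,230]),(0,256,[]),(2,0,[1,5,53]),(0,1,[]),(1,0,[1,5,48]),(0,257,[]),(2,1,[251,249,59]),(2,0,[33,37,32])] ([5,7,124],[124,126,121]) = true := by decide +kernel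
theorem c20019685 : chkDer M20234 [([520,525,522,630,8,16,33,129,257],[126,625,124,522,160,8,345,410,33])] [(1,0,[1,2,4,8,16,32,64,128,256]),(0,1,[]),(2,0,[4,9,1,6,250,32,325,336,256]),(0,1,[]),(1,0,[7,12,2,6,197,32,261,272,320])] ([520,525,522,630,8,16,33,129,257],[627,628,625,527,16,8,35,224,378]) = true := by decide +kernel
theorem c20014253 : chkBig M20234 6 520 [2,5,8,113,176,273,512] = true := by decide +kernel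
theorem c20016998 : chkDer M20234 [([520,525,522,630,8,16,33,129,257],[7,520,5,627,8,160,345,329,35])] [(1,0,[1,2,4,8,16,32,64,128,256]),(0,1,[]),(2,0,[1,6,4,9,16,197,320,384,256]),(0,1,[]),(1,0,[2,6,7,12,16,250,256,448,320])] ([520,525,522,630,8,16,33,129,257],[520,525,522,630,8,16,35,129,376]) = true := by decide +kernel
theorem c20019878 : chkDer M20234 [([104,2,109,123,9,128,33,257,513],[106,123,111,121,225,9,319,206,632])] [(0,1,[]),(1,0,[3,2,6,10,16,51,64,192,261]),(0,1,[]),(1,0,[11,10,14,2,32,51,156,248,266])] ([104,2,109,123,9,128,33,257,513],[104,2,109,123,9,128,33,257,634]) = true := by decide +kernel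
theorem c20016602 : chkDer M20234 [([1,2,4,8,16,96],[11,2,14,8,121,104]),([5,643,2,741,538,121,617],[520,284,2,877,116,121,710]),([1,2,4,8,16,96,160,512],[104,2,109,123,10,11,160,619])] [(0,256,[]),(1,0,[60,62,7]),(1,1,[94,90,5]),(0,64,[]),(1,2,[16,18,177]),(2,1,[90,94,91]),(1,0,[23,21,18])] ([5,7,124],[126,124,123]) = true := by decide +kernel
theorem c20018526 : chkDer M20234 [([1,2,4,8,16,96],[11,2,14,8,121,104]),([5,643,2,741,538,121,617],[528,816,2,345,196,123,622]),([1,2,4,8,16,96,160,512],[104,2,109,123,10,11,160,619])] [(0,256,[]),(1,0,[60,62,7]),(1,1,[94,90,5]),(0,64,[]),(2,2,[16,18,130]),(2,1,[90,94,95]),(1,0,[23,21,16])] ([5,7,124],[126,124,121]) = true := by decide +kernel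
theorem c20016713 : chkDer M20234 [([1,2,4,8,16,96],[11,2,14,8,121,104]),([520,525,522,630,8,16,33,129,257],[527,7,525,126,517,693,376,798,345]),([1,2,4,8,16,96,160,512],[104,2,109,123,10,11,160,619]),([1,2,4,8,16,96,160],[104,2,109,123,10,11,160])] [(0,256,[]),(1,0,[60,62,7]),(0,256,[]),(1,1,[204,201,12]),(1,2,[21,23,177]),(1,1,[22,19,20]),(1,3,[15,13,8])] ([5,7,124],[124,126,123]) = true := by decide +kernel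
theorem c20018804 : chkDer M20234 [([1,2,4,8,16,96],[11,2,14,8,121,104]),([5,643,2,741,538,121,617],[672,33,2,665,716,121,533]),([520,525,522,630,8,16,33,129,257],[628,126,630,7,693,517,376,950,290]),([1,2,4,8,16,96,160,512],[104,2,109,123,10,11,160,619])] [(0,256,[]),(1,0,[60,62,7]),(1,1,[94,90,5]),(1,2,[43,46,212]),(1,3,[10,8,172]),(1,2,[10,15,13])] ([5,7,124],[121,123,5]) = true := by decide +kernel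
theorem c20018722 : chkDer M20234 [([1,2,4,8,16,96,160],[104,2,109,123,10,11,160]),([520,525,522,630,8,16,33,129,257],[628,126,630,7,189,13,257,278,347]),([1,2,4,8,16,96,160,512],[104,2,109,123,10,11,160,619]),([5,643,2,741,538,121,617],[672,33,2,665,716,121,535])] [(2,0,[5,7,15]),(2,1,[13,8,37]),(2,2,[172,174,59]),(2,1,[222,219,15]),(2,3,[37,33,36])] ([5,7,124],[126,124,123]) = true := by decide +kernel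
theorem c20019314 : chkDer M20234 [([1,2,4,8,16,96,160],[104,2,109,123,10,11,160]),([520,525,522,630,8,16,33,129,257],[628,126,630,7,189,13,257,278,347]),([1,2,4,8,16,96,160,512],[104,2,109,123,10,11,160,619]),([5,643,2,741,538,121,617],[672,641,2,57,716,121,535])] [(2,0,[5,7,15]),(2,1,[13,8,37]),(2,2,[172,174,59]),(2,1,[222,219,15]),(2,3,[37,33,36])] ([5,7,124],[126,124,123]) = true := by decide +kernel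
theorem c20016436 : chkDer M20234 [([1,2,4,8,16,96],[11,2,14,8,121,104]),([520,525,522,630,8,16,33,129,257],[628,126,630,7,693,517,376,950,290]),([1,2,4,8,16,96,160,512],[104,2,109,123,10,11,160,619]),([1,2,4,8,16,96,160],[104,2,109,123,10,11,160])] [(0,256,[]),(1,0,[60,62,7]),(1,1,[35,38,6]),(2,2,[23,21,163]),(1,1,[38,35,43]),(1,3,[15,13,10])] ([5,7,124],[124,126,121]) = true := by decide +kernel
theorem c20017410 : chkDer M20234 [([1,2,4,8,16,96],[11,2,14,8,121,104]),([520,525,522,630,8,16,33,129,257],[628,126,630,7,693,517,376,950,290]),([1,2,4,8,16,96,160,512],[104,2,109,123,10,11,160,619]),([1,2,4,8,16,96,160],[104,2,109,123,10,11,160])] [(0,256,[]),(1,0,[60,62,7]),(1,1,[35,38,6]),(2,2,[23,21,163]),(1,1,[38,35,43]),(1,3,[15,13,10])] ([5,7,124],[124,126,121]) = true := by decide +kernel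
theorem c20018780 : chkDer M20234 [([1,2,4,8,16,96],[11,2,14,8,121,104]),([5,643,2,741,538,121,617],[672,33,2,665,716,121,533]),([520,525,522,630,8,16,33,129,257],[628,126,630,7,693,517,376,948,347]),([1,2,4,8,16,96,160,512],[104,2,109,123,10,11,160,619])] [(0,256,[]),(1,0,[60,62,7]),(1,1,[94,90,5]),(1,2,[43,46,212]),(1,3,[10,8,174]),(1,2,[10,15,8])] ([5,7,124],[121,123,7]) = true := by decide +kernel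
theorem c20018914 : chkDer M20234 [([1,2,4,8,16,96],[11,2,14,8,121,104]),([5,643,2,741,538,121,617],[672,33,2,665,716,123,628]),([1,2,4,8,16,96,160,512],[104,2,109,123,10,11,160,619]),([520,525,522,630,8,16,33,129,257],[126,520,124,627,189,21,345,391,90]),([1,2,4,8,16,96,160],[104,2,109,123,10,11,160])] [(1,0,[5,7,60]),(1,1,[1,5,94]),(2,2,[243,241,179]),(1,3,[203,206,11]),(1,4,[8,10,7])] ([5,7,124],[123,121,7]) = true := by decide +kernel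
theorem c20016334 : chkDer M20234 [([1,2,4,8,16,96],[11,2,14,8,121,104]),([520,525,522,630,8,16,33,129,257],[630,124,628,5,693,517,376,948,347]),([1,2,4,8,16,96,160,512],[104,2,109,123,10,11,160,619]),([1,2,4,8,16,96,160],[104,2,109,123,10,11,160])] [(0,256,[]),(1,0,[60,62,7]),(1,1,[35,38,6]),(2,2,[23,21,163]),(1,1,[38,35,43]),(1,3,[15,13,8])] ([5,7,124],[124,126,123]) = true := by decide +kernel
theorem c20017456 : chkDer M20234 [([1,2,4,8,16,96],[11,2,14,8,121,104]),([520,525,522,630,8,16,33,129,257],[630,124,628,5,693,517,376,948,347]),([1,2,4,8,16,96,160,512],[104,2,109,123,10,11,160,619]),([1,2,4,8,16,96,160],[104,2,109,123,10,11,160])] [(0,256,[]),(1,0,[60,62,7]),(1,1,[35,38,6]),(2,2,[23,21,163]),(1,1,[38,35,43]),(1,3,[15,13,8])] ([5,7,124],[124,126,123]) = true := by decide +kernel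
theorem c20018640 : chkDer M20234 [([1,2,4,8,16,96],[11,2,14,8,121,104]),([520,525,522,630,8,16,33,129,257],[630,124,628,5,693,517,376,948,347]),([1,2,4,8,16,96,160,512],[104,2,109,123,10,11,160,619]),([1,2,4,8,16,96,160],[104,2,109,123,10,11,160])] [(0,256,[]),(1,0,[60,62,7]),(1,1,[35,38,6]),(2,2,[23,21,163]),(1,1,[38,35,43]),(1,3,[15,13,8])] ([5,7,124],[124,126,123]) = true := by decide +kernel
theorem c20019600 : chkDer M20234 [([1,2,4,8,16,96],[11,2,14,8,121,104]),([520,525,522,630,8,16,33,129,257],[126,625,124,522,220,13,288,413,90]),([1,2,4,8,16,96,160,512],[104,2,109,123,10,11,160,619]),([5,643,2,741,538,121,617],[672,641,2,57,108,121,183]),([1,2,4,8,16,96,160],[104,2,109,123,10,11,160])] [(1,0,[5,7,60]),(2,1,[14,11,197]),(1,2,[177,179,66]),(2,3,[117,113,116]),(1,4,[13,15,8])] ([5,7,124],[126,124,123])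 = true := by decide +kernel
theorem c20017593 : chkDer M20234 [([1,2,4,8,16,96],[11,2,14,8,121,104]),([520,525,522,630,8,16,33,129,257],[5,625,7,522,609,713,345,904,33]),([1,2,4,8,16,96,160,512],[104,2,109,123,10,11,160,619]),([1,2,4,8,16,96,160],[104,2,109,123,10,11,160])] [(0,256,[]),(1,0,[60,62,7]),(2,1,[19,22,4]),(2,2,[23,21,163]),(2,1,[22,19,21]),(1,3,[15,13,10])] ([5,7,124],[124,126,121]) = true := by decide +kernel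
theorem c20019017 : chkDer M20234 [([1,2,4,8,16,96],[11,2,14,8,121,104]),([520,525,522,630,8,16,33,129,257],[126,625,124,522,721,512,288,826,88]),([1,2,4,8,16,96,160,512],[104,2,109,123,10,11,160,619]),([1,2,4,8,16,96,160],[104,2,109,123,10,11,160])] [(0,256,[]),(1,0,[60,62,7]),(1,1,[35,38,6]),(2,2,[23,21,166]),(1,1,[38,35,40]),(1,3,[15,13,10])] ([5,7,124],[124,126,121]) = true := by decide +kernel
theorem c20019609 : chkDer M20234 [([1,2,4,8,16,96],[11,2,14,8,121,104]),([520,525,522,630,8,16,33,129,257],[126,625,124,522,721,512,288,826,88]),([1,2,4,8,16,96,160,512],[104,2,109,123,10,11,160,619]),([1,2,4,8,16,96,160],[104,2,109,123,10,11,160])] [(0,256,[]),(1,0,[60,62,7]),(1,1,[35,38,6]),(2,2,[23,21,166]),(1,1,[38,35,40]),(1,3,[15,13,10])] ([5,7,124],[124,126,121]) = true := by decide +kernel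
theorem c20017671 : chkDer M20234 [([1,2,4,8,16,96],[11,2,14,8,121,104]),([5,643,2,741,538,121,617],[528,288,2,841,636,123,710]),([520,525,522,630,8,16,33,129,257],[527,124,525,5,685,612,376,983,288]),([1,2,4,8,16,96,160,512],[104,2,109,123,10,11,160,619])] [(1,0,[5,7,60]),(2,1,[110,106,49]),(2,2,[11,14,37]),(2,3,[171,169,59]),(2,1,[33,37,32])] ([5,7,124],[124,126,121]) = true := by decide +kernel
theorem c20018873 : chkDer M20234 [([1,2,4,8,16,96],[11,2,14,8,121,104]),([520,525,522,630,8,16,33,129,257],[5,522,7,625,13,220,288,309,33]),([1,2,4,8,16,96,160,512],[104,2,109,123,10,11,160,619]),([5,643,2,741,538,121,617],[672,33,2,665,716,123,630]),([1,2,4,8,16,96,160],[104,2,109,123,10,11,160])] [(1,0,[5,7,60]),(2,1,[1,4,255]),(2,2,[161,163,97]),(2,3,[117,113,116]),(1,4,[13,15,8])] ([5,7,124],[126,124,123])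 = true := by decide +kernel
theorem c20019029 : chkDer M20234 [([1,2,4,8,16,96],[11,2,14,8,121,104]),([520,525,522,630,8,16,33,129,257],[126,625,124,522,220,13,288,415,33]),([1,2,4,8,16,96,160,512],[104,2,109,123,10,11,160,619]),([5,643,2,741,538,121,617],[672,33,2,665,108,121,183]),([1,2,4,8,16,96,160],[104,2,109,123,10,11,160])] [(1,0,[5,7,60]),(2,1,[14,11,192]),(1,2,[177,179,64]),(2,3,[117,113,112]),(1,4,[13,15,10])] ([5,7,124],[126,124,121]) = true := by decide +kernel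
theorem c20019159 : chkDer M20234 [([1,2,4,8,16,96,160],[104,2,109,123,10,11,160]),([5,643,2,741,538,121,617],[672,33,2,665,108,123,214]),([520,525,522,630,8,16,33,129,257],[527,124,525,5,685,612,376,983,288]),([1,2,4,8,16,96,160,512],[104,2,109,123,10,11,160,619])] [(2,0,[5,7,15]),(1,1,[1,5,113]),(1,2,[209,212,43]),(2,3,[141,143,57]),(1,2,[2,7,10])] ([5,7,124],[124,126,121]) = true := by decide +kernel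
theorem c20019751 : chkDer M20234 [([1,2,4,8,16,96,160],[104,2,109,123,10,11,160]),([5,643,2,741,538,121,617],[672,641,2,57,108,123,214]),([520,525,522,630,8,16,33,129,257],[527,124,525,5,685,612,376,983,288]),([1,2,4,8,16,96,160,512],[104,2,109,123,10,11,160,619])] [(2,0,[5,7,15]),(1,1,[1,5,113]),(1,2,[209,212,43]),(2,3,[141,143,57]),(1,2,[2,7,10])] ([5,7,124],[124,126,121]) = true := by decide +kernel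
theorem c20018534 : chkDer M20234 [([1,2,4,8,16,96,160,512],[104,2,109,123,10,11,160,619]),([5,643,2,741,538,121,617],[528,816,2,345,196,123,126])] [(0,1,[]),(1,0,[141,136,143,177]),(1,1,[97,96,101,59]),(2,0,[141,5,143,60])] ([520,525,522,630],[525,5,527,124]) = true := by decide +kernel
theorem c20018946 : chkDer M20234 [([1,2,4,8,16,96],[11,2,14,8,121,104]),([520,525,522,630,8,16,33,129,257],[126,520,124,627,693,612,288,860,90]),([1,2,4,8,16,96,160,512],[104,2,109,123,10,11,160,619]),([5,643,2,741,538,121,617],[672,33,2,665,716,123,628])] [(1,0,[5,7,60]),(1,1,[3,6,35]),(2,2,[172,174,57]),(2,3,[79,75,36]),(1,1,[4,1,15])] ([5,7,124],[124,126,123]) = true := by decide +kernel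
theorem c20019456 : chkDer M20234 [([1,2,4,8,16,96,160],[104,2,109,123,10,11,160]),([520,525,522,630,8,16,33,129,257],[5,522,7,625,517,685,288,917,35]),([1,2,4,8,16,96,160,512],[104,2,109,123,10,11,160,619]),([5,643,2,741,538,121,617],[672,641,2,57,716,123,630])] [(2,0,[5,7,15]),(1,1,[3,6,22]),(1,2,[143,141,8]),(2,3,[107,111,32]),(1,1,[11,14,10])] ([5,7,124],[124,126,121]) = true := by decide +kernel
theorem c20019842 : chkDer M20234 [([1,2,4,8,16,96,160],[104,2,109,123,10,11,160]),([520,525,522,630,8,16,33,129,257],[527,5,525,124,13,189,257,444,347]),([1,2,4,8,16,96,160,512],[104,2,109,123,10,11,160,619]),([5,643,2,741,538,121,617],[672,641,2,57,108,123,212])] [(2,0,[5,7,15]),(2,1,[2,7,21]),(1,2,[141,143,10]),(2,3,[106,110,36]),(1,1,[8,13,15])] ([5,7,124],[124,126,123]) = true := by decide +kernel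
theorem c20018882 : chkDer M20234 [([1,2,4,8,16,96],[11,2,14,8,121,104]),([5,643,2,741,538,121,617],[672,33,2,665,716,123,630]),([520,525,522,630,8,16,33,129,257],[5,522,7,625,512,721,288,914,35]),([1,2,4,8,16,96,160,512],[104,2,109,123,10,11,160,619])] [(1,0,[5,7,60]),(1,1,[1,5,94]),(2,2,[61,56,21]),(1,3,[174,172,10]),(2,2,[12,9,10])] ([5,7,124],[126,124,121]) = true := by decide +kernel
theorem c20019084 : chkDer M20234 [([1,2,4,8,16,96],[11,2,14,8,121,104]),([520,525,522,630,8,16,33,129,257],[126,625,124,522,685,517,288,838,35]),([1,2,4,8,16,96,160,512],[104,2,109,123,10,11,160,619]),([5,643,2,741,538,121,617],[672,33,2,665,108,121,181])] [(1,0,[5,7,60]),(1,1,[3,6,35]),(1,2,[141,143,8]),(1,1,[50,55,15]),(2,3,[33,37,36])] ([5,7,124],[124,126,123]) = true := by decide +kernel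
theorem c20019606 : chkDer M20234 [([1,2,4,8,16,96],[11,2,14,8,121,104]),([520,525,522,630,8,16,33,129,257],[126,625,124,522,685,517,288,838,35]),([1,2,4,8,16,96,160,512],[104,2,109,123,10,11,160,619]),([5,643,2,741,538,121,617],[672,641,2,57,108,121,183])] [(1,0,[5,7,60]),(1,1,[3,6,35]),(1,2,[141,143,8]),(1,1,[50,55,15]),(2,3,[33,37,36])] ([5,7,124],[124,126,123]) = true := by decide +kernel
theorem c20016490 : chkDer M20234 [([1,2,4,8,16,96],[11,2,14,8,121,104]),([5,643,2,741,538,121,617],[520,284,2,877,636,123,527]),([520,525,522,630,8,16,33,129,257],[7,520,5,627,13,220,288,311,90])] [(0,256,[]),(1,0,[60,62,7]),(1,1,[94,90,5]),(1,2,[251,254,4]),(1,0,[18,16,5])] ([5,7,124],[123,121,5]) = true := by decide +kernel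
theorem c20016934 : chkDer M20234 [([1,2,4,8,16,96],[11,2,14,8,121,104]),([5,643,2,741,538,121,617],[520,788,2,357,636,121,527]),([520,525,522,630,8,16,33,129,257],[7,520,5,627,13,220,288,311,90])] [(0,256,[]),(1,0,[60,62,7]),(1,1,[94,90,5]),(1,2,[251,254,4]),(1,0,[18,16,5])] ([5,7,124],[123,121,5]) = true := by decide +kernel
theorem c20016873 : chkDer M20234 [([5,643,2,741,538,121,617],[520,284,2,877,116,123,5]),([1,2,4,8,16,96,160,512],[104,2,109,123,10,11,160,619]),([520,525,522,630,8,16,33,129,257],[7,520,5,627,512,721,288,914,33]),([1,2,4,8,16,96,160],[104,2,109,123,10,11,160])] [(2,0,[64,68,100]),(0,1,[]),(2,1,[133,135,143]),(1,2,[18,23,7]),(2,0,[116,112,5]),(1,3,[8,10,7])] ([5,7,124],[123,121,7]) = true := by decide +kernel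
theorem c20018949 : chkDer M20234 [([1,2,4,8,16,96,160],[104,2,109,123,10,11,160]),([5,643,2,741,538,121,617],[672,33,2,665,716,123,628]),([520,525,522,630,8,16,33,129,257],[126,520,124,627,713,609,345,859,33]),([1,2,4,8,16,96,160,512],[104,2,109,123,10,11,160,619])] [(2,0,[5,7,15]),(1,1,[1,5,113]),(2,2,[55,50,32]),(2,3,[143,141,57]),(2,2,[9,12,10])] ([5,7,124],[124,126,121]) = true := by decide +kernel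
theorem c20019253 : chkDer M20234 [([1,2,4,8,16,96],[11,2,14,8,121,104]),([5,643,2,741,538,121,617],[672,33,2,665,108,123,212]),([520,525,522,630,8,16,33,129,257],[527,5,525,124,517,693,376,798,345]),([1,2,4,8,16,96,160,512],[104,2,109,123,10,11,160,619])] [(1,0,[5,7,60]),(1,1,[1,5,94]),(1,2,[209,212,17]),(1,3,[174,172,10]),(1,2,[8,13,10])] ([5,7,124],[124,126,121]) = true := by decide +kernel
theorem c20019763 : chkDer M20234 [([1,2,4,8,16,96],[11,2,14,8,121,104]),([520,525,522,630,8,16,33,129,257],[527,124,525,5,220,21,376,375,288]),([1,2,4,8,16,96,160,512],[104,2,109,123,10,11,160,619]),([5,643,2,741,538,121,617],[672,641,2,57,108,123,214])] [(1,0,[5,7,60]),(2,1,[8,13,32]),(2,2,[174,172,57]),(2,3,[78,74,36]),(1,1,[7,2,15])] ([5,7,124],[126,124,123]) = true := by decide +kernel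
theorem c20018139 : chkDer M20234 [([1,2,4,8,16,96],[11,2,14,8,121,104]),([5,643,2,741,538,121,617],[528,816,2,345,724,121,703]),([520,525,522,630,8,16,33,129,257],[525,5,527,124,517,693,376,798,345]),([1,2,4,8,16,96,160,512],[104,2,109,123,10,11,160,619])] [(0,256,[]),(1,0,[60,62,7]),(2,1,[58,62,78]),(2,2,[21,16,4]),(1,3,[10,8,138]),(2,1,[32,36,5])] ([5,7,124],[121,123,7]) = true := by decide +kernel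
theorem c20019775 : chkDer M20234 [([1,2,4,8,16,96],[11,2,14,8,121,104]),([5,643,2,741,538,121,617],[672,641,2,57,108,123,214]),([1,2,4,8,16,96,160,512],[104,2,109,123,10,11,160,619]),([520,525,522,630,8,16,33,129,257],[527,124,525,5,721,609,257,939,288]),([1,2,4,8,16,96,160],[104,2,109,123,10,11,160])] [(1,0,[5,7,60]),(1,1,[1,5,94]),(2,2,[243,241,177]),(2,3,[21,16,3]),(1,4,[10,8,5])] ([5,7,124],[121,123,5]) = true := by decide +kernel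
theorem c20016646 : chkDer M20234 [([1,2,4,8,16,96],[11,2,14,8,121,104]),([5,643,2,741,538,121,617],[520,284,2,877,116,121,206]),([520,525,522,630,8,16,33,129,257],[525,5,527,124,13,189,257,446,290]),([1,2,4,8,16,96,160],[104,2,109,123,10,11,160])] [(0,256,[]),(1,0,[60,62,7]),(1,1,[94,90,5]),(0,1,[]),(1,2,[23,18,7]),(1,3,[10,8,7])] ([5,7,124],[121,123,7]) = true := by decide +kernel
theorem c20016502 : chkDer M20234 [([1,2,4,8,16,96,160],[104,2,109,123,10,11,160]),([5,643,2,741,538,121,617],[520,284,2,877,636,123,527]),([520,525,522,630,8,16,33,129,257],[7,520,5,627,512,721,288,914,35]),([1,2,4,8,16,96,160,512],[104,2,109,123,10,11,160,619])] [(2,0,[5,7,15]),(1,1,[1,5,113]),(2,2,[2,7,21]),(1,3,[141,143,10]),(1,1,[97,101,32])] ([5,7,124],[124,126,123]) = true := by decide +kernel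
theorem c20018115 : chkDer M20234 [([1,2,4,8,16,96],[11,2,14,8,121,104]),([5,643,2,741,538,121,617],[528,816,2,345,724,121,703]),([520,525,522,630,8,16,33,129,257],[525,5,527,124,13,189,257,446,288]),([1,2,4,8,16,96,160],[104,2,109,123,10,11,160])] [(0,256,[]),(1,0,[60,62,7]),(2,1,[58,62,78]),(1,2,[23,18,7]),(1,3,[10,8,7])] ([5,7,124],[121,123,7]) = true := by decide +kernel
theorem c20017369 : chkDer M20234 [([1,2,4,8,16,96],[11,2,14,8,121,104]),([5,643,2,741,538,121,617],[520,788,2,357,116,123,206]),([520,525,522,630,8,16,33,129,257],[628,126,630,7,189,13,257,276,288]),([1,2,4,8,16,96,160],[104,2,109,123,10,11,160])] [(0,256,[]),(1,0,[60,62,7]),(1,1,[94,90,5]),(0,32,[]),(1,2,[45,40,13]),(1,3,[8,10,5])] ([5,7,124],[123,121,5]) = true := by decide +kernel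
theorem c20019554 : chkDer M20234 [([5,643,2,741,538,121,617],[672,641,2,57,716,123,214]),([1,2,4,8,16,96,160,512],[104,2,109,123,10,11,160,619]),([1,2,4,8,16,96],[11,2,14,8,121,104])] [(1,0,[1,5,33]),(0,1,[]),(1,1,[230,228,221]),(0,256,[]),(2,0,[95,91,1]),(1,2,[16,18,5])] ([5,7,124],[121,123,5]) = true := by decide +kernel
theorem c20018495 : chkDer M20234 [([1,2,4,8,16,96],[11,2,14,8,121,104]),([5,643,2,741,538,121,617],[528,816,2,345,196,121,173]),([520,525,522,630,8,16,33,129,257],[5,520,7,627,13,220,288,309,33]),([1,2,4,8,16,96,160],[104,2,109,123,10,11,160])] [(0,256,[]),(1,0,[60,62,7]),(2,1,[63,59,79]),(1,2,[17,20,4]),(1,3,[8,10,7])] ([5,7,124],[123,121,7]) = true := by decide +kernel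
theorem c20018970 : chkDer M20234 [([5,643,2,741,538,121,617],[672,33,2,665,108,121,535]),([1,2,4,8,16,96,160,512],[104,2,109,123,10,11,160,619]),([1,2,4,8,16,96,160],[104,2,109,123,10,11,160])] [(1,0,[1,5,33]),(0,1,[]),(1,1,[230,228,223]),(0,256,[]),(2,0,[116,112,5]),(1,2,[8,10,7])] ([5,7,124],[123,121,7]) = true := by decide +kernel
theorem c20016575 : chkDer M20234 [([1,2,4,8,16,96,160],[104,2,109,123,10,11,160]),([5,643,2,741,538,121,617],[520,284,2,877,636,123,525]),([520,525,522,630,8,16,33,129,257],[7,520,5,627,512,721,288,912,88]),([1,2,4,8,16,96,160,512],[104,2,109,123,10,11,160,619])] [(2,0,[5,7,15]),(1,1,[1,5,113]),(2,2,[2,7,16]),(1,3,[141,143,8]),(1,1,[97,101,36])] ([5,7,124],[126,124,121]) = true := by decide +kernel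
theorem c20017623 : chkDer M20234 [([1,2,4,8,16,96,160],[104,2,109,123,10,11,160]),([520,525,522,630,8,16,33,129,257],[5,625,7,522,612,693,288,1012,88]),([1,2,4,8,16,96,160,512],[104,2,109,123,10,11,160,619]),([5,643,2,741,538,121,617],[528,288,2,841,636,121,533])] [(0,256,[]),(2,0,[15,13,7]),(1,1,[22,19,6]),(2,2,[59,57,174]),(1,3,[36,32,69])] ([5,7,124],[123,121,7]) = true := by decide +kernel
theorem c20018425 : chkDer M20234 [([1,2,4,8,16,96],[11,2,14,8,121,104]),([5,643,2,741,538,121,617],[528,816,2,345,196,121,175]),([520,525,522,630,8,16,33,129,257],[7,520,5,627,13,220,288,309,33]),([1,2,4,8,16,96,160],[104,2,109,123,10,11,160])] [(0,256,[]),(1,0,[60,62,7]),(2,1,[63,59,75]),(1,2,[17,20,1]),(1,3,[10,8,7])] ([5,7,124],[121,123,7]) = true := by decide +kernel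
theorem c20018191 : chkDer M20234 [([1,2,4,8,16,96],[11,2,14,8,121,104]),([5,643,2,741,538,121,617],[528,816,2,345,724,121,701]),([520,525,522,630,8,16,33,129,257],[525,7,527,126,13,189,257,444,345]),([1,2,4,8,16,96,160],[104,2,109,123,10,11,160])] [(0,256,[]),(1,0,[60,62,7]),(2,1,[58,62,74]),(1,2,[23,18,2]),(1,3,[8,10,7])] ([5,7,124],[123,121,7]) = true := by decide +kernel
theorem c20017323 : chkDer M20234 [([5,643,2,741,538,121,617],[520,788,2,357,116,121,5]),([1,2,4,8,16,96,160,512],[104,2,109,123,10,11,160,619]),([520,525,522,630,8,16,33,129,257],[7,520,5,627,512,721,288,912,88]),([1,2,4,8,16,96,160],[104,2,109,123,10,11,160])] [(2,0,[64,68,96]),(0,1,[]),(2,1,[133,135,141]),(1,2,[18,23,2]),(2,0,[112,116,1]),(1,3,[10,8,5])] ([5,7,124],[121,123,5]) = true := by decide +kernel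
theorem c20019375 : chkDer M20234 [([1,2,4,8,16,96],[11,2,14,8,121,104]),([5,643,2,741,538,121,617],[672,641,2,57,716,121,533]),([1,2,4,8,16,96,160,512],[104,2,109,123,10,11,160,619]),([520,525,522,630,8,16,33,129,257],[628,126,630,7,713,512,376,947,345]),([1,2,4,8,16,96,160],[104,2,109,123,10,11,160])] [(1,0,[5,7,60]),(1,1,[1,5,94]),(1,2,[192,194,163]),(2,3,[21,16,6]),(1,4,[10,8,7])] ([5,7,124],[121,123,7]) = true := by decide +kernel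
theorem c20017527 : chkDer M20234 [([1,2,4,8,16,96,160],[104,2,109,123,10,11,160]),([520,525,522,630,8,16,33,129,257],[5,627,7,520,612,693,288,1014,33]),([1,2,4,8,16,96,160,512],[104,2,109,123,10,11,160,619]),([5,643,2,741,538,121,617],[528,288,2,841,636,121,535])] [(0,256,[]),(2,0,[15,13,7]),(1,1,[22,19,6]),(2,2,[57,59,172]),(1,3,[32,36,65])] ([5,7,124],[121,123,7]) = true := by decide +kernel
theorem c20016372 : chkDer M20234 [([1,2,4,8,16,96],[11,2,14,8,121,104]),([5,643,2,741,538,121,617],[520,284,2,877,636,121,710]),([520,525,522,630,8,16,33,129,257],[630,124,628,5,713,512,376,947,347])] [(0,256,[]),(1,0,[60,62,7]),(1,1,[94,90,5]),(2,2,[37,32,6]),(1,0,[18,16,7])] ([5,7,124],[123,121,7]) = true := by decide +kernel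
theorem c20016664 : chkDer M20234 [([1,2,4,8,16,96],[11,2,14,8,121,104]),([5,643,2,741,538,121,617],[520,284,2,877,116,121,206]),([520,525,522,630,8,16,33,129,257],[525,5,527,124,512,713,376,864,347]),([1,2,4,8,16,96,160],[104,2,109,123,10,11,160])] [(0,256,[]),(1,0,[60,62,7]),(1,1,[94,90,5]),(2,2,[21,16,6]),(1,3,[10,8,7])] ([5,7,124],[121,123,7]) = true := by decide +kernel
theorem c20017112 : chkDer M20234 [([1,2,4,8,16,96],[11,2,14,8,121,104]),([5,643,2,741,538,121,617],[520,788,2,357,636,123,710]),([520,525,522,630,8,16,33,129,257],[630,124,628,5,713,512,376,947,347])] [(0,256,[]),(1,0,[60,62,7]),(1,1,[94,90,5]),(2,2,[37,32,6]),(1,0,[18,16,7])] ([5,7,124],[123,121,7]) = true := by decide +kernel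
theorem c20017416 : chkDer M20234 [([1,2,4,8,16,96],[11,2,14,8,121,104]),([5,643,2,741,538,121,617],[520,788,2,357,116,123,206]),([520,525,522,630,8,16,33,129,257],[628,126,630,7,713,512,376,945,290])] [(0,256,[]),(1,0,[60,62,7]),(1,1,[94,90,5]),(2,2,[37,32,6]),(1,0,[18,16,7])] ([5,7,124],[123,121,7]) = true := by decide +kernel
theorem c20017692 : chkDer M20234 [([1,2,4,8,16,96],[11,2,14,8,121,104]),([5,643,2,741,538,121,617],[528,288,2,841,636,123,710]),([520,525,522,630,8,16,33,129,257],[527,124,525,5,220,21,376,373,347])] [(0,256,[]),(1,0,[60,62,7]),(2,1,[49,53,106]),(1,2,[40,45,8]),(1,0,[16,18,5])] ([5,7,124],[121,123,5]) = true := by decide +kernel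
theorem c20017833 : chkDer M20234 [([1,2,4,8,16,96],[11,2,14,8,121,104]),([520,525,522,630,8,16,33,129,257],[527,126,525,7,721,609,257,937,345]),([1,2,4,8,16,96,160,512],[104,2,109,123,10,11,160,619]),([5,643,2,741,538,121,617],[528,288,2,841,108,121,7])] [(1,0,[5,7,60]),(1,1,[3,6,35]),(2,2,[171,169,59]),(2,3,[37,33,36])] ([5,7,124],[126,124,123]) = true := by decide +kernel
theorem c20018737 : chkDer M20234 [([1,2,4,8,16,96],[11,2,14,8,121,104]),([5,643,2,741,538,121,617],[672,33,2,665,716,121,535]),([1,2,4,8,16,96,160,512],[104,2,109,123,10,11,160,619]),([520,525,522,630,8,16,33,129,257],[628,126,630,7,713,512,376,945,288]),([1,2,4,8,16,96,160],[104,2,109,123,10,11,160])] [(1,0,[5,7,60]),(1,1,[1,5,94]),(1,2,[192,194,161]),(2,3,[21,16,3]),(1,4,[10,8,5])] ([5,7,124],[121,123,5]) = true := by decide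 +kernel
theorem c20016421 : chkDer M20234 [([1,2,4,8,16,96,160],[104,2,109,123,10,11,160]),([5,643,2,741,538,121,617],[520,284,2,877,636,121,708]),([520,525,522,630,8,16,33,129,257],[628,126,630,7,189,13,257,278,345])] [(0,256,[]),(2,0,[15,13,7]),(2,1,[49,53,106]),(1,2,[40,45,8]),(1,0,[10,8,7])] ([5,7,124],[121,123,7]) = true := by decide +kernel
theorem c20017701 : chkDer M20234 [([1,2,4,8,16,96],[11,2,14,8,121,104]),([520,525,522,630,8,16,33,129,257],[527,124,525,5,721,609,257,937,345]),([1,2,4,8,16,96,160,512],[104,2,109,123,10,11,160,619]),([5,643,2,741,538,121,617],[528,288,2,841,636,123,710])] [(1,0,[5,7,60]),(1,1,[3,6,35]),(2,2,[169,171,57]),(2,3,[37,33,36])] ([5,7,124],[126,124,123]) = true := by decide +kernel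
theorem c20017990 : chkDer M20234 [([1,2,4,8,16,96],[11,2,14,8,121,104]),([520,525,522,630,8,16,33,129,257],[126,522,124,625,189,21,345,391,90]),([1,2,4,8,16,96,160,512],[104,2,109,123,10,11,160,619]),([5,643,2,741,538,121,617],[528,288,2,841,108,123,214])] [(1,0,[5,7,60]),(2,1,[14,11,32]),(2,2,[169,171,57]),(2,3,[37,33,36])] ([5,7,124],[126,124,123]) = true := by decide +kernel
theorem c20017068 : chkDer M20234 [([1,2,4,8,16,96,160],[104,2,109,123,10,11,160]),([5,643,2,741,538,121,617],[520,788,2,357,636,123,710]),([520,525,522,630,8,16,33,129,257],[630,124,628,5,189,13,257,278,347])] [(0,256,[]),(2,0,[15,13,7]),(2,1,[53,49,106]),(1,2,[45,40,8]),(1,0,[10,8,5])] ([5,7,124],[121,123,5]) = true := by decide +kernel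
theorem c20018431 : chkDer M20234 [([5,643,2,741,538,121,617],[528,816,2,345,196,121,175]),([1,2,4,8,16,96,160,512],[104,2,109,123,10,11,160,619]),([520,525,522,630,8,16,33,129,257],[7,520,5,627,512,721,288,914,33])] [(1,0,[1,5,33]),(0,32,[]),(2,1,[133,135,141]),(1,2,[18,23,2]),(1,1,[8,10,136]),(2,0,[36,32,1])] ([5,7,124],[123,121,5]) = true := by decide +kernel
theorem c20017708 : chkDer M20234 [([5,643,2,741,538,121,617],[528,288,2,841,636,123,708])] [(0,1,[]),(1,0,[74,75,78,111]),(0,1,[]),(2,0,[78,37,74,5])] ([520,525,522,630],[527,126,525,7]) = true := by decide +kernel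
theorem c20016581 : chkDer M20234 [([1,2,4,8,16,96,160],[104,2,109,123,10,11,160]),([520,525,522,630,8,16,33,129,257],[7,520,5,627,517,685,288,919,88]),([1,2,4,8,16,96,160,512],[104,2,109,123,10,11,160,619]),([5,643,2,741,538,121,617],[520,284,2,877,636,123,525])] [(2,0,[5,7,15]),(1,1,[3,6,22]),(1,2,[143,141,8]),(1,3,[101,97,36])] ([5,7,124],[124,126,121]) = true := by decide +kernel
theorem c20017025 : chkDer M20234 [([1,2,4,8,16,96,160],[104,2,109,123,10,11,160]),([520,525,522,630,8,16,33,129,257],[7,520,5,627,517,685,288,919,88]),([1,2,4,8,16,96,160,512],[104,2,109,123,10,11,160,619]),([5,643,2,741,538,121,617],[520,788,2,357,636,121,525])] [(2,0,[5,7,15]),(1,1,[3,6,22]),(1,2,[143,141,8]),(1,3,[101,97,36])] ([5,7,124],[126,124,123]) = true := by decide +kernel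
theorem c20017848 : chkDer M20234 [([5,643,2,741,538,121,617],[528,288,2,841,108,121,7]),([1,2,4,8,16,96,160,512],[104,2,109,123,10,11,160,619]),([520,525,522,630,8,16,33,129,257],[527,126,525,7,220,21,376,373,347]),([1,2,4,8,16,96],[11,2,14,8,121,104])] [(1,0,[1,5,33]),(0,1,[]),(1,1,[149,151,174]),(1,2,[45,40,8]),(1,3,[16,18,7])] ([5,7,124],[121,123,7]) = true := by decide +kernel
theorem c20018576 : chkDer M20234 [([5,643,2,741,538,121,617],[528,816,2,345,196,123,126]),([1,2,4,8,16,96,160,512],[104,2,109,123,10,11,160,619]),([520,525,522,630,8,16,33,129,257],[525,5,527,124,13,189,257,444,347]),([1,2,4,8,16,96,160],[104,2,109,123,10,11,160])] [(1,0,[1,5,33]),(0,32,[]),(2,1,[133,135,143]),(1,2,[18,23,7]),(1,3,[8,10,7])] ([5,7,124],[123,121,7]) = true := by decide +kernel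
theorem c20018342 : chkDer M20234 [([5,643,2,741,538,121,617],[528,816,2,345,724,123,620]),([1,2,4,8,16,96,160,512],[104,2,109,123,10,11,160,619]),([520,525,522,630,8,16,33,129,257],[527,7,525,126,517,693,376,796,290])] [(0,256,[]),(1,0,[33,37,5]),(2,1,[128,130,138]),(1,2,[17,20,4]),(1,1,[10,8,141]),(1,0,[32,36,97])] ([5,7,124],[123,121,7]) = true := by decide +kernel
theorem c20017984 : chkDer M20234 [([5,643,2,741,538,121,617],[528,288,2,841,108,123,214]),([1,2,4,8,16,96,160,512],[104,2,109,123,10,11,160,619]),([520,525,522,630,8,16,33,129,257],[126,522,124,625,693,612,288,860,90]),([1,2,4,8,16,96],[11,2,14,8,121,104])] [(1,0,[1,5,33]),(0,1,[]),(1,1,[149,151,172]),(2,2,[32,37,6]),(1,3,[16,18,7])] ([5,7,124],[121,123,7]) = true := by decide +kernel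
theorem c20016894 : chkDer M20234 [([5,643,2,741,538,121,617],[520,284,2,877,116,123,5]),([1,2,4,8,16,96,160,512],[104,2,109,123,10,11,160,619]),([520,525,522,630,8,16,33,129,257],[7,520,5,627,517,685,288,917,35]),([1,2,4,8,16,96,160],[104,2,109,123,10,11,160])] [(2,0,[64,68,100]),(0,1,[]),(2,1,[133,135,143]),(2,2,[16,21,3]),(1,3,[8,10,5])] ([5,7,124],[123,121,5]) = true := by decide +kernel
theorem c20018078 : chkDer M20234 [([5,643,2,741,538,121,617],[528,288,2,841,108,123,212]),([1,2,4,8,16,96,160,512],[104,2,109,123,10,11,160,619]),([520,525,522,630,8,16,33,129,257],[124,522,126,625,693,612,288,860,90]),([1,2,4,8,16,96],[11,2,14,8,121,104])] [(1,0,[1,5,33]),(0,1,[]),(1,1,[149,151,172]),(2,2,[32,37,3]),(1,3,[16,18,5])] ([5,7,124],[121,123,5]) = true := by decide +kernel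
theorem c20018284 : chkDer M20234 [([1,2,4,8,16,96,160],[104,2,109,123,10,11,160]),([520,525,522,630,8,16,33,129,257],[525,5,527,124,512,713,376,864,347]),([1,2,4,8,16,96,160,512],[104,2,109,123,10,11,160,619]),([5,643,2,741,538,121,617],[528,816,2,345,724,123,622])] [(0,256,[]),(2,0,[15,13,7]),(1,1,[22,19,6]),(1,2,[10,8,138]),(2,3,[36,32,5])] ([5,7,124],[123,121,7]) = true := by decide +kernel
theorem c20016824 : chkDer M20234 [([5,643,2,741,538,121,617],[520,284,2,877,116,123,7]),([1,2,4,8,16,96,160,512],[104,2,109,123,10,11,160,619]),([520,525,522,630,8,16,33,129,257],[7,520,5,627,517,685,288,917,35]),([1,2,4,8,16,96,160],[104,2,109,123,10,11,160])] [(2,0,[68,64,96]),(0,1,[]),(2,1,[135,133,141]),(2,2,[21,16,6]),(1,3,[10,8,7])] ([5,7,124],[121,123,7]) = true := by decide +kernel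
theorem c20017544 : chkDer M20234 [([1,2,4,8,16,96],[11,2,14,8,121,104]),([520,525,522,630,8,16,33,129,257],[5,627,7,520,21,189,345,340,35]),([1,2,4,8,16,96,160,512],[104,2,109,123,10,11,160,619]),([5,643,2,741,538,121,617],[528,288,2,841,636,121,535])] [(0,256,[]),(1,0,[60,62,7]),(2,1,[16,21,4]),(1,2,[8,10,138]),(2,3,[36,32,5])] ([5,7,124],[123,121,7]) = true := by decide +kernel
theorem c20017918 : chkDer M20234 [([5,643,2,741,538,121,617],[528,288,2,841,108,121,5]),([1,2,4,8,16,96,160,512],[104,2,109,123,10,11,160,619]),([520,525,522,630,8,16,33,129,257],[628,5,630,124,21,220,376,420,347]),([1,2,4,8,16,96],[11,2,14,8,121,104])] [(1,0,[1,5,33]),(0,32,[]),(2,1,[133,135,141]),(1,2,[18,23,2]),(1,3,[16,18,5])] ([5,7,124],[121,123,5]) = true := by decide +kernel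
theorem c20018452 : chkDer M20234 [([5,643,2,741,538,121,617],[528,816,2,345,196,121,175]),([1,2,4,8,16,96,160,512],[104,2,109,123,10,11,160,619]),([520,525,522,630,8,16,33,129,257],[7,520,5,627,517,685,288,917,35]),([1,2,4,8,16,96,160],[104,2,109,123,10,11,160])] [(1,0,[1,5,33]),(0,32,[]),(2,1,[133,135,141]),(2,2,[16,21,6]),(1,3,[8,10,7])] ([5,7,124],[123,121,7]) = true := by decide +kernel
theorem c20018522 : chkDer M20234 [([5,643,2,741,538,121,617],[528,816,2,345,196,121,173]),([1,2,4,8,16,96,160,512],[104,2,109,123,10,11,160,619]),([520,525,522,630,8,16,33,129,257],[5,520,7,627,517,685,288,917,35]),([1,2,4,8,16,96,160],[104,2,109,123,10,11,160])] [(1,0,[1,5,33]),(0,32,[]),(2,1,[133,135,141]),(2,2,[16,21,3]),(1,3,[8,10,5])] ([5,7,124],[123,121,5]) = true := by decide +kernel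
theorem c20016794 : chkDer M20234 [([1,2,4,8,16,96,160],[104,2,109,123,10,11,160]),([520,525,522,630,8,16,33,129,257],[7,520,5,627,13,220,288,311,90]),([1,2,4,8,16,96,160,512],[104,2,109,123,10,11,160,619]),([5,643,2,741,538,121,617],[520,284,2,877,116,123,7])] [(2,0,[5,7,15]),(2,1,[4,1,21]),(1,2,[138,136,10]),(1,3,[100,96,32])] ([5,7,124],[126,124,123]) = true := by decide +kernel
theorem c20017238 : chkDer M20234 [([1,2,4,8,16,96,160],[104,2,109,123,10,11,160]),([520,525,522,630,8,16,33,129,257],[7,520,5,627,13,220,288,311,90]),([1,2,4,8,16,96,160,512],[104,2,109,123,10,11,160,619]),([5,643,2,741,538,121,617],[520,788,2,357,116,121,7])] [(2,0,[5,7,15]),(2,1,[4,1,21]),(1,2,[138,136,10]),(1,3,[100,96,32])] ([5,7,124],[124,126,121]) = true := by decide +kernel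
theorem c20016524 : chkDer M20234 [([5,643,2,741,538,121,617],[520,284,2,877,636,123,525])] [(0,1,[]),(2,0,[64,1,68,33]),(0,1,[]),(1,0,[69,1,65,37])] ([520,525,522,630],[7,520,5,627]) = true := by decide +kernel
theorem c20017272 : chkDer M20234 [([5,643,2,741,538,121,617],[520,788,2,357,116,121,5])] [(0,1,[]),(2,0,[65,1,69,37]),(0,1,[]),(1,0,[68,1,64,33])] ([520,525,522,630],[7,520,5,627]) = true := by decide +kernel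
theorem c20014632 : chkDer M20234 [([5,643,2,741,538,121],[520,284,2,877,116,627])] [(0,256,[]),(1,0,[33,37,5]),(0,64,[]),(2,0,[33,37,36])] ([5,7,124],[124,126,123]) = true := by decide +kernel
theorem c20015246 : chkDer M20234 [([5,643,2,741,538,121],[528,288,2,841,108,619])] [(0,256,[]),(1,0,[33,37,5]),(0,64,[]),(2,0,[33,37,36])] ([5,7,124],[124,126,123]) = true := by decide +kernel
theorem c20015716 : chkDer M20234 [([5,643,2,741,538,121],[672,33,2,736,217,731])] [(0,256,[]),(1,0,[33,37,5]),(0,257,[]),(2,0,[33,37,36])] ([5,7,124],[124,126,123]) = true := by decide +kernel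
theorem c20014628 : chkDer M20234 [([5,643,2,741,538,121],[520,284,2,877,116,625])] [(0,256,[]),(1,0,[33,37,5]),(0,64,[]),(2,0,[33,37,32])] ([5,7,124],[124,126,121]) = true := by decide +kernel
theorem c20015242 : chkDer M20234 [([5,643,2,741,538,121],[528,288,2,841,108,617])] [(0,256,[]),(1,0,[33,37,5]),(0,64,[]),(2,0,[33,37,32])] ([5,7,124],[124,126,121]) = true := by decide +kernel
theorem c20015712 : chkDer M20234 [([5,643,2,741,538,121],[672,33,2,736,217,729])] [(0,256,[]),(1,0,[33,37,5]),(0,257,[]),(2,0,[33,37,32])] ([5,7,124],[124,126,121]) = true := by decide +kernel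
theorem c20019895 : chkTr M20234 [1,2,4,8,16,32,64,128,256,514] ([104,2,109,123,9,128,33,257],[106,123,111,121,225,9,319,206]) ([104,2,109,123,9,128,33,257],[106,123,111,121,225,9,319,206]) = true := by decide +kernel
theorem c20019899 : chkDer M20234 [([104,2,109,123,9,128,33,257,513],[106,123,111,121,225,9,319,206,513])] [(1,0,[1,2,4,8,16,32,64,128,258])] ([104,2,109,123,9,128,33,257,515],[106,123,111,121,225,9,319,206,632]) = true := by decide +kernel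
theorem c20014227 : chkDer M20234 [([1,2,4,8,16,96,160],[104,2,109,123,10,11,160])] [(1,0,[1,2,4,8,16,32])] ([1,2,4,8,16,96],[104,2,109,123,10,11]) = true := by decide +kernel
theorem c20014279 : chkDer M20234 [([1,2,4,8,16,96,160,512],[104,2,109,123,10,11,160,619])] [(0,33,[]),(1,0,[161])] ([512],[520]) = true := by decide +kernel
theorem c20019880 : chkDer M20234 [([1,2,4,8,16,96,160],[104,2,109,123,10,11,160])] [(1,0,[1])] ([1],[104]) = true := by decide +kernel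
theorem c20016226 : chkDer M20234 [] [(0,64,[])] ([641],[643]) = true := by decide +kernel
theorem c20016280 : chkDer M20234 [] [(0,513,[])] ([641],[644]) = true := by decide +kernel

end Cfsg.Lib.D8
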