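import Cfsg.Agent.D8.R1C1

set_option autoImplicit false
set_option maxRecDepth 100000
set_option linter.all false
set_option Elab.async false

namespace Cfsg.Lib.D8

theorem c20016456 : chkFrat M20234 E20016292 [520,525,522,630] [7,520,5,627] [520,525,522,630,8,16,33,129,257] [520,525,522,630,8,16,33,129,257] [(0,[1,2,4,8]),(0,[1,2,4,8]),(0,[1,2,4,8]),(0,[1,2,4,8]),(8,[1,2,4,13]),(160,[4,7,1,8]),(288,[14,8,11,2]),(304,[14,13,11,2]),(33,[4,13,1,7])] [⟨0,0,[],0,2,false⟩,⟨0,0,[],0,0,false⟩,⟨0,0,[],0,0,false⟩,⟨4,0,[⟨4,0,0,0⟩,⟨4,1,0,1⟩,⟨0,8,13,0⟩],2,0,false⟩,⟨2,0,[⟨4,0,0,2⟩,⟨4,3,0,3⟩,⟨0,1,4,0⟩,⟨0,8,8,0⟩,⟨0,16,21,0⟩],2,0,false⟩,⟨2,0,[⟨4,0,0,4⟩,⟨4,5,0,5⟩,⟨0,1,14,0⟩,⟨0,2,8,0⟩,⟨0,16,32,0⟩],2,0,false⟩,⟨2,0,[⟨4,17,0,6⟩,⟨4,18,0,7⟩,⟨0,1,11,0⟩,⟨0,16,37,0⟩,⟨0,64,127,0⟩],0,0,false⟩,⟨2,0,[⟨4,0,0,8⟩,⟨4,5,0,9⟩,⟨0,1,4,0⟩,⟨0,2,13,0⟩,⟨0,16,250,0⟩],0,0,false⟩]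 [([520,525,522,630,8,16,33,129,257],[7,520,5,627,8,160,345,331,88]),([520,525,522,630,8,16,33,129,257],[7,520,5,627,8,160,345,331,90]),([520,525,522,630,8,16,33,129,257],[7,520,5,627,8,160,345,329,33]),([520,525,522,630,8,16,33,129,257],[7,520,5,627,8,160,345,329,35]),([520,525,522,630,8,16,33,129,257],[7,520,5,627,13,220,288,311,88]),([520,525,522,630,8,16,33,129,257],[7,520,5,627,13,220,288,311,90]),([520,525,522,630,8,16,33,129,257],[7,520,5,627,13,220,288,309,33]),([520,525,522,630,8,16,33,129,257],[7,520,5,627,13,220,288,309,35]),([520,525,522,630,8,16,33,129,257],[7,520,5,627,512,721,288,914,33]),([520,525,522,630,8,16,33,129,257],[7,520,5,627,512,721,288,914,35]),([520,525,522,630,8,16,33,129,257],[7,520,5,627,512,721,288,912,88]),([520,525,522,630,8,16,33,129,257],[7,520,5,627,512,721,288,912,90]),([520,525,522,630,8,16,33,129,257],[7,520,5,627,517,685,288,919,88]),([520,525,522,630,8,16,33,129,257],[7,520,5,627,517,685,288,919,90]),([520,525,522,630,8,16,33,129,257],[7,520,5,627,517,685,288,917,33]),([520,525,522,630,8,16,33,129,257],[7,520,5,627,517,685,288,917,35])]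 = true := by decide +kernel
theorem c20016900 : chkFrat M20234 E20016292 [520,525,522,630] [7,520,5,627] [520,525,522,630,8,16,33,129,257] [520,525,522,630,8,16,33,129,257] [(0,[1,2,4,8]),(0,[1,2,4,8]),(0,[1,2,4,8]),(0,[1,2,4,8]),(8,[1,2,4,13]),(160,[4,7,1,8]),(288,[14,8,11,2]),(304,[14,13,11,2]),(33,[4,13,1,7])] [⟨0,0,[],0,2,false⟩,⟨0,0,[],0,0,false⟩,⟨0,0,[],0,0,false⟩,⟨4,0,[⟨4,0,0,0⟩,⟨4,1,0,1⟩,⟨0,8,13,0⟩],2,0,false⟩,⟨2,0,[⟨4,0,0,2⟩,⟨4,3,0,3⟩,⟨0,1,4,0⟩,⟨0,8,8,0⟩,⟨0,16,21,0⟩],2,0,false⟩,⟨2,0,[⟨4,0,0,4⟩,⟨4,5,0,5⟩,⟨0,1,14,0⟩,⟨0,2,8,0⟩,⟨0,16,32,0⟩],2,0,false⟩,⟨2,0,[⟨4,17,0,6⟩,⟨4,18,0,7⟩,⟨0,1,11,0⟩,⟨0,16,37,0⟩,⟨0,64,127,0⟩],0,0,false⟩,⟨2,0,[⟨4,0,0,8⟩,⟨4,5,0,9⟩,⟨0,1,4,0⟩,⟨0,2,13,0⟩,⟨0,16,250,0⟩],0,0,false⟩] [([520,525,522,630,8,16,33,129,257],[7,520,5,627,8,160,345,331,88]),([520,525,522,630,8,16,33,129,2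57],[7,520,5,627,8,160,345,331,90]),([520,525,522,630,8,16,33,129,257],[7,520,5,627,8,160,345,329,33]),([520,525,522,630,8,16,33,129,257],[7,520,5,627,8,160,345,329,35]),([520,525,522,630,8,16,33,129,257],[7,520,5,627,13,220,288,311,88]),([520,525,522,630,8,16,33,129,257],[7,520,5,627,13,220,288,311,90]),([520,525,522,630,8,16,33,129,257],[7,520,5,627,13,220,288,309,33]),([520,525,522,630,8,16,33,129,257],[7,520,5,627,13,220,288,309,35]),([520,525,522,630,8,16,33,129,257],[7,520,5,627,512,721,288,914,33]),([520,525,522,630,8,16,33,129,257],[7,520,5,627,512,721,288,914,35]),([520,525,522,630,8,16,33,129,257],[7,520,5,627,512,721,288,912,88]),([520,525,522,630,8,16,33,129,257],[7,520,5,627,512,721,288,912,90]),([520,525,522,630,8,16,33,129,257],[7,520,5,627,517,685,288,919,88]),([520,525,522,630,8,16,33,129,257],[7,520,5,627,517,685,288,919,90]),([520,525,522,630,8,16,33,129,257],[7,520,5,627,517,685,288,917,33]),([520,525,522,630,8,16,33,129,257],[7,520,5,627,517,685,288,917,35])]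 = true := by decide +kernel
theorem c20018084 : chkFrat M20234 E20016292 [520,525,522,630] [525,5,527,124] [520,525,522,630,8,16,33,129,257] [520,525,522,630,8,16,33,129,257] [(0,[1,2,4,8]),(0,[1,2,4,8]),(0,[1,2,4,8]),(0,[1,2,4,8]),(8,[1,2,4,13]),(184,[4,7,1,8]),(257,[14,8,11,2]),(441,[14,13,11,2]),(288,[4,13,1,7])] [⟨0,0,[],0,2,false⟩,⟨0,0,[],0,0,false⟩,⟨0,0,[],0,0,false⟩,⟨4,0,[⟨4,0,0,0⟩,⟨4,1,0,1⟩,⟨0,8,13,0⟩],2,0,false⟩,⟨2,0,[⟨4,0,0,2⟩,⟨4,3,0,3⟩,⟨0,1,4,0⟩,⟨0,8,8,0⟩,⟨0,16,21,0⟩],2,0,false⟩,⟨2,0,[⟨4,0,0,4⟩,⟨4,5,0,5⟩,⟨0,1,14,0⟩,⟨0,2,8,0⟩,⟨0,16,32,0⟩],2,0,false⟩,⟨2,0,[⟨4,17,0,6⟩,⟨4,18,0,7⟩,⟨0,1,11,0⟩,⟨0,16,37,0⟩,⟨0,64,127,0⟩],0,0,false⟩,⟨2,0,[⟨4,0,0,8⟩,⟨4,5,0,9⟩,⟨0,1,4,0⟩,⟨0,2,13,0⟩,⟨0,16,250,0⟩],0,0,false⟩] [([520,525,522,630,8,16,33,129,257],[525,5,527,124,8,193,376,443,345]),([520,525,522,630,8,16,33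,129,257],[525,5,527,124,8,193,376,443,347]),([520,525,522,630,8,16,33,129,257],[525,5,527,124,8,193,376,441,288]),([520,525,522,630,8,16,33,129,257],[525,5,527,124,8,193,376,441,290]),([520,525,522,630,8,16,33,129,257],[525,5,527,124,13,189,257,446,288]),([520,525,522,630,8,16,33,129,257],[525,5,527,124,13,189,257,446,290]),([520,525,522,630,8,16,33,129,257],[525,5,527,124,13,189,257,444,345]),([520,525,522,630,8,16,33,129,257],[525,5,527,124,13,189,257,444,347]),([520,525,522,630,8,16,33,129,257],[525,5,527,124,512,713,376,866,288]),([520,525,522,630,8,16,33,129,257],[525,5,527,124,512,713,376,866,290]),([520,525,522,630,8,16,33,129,257],[525,5,527,124,512,713,376,864,345]),([520,525,522,630,8,16,33,129,257],[525,5,527,124,512,713,376,864,347]),([520,525,522,630,8,16,33,129,257],[525,5,527,124,517,693,376,798,345]),([520,525,522,630,8,16,33,129,257],[525,5,527,124,517,693,376,798,347]),([520,525,522,630,8,16,33,129,257],[525,5,527,124,517,693,376,796,288]),([520,525,522,630,8,16,33,129,257],[525,5,527,124,517,693,376,796,290])]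 = true := by decide +kernel
theorem c20018824 : chkFrat M20234 E20016292 [520,525,522,630] [5,522,7,625] [520,525,522,630,8,16,33,129,257] [520,525,522,630,8,16,33,129,257] [(0,[1,2,4,8]),(0,[1,2,4,8]),(0,[1,2,4,8]),(0,[1,2,4,8]),(8,[1,2,4,13]),(160,[4,7,1,8]),(288,[14,8,11,2]),(304,[14,13,11,2]),(33,[4,13,1,7])] [⟨0,0,[],0,2,false⟩,⟨0,0,[],0,0,false⟩,⟨0,0,[],0,0,false⟩,⟨4,0,[⟨4,0,0,0⟩,⟨4,1,0,1⟩,⟨0,8,13,0⟩],2,0,false⟩,⟨2,0,[⟨4,0,0,2⟩,⟨4,3,0,3⟩,⟨0,1,4,0⟩,⟨0,8,8,0⟩,⟨0,16,21,0⟩],2,0,false⟩,⟨2,0,[⟨4,0,0,4⟩,⟨4,5,0,5⟩,⟨0,1,14,0⟩,⟨0,2,8,0⟩,⟨0,16,32,0⟩],2,0,false⟩,⟨2,0,[⟨4,17,0,6⟩,⟨4,18,0,7⟩,⟨0,1,11,0⟩,⟨0,16,37,0⟩,⟨0,64,127,0⟩],0,0,false⟩,⟨2,0,[⟨4,0,0,8⟩,⟨4,5,0,9⟩,⟨0,1,4,0⟩,⟨0,2,13,0⟩,⟨0,16,250,0⟩],0,0,false⟩] [([520,525,522,630,8,16,33,129,257],[5,522,7,625,8,160,345,331,88]),([520,525,522,630,8,16,33,129,2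57],[5,522,7,625,8,160,345,331,90]),([520,525,522,630,8,16,33,129,257],[5,522,7,625,8,160,345,329,33]),([520,525,522,630,8,16,33,129,257],[5,522,7,625,8,160,345,329,35]),([520,525,522,630,8,16,33,129,257],[5,522,7,625,13,220,288,311,88]),([520,525,522,630,8,16,33,129,257],[5,522,7,625,13,220,288,311,90]),([520,525,522,630,8,16,33,129,257],[5,522,7,625,13,220,288,309,33]),([520,525,522,630,8,16,33,129,257],[5,522,7,625,13,220,288,309,35]),([520,525,522,630,8,16,33,129,257],[5,522,7,625,512,721,288,914,33]),([520,525,522,630,8,16,33,129,257],[5,522,7,625,512,721,288,914,35]),([520,525,522,630,8,16,33,129,257],[5,522,7,625,512,721,288,912,88]),([520,525,522,630,8,16,33,129,257],[5,522,7,625,512,721,288,912,90]),([520,525,522,630,8,16,33,129,257],[5,522,7,625,517,685,288,919,88]),([520,525,522,630,8,16,33,129,257],[5,522,7,625,517,685,288,919,90]),([520,525,522,630,8,16,33,129,257],[5,522,7,625,517,685,288,917,33]),([520,525,522,630,8,16,33,129,257],[5,522,7,625,517,685,288,917,35])]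 = true := by decide +kernel
theorem c20017422 : chkFrat M20234 E20016292 [520,525,522,630] [630,124,628,5] [520,525,522,630,8,16,33,129,257] [520,525,522,630,8,16,33,129,257] [(0,[1,2,4,8]),(0,[1,2,4,8]),(0,[1,2,4,8]),(0,[1,2,4,8]),(184,[1,2,4,13]),(8,[4,7,1,8]),(257,[14,8,11,2]),(273,[14,13,11,2]),(288,[4,13,1,7])] [⟨0,0,[],0,2,false⟩,⟨0,0,[],0,0,false⟩,⟨0,0,[],0,0,false⟩,⟨4,0,[⟨4,0,0,0⟩,⟨4,1,0,1⟩,⟨0,8,13,0⟩],2,0,false⟩,⟨2,0,[⟨4,0,0,2⟩,⟨4,3,0,3⟩,⟨0,1,4,0⟩,⟨0,8,8,0⟩,⟨0,16,21,0⟩],2,0,false⟩,⟨2,0,[⟨4,0,0,4⟩,⟨4,5,0,5⟩,⟨0,1,14,0⟩,⟨0,2,8,0⟩,⟨0,16,32,0⟩],2,0,false⟩,⟨2,0,[⟨4,17,0,6⟩,⟨4,18,0,7⟩,⟨0,1,11,0⟩,⟨0,16,37,0⟩,⟨0,64,127,0⟩],0,0,false⟩,⟨2,0,[⟨4,0,0,8⟩,⟨4,5,0,9⟩,⟨0,1,4,0⟩,⟨0,2,13,0⟩,⟨0,16,250,0⟩],0,0,false⟩] [([520,525,522,630,8,16,33,129,257],[630,124,628,5,189,13,257,278,345]),([520,525,522,630,8,16,3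3,129,257],[630,124,628,5,189,13,257,278,347]),([520,525,522,630,8,16,33,129,257],[630,124,628,5,189,13,257,276,288]),([520,525,522,630,8,16,33,129,257],[630,124,628,5,189,13,257,276,290]),([520,525,522,630,8,16,33,129,257],[630,124,628,5,193,8,376,362,288]),([520,525,522,630,8,16,33,129,257],[630,124,628,5,193,8,376,362,290]),([520,525,522,630,8,16,33,129,257],[630,124,628,5,193,8,376,360,345]),([520,525,522,630,8,16,33,129,257],[630,124,628,5,193,8,376,360,347]),([520,525,522,630,8,16,33,129,257],[630,124,628,5,693,517,376,950,288]),([520,525,522,630,8,16,33,129,257],[630,124,628,5,693,517,376,950,290]),([520,525,522,630,8,16,33,129,257],[630,124,628,5,693,517,376,948,345]),([520,525,522,630,8,16,33,129,257],[630,124,628,5,693,517,376,948,347]),([520,525,522,630,8,16,33,129,257],[630,124,628,5,713,512,376,947,345]),([520,525,522,630,8,16,33,129,257],[630,124,628,5,713,512,376,947,347]),([520,525,522,630,8,16,33,129,257],[630,124,628,5,713,512,376,945,288]),([520,525,522,630,8,16,33,129,257],[630,124,628,5,713,512,376,945,290])]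 = true := by decide +kernel
theorem c20018676 : chkFrat M20234 E20016292 [520,525,522,630] [628,126,630,7] [520,525,522,630,8,16,33,129,257] [520,525,522,630,8,16,33,129,257] [(0,[1,2,4,8]),(0,[1,2,4,8]),(0,[1,2,4,8]),(0,[1,2,4,8]),(184,[1,2,4,13]),(8,[4,7,1,8]),(257,[14,8,11,2]),(273,[14,13,11,2]),(288,[4,13,1,7])] [⟨0,0,[],0,2,false⟩,⟨0,0,[],0,0,false⟩,⟨0,0,[],0,0,false⟩,⟨4,0,[⟨4,0,0,0⟩,⟨4,1,0,1⟩,⟨0,8,13,0⟩],2,0,false⟩,⟨2,0,[⟨4,0,0,2⟩,⟨4,3,0,3⟩,⟨0,1,4,0⟩,⟨0,8,8,0⟩,⟨0,16,21,0⟩],2,0,false⟩,⟨2,0,[⟨4,0,0,4⟩,⟨4,5,0,5⟩,⟨0,1,14,0⟩,⟨0,2,8,0⟩,⟨0,16,32,0⟩],2,0,false⟩,⟨2,0,[⟨4,17,0,6⟩,⟨4,18,0,7⟩,⟨0,1,11,0⟩,⟨0,16,37,0⟩,⟨0,64,127,0⟩],0,0,false⟩,⟨2,0,[⟨4,0,0,8⟩,⟨4,5,0,9⟩,⟨0,1,4,0⟩,⟨0,2,13,0⟩,⟨0,16,250,0⟩],0,0,false⟩] [([520,525,522,630,8,16,33,129,257],[628,126,630,7,189,13,257,278,345]),([520,525,522,630,8,16,3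3,129,257],[628,126,630,7,189,13,257,278,347]),([520,525,522,630,8,16,33,129,257],[628,126,630,7,189,13,257,276,288]),([520,525,522,630,8,16,33,129,257],[628,126,630,7,189,13,257,276,290]),([520,525,522,630,8,16,33,129,257],[628,126,630,7,193,8,376,362,288]),([520,525,522,630,8,16,33,129,257],[628,126,630,7,193,8,376,362,290]),([520,525,522,630,8,16,33,129,257],[628,126,630,7,193,8,376,360,345]),([520,525,522,630,8,16,33,129,257],[628,126,630,7,193,8,376,360,347]),([520,525,522,630,8,16,33,129,257],[628,126,630,7,693,517,376,950,288]),([520,525,522,630,8,16,33,129,257],[628,126,630,7,693,517,376,950,290]),([520,525,522,630,8,16,33,129,257],[628,126,630,7,693,517,376,948,345]),([520,525,522,630,8,16,33,129,257],[628,126,630,7,693,517,376,948,347]),([520,525,522,630,8,16,33,129,257],[628,126,630,7,713,512,376,947,345]),([520,525,522,630,8,16,33,129,257],[628,126,630,7,713,512,376,947,347]),([520,525,522,630,8,16,33,129,257],[628,126,630,7,713,512,376,945,288]),([520,525,522,630,8,16,33,129,257],[628,126,630,7,713,512,376,945,290])]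 = true := by decide +kernel
theorem c20019338 : chkFrat M20234 E20016292 [520,525,522,630] [628,126,630,7] [520,525,522,630,8,16,33,129,257] [520,525,522,630,8,16,33,129,257] [(0,[1,2,4,8]),(0,[1,2,4,8]),(0,[1,2,4,8]),(0,[1,2,4,8]),(184,[1,2,4,13]),(8,[4,7,1,8]),(257,[14,8,11,2]),(273,[14,13,11,2]),(288,[4,13,1,7])] [⟨0,0,[],0,2,false⟩,⟨0,0,[],0,0,false⟩,⟨0,0,[],0,0,false⟩,⟨4,0,[⟨4,0,0,0⟩,⟨4,1,0,1⟩,⟨0,8,13,0⟩],2,0,false⟩,⟨2,0,[⟨4,0,0,2⟩,⟨4,3,0,3⟩,⟨0,1,4,0⟩,⟨0,8,8,0⟩,⟨0,16,21,0⟩],2,0,false⟩,⟨2,0,[⟨4,0,0,4⟩,⟨4,5,0,5⟩,⟨0,1,14,0⟩,⟨0,2,8,0⟩,⟨0,16,32,0⟩],2,0,false⟩,⟨2,0,[⟨4,17,0,6⟩,⟨4,18,0,7⟩,⟨0,1,11,0⟩,⟨0,16,37,0⟩,⟨0,64,127,0⟩],0,0,false⟩,⟨2,0,[⟨4,0,0,8⟩,⟨4,5,0,9⟩,⟨0,1,4,0⟩,⟨0,2,13,0⟩,⟨0,16,250,0⟩],0,0,false⟩] [([520,525,522,630,8,16,33,129,257],[628,126,630,7,189,13,257,278,345]),([520,525,522,630,8,16,3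3,129,257],[628,126,630,7,189,13,257,278,347]),([520,525,522,630,8,16,33,129,257],[628,126,630,7,189,13,257,276,288]),([520,525,522,630,8,16,33,129,257],[628,126,630,7,189,13,257,276,290]),([520,525,522,630,8,16,33,129,257],[628,126,630,7,193,8,376,362,288]),([520,525,522,630,8,16,33,129,257],[628,126,630,7,193,8,376,362,290]),([520,525,522,630,8,16,33,129,257],[628,126,630,7,193,8,376,360,345]),([520,525,522,630,8,16,33,129,257],[628,126,630,7,193,8,376,360,347]),([520,525,522,630,8,16,33,129,257],[628,126,630,7,693,517,376,950,288]),([520,525,522,630,8,16,33,129,257],[628,126,630,7,693,517,376,950,290]),([520,525,522,630,8,16,33,129,257],[628,126,630,7,693,517,376,948,345]),([520,525,522,630,8,16,33,129,257],[628,126,630,7,693,517,376,948,347]),([520,525,522,630,8,16,33,129,257],[628,126,630,7,713,512,376,947,345]),([520,525,522,630,8,16,33,129,257],[628,126,630,7,713,512,376,947,347]),([520,525,522,630,8,16,33,129,257],[628,126,630,7,713,512,376,945,288]),([520,525,522,630,8,16,33,129,257],[628,126,630,7,713,512,376,945,290])]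 = true := by decide +kernel
theorem c20014307 : chkTT M20234 E20014166 0 L20014306 0x20200202 M20234.W [1] [] [] 99 0 [] [] = true := by decide +kernel
theorem c20014630 : chkFrat M20234 E20014588 [5,7,124] [124,126,121] [5,7,124,1,8,16,32,128,512] [5,7,124,1,8,16,32,128,512] [(0,[1,2,4]),(0,[1,2,4]),(0,[1,2,4]),(32,[1,2,7]),(32,[1,2,7]),(32,[1,2,7]),(33,[2,1,4]),(0,[1,2,4]),(32,[1,2,7])] [⟨0,0,[],0,0,false⟩,⟨0,0,[],0,2,false⟩,⟨3,0,[⟨6,0,0,1⟩,⟨4,0,0,0⟩,⟨0,4,7,0⟩],2,2,false⟩,⟨5,0,[⟨6,0,0,0⟩,⟨4,0,0,1⟩,⟨4,1,0,2⟩,⟨0,4,7,0⟩,⟨5,0,8,0⟩],3,2,false⟩,⟨5,0,[⟨6,0,0,0⟩,⟨4,0,0,3⟩,⟨4,1,0,4⟩,⟨0,4,7,0⟩,⟨0,16,19,0⟩,⟨5,0,8,0⟩],4,5,false⟩,⟨2,0,[⟨6,0,0,1⟩,⟨4,0,0,5⟩,⟨4,4,0,6⟩,⟨4,8,0,7⟩,⟨0,1,2,0⟩],5,3,false⟩] [] = true := by decide +kernel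
theorem c20014916 : chkFrat M20234 E20014588 [5,7,124] [124,126,123] [5,7,124,1,8,16,32,128,512] [5,7,124,1,8,16,32,128,512] [(0,[1,2,4]),(0,[1,2,4]),(0,[1,2,4]),(32,[1,2,7]),(32,[1,2,7]),(32,[1,2,7]),(33,[2,1,4]),(0,[1,2,4]),(32,[1,2,7])] [⟨0,0,[],0,0,false⟩,⟨0,0,[],0,2,false⟩,⟨3,0,[⟨6,0,0,1⟩,⟨4,0,0,0⟩,⟨0,4,7,0⟩],2,2,false⟩,⟨5,0,[⟨6,0,0,0⟩,⟨4,0,0,1⟩,⟨4,1,0,2⟩,⟨0,4,7,0⟩,⟨5,0,8,0⟩],3,2,false⟩,⟨5,0,[⟨6,0,0,0⟩,⟨4,0,0,3⟩,⟨4,1,0,4⟩,⟨0,4,7,0⟩,⟨0,16,19,0⟩,⟨5,0,8,0⟩],4,5,false⟩,⟨2,0,[⟨6,0,0,1⟩,⟨4,0,0,5⟩,⟨4,4,0,6⟩,⟨4,8,0,7⟩,⟨0,1,2,0⟩],5,3,false⟩] [] = true := by decide +kernel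
theorem c20015204 : chkFrat M20234 E20014588 [5,7,124] [124,126,121] [5,7,124,1,8,16,32,128,512] [5,7,124,1,8,16,32,128,512] [(0,[1,2,4]),(0,[1,2,4]),(0,[1,2,4]),(32,[1,2,7]),(32,[1,2,7]),(32,[1,2,7]),(33,[2,1,4]),(0,[1,2,4]),(32,[1,2,7])] [⟨0,0,[],0,0,false⟩,⟨0,0,[],0,2,false⟩,⟨3,0,[⟨6,0,0,1⟩,⟨4,0,0,0⟩,⟨0,4,7,0⟩],2,2,false⟩,⟨5,0,[⟨6,0,0,0⟩,⟨4,0,0,1⟩,⟨4,1,0,2⟩,⟨0,4,7,0⟩,⟨5,0,8,0⟩],3,2,false⟩,⟨5,0,[⟨6,0,0,0⟩,⟨4,0,0,3⟩,⟨4,1,0,4⟩,⟨0,4,7,0⟩,⟨0,16,19,0⟩,⟨5,0,8,0⟩],4,5,false⟩,⟨2,0,[⟨6,0,0,1⟩,⟨4,0,0,5⟩,⟨4,4,0,6⟩,⟨4,8,0,7⟩,⟨0,1,2,0⟩],5,3,false⟩] [] = true := by decide +kernel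
theorem c20015237 : chkFrat M20234 E20014588 [5,7,124] [124,126,123] [5,7,124,1,8,16,32,128,512] [5,7,124,1,8,16,32,128,512] [(0,[1,2,4]),(0,[1,2,4]),(0,[1,2,4]),(32,[1,2,7]),(32,[1,2,7]),(32,[1,2,7]),(33,[2,1,4]),(0,[1,2,4]),(32,[1,2,7])] [⟨0,0,[],0,0,false⟩,⟨0,0,[],0,2,false⟩,⟨3,0,[⟨6,0,0,1⟩,⟨4,0,0,0⟩,⟨0,4,7,0⟩],2,2,false⟩,⟨5,0,[⟨6,0,0,0⟩,⟨4,0,0,1⟩,⟨4,1,0,2⟩,⟨0,4,7,0⟩,⟨5,0,8,0⟩],3,2,false⟩,⟨5,0,[⟨6,0,0,0⟩,⟨4,0,0,3⟩,⟨4,1,0,4⟩,⟨0,4,7,0⟩,⟨0,16,19,0⟩,⟨5,0,8,0⟩],4,5,false⟩,⟨2,0,[⟨6,0,0,1⟩,⟨4,0,0,5⟩,⟨4,4,0,6⟩,⟨4,8,0,7⟩,⟨0,1,2,0⟩],5,3,false⟩] [] = true := by decide +kernel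
theorem c20015518 : chkFrat M20234 E20014588 [5,7,124] [124,126,123] [5,7,124,1,8,16,32,128,512] [5,7,124,1,8,16,32,128,512] [(0,[1,2,4]),(0,[1,2,4]),(0,[1,2,4]),(32,[1,2,7]),(32,[1,2,7]),(32,[1,2,7]),(33,[2,1,4]),(0,[1,2,4]),(32,[1,2,7])] [⟨0,0,[],0,0,false⟩,⟨0,0,[],0,2,false⟩,⟨3,0,[⟨6,0,0,1⟩,⟨4,0,0,0⟩,⟨0,4,7,0⟩],2,2,false⟩,⟨5,0,[⟨6,0,0,0⟩,⟨4,0,0,1⟩,⟨4,1,0,2⟩,⟨0,4,7,0⟩,⟨5,0,8,0⟩],3,2,false⟩,⟨5,0,[⟨6,0,0,0⟩,⟨4,0,0,3⟩,⟨4,1,0,4⟩,⟨0,4,7,0⟩,⟨0,16,19,0⟩,⟨5,0,8,0⟩],4,5,false⟩,⟨2,0,[⟨6,0,0,1⟩,⟨4,0,0,5⟩,⟨4,4,0,6⟩,⟨4,8,0,7⟩,⟨0,1,2,0⟩],5,3,false⟩] [] = true := by decide +kernel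
theorem c20015553 : chkFrat M20234 E20014588 [5,7,124] [124,126,123] [5,7,124,1,8,16,32,128,512] [5,7,124,1,8,16,32,128,512] [(0,[1,2,4]),(0,[1,2,4]),(0,[1,2,4]),(32,[1,2,7]),(32,[1,2,7]),(32,[1,2,7]),(33,[2,1,4]),(0,[1,2,4]),(32,[1,2,7])] [⟨0,0,[],0,0,false⟩,⟨0,0,[],0,2,false⟩,⟨3,0,[⟨6,0,0,1⟩,⟨4,0,0,0⟩,⟨0,4,7,0⟩],2,2,false⟩,⟨5,0,[⟨6,0,0,0⟩,⟨4,0,0,1⟩,⟨4,1,0,2⟩,⟨0,4,7,0⟩,⟨5,0,8,0⟩],3,2,false⟩,⟨5,0,[⟨6,0,0,0⟩,⟨4,0,0,3⟩,⟨4,1,0,4⟩,⟨0,4,7,0⟩,⟨0,16,19,0⟩,⟨5,0,8,0⟩],4,5,false⟩,⟨2,0,[⟨6,0,0,1⟩,⟨4,0,0,5⟩,⟨4,4,0,6⟩,⟨4,8,0,7⟩,⟨0,1,2,0⟩],5,3,false⟩] [] = true := by decide +kernel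
theorem c20015697 : chkFrat M20234 E20014588 [5,7,124] [124,126,121] [5,7,124,1,8,16,32,128,512] [5,7,124,1,8,16,32,128,512] [(0,[1,2,4]),(0,[1,2,4]),(0,[1,2,4]),(32,[1,2,7]),(32,[1,2,7]),(32,[1,2,7]),(33,[2,1,4]),(0,[1,2,4]),(32,[1,2,7])] [⟨0,0,[],0,0,false⟩,⟨0,0,[],0,2,false⟩,⟨3,0,[⟨6,0,0,1⟩,⟨4,0,0,0⟩,⟨0,4,7,0⟩],2,2,false⟩,⟨5,0,[⟨6,0,0,0⟩,⟨4,0,0,1⟩,⟨4,1,0,2⟩,⟨0,4,7,0⟩,⟨5,0,8,0⟩],3,2,false⟩,⟨5,0,[⟨6,0,0,0⟩,⟨4,0,0,3⟩,⟨4,1,0,4⟩,⟨0,4,7,0⟩,⟨0,16,19,0⟩,⟨5,0,8,0⟩],4,5,false⟩,⟨2,0,[⟨6,0,0,1⟩,⟨4,0,0,5⟩,⟨4,4,0,6⟩,⟨4,8,0,7⟩,⟨0,1,2,0⟩],5,3,false⟩] [] = true := by decide +kernel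
theorem c20015998 : chkFrat M20234 E20014588 [5,7,124] [124,126,123] [5,7,124,1,8,16,32,128,512] [5,7,124,1,8,16,32,128,512] [(0,[1,2,4]),(0,[1,2,4]),(0,[1,2,4]),(32,[1,2,7]),(32,[1,2,7]),(32,[1,2,7]),(33,[2,1,4]),(0,[1,2,4]),(32,[1,2,7])] [⟨0,0,[],0,0,false⟩,⟨0,0,[],0,2,false⟩,⟨3,0,[⟨6,0,0,1⟩,⟨4,0,0,0⟩,⟨0,4,7,0⟩],2,2,false⟩,⟨5,0,[⟨6,0,0,0⟩,⟨4,0,0,1⟩,⟨4,1,0,2⟩,⟨0,4,7,0⟩,⟨5,0,8,0⟩],3,2,false⟩,⟨5,0,[⟨6,0,0,0⟩,⟨4,0,0,3⟩,⟨4,1,0,4⟩,⟨0,4,7,0⟩,⟨0,16,19,0⟩,⟨5,0,8,0⟩],4,5,false⟩,⟨2,0,[⟨6,0,0,1⟩,⟨4,0,0,5⟩,⟨4,4,0,6⟩,⟨4,8,0,7⟩,⟨0,1,2,0⟩],5,3,false⟩] [] = true := by decide +kernel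
theorem c20016032 : chkFrat M20234 E20014588 [5,7,124] [126,124,121] [5,7,124,1,8,16,32,128,512] [5,7,124,1,8,16,32,128,512] [(0,[1,2,4]),(0,[1,2,4]),(0,[1,2,4]),(32,[1,2,7]),(32,[1,2,7]),(32,[1,2,7]),(33,[2,1,4]),(0,[1,2,4]),(32,[1,2,7])] [⟨0,0,[],0,0,false⟩,⟨0,0,[],0,2,false⟩,⟨3,0,[⟨6,0,0,1⟩,⟨4,0,0,0⟩,⟨0,4,7,0⟩],2,2,false⟩,⟨5,0,[⟨6,0,0,0⟩,⟨4,0,0,1⟩,⟨4,1,0,2⟩,⟨0,4,7,0⟩,⟨5,0,8,0⟩],3,2,false⟩,⟨5,0,[⟨6,0,0,0⟩,⟨4,0,0,3⟩,⟨4,1,0,4⟩,⟨0,4,7,0⟩,⟨0,16,19,0⟩,⟨5,0,8,0⟩],4,5,false⟩,⟨2,0,[⟨6,0,0,1⟩,⟨4,0,0,5⟩,⟨4,4,0,6⟩,⟨4,8,0,7⟩,⟨0,1,2,0⟩],5,3,false⟩] [] = true := by decide +kernel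
theorem c20016368 : chkFrat M20234 E20014588 [5,7,124] [124,126,123] [5,7,124,1,8,16,32,128,512] [5,7,124,1,8,16,32,128,512] [(0,[1,2,4]),(0,[1,2,4]),(0,[1,2,4]),(32,[1,2,7]),(32,[1,2,7]),(32,[1,2,7]),(33,[2,1,4]),(0,[1,2,4]),(32,[1,2,7])] [⟨0,0,[],0,0,false⟩,⟨0,0,[],0,2,false⟩,⟨3,0,[⟨6,0,0,1⟩,⟨4,0,0,0⟩,⟨0,4,7,0⟩],2,2,false⟩,⟨5,0,[⟨6,0,0,0⟩,⟨4,0,0,1⟩,⟨4,1,0,2⟩,⟨0,4,7,0⟩,⟨5,0,8,0⟩],3,2,false⟩,⟨5,0,[⟨6,0,0,0⟩,⟨4,0,0,3⟩,⟨4,1,0,4⟩,⟨0,4,7,0⟩,⟨0,16,19,0⟩,⟨5,0,8,0⟩],4,5,false⟩,⟨2,0,[⟨6,0,0,1⟩,⟨4,0,0,5⟩,⟨4,4,0,6⟩,⟨4,8,0,7⟩,⟨0,1,2,0⟩],5,3,false⟩] [] = true := by decide +kernel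
theorem c20016501 : chkFrat M20234 E20014588 [5,7,124] [124,126,123] [5,7,124,1,8,16,32,128,512] [5,7,124,1,8,16,32,128,512] [(0,[1,2,4]),(0,[1,2,4]),(0,[1,2,4]),(32,[1,2,7]),(32,[1,2,7]),(32,[1,2,7]),(33,[2,1,4]),(0,[1,2,4]),(32,[1,2,7])] [⟨0,0,[],0,0,false⟩,⟨0,0,[],0,2,false⟩,⟨3,0,[⟨6,0,0,1⟩,⟨4,0,0,0⟩,⟨0,4,7,0⟩],2,2,false⟩,⟨5,0,[⟨6,0,0,0⟩,⟨4,0,0,1⟩,⟨4,1,0,2⟩,⟨0,4,7,0⟩,⟨5,0,8,0⟩],3,2,false⟩,⟨5,0,[⟨6,0,0,0⟩,⟨4,0,0,3⟩,⟨4,1,0,4⟩,⟨0,4,7,0⟩,⟨0,16,19,0⟩,⟨5,0,8,0⟩],4,5,false⟩,⟨2,0,[⟨6,0,0,1⟩,⟨4,0,0,5⟩,⟨4,4,0,6⟩,⟨4,8,0,7⟩,⟨0,1,2,0⟩],5,3,false⟩] [] = true := by decide +kernel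
theorem c20016522 : chkFrat M20234 E20014588 [5,7,124] [126,124,121] [5,7,124,1,8,16,32,128,512] [5,7,124,1,8,16,32,128,512] [(0,[1,2,4]),(0,[1,2,4]),(0,[1,2,4]),(32,[1,2,7]),(32,[1,2,7]),(32,[1,2,7]),(33,[2,1,4]),(0,[1,2,4]),(32,[1,2,7])] [⟨0,0,[],0,0,false⟩,⟨0,0,[],0,2,false⟩,⟨3,0,[⟨6,0,0,1⟩,⟨4,0,0,0⟩,⟨0,4,7,0⟩],2,2,false⟩,⟨5,0,[⟨6,0,0,0⟩,⟨4,0,0,1⟩,⟨4,1,0,2⟩,⟨0,4,7,0⟩,⟨5,0,8,0⟩],3,2,false⟩,⟨5,0,[⟨6,0,0,0⟩,⟨4,0,0,3⟩,⟨4,1,0,4⟩,⟨0,4,7,0⟩,⟨0,16,19,0⟩,⟨5,0,8,0⟩],4,5,false⟩,⟨2,0,[⟨6,0,0,1⟩,⟨4,0,0,5⟩,⟨4,4,0,6⟩,⟨4,8,0,7⟩,⟨0,1,2,0⟩],5,3,false⟩] [] = true := by decide +kernel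
theorem c20016589 : chkFrat M20234 E20014588 [5,7,124] [124,126,121] [5,7,124,1,8,16,32,128,512] [5,7,124,1,8,16,32,128,512] [(0,[1,2,4]),(0,[1,2,4]),(0,[1,2,4]),(32,[1,2,7]),(32,[1,2,7]),(32,[1,2,7]),(33,[2,1,4]),(0,[1,2,4]),(32,[1,2,7])] [⟨0,0,[],0,0,false⟩,⟨0,0,[],0,2,false⟩,⟨3,0,[⟨6,0,0,1⟩,⟨4,0,0,0⟩,⟨0,4,7,0⟩],2,2,false⟩,⟨5,0,[⟨6,0,0,0⟩,⟨4,0,0,1⟩,⟨4,1,0,2⟩,⟨0,4,7,0⟩,⟨5,0,8,0⟩],3,2,false⟩,⟨5,0,[⟨6,0,0,0⟩,⟨4,0,0,3⟩,⟨4,1,0,4⟩,⟨0,4,7,0⟩,⟨0,16,19,0⟩,⟨5,0,8,0⟩],4,5,false⟩,⟨2,0,[⟨6,0,0,1⟩,⟨4,0,0,5⟩,⟨4,4,0,6⟩,⟨4,8,0,7⟩,⟨0,1,2,0⟩],5,3,false⟩] [] = true := by decide +kernel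
theorem c20016672 : chkFrat M20234 E20014588 [5,7,124] [124,126,121] [5,7,124,1,8,16,32,128,512] [5,7,124,1,8,16,32,128,512] [(0,[1,2,4]),(0,[1,2,4]),(0,[1,2,4]),(32,[1,2,7]),(32,[1,2,7]),(32,[1,2,7]),(33,[2,1,4]),(0,[1,2,4]),(32,[1,2,7])] [⟨0,0,[],0,0,false⟩,⟨0,0,[],0,2,false⟩,⟨3,0,[⟨6,0,0,1⟩,⟨4,0,0,0⟩,⟨0,4,7,0⟩],2,2,false⟩,⟨5,0,[⟨6,0,0,0⟩,⟨4,0,0,1⟩,⟨4,1,0,2⟩,⟨0,4,7,0⟩,⟨5,0,8,0⟩],3,2,false⟩,⟨5,0,[⟨6,0,0,0⟩,⟨4,0,0,3⟩,⟨4,1,0,4⟩,⟨0,4,7,0⟩,⟨0,16,19,0⟩,⟨5,0,8,0⟩],4,5,false⟩,⟨2,0,[⟨6,0,0,1⟩,⟨4,0,0,5⟩,⟨4,4,0,6⟩,⟨4,8,0,7⟩,⟨0,1,2,0⟩],5,3,false⟩] [] = true := by decide +kernel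
theorem c20016793 : chkFrat M20234 E20014588 [5,7,124] [126,124,123] [5,7,124,1,8,16,32,128,512] [5,7,124,1,8,16,32,128,512] [(0,[1,2,4]),(0,[1,2,4]),(0,[1,2,4]),(32,[1,2,7]),(32,[1,2,7]),(32,[1,2,7]),(33,[2,1,4]),(0,[1,2,4]),(32,[1,2,7])] [⟨0,0,[],0,0,false⟩,⟨0,0,[],0,2,false⟩,⟨3,0,[⟨6,0,0,1⟩,⟨4,0,0,0⟩,⟨0,4,7,0⟩],2,2,false⟩,⟨5,0,[⟨6,0,0,0⟩,⟨4,0,0,1⟩,⟨4,1,0,2⟩,⟨0,4,7,0⟩,⟨5,0,8,0⟩],3,2,false⟩,⟨5,0,[⟨6,0,0,0⟩,⟨4,0,0,3⟩,⟨4,1,0,4⟩,⟨0,4,7,0⟩,⟨0,16,19,0⟩,⟨5,0,8,0⟩],4,5,false⟩,⟨2,0,[⟨6,0,0,1⟩,⟨4,0,0,5⟩,⟨4,4,0,6⟩,⟨4,8,0,7⟩,⟨0,1,2,0⟩],5,3,false⟩] [] = true := by decide +kernel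
theorem c20016872 : chkFrat M20234 E20014588 [5,7,124] [124,126,123] [5,7,124,1,8,16,32,128,512] [5,7,124,1,8,16,32,128,512] [(0,[1,2,4]),(0,[1,2,4]),(0,[1,2,4]),(32,[1,2,7]),(32,[1,2,7]),(32,[1,2,7]),(33,[2,1,4]),(0,[1,2,4]),(32,[1,2,7])] [⟨0,0,[],0,0,false⟩,⟨0,0,[],0,2,false⟩,⟨3,0,[⟨6,0,0,1⟩,⟨4,0,0,0⟩,⟨0,4,7,0⟩],2,2,false⟩,⟨5,0,[⟨6,0,0,0⟩,⟨4,0,0,1⟩,⟨4,1,0,2⟩,⟨0,4,7,0⟩,⟨5,0,8,0⟩],3,2,false⟩,⟨5,0,[⟨6,0,0,0⟩,⟨4,0,0,3⟩,⟨4,1,0,4⟩,⟨0,4,7,0⟩,⟨0,16,19,0⟩,⟨5,0,8,0⟩],4,5,false⟩,⟨2,0,[⟨6,0,0,1⟩,⟨4,0,0,5⟩,⟨4,4,0,6⟩,⟨4,8,0,7⟩,⟨0,1,2,0⟩],5,3,false⟩] [] = true := by decide +kernel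
theorem c20016963 : chkFrat M20234 E20014588 [5,7,124] [124,126,123] [5,7,124,1,8,16,32,128,512] [5,7,124,1,8,16,32,128,512] [(0,[1,2,4]),(0,[1,2,4]),(0,[1,2,4]),(32,[1,2,7]),(32,[1,2,7]),(32,[1,2,7]),(33,[2,1,4]),(0,[1,2,4]),(32,[1,2,7])] [⟨0,0,[],0,0,false⟩,⟨0,0,[],0,2,false⟩,⟨3,0,[⟨6,0,0,1⟩,⟨4,0,0,0⟩,⟨0,4,7,0⟩],2,2,false⟩,⟨5,0,[⟨6,0,0,0⟩,⟨4,0,0,1⟩,⟨4,1,0,2⟩,⟨0,4,7,0⟩,⟨5,0,8,0⟩],3,2,false⟩,⟨5,0,[⟨6,0,0,0⟩,⟨4,0,0,3⟩,⟨4,1,0,4⟩,⟨0,4,7,0⟩,⟨0,16,19,0⟩,⟨5,0,8,0⟩],4,5,false⟩,⟨2,0,[⟨6,0,0,1⟩,⟨4,0,0,5⟩,⟨4,4,0,6⟩,⟨4,8,0,7⟩,⟨0,1,2,0⟩],5,3,false⟩] [] = true := by decide +kernel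
theorem c20017030 : chkFrat M20234 E20014588 [5,7,124] [126,124,123] [5,7,124,1,8,16,32,128,512] [5,7,124,1,8,16,32,128,512] [(0,[1,2,4]),(0,[1,2,4]),(0,[1,2,4]),(32,[1,2,7]),(32,[1,2,7]),(32,[1,2,7]),(33,[2,1,4]),(0,[1,2,4]),(32,[1,2,7])] [⟨0,0,[],0,0,false⟩,⟨0,0,[],0,2,false⟩,⟨3,0,[⟨6,0,0,1⟩,⟨4,0,0,0⟩,⟨0,4,7,0⟩],2,2,false⟩,⟨5,0,[⟨6,0,0,0⟩,⟨4,0,0,1⟩,⟨4,1,0,2⟩,⟨0,4,7,0⟩,⟨5,0,8,0⟩],3,2,false⟩,⟨5,0,[⟨6,0,0,0⟩,⟨4,0,0,3⟩,⟨4,1,0,4⟩,⟨0,4,7,0⟩,⟨0,16,19,0⟩,⟨5,0,8,0⟩],4,5,false⟩,⟨2,0,[⟨6,0,0,1⟩,⟨4,0,0,5⟩,⟨4,4,0,6⟩,⟨4,8,0,7⟩,⟨0,1,2,0⟩],5,3,false⟩] [] = true := by decide +kernel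
theorem c20017105 : chkFrat M20234 E20014588 [5,7,124] [124,126,123] [5,7,124,1,8,16,32,128,512] [5,7,124,1,8,16,32,128,512] [(0,[1,2,4]),(0,[1,2,4]),(0,[1,2,4]),(32,[1,2,7]),(32,[1,2,7]),(32,[1,2,7]),(33,[2,1,4]),(0,[1,2,4]),(32,[1,2,7])] [⟨0,0,[],0,0,false⟩,⟨0,0,[],0,2,false⟩,⟨3,0,[⟨6,0,0,1⟩,⟨4,0,0,0⟩,⟨0,4,7,0⟩],2,2,false⟩,⟨5,0,[⟨6,0,0,0⟩,⟨4,0,0,1⟩,⟨4,1,0,2⟩,⟨0,4,7,0⟩,⟨5,0,8,0⟩],3,2,false⟩,⟨5,0,[⟨6,0,0,0⟩,⟨4,0,0,3⟩,⟨4,1,0,4⟩,⟨0,4,7,0⟩,⟨0,16,19,0⟩,⟨5,0,8,0⟩],4,5,false⟩,⟨2,0,[⟨6,0,0,1⟩,⟨4,0,0,5⟩,⟨4,4,0,6⟩,⟨4,8,0,7⟩,⟨0,1,2,0⟩],5,3,false⟩] [] = true := by decide +kernel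
theorem c20017192 : chkFrat M20234 E20014588 [5,7,124] [126,124,121] [5,7,124,1,8,16,32,128,512] [5,7,124,1,8,16,32,128,512] [(0,[1,2,4]),(0,[1,2,4]),(0,[1,2,4]),(32,[1,2,7]),(32,[1,2,7]),(32,[1,2,7]),(33,[2,1,4]),(0,[1,2,4]),(32,[1,2,7])] [⟨0,0,[],0,0,false⟩,⟨0,0,[],0,2,false⟩,⟨3,0,[⟨6,0,0,1⟩,⟨4,0,0,0⟩,⟨0,4,7,0⟩],2,2,false⟩,⟨5,0,[⟨6,0,0,0⟩,⟨4,0,0,1⟩,⟨4,1,0,2⟩,⟨0,4,7,0⟩,⟨5,0,8,0⟩],3,2,false⟩,⟨5,0,[⟨6,0,0,0⟩,⟨4,0,0,3⟩,⟨4,1,0,4⟩,⟨0,4,7,0⟩,⟨0,16,19,0⟩,⟨5,0,8,0⟩],4,5,false⟩,⟨2,0,[⟨6,0,0,1⟩,⟨4,0,0,5⟩,⟨4,4,0,6⟩,⟨4,8,0,7⟩,⟨0,1,2,0⟩],5,3,false⟩] [] = true := by decide +kernel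
theorem c20017313 : chkFrat M20234 E20014588 [5,7,124] [126,124,121] [5,7,124,1,8,16,32,128,512] [5,7,124,1,8,16,32,128,512] [(0,[1,2,4]),(0,[1,2,4]),(0,[1,2,4]),(32,[1,2,7]),(32,[1,2,7]),(32,[1,2,7]),(33,[2,1,4]),(0,[1,2,4]),(32,[1,2,7])] [⟨0,0,[],0,0,false⟩,⟨0,0,[],0,2,false⟩,⟨3,0,[⟨6,0,0,1⟩,⟨4,0,0,0⟩,⟨0,4,7,0⟩],2,2,false⟩,⟨5,0,[⟨6,0,0,0⟩,⟨4,0,0,1⟩,⟨4,1,0,2⟩,⟨0,4,7,0⟩,⟨5,0,8,0⟩],3,2,false⟩,⟨5,0,[⟨6,0,0,0⟩,⟨4,0,0,3⟩,⟨4,1,0,4⟩,⟨0,4,7,0⟩,⟨0,16,19,0⟩,⟨5,0,8,0⟩],4,5,false⟩,⟨2,0,[⟨6,0,0,1⟩,⟨4,0,0,5⟩,⟨4,4,0,6⟩,⟨4,8,0,7⟩,⟨0,1,2,0⟩],5,3,false⟩] [] = true := by decide +kernel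
theorem c20017412 : chkFrat M20234 E20014588 [5,7,124] [124,126,121] [5,7,124,1,8,16,32,128,512] [5,7,124,1,8,16,32,128,512] [(0,[1,2,4]),(0,[1,2,4]),(0,[1,2,4]),(32,[1,2,7]),(32,[1,2,7]),(32,[1,2,7]),(33,[2,1,4]),(0,[1,2,4]),(32,[1,2,7])] [⟨0,0,[],0,0,false⟩,⟨0,0,[],0,2,false⟩,⟨3,0,[⟨6,0,0,1⟩,⟨4,0,0,0⟩,⟨0,4,7,0⟩],2,2,false⟩,⟨5,0,[⟨6,0,0,0⟩,⟨4,0,0,1⟩,⟨4,1,0,2⟩,⟨0,4,7,0⟩,⟨5,0,8,0⟩],3,2,false⟩,⟨5,0,[⟨6,0,0,0⟩,⟨4,0,0,3⟩,⟨4,1,0,4⟩,⟨0,4,7,0⟩,⟨0,16,19,0⟩,⟨5,0,8,0⟩],4,5,false⟩,⟨2,0,[⟨6,0,0,1⟩,⟨4,0,0,5⟩,⟨4,4,0,6⟩,⟨4,8,0,7⟩,⟨0,1,2,0⟩],5,3,false⟩] [] = true := by decide +kernel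
theorem c20017549 : chkFrat M20234 E20014588 [5,7,124] [124,126,121] [5,7,124,1,8,16,32,128,512] [5,7,124,1,8,16,32,128,512] [(0,[1,2,4]),(0,[1,2,4]),(0,[1,2,4]),(32,[1,2,7]),(32,[1,2,7]),(32,[1,2,7]),(33,[2,1,4]),(0,[1,2,4]),(32,[1,2,7])] [⟨0,0,[],0,0,false⟩,⟨0,0,[],0,2,false⟩,⟨3,0,[⟨6,0,0,1⟩,⟨4,0,0,0⟩,⟨0,4,7,0⟩],2,2,false⟩,⟨5,0,[⟨6,0,0,0⟩,⟨4,0,0,1⟩,⟨4,1,0,2⟩,⟨0,4,7,0⟩,⟨5,0,8,0⟩],3,2,false⟩,⟨5,0,[⟨6,0,0,0⟩,⟨4,0,0,3⟩,⟨4,1,0,4⟩,⟨0,4,7,0⟩,⟨0,16,19,0⟩,⟨5,0,8,0⟩],4,5,false⟩,⟨2,0,[⟨6,0,0,1⟩,⟨4,0,0,5⟩,⟨4,4,0,6⟩,⟨4,8,0,7⟩,⟨0,1,2,0⟩],5,3,false⟩] [] = true := by decide +kernel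
theorem c20017636 : chkFrat M20234 E20014588 [5,7,124] [126,124,121] [5,7,124,1,8,16,32,128,512] [5,7,124,1,8,16,32,128,512] [(0,[1,2,4]),(0,[1,2,4]),(0,[1,2,4]),(32,[1,2,7]),(32,[1,2,7]),(32,[1,2,7]),(33,[2,1,4]),(0,[1,2,4]),(32,[1,2,7])] [⟨0,0,[],0,0,false⟩,⟨0,0,[],0,2,false⟩,⟨3,0,[⟨6,0,0,1⟩,⟨4,0,0,0⟩,⟨0,4,7,0⟩],2,2,false⟩,⟨5,0,[⟨6,0,0,0⟩,⟨4,0,0,1⟩,⟨4,1,0,2⟩,⟨0,4,7,0⟩,⟨5,0,8,0⟩],3,2,false⟩,⟨5,0,[⟨6,0,0,0⟩,⟨4,0,0,3⟩,⟨4,1,0,4⟩,⟨0,4,7,0⟩,⟨0,16,19,0⟩,⟨5,0,8,0⟩],4,5,false⟩,⟨2,0,[⟨6,0,0,1⟩,⟨4,0,0,5⟩,⟨4,4,0,6⟩,⟨4,8,0,7⟩,⟨0,1,2,0⟩],5,3,false⟩] [] = true := by decide +kernel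
theorem c20017703 : chkFrat M20234 E20014588 [5,7,124] [126,124,123] [5,7,124,1,8,16,32,128,512] [5,7,124,1,8,16,32,128,512] [(0,[1,2,4]),(0,[1,2,4]),(0,[1,2,4]),(32,[1,2,7]),(32,[1,2,7]),(32,[1,2,7]),(33,[2,1,4]),(0,[1,2,4]),(32,[1,2,7])] [⟨0,0,[],0,0,false⟩,⟨0,0,[],0,2,false⟩,⟨3,0,[⟨6,0,0,1⟩,⟨4,0,0,0⟩,⟨0,4,7,0⟩],2,2,false⟩,⟨5,0,[⟨6,0,0,0⟩,⟨4,0,0,1⟩,⟨4,1,0,2⟩,⟨0,4,7,0⟩,⟨5,0,8,0⟩],3,2,false⟩,⟨5,0,[⟨6,0,0,0⟩,⟨4,0,0,3⟩,⟨4,1,0,4⟩,⟨0,4,7,0⟩,⟨0,16,19,0⟩,⟨5,0,8,0⟩],4,5,false⟩,⟨2,0,[⟨6,0,0,1⟩,⟨4,0,0,5⟩,⟨4,4,0,6⟩,⟨4,8,0,7⟩,⟨0,1,2,0⟩],5,3,false⟩] [] = true := by decide +kernel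
theorem c20017773 : chkFrat M20234 E20014588 [5,7,124] [126,124,121] [5,7,124,1,8,16,32,128,512] [5,7,124,1,8,16,32,128,512] [(0,[1,2,4]),(0,[1,2,4]),(0,[1,2,4]),(32,[1,2,7]),(32,[1,2,7]),(32,[1,2,7]),(33,[2,1,4]),(0,[1,2,4]),(32,[1,2,7])] [⟨0,0,[],0,0,false⟩,⟨0,0,[],0,2,false⟩,⟨3,0,[⟨6,0,0,1⟩,⟨4,0,0,0⟩,⟨0,4,7,0⟩],2,2,false⟩,⟨5,0,[⟨6,0,0,0⟩,⟨4,0,0,1⟩,⟨4,1,0,2⟩,⟨0,4,7,0⟩,⟨5,0,8,0⟩],3,2,false⟩,⟨5,0,[⟨6,0,0,0⟩,⟨4,0,0,3⟩,⟨4,1,0,4⟩,⟨0,4,7,0⟩,⟨0,16,19,0⟩,⟨5,0,8,0⟩],4,5,false⟩,⟨2,0,[⟨6,0,0,1⟩,⟨4,0,0,5⟩,⟨4,4,0,6⟩,⟨4,8,0,7⟩,⟨0,1,2,0⟩],5,3,false⟩] [] = true := by decide +kernel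
theorem c20017897 : chkFrat M20234 E20014588 [5,7,124] [124,126,123] [5,7,124,1,8,16,32,128,512] [5,7,124,1,8,16,32,128,512] [(0,[1,2,4]),(0,[1,2,4]),(0,[1,2,4]),(32,[1,2,7]),(32,[1,2,7]),(32,[1,2,7]),(33,[2,1,4]),(0,[1,2,4]),(32,[1,2,7])] [⟨0,0,[],0,0,false⟩,⟨0,0,[],0,2,false⟩,⟨3,0,[⟨6,0,0,1⟩,⟨4,0,0,0⟩,⟨0,4,7,0⟩],2,2,false⟩,⟨5,0,[⟨6,0,0,0⟩,⟨4,0,0,1⟩,⟨4,1,0,2⟩,⟨0,4,7,0⟩,⟨5,0,8,0⟩],3,2,false⟩,⟨5,0,[⟨6,0,0,0⟩,⟨4,0,0,3⟩,⟨4,1,0,4⟩,⟨0,4,7,0⟩,⟨0,16,19,0⟩,⟨5,0,8,0⟩],4,5,false⟩,⟨2,0,[⟨6,0,0,1⟩,⟨4,0,0,5⟩,⟨4,4,0,6⟩,⟨4,8,0,7⟩,⟨0,1,2,0⟩],5,3,false⟩] [] = true := by decide +kernel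
theorem c20017989 : chkFrat M20234 E20014588 [5,7,124] [126,124,123] [5,7,124,1,8,16,32,128,512] [5,7,124,1,8,16,32,128,512] [(0,[1,2,4]),(0,[1,2,4]),(0,[1,2,4]),(32,[1,2,7]),(32,[1,2,7]),(32,[1,2,7]),(33,[2,1,4]),(0,[1,2,4]),(32,[1,2,7])] [⟨0,0,[],0,0,false⟩,⟨0,0,[],0,2,false⟩,⟨3,0,[⟨6,0,0,1⟩,⟨4,0,0,0⟩,⟨0,4,7,0⟩],2,2,false⟩,⟨5,0,[⟨6,0,0,0⟩,⟨4,0,0,1⟩,⟨4,1,0,2⟩,⟨0,4,7,0⟩,⟨5,0,8,0⟩],3,2,false⟩,⟨5,0,[⟨6,0,0,0⟩,⟨4,0,0,3⟩,⟨4,1,0,4⟩,⟨0,4,7,0⟩,⟨0,16,19,0⟩,⟨5,0,8,0⟩],4,5,false⟩,⟨2,0,[⟨6,0,0,1⟩,⟨4,0,0,5⟩,⟨4,4,0,6⟩,⟨4,8,0,7⟩,⟨0,1,2,0⟩],5,3,false⟩] [] = true := by decide +kernel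
theorem c20018372 : chkFrat M20234 E20014588 [5,7,124] [126,124,123] [5,7,124,1,8,16,32,128,512] [5,7,124,1,8,16,32,128,512] [(0,[1,2,4]),(0,[1,2,4]),(0,[1,2,4]),(32,[1,2,7]),(32,[1,2,7]),(32,[1,2,7]),(33,[2,1,4]),(0,[1,2,4]),(32,[1,2,7])] [⟨0,0,[],0,0,false⟩,⟨0,0,[],0,2,false⟩,⟨3,0,[⟨6,0,0,1⟩,⟨4,0,0,0⟩,⟨0,4,7,0⟩],2,2,false⟩,⟨5,0,[⟨6,0,0,0⟩,⟨4,0,0,1⟩,⟨4,1,0,2⟩,⟨0,4,7,0⟩,⟨5,0,8,0⟩],3,2,false⟩,⟨5,0,[⟨6,0,0,0⟩,⟨4,0,0,3⟩,⟨4,1,0,4⟩,⟨0,4,7,0⟩,⟨0,16,19,0⟩,⟨5,0,8,0⟩],4,5,false⟩,⟨2,0,[⟨6,0,0,1⟩,⟨4,0,0,5⟩,⟨4,4,0,6⟩,⟨4,8,0,7⟩,⟨0,1,2,0⟩],5,3,false⟩] [] = true := by decide +kernel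
theorem c20018695 : chkFrat M20234 E20014588 [5,7,124] [124,126,123] [5,7,124,1,8,16,32,128,512] [5,7,124,1,8,16,32,128,512] [(0,[1,2,4]),(0,[1,2,4]),(0,[1,2,4]),(32,[1,2,7]),(32,[1,2,7]),(32,[1,2,7]),(33,[2,1,4]),(0,[1,2,4]),(32,[1,2,7])] [⟨0,0,[],0,0,false⟩,⟨0,0,[],0,2,false⟩,⟨3,0,[⟨6,0,0,1⟩,⟨4,0,0,0⟩,⟨0,4,7,0⟩],2,2,false⟩,⟨5,0,[⟨6,0,0,0⟩,⟨4,0,0,1⟩,⟨4,1,0,2⟩,⟨0,4,7,0⟩,⟨5,0,8,0⟩],3,2,false⟩,⟨5,0,[⟨6,0,0,0⟩,⟨4,0,0,3⟩,⟨4,1,0,4⟩,⟨0,4,7,0⟩,⟨0,16,19,0⟩,⟨5,0,8,0⟩],4,5,false⟩,⟨2,0,[⟨6,0,0,1⟩,⟨4,0,0,5⟩,⟨4,4,0,6⟩,⟨4,8,0,7⟩,⟨0,1,2,0⟩],5,3,false⟩] [] = true := by decide +kernel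
theorem c20018857 : chkFrat M20234 E20014588 [5,7,124] [124,126,121] [5,7,124,1,8,16,32,128,512] [5,7,124,1,8,16,32,128,512] [(0,[1,2,4]),(0,[1,2,4]),(0,[1,2,4]),(32,[1,2,7]),(32,[1,2,7]),(32,[1,2,7]),(33,[2,1,4]),(0,[1,2,4]),(32,[1,2,7])] [⟨0,0,[],0,0,false⟩,⟨0,0,[],0,2,false⟩,⟨3,0,[⟨6,0,0,1⟩,⟨4,0,0,0⟩,⟨0,4,7,0⟩],2,2,false⟩,⟨5,0,[⟨6,0,0,0⟩,⟨4,0,0,1⟩,⟨4,1,0,2⟩,⟨0,4,7,0⟩,⟨5,0,8,0⟩],3,2,false⟩,⟨5,0,[⟨6,0,0,0⟩,⟨4,0,0,3⟩,⟨4,1,0,4⟩,⟨0,4,7,0⟩,⟨0,16,19,0⟩,⟨5,0,8,0⟩],4,5,false⟩,⟨2,0,[⟨6,0,0,1⟩,⟨4,0,0,5⟩,⟨4,4,0,6⟩,⟨4,8,0,7⟩,⟨0,1,2,0⟩],5,3,false⟩] [] = true := by decide +kernel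
theorem c20018881 : chkFrat M20234 E20014588 [5,7,124] [126,124,121] [5,7,124,1,8,16,32,128,512] [5,7,124,1,8,16,32,128,512] [(0,[1,2,4]),(0,[1,2,4]),(0,[1,2,4]),(32,[1,2,7]),(32,[1,2,7]),(32,[1,2,7]),(33,[2,1,4]),(0,[1,2,4]),(32,[1,2,7])] [⟨0,0,[],0,0,false⟩,⟨0,0,[],0,2,false⟩,⟨3,0,[⟨6,0,0,1⟩,⟨4,0,0,0⟩,⟨0,4,7,0⟩],2,2,false⟩,⟨5,0,[⟨6,0,0,0⟩,⟨4,0,0,1⟩,⟨4,1,0,2⟩,⟨0,4,7,0⟩,⟨5,0,8,0⟩],3,2,false⟩,⟨5,0,[⟨6,0,0,0⟩,⟨4,0,0,3⟩,⟨4,1,0,4⟩,⟨0,4,7,0⟩,⟨0,16,19,0⟩,⟨5,0,8,0⟩],4,5,false⟩,⟨2,0,[⟨6,0,0,1⟩,⟨4,0,0,5⟩,⟨4,4,0,6⟩,⟨4,8,0,7⟩,⟨0,1,2,0⟩],5,3,false⟩] [] = true := by decide +kernel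
theorem c20018951 : chkFrat M20234 E20014588 [5,7,124] [124,126,121] [5,7,124,1,8,16,32,128,512] [5,7,124,1,8,16,32,128,512] [(0,[1,2,4]),(0,[1,2,4]),(0,[1,2,4]),(32,[1,2,7]),(32,[1,2,7]),(32,[1,2,7]),(33,[2,1,4]),(0,[1,2,4]),(32,[1,2,7])] [⟨0,0,[],0,0,false⟩,⟨0,0,[],0,2,false⟩,⟨3,0,[⟨6,0,0,1⟩,⟨4,0,0,0⟩,⟨0,4,7,0⟩],2,2,false⟩,⟨5,0,[⟨6,0,0,0⟩,⟨4,0,0,1⟩,⟨4,1,0,2⟩,⟨0,4,7,0⟩,⟨5,0,8,0⟩],3,2,false⟩,⟨5,0,[⟨6,0,0,0⟩,⟨4,0,0,3⟩,⟨4,1,0,4⟩,⟨0,4,7,0⟩,⟨0,16,19,0⟩,⟨5,0,8,0⟩],4,5,false⟩,⟨2,0,[⟨6,0,0,1⟩,⟨4,0,0,5⟩,⟨4,4,0,6⟩,⟨4,8,0,7⟩,⟨0,1,2,0⟩],5,3,false⟩] [] = true := by decide +kernel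
theorem c20019019 : chkFrat M20234 E20014588 [5,7,124] [124,126,121] [5,7,124,1,8,16,32,128,512] [5,7,124,1,8,16,32,128,512] [(0,[1,2,4]),(0,[1,2,4]),(0,[1,2,4]),(32,[1,2,7]),(32,[1,2,7]),(32,[1,2,7]),(33,[2,1,4]),(0,[1,2,4]),(32,[1,2,7])] [⟨0,0,[],0,0,false⟩,⟨0,0,[],0,2,false⟩,⟨3,0,[⟨6,0,0,1⟩,⟨4,0,0,0⟩,⟨0,4,7,0⟩],2,2,false⟩,⟨5,0,[⟨6,0,0,0⟩,⟨4,0,0,1⟩,⟨4,1,0,2⟩,⟨0,4,7,0⟩,⟨5,0,8,0⟩],3,2,false⟩,⟨5,0,[⟨6,0,0,0⟩,⟨4,0,0,3⟩,⟨4,1,0,4⟩,⟨0,4,7,0⟩,⟨0,16,19,0⟩,⟨5,0,8,0⟩],4,5,false⟩,⟨2,0,[⟨6,0,0,1⟩,⟨4,0,0,5⟩,⟨4,4,0,6⟩,⟨4,8,0,7⟩,⟨0,1,2,0⟩],5,3,false⟩] [] = true := by decide +kernel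
theorem c20019077 : chkFrat M20234 E20014588 [5,7,124] [124,126,121] [5,7,124,1,8,16,32,128,512] [5,7,124,1,8,16,32,128,512] [(0,[1,2,4]),(0,[1,2,4]),(0,[1,2,4]),(32,[1,2,7]),(32,[1,2,7]),(32,[1,2,7]),(33,[2,1,4]),(0,[1,2,4]),(32,[1,2,7])] [⟨0,0,[],0,0,false⟩,⟨0,0,[],0,2,false⟩,⟨3,0,[⟨6,0,0,1⟩,⟨4,0,0,0⟩,⟨0,4,7,0⟩],2,2,false⟩,⟨5,0,[⟨6,0,0,0⟩,⟨4,0,0,1⟩,⟨4,1,0,2⟩,⟨0,4,7,0⟩,⟨5,0,8,0⟩],3,2,false⟩,⟨5,0,[⟨6,0,0,0⟩,⟨4,0,0,3⟩,⟨4,1,0,4⟩,⟨0,4,7,0⟩,⟨0,16,19,0⟩,⟨5,0,8,0⟩],4,5,false⟩,⟨2,0,[⟨6,0,0,1⟩,⟨4,0,0,5⟩,⟨4,4,0,6⟩,⟨4,8,0,7⟩,⟨0,1,2,0⟩],5,3,false⟩] [] = true := by decide +kernel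
theorem c20019107 : chkFrat M20234 E20014588 [5,7,124] [124,126,123] [5,7,124,1,8,16,32,128,512] [5,7,124,1,8,16,32,128,512] [(0,[1,2,4]),(0,[1,2,4]),(0,[1,2,4]),(32,[1,2,7]),(32,[1,2,7]),(32,[1,2,7]),(33,[2,1,4]),(0,[1,2,4]),(32,[1,2,7])] [⟨0,0,[],0,0,false⟩,⟨0,0,[],0,2,false⟩,⟨3,0,[⟨6,0,0,1⟩,⟨4,0,0,0⟩,⟨0,4,7,0⟩],2,2,false⟩,⟨5,0,[⟨6,0,0,0⟩,⟨4,0,0,1⟩,⟨4,1,0,2⟩,⟨0,4,7,0⟩,⟨5,0,8,0⟩],3,2,false⟩,⟨5,0,[⟨6,0,0,0⟩,⟨4,0,0,3⟩,⟨4,1,0,4⟩,⟨0,4,7,0⟩,⟨0,16,19,0⟩,⟨5,0,8,0⟩],4,5,false⟩,⟨2,0,[⟨6,0,0,1⟩,⟨4,0,0,5⟩,⟨4,4,0,6⟩,⟨4,8,0,7⟩,⟨0,1,2,0⟩],5,3,false⟩] [] = true := by decide +kernel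
theorem c20019173 : chkFrat M20234 E20014588 [5,7,124] [126,124,123] [5,7,124,1,8,16,32,128,512] [5,7,124,1,8,16,32,128,512] [(0,[1,2,4]),(0,[1,2,4]),(0,[1,2,4]),(32,[1,2,7]),(32,[1,2,7]),(32,[1,2,7]),(33,[2,1,4]),(0,[1,2,4]),(32,[1,2,7])] [⟨0,0,[],0,0,false⟩,⟨0,0,[],0,2,false⟩,⟨3,0,[⟨6,0,0,1⟩,⟨4,0,0,0⟩,⟨0,4,7,0⟩],2,2,false⟩,⟨5,0,[⟨6,0,0,0⟩,⟨4,0,0,1⟩,⟨4,1,0,2⟩,⟨0,4,7,0⟩,⟨5,0,8,0⟩],3,2,false⟩,⟨5,0,[⟨6,0,0,0⟩,⟨4,0,0,3⟩,⟨4,1,0,4⟩,⟨0,4,7,0⟩,⟨0,16,19,0⟩,⟨5,0,8,0⟩],4,5,false⟩,⟨2,0,[⟨6,0,0,1⟩,⟨4,0,0,5⟩,⟨4,4,0,6⟩,⟨4,8,0,7⟩,⟨0,1,2,0⟩],5,3,false⟩] [] = true := by decide +kernel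
theorem c20019243 : chkFrat M20234 E20014588 [5,7,124] [124,126,123] [5,7,124,1,8,16,32,128,512] [5,7,124,1,8,16,32,128,512] [(0,[1,2,4]),(0,[1,2,4]),(0,[1,2,4]),(32,[1,2,7]),(32,[1,2,7]),(32,[1,2,7]),(33,[2,1,4]),(0,[1,2,4]),(32,[1,2,7])] [⟨0,0,[],0,0,false⟩,⟨0,0,[],0,2,false⟩,⟨3,0,[⟨6,0,0,1⟩,⟨4,0,0,0⟩,⟨0,4,7,0⟩],2,2,false⟩,⟨5,0,[⟨6,0,0,0⟩,⟨4,0,0,1⟩,⟨4,1,0,2⟩,⟨0,4,7,0⟩,⟨5,0,8,0⟩],3,2,false⟩,⟨5,0,[⟨6,0,0,0⟩,⟨4,0,0,3⟩,⟨4,1,0,4⟩,⟨0,4,7,0⟩,⟨0,16,19,0⟩,⟨5,0,8,0⟩],4,5,false⟩,⟨2,0,[⟨6,0,0,1⟩,⟨4,0,0,5⟩,⟨4,4,0,6⟩,⟨4,8,0,7⟩,⟨0,1,2,0⟩],5,3,false⟩] [] = true := by decide +kernel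
theorem c20019287 : chkFrat M20234 E20014588 [5,7,124] [124,126,123] [5,7,124,1,8,16,32,128,512] [5,7,124,1,8,16,32,128,512] [(0,[1,2,4]),(0,[1,2,4]),(0,[1,2,4]),(32,[1,2,7]),(32,[1,2,7]),(32,[1,2,7]),(33,[2,1,4]),(0,[1,2,4]),(32,[1,2,7])] [⟨0,0,[],0,0,false⟩,⟨0,0,[],0,2,false⟩,⟨3,0,[⟨6,0,0,1⟩,⟨4,0,0,0⟩,⟨0,4,7,0⟩],2,2,false⟩,⟨5,0,[⟨6,0,0,0⟩,⟨4,0,0,1⟩,⟨4,1,0,2⟩,⟨0,4,7,0⟩,⟨5,0,8,0⟩],3,2,false⟩,⟨5,0,[⟨6,0,0,0⟩,⟨4,0,0,3⟩,⟨4,1,0,4⟩,⟨0,4,7,0⟩,⟨0,16,19,0⟩,⟨5,0,8,0⟩],4,5,false⟩,⟨2,0,[⟨6,0,0,1⟩,⟨4,0,0,5⟩,⟨4,4,0,6⟩,⟨4,8,0,7⟩,⟨0,1,2,0⟩],5,3,false⟩] [] = true := by decide +kernel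
theorem c20019449 : chkFrat M20234 E20014588 [5,7,124] [124,126,121] [5,7,124,1,8,16,32,128,512] [5,7,124,1,8,16,32,128,512] [(0,[1,2,4]),(0,[1,2,4]),(0,[1,2,4]),(32,[1,2,7]),(32,[1,2,7]),(32,[1,2,7]),(33,[2,1,4]),(0,[1,2,4]),(32,[1,2,7])] [⟨0,0,[],0,0,false⟩,⟨0,0,[],0,2,false⟩,⟨3,0,[⟨6,0,0,1⟩,⟨4,0,0,0⟩,⟨0,4,7,0⟩],2,2,false⟩,⟨5,0,[⟨6,0,0,0⟩,⟨4,0,0,1⟩,⟨4,1,0,2⟩,⟨0,4,7,0⟩,⟨5,0,8,0⟩],3,2,false⟩,⟨5,0,[⟨6,0,0,0⟩,⟨4,0,0,3⟩,⟨4,1,0,4⟩,⟨0,4,7,0⟩,⟨0,16,19,0⟩,⟨5,0,8,0⟩],4,5,false⟩,⟨2,0,[⟨6,0,0,1⟩,⟨4,0,0,5⟩,⟨4,4,0,6⟩,⟨4,8,0,7⟩,⟨0,1,2,0⟩],5,3,false⟩] [] = true := by decide +kernel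
theorem c20019473 : chkFrat M20234 E20014588 [5,7,124] [126,124,121] [5,7,124,1,8,16,32,128,512] [5,7,124,1,8,16,32,128,512] [(0,[1,2,4]),(0,[1,2,4]),(0,[1,2,4]),(32,[1,2,7]),(32,[1,2,7]),(32,[1,2,7]),(33,[2,1,4]),(0,[1,2,4]),(32,[1,2,7])] [⟨0,0,[],0,0,false⟩,⟨0,0,[],0,2,false⟩,⟨3,0,[⟨6,0,0,1⟩,⟨4,0,0,0⟩,⟨0,4,7,0⟩],2,2,false⟩,⟨5,0,[⟨6,0,0,0⟩,⟨4,0,0,1⟩,⟨4,1,0,2⟩,⟨0,4,7,0⟩,⟨5,0,8,0⟩],3,2,false⟩,⟨5,0,[⟨6,0,0,0⟩,⟨4,0,0,3⟩,⟨4,1,0,4⟩,⟨0,4,7,0⟩,⟨0,16,19,0⟩,⟨5,0,8,0⟩],4,5,false⟩,⟨2,0,[⟨6,0,0,1⟩,⟨4,0,0,5⟩,⟨4,4,0,6⟩,⟨4,8,0,7⟩,⟨0,1,2,0⟩],5,3,false⟩] [] = true := by decide +kernel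
theorem c20019543 : chkFrat M20234 E20014588 [5,7,124] [124,126,121] [5,7,124,1,8,16,32,128,512] [5,7,124,1,8,16,32,128,512] [(0,[1,2,4]),(0,[1,2,4]),(0,[1,2,4]),(32,[1,2,7]),(32,[1,2,7]),(32,[1,2,7]),(33,[2,1,4]),(0,[1,2,4]),(32,[1,2,7])] [⟨0,0,[],0,0,false⟩,⟨0,0,[],0,2,false⟩,⟨3,0,[⟨6,0,0,1⟩,⟨4,0,0,0⟩,⟨0,4,7,0⟩],2,2,false⟩,⟨5,0,[⟨6,0,0,0⟩,⟨4,0,0,1⟩,⟨4,1,0,2⟩,⟨0,4,7,0⟩,⟨5,0,8,0⟩],3,2,false⟩,⟨5,0,[⟨6,0,0,0⟩,⟨4,0,0,3⟩,⟨4,1,0,4⟩,⟨0,4,7,0⟩,⟨0,16,19,0⟩,⟨5,0,8,0⟩],4,5,false⟩,⟨2,0,[⟨6,0,0,1⟩,⟨4,0,0,5⟩,⟨4,4,0,6⟩,⟨4,8,0,7⟩,⟨0,1,2,0⟩],5,3,false⟩] [] = true := by decide +kernel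
theorem c20019611 : chkFrat M20234 E20014588 [5,7,124] [124,126,121] [5,7,124,1,8,16,32,128,512] [5,7,124,1,8,16,32,128,512] [(0,[1,2,4]),(0,[1,2,4]),(0,[1,2,4]),(32,[1,2,7]),(32,[1,2,7]),(32,[1,2,7]),(33,[2,1,4]),(0,[1,2,4]),(32,[1,2,7])] [⟨0,0,[],0,0,false⟩,⟨0,0,[],0,2,false⟩,⟨3,0,[⟨6,0,0,1⟩,⟨4,0,0,0⟩,⟨0,4,7,0⟩],2,2,false⟩,⟨5,0,[⟨6,0,0,0⟩,⟨4,0,0,1⟩,⟨4,1,0,2⟩,⟨0,4,7,0⟩,⟨5,0,8,0⟩],3,2,false⟩,⟨5,0,[⟨6,0,0,0⟩,⟨4,0,0,3⟩,⟨4,1,0,4⟩,⟨0,4,7,0⟩,⟨0,16,19,0⟩,⟨5,0,8,0⟩],4,5,false⟩,⟨2,0,[⟨6,0,0,1⟩,⟨4,0,0,5⟩,⟨4,4,0,6⟩,⟨4,8,0,7⟩,⟨0,1,2,0⟩],5,3,false⟩] [] = true := by decide +kernel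
theorem c20019669 : chkFrat M20234 E20014588 [5,7,124] [124,126,121] [5,7,124,1,8,16,32,128,512] [5,7,124,1,8,16,32,128,512] [(0,[1,2,4]),(0,[1,2,4]),(0,[1,2,4]),(32,[1,2,7]),(32,[1,2,7]),(32,[1,2,7]),(33,[2,1,4]),(0,[1,2,4]),(32,[1,2,7])] [⟨0,0,[],0,0,false⟩,⟨0,0,[],0,2,false⟩,⟨3,0,[⟨6,0,0,1⟩,⟨4,0,0,0⟩,⟨0,4,7,0⟩],2,2,false⟩,⟨5,0,[⟨6,0,0,0⟩,⟨4,0,0,1⟩,⟨4,1,0,2⟩,⟨0,4,7,0⟩,⟨5,0,8,0⟩],3,2,false⟩,⟨5,0,[⟨6,0,0,0⟩,⟨4,0,0,3⟩,⟨4,1,0,4⟩,⟨0,4,7,0⟩,⟨0,16,19,0⟩,⟨5,0,8,0⟩],4,5,false⟩,⟨2,0,[⟨6,0,0,1⟩,⟨4,0,0,5⟩,⟨4,4,0,6⟩,⟨4,8,0,7⟩,⟨0,1,2,0⟩],5,3,false⟩] [] = true := by decide +kernel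
theorem c20019699 : chkFrat M20234 E20014588 [5,7,124] [124,126,123] [5,7,124,1,8,16,32,128,512] [5,7,124,1,8,16,32,128,512] [(0,[1,2,4]),(0,[1,2,4]),(0,[1,2,4]),(32,[1,2,7]),(32,[1,2,7]),(32,[1,2,7]),(33,[2,1,4]),(0,[1,2,4]),(32,[1,2,7])] [⟨0,0,[],0,0,false⟩,⟨0,0,[],0,2,false⟩,⟨3,0,[⟨6,0,0,1⟩,⟨4,0,0,0⟩,⟨0,4,7,0⟩],2,2,false⟩,⟨5,0,[⟨6,0,0,0⟩,⟨4,0,0,1⟩,⟨4,1,0,2⟩,⟨0,4,7,0⟩,⟨5,0,8,0⟩],3,2,false⟩,⟨5,0,[⟨6,0,0,0⟩,⟨4,0,0,3⟩,⟨4,1,0,4⟩,⟨0,4,7,0⟩,⟨0,16,19,0⟩,⟨5,0,8,0⟩],4,5,false⟩,⟨2,0,[⟨6,0,0,1⟩,⟨4,0,0,5⟩,⟨4,4,0,6⟩,⟨4,8,0,7⟩,⟨0,1,2,0⟩],5,3,false⟩] [] = true := by decide +kernel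
theorem c20019765 : chkFrat M20234 E20014588 [5,7,124] [126,124,123] [5,7,124,1,8,16,32,128,512] [5,7,124,1,8,16,32,128,512] [(0,[1,2,4]),(0,[1,2,4]),(0,[1,2,4]),(32,[1,2,7]),(32,[1,2,7]),(32,[1,2,7]),(33,[2,1,4]),(0,[1,2,4]),(32,[1,2,7])] [⟨0,0,[],0,0,false⟩,⟨0,0,[],0,2,false⟩,⟨3,0,[⟨6,0,0,1⟩,⟨4,0,0,0⟩,⟨0,4,7,0⟩],2,2,false⟩,⟨5,0,[⟨6,0,0,0⟩,⟨4,0,0,1⟩,⟨4,1,0,2⟩,⟨0,4,7,0⟩,⟨5,0,8,0⟩],3,2,false⟩,⟨5,0,[⟨6,0,0,0⟩,⟨4,0,0,3⟩,⟨4,1,0,4⟩,⟨0,4,7,0⟩,⟨0,16,19,0⟩,⟨5,0,8,0⟩],4,5,false⟩,⟨2,0,[⟨6,0,0,1⟩,⟨4,0,0,5⟩,⟨4,4,0,6⟩,⟨4,8,0,7⟩,⟨0,1,2,0⟩],5,3,false⟩] [] = true := by decide +kernel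
theorem c20019835 : chkFrat M20234 E20014588 [5,7,124] [124,126,123] [5,7,124,1,8,16,32,128,512] [5,7,124,1,8,16,32,128,512] [(0,[1,2,4]),(0,[1,2,4]),(0,[1,2,4]),(32,[1,2,7]),(32,[1,2,7]),(32,[1,2,7]),(33,[2,1,4]),(0,[1,2,4]),(32,[1,2,7])] [⟨0,0,[],0,0,false⟩,⟨0,0,[],0,2,false⟩,⟨3,0,[⟨6,0,0,1⟩,⟨4,0,0,0⟩,⟨0,4,7,0⟩],2,2,false⟩,⟨5,0,[⟨6,0,0,0⟩,⟨4,0,0,1⟩,⟨4,1,0,2⟩,⟨0,4,7,0⟩,⟨5,0,8,0⟩],3,2,false⟩,⟨5,0,[⟨6,0,0,0⟩,⟨4,0,0,3⟩,⟨4,1,0,4⟩,⟨0,4,7,0⟩,⟨0,16,19,0⟩,⟨5,0,8,0⟩],4,5,false⟩,⟨2,0,[⟨6,0,0,1⟩,⟨4,0,0,5⟩,⟨4,4,0,6⟩,⟨4,8,0,7⟩,⟨0,1,2,0⟩],5,3,false⟩] [] = true := by decide +kernel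
theorem c20016321 : chkSyM M20234 [528,533,530,622,24,33,137,257] (gens M20234.n) = true := by decide +kernel
theorem c20014891 : chkFrat M20234 E20014546 [5,7,124] [121,123,5] [5,7,124,1,8,16,32,128,512] [5,7,124,1,8,16,32,128,512] [(0,[1,2,4]),(0,[1,2,4]),(0,[1,2,4]),(33,[1,2,7]),(33,[1,2,7]),(33,[1,2,7]),(1,[2,1,4]),(0,[1,2,4]),(33,[1,2,7])] [⟨0,0,[],0,0,false⟩,⟨0,0,[],0,2,false⟩,⟨3,0,[⟨6,0,0,1⟩,⟨4,0,0,0⟩,⟨0,4,7,0⟩],2,2,false⟩] [] = true := by decide +kernel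
theorem c20016348 : chkFrat M20234 E20014546 [5,7,124] [123,121,7] [5,7,124,1,8,16,32,128,512] [5,7,124,1,8,16,32,128,512] [(0,[1,2,4]),(0,[1,2,4]),(0,[1,2,4]),(33,[1,2,7]),(33,[1,2,7]),(33,[1,2,7]),(1,[2,1,4]),(0,[1,2,4]),(33,[1,2,7])] [⟨0,0,[],0,0,false⟩,⟨0,0,[],0,2,false⟩,⟨3,0,[⟨6,0,0,1⟩,⟨4,0,0,0⟩,⟨0,4,7,0⟩],2,2,false⟩] [] = true := by decide +kernel
theorem c20016426 : chkFrat M20234 E20014546 [5,7,124] [121,123,7] [5,7,124,1,8,16,32,128,512] [5,7,124,1,8,16,32,128,512] [(0,[1,2,4]),(0,[1,2,4]),(0,[1,2,4]),(33,[1,2,7]),(33,[1,2,7]),(33,[1,2,7]),(1,[2,1,4]),(0,[1,2,4]),(33,[1,2,7])] [⟨0,0,[],0,0,false⟩,⟨0,0,[],0,2,false⟩,⟨3,0,[⟨6,0,0,1⟩,⟨4,0,0,0⟩,⟨0,4,7,0⟩],2,2,false⟩] [] = true := by decide +kernel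
theorem c20016562 : chkFrat M20234 E20014546 [5,7,124] [121,123,5] [5,7,124,1,8,16,32,128,512] [5,7,124,1,8,16,32,128,512] [(0,[1,2,4]),(0,[1,2,4]),(0,[1,2,4]),(33,[1,2,7]),(33,[1,2,7]),(33,[1,2,7]),(1,[2,1,4]),(0,[1,2,4]),(33,[1,2,7])] [⟨0,0,[],0,0,false⟩,⟨0,0,[],0,2,false⟩,⟨3,0,[⟨6,0,0,1⟩,⟨4,0,0,0⟩,⟨0,4,7,0⟩],2,2,false⟩] [] = true := by decide +kernel
theorem c20016660 : chkFrat M20234 E20014546 [5,7,124] [121,123,7] [5,7,124,1,8,16,32,128,512] [5,7,124,1,8,16,32,128,512] [(0,[1,2,4]),(0,[1,2,4]),(0,[1,2,4]),(33,[1,2,7]),(33,[1,2,7]),(33,[1,2,7]),(1,[2,1,4]),(0,[1,2,4]),(33,[1,2,7])] [⟨0,0,[],0,0,false⟩,⟨0,0,[],0,2,false⟩,⟨3,0,[⟨6,0,0,1⟩,⟨4,0,0,0⟩,⟨0,4,7,0⟩],2,2,false⟩] [] = true := by decide +kernel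
theorem c20016742 : chkFrat M20234 E20014546 [5,7,124] [123,121,7] [5,7,124,1,8,16,32,128,512] [5,7,124,1,8,16,32,128,512] [(0,[1,2,4]),(0,[1,2,4]),(0,[1,2,4]),(33,[1,2,7]),(33,[1,2,7]),(33,[1,2,7]),(1,[2,1,4]),(0,[1,2,4]),(33,[1,2,7])] [⟨0,0,[],0,0,false⟩,⟨0,0,[],0,2,false⟩,⟨3,0,[⟨6,0,0,1⟩,⟨4,0,0,0⟩,⟨0,4,7,0⟩],2,2,false⟩] [] = true := by decide +kernel
theorem c20016814 : chkFrat M20234 E20014546 [5,7,124] [123,121,5] [5,7,124,1,8,16,32,128,512] [5,7,124,1,8,16,32,128,512] [(0,[1,2,4]),(0,[1,2,4]),(0,[1,2,4]),(33,[1,2,7]),(33,[1,2,7]),(33,[1,2,7]),(1,[2,1,4]),(0,[1,2,4]),(33,[1,2,7])] [⟨0,0,[],0,0,false⟩,⟨0,0,[],0,2,false⟩,⟨3,0,[⟨6,0,0,1⟩,⟨4,0,0,0⟩,⟨0,4,7,0⟩],2,2,false⟩] [] = true := by decide +kernel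
theorem c20016884 : chkFrat M20234 E20014546 [5,7,124] [123,121,7] [5,7,124,1,8,16,32,128,512] [5,7,124,1,8,16,32,128,512] [(0,[1,2,4]),(0,[1,2,4]),(0,[1,2,4]),(33,[1,2,7]),(33,[1,2,7]),(33,[1,2,7]),(1,[2,1,4]),(0,[1,2,4]),(33,[1,2,7])] [⟨0,0,[],0,0,false⟩,⟨0,0,[],0,2,false⟩,⟨3,0,[⟨6,0,0,1⟩,⟨4,0,0,0⟩,⟨0,4,7,0⟩],2,2,false⟩] [] = true := by decide +kernel
theorem c20016942 : chkFrat M20234 E20014546 [5,7,124] [121,123,5] [5,7,124,1,8,16,32,128,512] [5,7,124,1,8,16,32,128,512] [(0,[1,2,4]),(0,[1,2,4]),(0,[1,2,4]),(33,[1,2,7]),(33,[1,2,7]),(33,[1,2,7]),(1,[2,1,4]),(0,[1,2,4]),(33,[1,2,7])] [⟨0,0,[],0,0,false⟩,⟨0,0,[],0,2,false⟩,⟨3,0,[⟨6,0,0,1⟩,⟨4,0,0,0⟩,⟨0,4,7,0⟩],2,2,false⟩] [] = true := by decide +kernel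
theorem c20017090 : chkFrat M20234 E20014546 [5,7,124] [123,121,7] [5,7,124,1,8,16,32,128,512] [5,7,124,1,8,16,32,128,512] [(0,[1,2,4]),(0,[1,2,4]),(0,[1,2,4]),(33,[1,2,7]),(33,[1,2,7]),(33,[1,2,7]),(1,[2,1,4]),(0,[1,2,4]),(33,[1,2,7])] [⟨0,0,[],0,0,false⟩,⟨0,0,[],0,2,false⟩,⟨3,0,[⟨6,0,0,1⟩,⟨4,0,0,0⟩,⟨0,4,7,0⟩],2,2,false⟩] [] = true := by decide +kernel
theorem c20017160 : chkFrat M20234 E20014546 [5,7,124] [121,123,7] [5,7,124,1,8,16,32,128,512] [5,7,124,1,8,16,32,128,512] [(0,[1,2,4]),(0,[1,2,4]),(0,[1,2,4]),(33,[1,2,7]),(33,[1,2,7]),(33,[1,2,7]),(1,[2,1,4]),(0,[1,2,4]),(33,[1,2,7])] [⟨0,0,[],0,0,false⟩,⟨0,0,[],0,2,false⟩,⟨3,0,[⟨6,0,0,1⟩,⟨4,0,0,0⟩,⟨0,4,7,0⟩],2,2,false⟩] [] = true := by decide +kernel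
theorem c20017252 : chkFrat M20234 E20014546 [5,7,124] [121,123,7] [5,7,124,1,8,16,32,128,512] [5,7,124,1,8,16,32,128,512] [(0,[1,2,4]),(0,[1,2,4]),(0,[1,2,4]),(33,[1,2,7]),(33,[1,2,7]),(33,[1,2,7]),(1,[2,1,4]),(0,[1,2,4]),(33,[1,2,7])] [⟨0,0,[],0,0,false⟩,⟨0,0,[],0,2,false⟩,⟨3,0,[⟨6,0,0,1⟩,⟨4,0,0,0⟩,⟨0,4,7,0⟩],2,2,false⟩] [] = true := by decide +kernel
theorem c20017322 : chkFrat M20234 E20014546 [5,7,124] [121,123,5] [5,7,124,1,8,16,32,128,512] [5,7,124,1,8,16,32,128,512] [(0,[1,2,4]),(0,[1,2,4]),(0,[1,2,4]),(33,[1,2,7]),(33,[1,2,7]),(33,[1,2,7]),(1,[2,1,4]),(0,[1,2,4]),(33,[1,2,7])] [⟨0,0,[],0,0,false⟩,⟨0,0,[],0,2,false⟩,⟨3,0,[⟨6,0,0,1⟩,⟨4,0,0,0⟩,⟨0,4,7,0⟩],2,2,false⟩] [] = true := by decide +kernel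
theorem c20017374 : chkFrat M20234 E20014546 [5,7,124] [123,121,5] [5,7,124,1,8,16,32,128,512] [5,7,124,1,8,16,32,128,512] [(0,[1,2,4]),(0,[1,2,4]),(0,[1,2,4]),(33,[1,2,7]),(33,[1,2,7]),(33,[1,2,7]),(1,[2,1,4]),(0,[1,2,4]),(33,[1,2,7])] [⟨0,0,[],0,0,false⟩,⟨0,0,[],0,2,false⟩,⟨3,0,[⟨6,0,0,1⟩,⟨4,0,0,0⟩,⟨0,4,7,0⟩],2,2,false⟩] [] = true := by decide +kernel
theorem c20017444 : chkFrat M20234 E20014546 [5,7,124] [123,121,7] [5,7,124,1,8,16,32,128,512] [5,7,124,1,8,16,32,128,512] [(0,[1,2,4]),(0,[1,2,4]),(0,[1,2,4]),(33,[1,2,7]),(33,[1,2,7]),(33,[1,2,7]),(1,[2,1,4]),(0,[1,2,4]),(33,[1,2,7])] [⟨0,0,[],0,0,false⟩,⟨0,0,[],0,2,false⟩,⟨3,0,[⟨6,0,0,1⟩,⟨4,0,0,0⟩,⟨0,4,7,0⟩],2,2,false⟩] [] = true := by decide +kernel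
theorem c20017520 : chkFrat M20234 E20014546 [5,7,124] [123,121,7] [5,7,124,1,8,16,32,128,512] [5,7,124,1,8,16,32,128,512] [(0,[1,2,4]),(0,[1,2,4]),(0,[1,2,4]),(33,[1,2,7]),(33,[1,2,7]),(33,[1,2,7]),(1,[2,1,4]),(0,[1,2,4]),(33,[1,2,7])] [⟨0,0,[],0,0,false⟩,⟨0,0,[],0,2,false⟩,⟨3,0,[⟨6,0,0,1⟩,⟨4,0,0,0⟩,⟨0,4,7,0⟩],2,2,false⟩] [] = true := by decide +kernel
theorem c20017592 : chkFrat M20234 E20014546 [5,7,124] [123,121,7] [5,7,124,1,8,16,32,128,512] [5,7,124,1,8,16,32,128,512] [(0,[1,2,4]),(0,[1,2,4]),(0,[1,2,4]),(33,[1,2,7]),(33,[1,2,7]),(33,[1,2,7]),(1,[2,1,4]),(0,[1,2,4]),(33,[1,2,7])] [⟨0,0,[],0,0,false⟩,⟨0,0,[],0,2,false⟩,⟨3,0,[⟨6,0,0,1⟩,⟨4,0,0,0⟩,⟨0,4,7,0⟩],2,2,false⟩] [] = true := by decide +kernel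
theorem c20017688 : chkFrat M20234 E20014546 [5,7,124] [121,123,5] [5,7,124,1,8,16,32,128,512] [5,7,124,1,8,16,32,128,512] [(0,[1,2,4]),(0,[1,2,4]),(0,[1,2,4]),(33,[1,2,7]),(33,[1,2,7]),(33,[1,2,7]),(1,[2,1,4]),(0,[1,2,4]),(33,[1,2,7])] [⟨0,0,[],0,0,false⟩,⟨0,0,[],0,2,false⟩,⟨3,0,[⟨6,0,0,1⟩,⟨4,0,0,0⟩,⟨0,4,7,0⟩],2,2,false⟩] [] = true := by decide +kernel
theorem c20017792 : chkFrat M20234 E20014546 [5,7,124] [123,121,7] [5,7,124,1,8,16,32,128,512] [5,7,124,1,8,16,32,128,512] [(0,[1,2,4]),(0,[1,2,4]),(0,[1,2,4]),(33,[1,2,7]),(33,[1,2,7]),(33,[1,2,7]),(1,[2,1,4]),(0,[1,2,4]),(33,[1,2,7])] [⟨0,0,[],0,0,false⟩,⟨0,0,[],0,2,false⟩,⟨3,0,[⟨6,0,0,1⟩,⟨4,0,0,0⟩,⟨0,4,7,0⟩],2,2,false⟩] [] = true := by decide +kernel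
theorem c20017862 : chkFrat M20234 E20014546 [5,7,124] [121,123,7] [5,7,124,1,8,16,32,128,512] [5,7,124,1,8,16,32,128,512] [(0,[1,2,4]),(0,[1,2,4]),(0,[1,2,4]),(33,[1,2,7]),(33,[1,2,7]),(33,[1,2,7]),(1,[2,1,4]),(0,[1,2,4]),(33,[1,2,7])] [⟨0,0,[],0,0,false⟩,⟨0,0,[],0,2,false⟩,⟨3,0,[⟨6,0,0,1⟩,⟨4,0,0,0⟩,⟨0,4,7,0⟩],2,2,false⟩] [] = true := by decide +kernel
theorem c20017980 : chkFrat M20234 E20014546 [5,7,124] [121,123,7] [5,7,124,1,8,16,32,128,512] [5,7,124,1,8,16,32,128,512] [(0,[1,2,4]),(0,[1,2,4]),(0,[1,2,4]),(33,[1,2,7]),(33,[1,2,7]),(33,[1,2,7]),(1,[2,1,4]),(0,[1,2,4]),(33,[1,2,7])] [⟨0,0,[],0,0,false⟩,⟨0,0,[],0,2,false⟩,⟨3,0,[⟨6,0,0,1⟩,⟨4,0,0,0⟩,⟨0,4,7,0⟩],2,2,false⟩] [] = true := by decide +kernel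
theorem c20018050 : chkFrat M20234 E20014546 [5,7,124] [121,123,7] [5,7,124,1,8,16,32,128,512] [5,7,124,1,8,16,32,128,512] [(0,[1,2,4]),(0,[1,2,4]),(0,[1,2,4]),(33,[1,2,7]),(33,[1,2,7]),(33,[1,2,7]),(1,[2,1,4]),(0,[1,2,4]),(33,[1,2,7])] [⟨0,0,[],0,0,false⟩,⟨0,0,[],0,2,false⟩,⟨3,0,[⟨6,0,0,1⟩,⟨4,0,0,0⟩,⟨0,4,7,0⟩],2,2,false⟩] [] = true := by decide +kernel
theorem c20018120 : chkFrat M20234 E20014546 [5,7,124] [121,123,7] [5,7,124,1,8,16,32,128,512] [5,7,124,1,8,16,32,128,512] [(0,[1,2,4]),(0,[1,2,4]),(0,[1,2,4]),(33,[1,2,7]),(33,[1,2,7]),(33,[1,2,7]),(1,[2,1,4]),(0,[1,2,4]),(33,[1,2,7])] [⟨0,0,[],0,0,false⟩,⟨0,0,[],0,2,false⟩,⟨3,0,[⟨6,0,0,1⟩,⟨4,0,0,0⟩,⟨0,4,7,0⟩],2,2,false⟩] [] = true := by decide +kernel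
theorem c20018144 : chkFrat M20234 E20014546 [5,7,124] [121,123,7] [5,7,124,1,8,16,32,128,512] [5,7,124,1,8,16,32,128,512] [(0,[1,2,4]),(0,[1,2,4]),(0,[1,2,4]),(33,[1,2,7]),(33,[1,2,7]),(33,[1,2,7]),(1,[2,1,4]),(0,[1,2,4]),(33,[1,2,7])] [⟨0,0,[],0,0,false⟩,⟨0,0,[],0,2,false⟩,⟨3,0,[⟨6,0,0,1⟩,⟨4,0,0,0⟩,⟨0,4,7,0⟩],2,2,false⟩] [] = true := by decide +kernel
theorem c20018202 : chkFrat M20234 E20014546 [5,7,124] [123,121,5] [5,7,124,1,8,16,32,128,512] [5,7,124,1,8,16,32,128,512] [(0,[1,2,4]),(0,[1,2,4]),(0,[1,2,4]),(33,[1,2,7]),(33,[1,2,7]),(33,[1,2,7]),(1,[2,1,4]),(0,[1,2,4]),(33,[1,2,7])] [⟨0,0,[],0,0,false⟩,⟨0,0,[],0,2,false⟩,⟨3,0,[⟨6,0,0,1⟩,⟨4,0,0,0⟩,⟨0,4,7,0⟩],2,2,false⟩] [] = true := by decide +kernel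
theorem c20018228 : chkFrat M20234 E20014546 [5,7,124] [121,123,7] [5,7,124,1,8,16,32,128,512] [5,7,124,1,8,16,32,128,512] [(0,[1,2,4]),(0,[1,2,4]),(0,[1,2,4]),(33,[1,2,7]),(33,[1,2,7]),(33,[1,2,7]),(1,[2,1,4]),(0,[1,2,4]),(33,[1,2,7])] [⟨0,0,[],0,0,false⟩,⟨0,0,[],0,2,false⟩,⟨3,0,[⟨6,0,0,1⟩,⟨4,0,0,0⟩,⟨0,4,7,0⟩],2,2,false⟩] [] = true := by decide +kernel
theorem c20018286 : chkFrat M20234 E20014546 [5,7,124] [123,121,7] [5,7,124,1,8,16,32,128,512] [5,7,124,1,8,16,32,128,512] [(0,[1,2,4]),(0,[1,2,4]),(0,[1,2,4]),(33,[1,2,7]),(33,[1,2,7]),(33,[1,2,7]),(1,[2,1,4]),(0,[1,2,4]),(33,[1,2,7])] [⟨0,0,[],0,0,false⟩,⟨0,0,[],0,2,false⟩,⟨3,0,[⟨6,0,0,1⟩,⟨4,0,0,0⟩,⟨0,4,7,0⟩],2,2,false⟩] [] = true := by decide +kernel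
theorem c20018344 : chkFrat M20234 E20014546 [5,7,124] [123,121,7] [5,7,124,1,8,16,32,128,512] [5,7,124,1,8,16,32,128,512] [(0,[1,2,4]),(0,[1,2,4]),(0,[1,2,4]),(33,[1,2,7]),(33,[1,2,7]),(33,[1,2,7]),(1,[2,1,4]),(0,[1,2,4]),(33,[1,2,7])] [⟨0,0,[],0,0,false⟩,⟨0,0,[],0,2,false⟩,⟨3,0,[⟨6,0,0,1⟩,⟨4,0,0,0⟩,⟨0,4,7,0⟩],2,2,false⟩] [] = true := by decide +kernel
theorem c20018368 : chkFrat M20234 E20014546 [5,7,124] [123,121,7] [5,7,124,1,8,16,32,128,512] [5,7,124,1,8,16,32,128,512] [(0,[1,2,4]),(0,[1,2,4]),(0,[1,2,4]),(33,[1,2,7]),(33,[1,2,7]),(33,[1,2,7]),(1,[2,1,4]),(0,[1,2,4]),(33,[1,2,7])] [⟨0,0,[],0,0,false⟩,⟨0,0,[],0,2,false⟩,⟨3,0,[⟨6,0,0,1⟩,⟨4,0,0,0⟩,⟨0,4,7,0⟩],2,2,false⟩] [] = true := by decide +kernel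
theorem c20018436 : chkFrat M20234 E20014546 [5,7,124] [123,121,5] [5,7,124,1,8,16,32,128,512] [5,7,124,1,8,16,32,128,512] [(0,[1,2,4]),(0,[1,2,4]),(0,[1,2,4]),(33,[1,2,7]),(33,[1,2,7]),(33,[1,2,7]),(1,[2,1,4]),(0,[1,2,4]),(33,[1,2,7])] [⟨0,0,[],0,0,false⟩,⟨0,0,[],0,2,false⟩,⟨3,0,[⟨6,0,0,1⟩,⟨4,0,0,0⟩,⟨0,4,7,0⟩],2,2,false⟩] [] = true := by decide +kernel
theorem c20018494 : chkFrat M20234 E20014546 [5,7,124] [123,121,7] [5,7,124,1,8,16,32,128,512] [5,7,124,1,8,16,32,128,512] [(0,[1,2,4]),(0,[1,2,4]),(0,[1,2,4]),(33,[1,2,7]),(33,[1,2,7]),(33,[1,2,7]),(1,[2,1,4]),(0,[1,2,4]),(33,[1,2,7])] [⟨0,0,[],0,0,false⟩,⟨0,0,[],0,2,false⟩,⟨3,0,[⟨6,0,0,1⟩,⟨4,0,0,0⟩,⟨0,4,7,0⟩],2,2,false⟩] [] = true := by decide +kernel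
theorem c20018518 : chkFrat M20234 E20014546 [5,7,124] [123,121,5] [5,7,124,1,8,16,32,128,512] [5,7,124,1,8,16,32,128,512] [(0,[1,2,4]),(0,[1,2,4]),(0,[1,2,4]),(33,[1,2,7]),(33,[1,2,7]),(33,[1,2,7]),(1,[2,1,4]),(0,[1,2,4]),(33,[1,2,7])] [⟨0,0,[],0,0,false⟩,⟨0,0,[],0,2,false⟩,⟨3,0,[⟨6,0,0,1⟩,⟨4,0,0,0⟩,⟨0,4,7,0⟩],2,2,false⟩] [] = true := by decide +kernel
theorem c20018584 : chkFrat M20234 E20014546 [5,7,124] [123,121,7] [5,7,124,1,8,16,32,128,512] [5,7,124,1,8,16,32,128,512] [(0,[1,2,4]),(0,[1,2,4]),(0,[1,2,4]),(33,[1,2,7]),(33,[1,2,7]),(33,[1,2,7]),(1,[2,1,4]),(0,[1,2,4]),(33,[1,2,7])] [⟨0,0,[],0,0,false⟩,⟨0,0,[],0,2,false⟩,⟨3,0,[⟨6,0,0,1⟩,⟨4,0,0,0⟩,⟨0,4,7,0⟩],2,2,false⟩] [] = true := by decide +kernel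
theorem c20018628 : chkFrat M20234 E20014546 [5,7,124] [121,123,7] [5,7,124,1,8,16,32,128,512] [5,7,124,1,8,16,32,128,512] [(0,[1,2,4]),(0,[1,2,4]),(0,[1,2,4]),(33,[1,2,7]),(33,[1,2,7]),(33,[1,2,7]),(1,[2,1,4]),(0,[1,2,4]),(33,[1,2,7])] [⟨0,0,[],0,0,false⟩,⟨0,0,[],0,2,false⟩,⟨3,0,[⟨6,0,0,1⟩,⟨4,0,0,0⟩,⟨0,4,7,0⟩],2,2,false⟩] [] = true := by decide +kernel
theorem c20018712 : chkFrat M20234 E20014546 [5,7,124] [123,121,7] [5,7,124,1,8,16,32,128,512] [5,7,124,1,8,16,32,128,512] [(0,[1,2,4]),(0,[1,2,4]),(0,[1,2,4]),(33,[1,2,7]),(33,[1,2,7]),(33,[1,2,7]),(1,[2,1,4]),(0,[1,2,4]),(33,[1,2,7])] [⟨0,0,[],0,0,false⟩,⟨0,0,[],0,2,false⟩,⟨3,0,[⟨6,0,0,1⟩,⟨4,0,0,0⟩,⟨0,4,7,0⟩],2,2,false⟩] [] = true := by decide +kernel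
theorem c20018782 : chkFrat M20234 E20014546 [5,7,124] [121,123,7] [5,7,124,1,8,16,32,128,512] [5,7,124,1,8,16,32,128,512] [(0,[1,2,4]),(0,[1,2,4]),(0,[1,2,4]),(33,[1,2,7]),(33,[1,2,7]),(33,[1,2,7]),(1,[2,1,4]),(0,[1,2,4]),(33,[1,2,7])] [⟨0,0,[],0,0,false⟩,⟨0,0,[],0,2,false⟩,⟨3,0,[⟨6,0,0,1⟩,⟨4,0,0,0⟩,⟨0,4,7,0⟩],2,2,false⟩] [] = true := by decide +kernel
theorem c20018820 : chkFrat M20234 E20014546 [5,7,124] [121,123,7] [5,7,124,1,8,16,32,128,512] [5,7,124,1,8,16,32,128,512] [(0,[1,2,4]),(0,[1,2,4]),(0,[1,2,4]),(33,[1,2,7]),(33,[1,2,7]),(33,[1,2,7]),(1,[2,1,4]),(0,[1,2,4]),(33,[1,2,7])] [⟨0,0,[],0,0,false⟩,⟨0,0,[],0,2,false⟩,⟨3,0,[⟨6,0,0,1⟩,⟨4,0,0,0⟩,⟨0,4,7,0⟩],2,2,false⟩] [] = true := by decide +kernel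
theorem c20018976 : chkFrat M20234 E20014546 [5,7,124] [121,123,7] [5,7,124,1,8,16,32,128,512] [5,7,124,1,8,16,32,128,512] [(0,[1,2,4]),(0,[1,2,4]),(0,[1,2,4]),(33,[1,2,7]),(33,[1,2,7]),(33,[1,2,7]),(1,[2,1,4]),(0,[1,2,4]),(33,[1,2,7])] [⟨0,0,[],0,0,false⟩,⟨0,0,[],0,2,false⟩,⟨3,0,[⟨6,0,0,1⟩,⟨4,0,0,0⟩,⟨0,4,7,0⟩],2,2,false⟩] [] = true := by decide +kernel
theorem c20019304 : chkFrat M20234 E20014546 [5,7,124] [123,121,7] [5,7,124,1,8,16,32,128,512] [5,7,124,1,8,16,32,128,512] [(0,[1,2,4]),(0,[1,2,4]),(0,[1,2,4]),(33,[1,2,7]),(33,[1,2,7]),(33,[1,2,7]),(1,[2,1,4]),(0,[1,2,4]),(33,[1,2,7])] [⟨0,0,[],0,0,false⟩,⟨0,0,[],0,2,false⟩,⟨3,0,[⟨6,0,0,1⟩,⟨4,0,0,0⟩,⟨0,4,7,0⟩],2,2,false⟩] [] = true := by decide +kernel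
theorem c20019374 : chkFrat M20234 E20014546 [5,7,124] [121,123,7] [5,7,124,1,8,16,32,128,512] [5,7,124,1,8,16,32,128,512] [(0,[1,2,4]),(0,[1,2,4]),(0,[1,2,4]),(33,[1,2,7]),(33,[1,2,7]),(33,[1,2,7]),(1,[2,1,4]),(0,[1,2,4]),(33,[1,2,7])] [⟨0,0,[],0,0,false⟩,⟨0,0,[],0,2,false⟩,⟨3,0,[⟨6,0,0,1⟩,⟨4,0,0,0⟩,⟨0,4,7,0⟩],2,2,false⟩] [] = true := by decide +kernel
theorem c20019412 : chkFrat M20234 E20014546 [5,7,124] [121,123,7] [5,7,124,1,8,16,32,128,512] [5,7,124,1,8,16,32,128,512] [(0,[1,2,4]),(0,[1,2,4]),(0,[1,2,4]),(33,[1,2,7]),(33,[1,2,7]),(33,[1,2,7]),(1,[2,1,4]),(0,[1,2,4]),(33,[1,2,7])] [⟨0,0,[],0,0,false⟩,⟨0,0,[],0,2,false⟩,⟨3,0,[⟨6,0,0,1⟩,⟨4,0,0,0⟩,⟨0,4,7,0⟩],2,2,false⟩] [] = true := by decide +kernel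
theorem c20019568 : chkFrat M20234 E20014546 [5,7,124] [121,123,7] [5,7,124,1,8,16,32,128,512] [5,7,124,1,8,16,32,128,512] [(0,[1,2,4]),(0,[1,2,4]),(0,[1,2,4]),(33,[1,2,7]),(33,[1,2,7]),(33,[1,2,7]),(1,[2,1,4]),(0,[1,2,4]),(33,[1,2,7])] [⟨0,0,[],0,0,false⟩,⟨0,0,[],0,2,false⟩,⟨3,0,[⟨6,0,0,1⟩,⟨4,0,0,0⟩,⟨0,4,7,0⟩],2,2,false⟩] [] = true := by decide +kernel
theorem c20016432 : chkFrat M20234 E20016357 [528,533,530,622,24,33,137,257] [317,359,319,284,71,64,851,464] [528,533,530,622,24,33,137,257,1] [528,533,530,622,24,33,137,257,1] [(317,[1,2,4,8,21,47,74,143]),(284,[1,2,4,8,21,42,74,128]),(317,[1,2,4,8,21,47,74,143]),(284,[1,2,4,8,21,42,74,128]),(60,[4,7,1,13,16,37,64,138]),(57,[14,8,11,2,21,32,79,128]),(808,[11,8,14,2,16,47,64,133]),(425,[14,2,11,8,26,32,69,128]),(25,[2,1,7,14,16,32,95,160])] [⟨0,0,[],0,0,false⟩,⟨0,0,[],0,0,false⟩,⟨0,0,[],0,0,false⟩,⟨0,0,[],0,0,false⟩,⟨0,0,[],0,0,false⟩,⟨0,0,[],0,0,false⟩,⟨0,0,[],0,0,false⟩,⟨2,0,[⟨6,0,0,1⟩,⟨4,0,0,0⟩,⟨4,3,0,1⟩,⟨0,1,2,0⟩,⟨0,32,32,0⟩,⟨7,0,16,0⟩],1,0,false⟩]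 [] = true := by decide +kernel
theorem c20016997 : chkFrat M20234 E20016357 [528,533,530,622,24,33,137,257] [319,284,317,359,62,66,808,466] [528,533,530,622,24,33,137,257,1] [528,533,530,622,24,33,137,257,1] [(317,[1,2,4,8,21,47,74,143]),(284,[1,2,4,8,21,42,74,128]),(317,[1,2,4,8,21,47,74,143]),(284,[1,2,4,8,21,42,74,128]),(60,[4,7,1,13,16,37,64,138]),(57,[14,8,11,2,21,32,79,128]),(808,[11,8,14,2,16,47,64,133]),(425,[14,2,11,8,26,32,69,128]),(61,[2,1,7,14,16,32,95,160])] [⟨0,0,[],0,0,false⟩,⟨0,0,[],0,0,false⟩,⟨0,0,[],0,0,false⟩,⟨0,0,[],0,0,false⟩,⟨0,0,[],0,0,false⟩,⟨0,0,[],0,0,false⟩,⟨0,0,[],0,0,false⟩,⟨2,0,[⟨6,0,0,1⟩,⟨4,0,0,0⟩,⟨4,3,0,1⟩,⟨0,1,2,0⟩,⟨0,32,32,0⟩,⟨7,0,16,0⟩],1,0,false⟩] [] = true := by decide +kernel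
theorem c20017607 : chkFrat M20234 E20016357 [528,533,530,622,24,33,137,257] [324,286,326,357,69,64,808,466] [528,533,530,622,24,33,137,257,1] [528,533,530,622,24,33,137,257,1] [(317,[1,2,4,8,21,47,74,143]),(284,[1,2,4,8,21,42,74,128]),(317,[1,2,4,8,21,47,74,143]),(284,[1,2,4,8,21,42,74,128]),(60,[4,7,1,13,16,37,64,138]),(57,[14,8,11,2,21,32,79,128]),(808,[11,8,14,2,16,47,64,133]),(425,[14,2,11,8,26,32,69,128]),(25,[2,1,7,14,16,32,95,160])] [⟨0,0,[],0,0,false⟩,⟨0,0,[],0,0,false⟩,⟨0,0,[],0,0,false⟩,⟨0,0,[],0,0,false⟩,⟨0,0,[],0,0,false⟩,⟨0,0,[],0,0,false⟩,⟨0,0,[],0,0,false⟩,⟨2,0,[⟨6,0,0,1⟩,⟨4,0,0,0⟩,⟨4,3,0,1⟩,⟨0,1,2,0⟩,⟨0,32,32,0⟩,⟨7,0,16,0⟩],1,0,false⟩] [] = true := by decide +kernel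
theorem c20018176 : chkFrat M20234 E20016357 [528,533,530,622,24,33,137,257] [326,357,324,286,60,66,851,464] [528,533,530,622,24,33,137,257,1] [528,533,530,622,24,33,137,257,1] [(317,[1,2,4,8,21,47,74,143]),(284,[1,2,4,8,21,42,74,128]),(317,[1,2,4,8,21,47,74,143]),(284,[1,2,4,8,21,42,74,128]),(60,[4,7,1,13,16,37,64,138]),(57,[14,8,11,2,21,32,79,128]),(808,[11,8,14,2,16,47,64,133]),(425,[14,2,11,8,26,32,69,128]),(61,[2,1,7,14,16,32,95,160])] [⟨0,0,[],0,0,false⟩,⟨0,0,[],0,0,false⟩,⟨0,0,[],0,0,false⟩,⟨0,0,[],0,0,false⟩,⟨0,0,[],0,0,false⟩,⟨0,0,[],0,0,false⟩,⟨0,0,[],0,0,false⟩,⟨2,0,[⟨6,0,0,1⟩,⟨4,0,0,0⟩,⟨4,3,0,1⟩,⟨0,1,2,0⟩,⟨0,32,32,0⟩,⟨7,0,16,0⟩],1,0,false⟩] [] = true := by decide +kernel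
theorem c20018800 : chkFrat M20234 E20016357 [528,533,530,622,24,33,137,257] [317,359,319,284,71,64,851,464] [528,533,530,622,24,33,137,257,1] [528,533,530,622,24,33,137,257,1] [(317,[1,2,4,8,21,47,74,143]),(284,[1,2,4,8,21,42,74,128]),(317,[1,2,4,8,21,47,74,143]),(284,[1,2,4,8,21,42,74,128]),(60,[4,7,1,13,16,37,64,138]),(57,[14,8,11,2,21,32,79,128]),(808,[11,8,14,2,16,47,64,133]),(425,[14,2,11,8,26,32,69,128]),(25,[2,1,7,14,16,32,95,160])] [⟨0,0,[],0,0,false⟩,⟨0,0,[],0,0,false⟩,⟨0,0,[],0,0,false⟩,⟨0,0,[],0,0,false⟩,⟨0,0,[],0,0,false⟩,⟨0,0,[],0,0,false⟩,⟨0,0,[],0,0,false⟩,⟨2,0,[⟨6,0,0,1⟩,⟨4,0,0,0⟩,⟨4,3,0,1⟩,⟨0,1,2,0⟩,⟨0,32,32,0⟩,⟨7,0,16,0⟩],1,0,false⟩] [] = true := by decide +kernel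
theorem c20019392 : chkFrat M20234 E20016357 [528,533,530,622,24,33,137,257] [317,359,319,284,71,64,851,464] [528,533,530,622,24,33,137,257,1] [528,533,530,622,24,33,137,257,1] [(317,[1,2,4,8,21,47,74,143]),(284,[1,2,4,8,21,42,74,128]),(317,[1,2,4,8,21,47,74,143]),(284,[1,2,4,8,21,42,74,128]),(60,[4,7,1,13,16,37,64,138]),(57,[14,8,11,2,21,32,79,128]),(808,[11,8,14,2,16,47,64,133]),(425,[14,2,11,8,26,32,69,128]),(25,[2,1,7,14,16,32,95,160])] [⟨0,0,[],0,0,false⟩,⟨0,0,[],0,0,false⟩,⟨0,0,[],0,0,false⟩,⟨0,0,[],0,0,false⟩,⟨0,0,[],0,0,false⟩,⟨0,0,[],0,0,false⟩,⟨0,0,[],0,0,false⟩,⟨2,0,[⟨6,0,0,1⟩,⟨4,0,0,0⟩,⟨4,3,0,1⟩,⟨0,1,2,0⟩,⟨0,32,32,0⟩,⟨7,0,16,0⟩],1,0,false⟩] [] = true := by decide +kernel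
theorem c20014302 : chkSyl M20234 D20234 E20014166 [1,2,4,8,16,32,64,128,256,512] 0 [9] [⟨3,0,[],0,0,false⟩,⟨3,0,[],1,2,false⟩,⟨4,0,[],2,0,false⟩,⟨4,0,[],2,0,false⟩,⟨3,0,[],2,0,false⟩,⟨1,3,[],2,0,false⟩,⟨1,96,[],0,0,false⟩,⟨1,32,[],0,0,false⟩,⟨1,4,[],0,0,false⟩] [] [1,2,4,8,16,32,64,128,256,512] [] [] = true := by decide +kernel
theorem c20016636 : chkLift M20234 D20234 E20016323 [528,533,530,622,24,33,137,257] [530,535,528,620,24,35,137,378] [528,533,530,622,24,33,137,257,1,8] [(1,[2,1,7,14,16,32,95,160]),(0,[1,2,4,8,16,32,64,128]),(4,[2,1,7,14,16,37,95,170]),(8,[4,7,1,8,21,48,80,234]),(16,[1,2,4,13,21,53,80,229]),(32,[8,14,13,1,21,32,85,160]),(57,[11,13,14,7,21,37,79,138]),(128,[13,14,8,4,21,63,74,223]),(256,[2,14,7,1,26,32,80,160]),(512,[1,2,4,13,16,63,95,239])] 0 [4,7,1,13,16,37,64,143] [⟨0,0,[],0,0,false⟩,⟨0,0,[],0,0,false⟩,⟨0,0,[],0,0,false⟩,⟨0,0,[],0,0,false⟩,⟨0,0,[],0,0,false⟩,⟨0,0,[],0,0,false⟩,⟨0,0,[],0,0,false⟩,⟨1,2,[⟨4,0,0,0⟩,⟨0,8,14,0⟩,⟨0,32,32,0⟩],1,0,false⟩,⟨1,4,[⟨4,0,0,1⟩,⟨4,3,0,2⟩,⟨0,8,8,0⟩,⟨0,16,21,0⟩,⟨0,32,48,0⟩],0,0,false⟩]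 [] [256,5,259,512,533,288,63,842,416,532] [([530,535,528,620,24,35,137,378,1,8],[]),([530,535,528,620,24,35,137,378,1,10],[])] [] = true := by decide +kernel
theorem c20017225 : chkLift M20234 D20234 E20016323 [528,533,530,622,24,33,137,257] [528,533,530,622,24,33,137,259] [528,533,530,622,24,33,137,257,1,8] [(1,[2,1,7,14,16,32,95,160]),(0,[1,2,4,8,16,32,64,128]),(4,[2,1,7,14,16,37,95,170]),(8,[4,7,1,8,21,48,80,234]),(16,[1,2,4,13,21,53,80,229]),(32,[8,14,13,1,21,32,85,160]),(57,[11,13,14,7,21,37,79,138]),(128,[13,14,8,4,21,63,74,223]),(256,[2,14,7,1,26,32,80,160]),(512,[1,2,4,13,16,63,95,239])] 0 [1,2,4,8,16,32,64,133] [⟨0,0,[],0,0,false⟩,⟨0,0,[],0,0,false⟩,⟨0,0,[],0,0,false⟩,⟨0,0,[],0,0,false⟩,⟨0,0,[],0,0,false⟩,⟨0,0,[],0,0,false⟩,⟨0,0,[],0,0,false⟩,⟨1,2,[⟨4,0,0,0⟩,⟨0,8,14,0⟩,⟨0,32,32,0⟩],1,0,false⟩,⟨1,4,[⟨4,0,0,1⟩,⟨4,3,0,2⟩,⟨0,8,8,0⟩,⟨0,16,21,0⟩,⟨0,32,48,0⟩],0,0,false⟩]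 [] [256,5,259,512,533,288,63,842,416,532] [([528,533,530,622,24,33,137,259,1,8],[]),([528,533,530,622,24,33,137,259,1,10],[])] [] = true := by decide +kernel
theorem c20017820 : chkLift M20234 D20234 E20016323 [528,533,530,622,24,33,137,257] [530,535,528,620,24,33,137,257] [528,533,530,622,24,33,137,257,1,8] [(1,[2,1,7,14,16,32,95,160]),(0,[1,2,4,8,16,32,64,128]),(4,[2,1,7,14,16,37,95,170]),(8,[4,7,1,8,21,48,80,234]),(16,[1,2,4,13,21,53,80,229]),(32,[8,14,13,1,21,32,85,160]),(57,[11,13,14,7,21,37,79,138]),(128,[13,14,8,4,21,63,74,223]),(256,[2,14,7,1,26,32,80,160]),(512,[1,2,4,13,16,63,95,239])] 0 [4,7,1,13,16,32,64,128] [⟨0,0,[],0,0,false⟩,⟨0,0,[],0,0,false⟩,⟨0,0,[],0,0,false⟩,⟨0,0,[],0,0,false⟩,⟨0,0,[],0,0,false⟩,⟨0,0,[],0,0,false⟩,⟨0,0,[],0,0,false⟩,⟨1,2,[⟨4,0,0,0⟩,⟨0,8,14,0⟩,⟨0,32,32,0⟩],1,0,false⟩,⟨1,4,[⟨4,0,0,1⟩,⟨4,3,0,2⟩,⟨0,8,8,0⟩,⟨0,16,21,0⟩,⟨0,32,48,0⟩],0,0,false⟩]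 [] [256,5,259,512,533,288,63,842,416,532] [([530,535,528,620,24,33,137,257,1,8],[]),([530,535,528,620,24,33,137,257,1,10],[])] [] = true := by decide +kernel
theorem c20018560 : chkLift M20234 D20234 E20016323 [528,533,530,622,24,33,137,257] [530,535,528,620,24,35,137,378] [528,533,530,622,24,33,137,257,1,8] [(1,[2,1,7,14,16,32,95,160]),(0,[1,2,4,8,16,32,64,128]),(4,[2,1,7,14,16,37,95,170]),(8,[4,7,1,8,21,48,80,234]),(16,[1,2,4,13,21,53,80,229]),(32,[8,14,13,1,21,32,85,160]),(57,[11,13,14,7,21,37,79,138]),(128,[13,14,8,4,21,63,74,223]),(256,[2,14,7,1,26,32,80,160]),(512,[1,2,4,13,16,63,95,239])] 0 [4,7,1,13,16,37,64,143] [⟨0,0,[],0,0,false⟩,⟨0,0,[],0,0,false⟩,⟨0,0,[],0,0,false⟩,⟨0,0,[],0,0,false⟩,⟨0,0,[],0,0,false⟩,⟨0,0,[],0,0,false⟩,⟨0,0,[],0,0,false⟩,⟨1,2,[⟨4,0,0,0⟩,⟨0,8,14,0⟩,⟨0,32,32,0⟩],1,0,false⟩,⟨1,4,[⟨4,0,0,1⟩,⟨4,3,0,2⟩,⟨0,8,8,0⟩,⟨0,16,21,0⟩,⟨0,32,48,0⟩],0,0,false⟩]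 [] [256,5,259,512,533,288,63,842,416,532] [([530,535,528,620,24,35,137,378,1,8],[]),([530,535,528,620,24,35,137,378,1,10],[])] [] = true := by decide +kernel
theorem c20019225 : chkLift M20234 D20234 E20016323 [528,533,530,622,24,33,137,257] [528,533,530,622,24,33,137,259] [528,533,530,622,24,33,137,257,1,8] [(1,[2,1,7,14,16,32,95,160]),(0,[1,2,4,8,16,32,64,128]),(4,[2,1,7,14,16,37,95,170]),(8,[4,7,1,8,21,48,80,234]),(16,[1,2,4,13,21,53,80,229]),(32,[8,14,13,1,21,32,85,160]),(57,[11,13,14,7,21,37,79,138]),(128,[13,14,8,4,21,63,74,223]),(256,[2,14,7,1,26,32,80,160]),(512,[1,2,4,13,16,63,95,239])] 0 [1,2,4,8,16,32,64,133] [⟨0,0,[],0,0,false⟩,⟨0,0,[],0,0,false⟩,⟨0,0,[],0,0,false⟩,⟨0,0,[],0,0,false⟩,⟨0,0,[],0,0,false⟩,⟨0,0,[],0,0,false⟩,⟨0,0,[],0,0,false⟩,⟨1,2,[⟨4,0,0,0⟩,⟨0,8,14,0⟩,⟨0,32,32,0⟩],1,0,false⟩,⟨1,4,[⟨4,0,0,1⟩,⟨4,3,0,2⟩,⟨0,8,8,0⟩,⟨0,16,21,0⟩,⟨0,32,48,0⟩],0,0,false⟩]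 [] [256,5,259,512,533,288,63,842,416,532] [([528,533,530,622,24,33,137,259,1,8],[]),([528,533,530,622,24,33,137,259,1,10],[])] [] = true := by decide +kernel
theorem c20017965 : chkLift M20234 D20234 E20016323 [528,533,530,622,24,33,137,257] [619,620,617,535,24,35,139,378] [528,533,530,622,24,33,137,257,1,8] [(1,[2,1,7,14,16,32,95,160]),(0,[1,2,4,8,16,32,64,128]),(4,[2,1,7,14,16,37,95,170]),(21,[4,7,1,8,21,48,80,234]),(13,[1,2,4,13,21,53,80,229]),(32,[8,14,13,1,21,32,85,160]),(57,[11,13,14,7,21,37,79,138]),(157,[13,14,8,4,21,63,74,223]),(256,[2,14,7,1,26,32,80,160]),(541,[1,2,4,13,16,63,95,239])] 0 [11,13,14,7,16,37,69,143] [⟨0,0,[],0,0,false⟩,⟨0,0,[],0,0,false⟩,⟨0,0,[],0,0,false⟩,⟨0,0,[],0,0,false⟩,⟨0,0,[],0,0,false⟩,⟨0,0,[],0,0,false⟩,⟨0,0,[],0,0,false⟩,⟨1,2,[⟨4,0,0,0⟩,⟨0,8,14,0⟩,⟨0,32,32,0⟩],1,0,false⟩,⟨1,4,[⟨4,0,0,1⟩,⟨4,3,0,2⟩,⟨0,8,8,0⟩,⟨0,16,21,0⟩,⟨0,32,48,0⟩,⟨5,0,256,0⟩],0,0,false⟩]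 [] [256,5,259,512,533,288,63,842,416,532] [] [] = true := by decide +kernel
theorem c20016403 : chkLift M20234 D20234 E20014166 [520,525,522,630,8,16,33,129,257] [625,630,627,525,16,8,33,224,259] [520,525,522,630,8,16,33,129,257,1] [(1,[2,1,7,14,16,32,64,186,320]),(0,[1,2,4,8,16,32,64,128,256]),(4,[2,1,7,14,16,32,69,186,335]),(16,[1,2,4,13,16,37,112,181,495]),(8,[4,7,1,8,21,32,117,176,485]),(32,[8,14,13,1,32,16,64,128,320]),(64,[11,13,14,7,32,16,69,186,271]),(225,[13,14,8,4,37,21,122,186,431]),(256,[13,4,8,11,250,197,64,101,320]),(609,[1,2,4,13,16,32,122,186,490])] 0 [14,8,11,2,32,16,64,186,261] [⟨0,0,[],0,0,false⟩,⟨0,0,[],0,0,false⟩,⟨0,0,[],0,0,false⟩,⟨0,0,[],0,0,false⟩,⟨0,0,[],0,0,false⟩,⟨0,0,[],0,0,false⟩,⟨0,0,[],0,0,false⟩,⟨0,0,[],0,0,false⟩,⟨1,2,[⟨4,0,0,0⟩,⟨0,8,14,0⟩,⟨0,64,64,0⟩],0,0,false⟩] [] [512,5,515,16,32,576,122,698,832,17]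 [([625,630,627,525,16,8,33,224,259,3],[]),([625,630,627,525,16,8,33,224,259,1],[])] [] = true := by decide +kernel
theorem c20016706 : chkLift M20234 D20234 E20014166 [520,525,522,630,8,16,33,129,257] [522,527,520,628,8,16,35,129,378] [520,525,522,630,8,16,33,129,257,1] [(1,[2,1,7,14,16,32,64,186,320]),(0,[1,2,4,8,16,32,64,128,256]),(4,[2,1,7,14,16,32,69,186,335]),(8,[1,2,4,13,16,37,112,181,495]),(16,[4,7,1,8,21,32,117,176,485]),(32,[8,14,13,1,32,16,64,128,320]),(64,[11,13,14,7,32,16,69,186,271]),(128,[13,14,8,4,37,21,122,186,431]),(377,[13,4,8,11,250,197,64,101,320]),(512,[1,2,4,13,16,32,122,186,490])] 0 [4,7,1,13,16,32,69,128,266] [⟨0,0,[],0,0,false⟩,⟨0,0,[],0,0,false⟩,⟨0,0,[],0,0,false⟩,⟨0,0,[],0,0,false⟩,⟨0,0,[],0,0,false⟩,⟨0,0,[],0,0,false⟩,⟨0,0,[],0,0,false⟩,⟨0,0,[],0,0,false⟩,⟨1,2,[⟨4,0,0,0⟩,⟨0,8,14,0⟩,⟨0,64,64,0⟩],0,0,false⟩]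 [] [512,5,515,16,32,576,122,698,832,17] [([522,527,520,628,8,16,35,129,378,3],[]),([522,527,520,628,8,16,35,129,378,1],[])] [] = true := by decide +kernel
theorem c20016994 : chkLift M20234 D20234 E20014166 [520,525,522,630,8,16,33,129,257] [520,525,522,630,8,16,33,129,259] [520,525,522,630,8,16,33,129,257,1] [(1,[2,1,7,14,16,32,64,186,320]),(0,[1,2,4,8,16,32,64,128,256]),(4,[2,1,7,14,16,32,69,186,335]),(8,[1,2,4,13,16,37,112,181,495]),(16,[4,7,1,8,21,32,117,176,485]),(32,[8,14,13,1,32,16,64,128,320]),(64,[11,13,14,7,32,16,69,186,271]),(128,[13,14,8,4,37,21,122,186,431]),(256,[13,4,8,11,250,197,64,101,320]),(512,[1,2,4,13,16,32,122,186,490])] 0 [1,2,4,8,16,32,64,128,261] [⟨0,0,[],0,0,false⟩,⟨0,0,[],0,0,false⟩,⟨0,0,[],0,0,false⟩,⟨0,0,[],0,0,false⟩,⟨0,0,[],0,0,false⟩,⟨0,0,[],0,0,false⟩,⟨0,0,[],0,0,false⟩,⟨0,0,[],0,0,false⟩,⟨1,2,[⟨4,0,0,0⟩,⟨0,8,14,0⟩,⟨0,64,64,0⟩],0,0,false⟩]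 [] [512,5,515,16,32,576,122,698,832,17] [([520,525,522,630,8,16,33,129,259,3],[]),([520,525,522,630,8,16,33,129,259,1],[])] [] = true := by decide +kernel
theorem c20017298 : chkLift M20234 D20234 E20014166 [520,525,522,630,8,16,33,129,257] [520,525,522,630,8,16,33,129,259] [520,525,522,630,8,16,33,129,257,1] [(1,[2,1,7,14,16,32,64,186,320]),(0,[1,2,4,8,16,32,64,128,256]),(4,[2,1,7,14,16,32,69,186,335]),(8,[1,2,4,13,16,37,112,181,495]),(16,[4,7,1,8,21,32,117,176,485]),(32,[8,14,13,1,32,16,64,128,320]),(64,[11,13,14,7,32,16,69,186,271]),(128,[13,14,8,4,37,21,122,186,431]),(256,[13,4,8,11,250,197,64,101,320]),(512,[1,2,4,13,16,32,122,186,490])] 0 [1,2,4,8,16,32,64,128,261] [⟨0,0,[],0,0,false⟩,⟨0,0,[],0,0,false⟩,⟨0,0,[],0,0,false⟩,⟨0,0,[],0,0,false⟩,⟨0,0,[],0,0,false⟩,⟨0,0,[],0,0,false⟩,⟨0,0,[],0,0,false⟩,⟨0,0,[],0,0,false⟩,⟨1,2,[⟨4,0,0,0⟩,⟨0,8,14,0⟩,⟨0,64,64,0⟩],0,0,false⟩]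 [] [512,5,515,16,32,576,122,698,832,17] [([520,525,522,630,8,16,33,129,259,3],[]),([520,525,522,630,8,16,33,129,259,1],[])] [] = true := by decide +kernel
theorem c20017586 : chkLift M20234 D20234 E20014166 [520,525,522,630,8,16,33,129,257] [625,630,627,525,16,8,33,224,259] [520,525,522,630,8,16,33,129,257,1] [(1,[2,1,7,14,16,32,64,186,320]),(0,[1,2,4,8,16,32,64,128,256]),(4,[2,1,7,14,16,32,69,186,335]),(16,[1,2,4,13,16,37,112,181,495]),(8,[4,7,1,8,21,32,117,176,485]),(32,[8,14,13,1,32,16,64,128,320]),(64,[11,13,14,7,32,16,69,186,271]),(225,[13,14,8,4,37,21,122,186,431]),(256,[13,4,8,11,250,197,64,101,320]),(609,[1,2,4,13,16,32,122,186,490])] 0 [14,8,11,2,32,16,64,186,261] [⟨0,0,[],0,0,false⟩,⟨0,0,[],0,0,false⟩,⟨0,0,[],0,0,false⟩,⟨0,0,[],0,0,false⟩,⟨0,0,[],0,0,false⟩,⟨0,0,[],0,0,false⟩,⟨0,0,[],0,0,false⟩,⟨0,0,[],0,0,false⟩,⟨1,2,[⟨4,0,0,0⟩,⟨0,8,14,0⟩,⟨0,64,64,0⟩],0,0,false⟩]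 [] [512,5,515,16,32,576,122,698,832,17] [([625,630,627,525,16,8,33,224,259,3],[]),([625,630,627,525,16,8,33,224,259,1],[])] [] = true := by decide +kernel
theorem c20017888 : chkLift M20234 D20234 E20014166 [520,525,522,630,8,16,33,129,257] [627,628,625,527,16,8,33,224,257] [520,525,522,630,8,16,33,129,257,1] [(1,[2,1,7,14,16,32,64,186,320]),(0,[1,2,4,8,16,32,64,128,256]),(4,[2,1,7,14,16,32,69,186,335]),(16,[1,2,4,13,16,37,112,181,495]),(8,[4,7,1,8,21,32,117,176,485]),(32,[8,14,13,1,32,16,64,128,320]),(64,[11,13,14,7,32,16,69,186,271]),(225,[13,14,8,4,37,21,122,186,431]),(256,[13,4,8,11,250,197,64,101,320]),(609,[1,2,4,13,16,32,122,186,490])] 0 [11,13,14,7,32,16,64,186,256] [⟨0,0,[],0,0,false⟩,⟨0,0,[],0,0,false⟩,⟨0,0,[],0,0,false⟩,⟨0,0,[],0,0,false⟩,⟨0,0,[],0,0,false⟩,⟨0,0,[],0,0,false⟩,⟨0,0,[],0,0,false⟩,⟨0,0,[],0,0,false⟩,⟨1,2,[⟨4,0,0,0⟩,⟨0,8,14,0⟩,⟨0,64,64,0⟩],0,0,false⟩]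 [] [512,5,515,16,32,576,122,698,832,17] [([627,628,625,527,16,8,33,224,257,3],[]),([627,628,625,527,16,8,33,224,257,1],[])] [] = true := by decide +kernel
theorem c20018173 : chkLift M20234 D20234 E20014166 [520,525,522,630,8,16,33,129,257] [520,525,522,630,8,16,35,129,376] [520,525,522,630,8,16,33,129,257,1] [(1,[2,1,7,14,16,32,64,186,320]),(0,[1,2,4,8,16,32,64,128,256]),(4,[2,1,7,14,16,32,69,186,335]),(8,[1,2,4,13,16,37,112,181,495]),(16,[4,7,1,8,21,32,117,176,485]),(32,[8,14,13,1,32,16,64,128,320]),(64,[11,13,14,7,32,16,69,186,271]),(128,[13,14,8,4,37,21,122,186,431]),(377,[13,4,8,11,250,197,64,101,320]),(512,[1,2,4,13,16,32,122,186,490])] 0 [1,2,4,8,16,32,69,128,271] [⟨0,0,[],0,0,false⟩,⟨0,0,[],0,0,false⟩,⟨0,0,[],0,0,false⟩,⟨0,0,[],0,0,false⟩,⟨0,0,[],0,0,false⟩,⟨0,0,[],0,0,false⟩,⟨0,0,[],0,0,false⟩,⟨0,0,[],0,0,false⟩,⟨1,2,[⟨4,0,0,0⟩,⟨0,8,14,0⟩,⟨0,64,64,0⟩],0,0,false⟩]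 [] [512,5,515,16,32,576,122,698,832,17] [([520,525,522,630,8,16,35,129,376,3],[]),([520,525,522,630,8,16,35,129,376,1],[])] [] = true := by decide +kernel
theorem c20018480 : chkLift M20234 D20234 E20014166 [520,525,522,630,8,16,33,129,257] [520,525,522,630,8,16,33,129,259] [520,525,522,630,8,16,33,129,257,1] [(1,[2,1,7,14,16,32,64,186,320]),(0,[1,2,4,8,16,32,64,128,256]),(4,[2,1,7,14,16,32,69,186,335]),(8,[1,2,4,13,16,37,112,181,495]),(16,[4,7,1,8,21,32,117,176,485]),(32,[8,14,13,1,32,16,64,128,320]),(64,[11,13,14,7,32,16,69,186,271]),(128,[13,14,8,4,37,21,122,186,431]),(256,[13,4,8,11,250,197,64,101,320]),(512,[1,2,4,13,16,32,122,186,490])] 0 [1,2,4,8,16,32,64,128,261] [⟨0,0,[],0,0,false⟩,⟨0,0,[],0,0,false⟩,⟨0,0,[],0,0,false⟩,⟨0,0,[],0,0,false⟩,⟨0,0,[],0,0,false⟩,⟨0,0,[],0,0,false⟩,⟨0,0,[],0,0,false⟩,⟨0,0,[],0,0,false⟩,⟨1,2,[⟨4,0,0,0⟩,⟨0,8,14,0⟩,⟨0,64,64,0⟩],0,0,false⟩]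 [] [512,5,515,16,32,576,122,698,832,17] [([520,525,522,630,8,16,33,129,259,3],[]),([520,525,522,630,8,16,33,129,259,1],[])] [] = true := by decide +kernel
theorem c20018771 : chkLift M20234 D20234 E20014166 [520,525,522,630,8,16,33,129,257] [625,630,627,525,16,8,33,224,259] [520,525,522,630,8,16,33,129,257,1] [(1,[2,1,7,14,16,32,64,186,320]),(0,[1,2,4,8,16,32,64,128,256]),(4,[2,1,7,14,16,32,69,186,335]),(16,[1,2,4,13,16,37,112,181,495]),(8,[4,7,1,8,21,32,117,176,485]),(32,[8,14,13,1,32,16,64,128,320]),(64,[11,13,14,7,32,16,69,186,271]),(225,[13,14,8,4,37,21,122,186,431]),(256,[13,4,8,11,250,197,64,101,320]),(609,[1,2,4,13,16,32,122,186,490])] 0 [14,8,11,2,32,16,64,186,261] [⟨0,0,[],0,0,false⟩,⟨0,0,[],0,0,false⟩,⟨0,0,[],0,0,false⟩,⟨0,0,[],0,0,false⟩,⟨0,0,[],0,0,false⟩,⟨0,0,[],0,0,false⟩,⟨0,0,[],0,0,false⟩,⟨0,0,[],0,0,false⟩,⟨1,2,[⟨4,0,0,0⟩,⟨0,8,14,0⟩,⟨0,64,64,0⟩],0,0,false⟩]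 [] [512,5,515,16,32,576,122,698,832,17] [([625,630,627,525,16,8,33,224,259,3],[]),([625,630,627,525,16,8,33,224,259,1],[])] [] = true := by decide +kernel
theorem c20019069 : chkLift M20234 D20234 E20014166 [520,525,522,630,8,16,33,129,257] [627,628,625,527,16,8,33,224,257] [520,525,522,630,8,16,33,129,257,1] [(1,[2,1,7,14,16,32,64,186,320]),(0,[1,2,4,8,16,32,64,128,256]),(4,[2,1,7,14,16,32,69,186,335]),(16,[1,2,4,13,16,37,112,181,495]),(8,[4,7,1,8,21,32,117,176,485]),(32,[8,14,13,1,32,16,64,128,320]),(64,[11,13,14,7,32,16,69,186,271]),(225,[13,14,8,4,37,21,122,186,431]),(256,[13,4,8,11,250,197,64,101,320]),(609,[1,2,4,13,16,32,122,186,490])] 0 [11,13,14,7,32,16,64,186,256] [⟨0,0,[],0,0,false⟩,⟨0,0,[],0,0,false⟩,⟨0,0,[],0,0,false⟩,⟨0,0,[],0,0,false⟩,⟨0,0,[],0,0,false⟩,⟨0,0,[],0,0,false⟩,⟨0,0,[],0,0,false⟩,⟨0,0,[],0,0,false⟩,⟨1,2,[⟨4,0,0,0⟩,⟨0,8,14,0⟩,⟨0,64,64,0⟩],0,0,false⟩]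 [] [512,5,515,16,32,576,122,698,832,17] [([627,628,625,527,16,8,33,224,257,3],[]),([627,628,625,527,16,8,33,224,257,1],[])] [] = true := by decide +kernel
theorem c20019363 : chkLift M20234 D20234 E20014166 [520,525,522,630,8,16,33,129,257] [625,630,627,525,16,8,33,224,259] [520,525,522,630,8,16,33,129,257,1] [(1,[2,1,7,14,16,32,64,186,320]),(0,[1,2,4,8,16,32,64,128,256]),(4,[2,1,7,14,16,32,69,186,335]),(16,[1,2,4,13,16,37,112,181,495]),(8,[4,7,1,8,21,32,117,176,485]),(32,[8,14,13,1,32,16,64,128,320]),(64,[11,13,14,7,32,16,69,186,271]),(225,[13,14,8,4,37,21,122,186,431]),(256,[13,4,8,11,250,197,64,101,320]),(609,[1,2,4,13,16,32,122,186,490])] 0 [14,8,11,2,32,16,64,186,261] [⟨0,0,[],0,0,false⟩,⟨0,0,[],0,0,false⟩,⟨0,0,[],0,0,false⟩,⟨0,0,[],0,0,false⟩,⟨0,0,[],0,0,false⟩,⟨0,0,[],0,0,false⟩,⟨0,0,[],0,0,false⟩,⟨0,0,[],0,0,false⟩,⟨1,2,[⟨4,0,0,0⟩,⟨0,8,14,0⟩,⟨0,64,64,0⟩],0,0,false⟩]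 [] [512,5,515,16,32,576,122,698,832,17] [([625,630,627,525,16,8,33,224,259,3],[]),([625,630,627,525,16,8,33,224,259,1],[])] [] = true := by decide +kernel
theorem c20019661 : chkLift M20234 D20234 E20014166 [520,525,522,630,8,16,33,129,257] [627,628,625,527,16,8,33,224,257] [520,525,522,630,8,16,33,129,257,1] [(1,[2,1,7,14,16,32,64,186,320]),(0,[1,2,4,8,16,32,64,128,256]),(4,[2,1,7,14,16,32,69,186,335]),(16,[1,2,4,13,16,37,112,181,495]),(8,[4,7,1,8,21,32,117,176,485]),(32,[8,14,13,1,32,16,64,128,320]),(64,[11,13,14,7,32,16,69,186,271]),(225,[13,14,8,4,37,21,122,186,431]),(256,[13,4,8,11,250,197,64,101,320]),(609,[1,2,4,13,16,32,122,186,490])] 0 [11,13,14,7,32,16,64,186,256] [⟨0,0,[],0,0,false⟩,⟨0,0,[],0,0,false⟩,⟨0,0,[],0,0,false⟩,⟨0,0,[],0,0,false⟩,⟨0,0,[],0,0,false⟩,⟨0,0,[],0,0,false⟩,⟨0,0,[],0,0,false⟩,⟨0,0,[],0,0,false⟩,⟨1,2,[⟨4,0,0,0⟩,⟨0,8,14,0⟩,⟨0,64,64,0⟩],0,0,false⟩]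 [] [512,5,515,16,32,576,122,698,832,17] [([627,628,625,527,16,8,33,224,257,3],[]),([627,628,625,527,16,8,33,224,257,1],[])] [] = true := by decide +kernel
theorem c20014562 : chkCF M20234 (8,Z20014556) [1,9] = true := by decide +kernel
theorem c20016244 : chkCF M20234 (121,Z20014556) [1,9] = true := by decide +kernel
theorem c20017447 : chkDer M20234 [([528,533,530,622,24,33,137,257],[59,463,57,436,1020,530,352,214])] [(0,8,[]),(2,0,[32,147,37,153,200,4,255,124]),(0,543,[]),(1,0,[63,249,58,246,184,1,149,121]),(0,1,[]),(2,0,[246,53,243,63,189,1,39,125]),(0,541,[]),(1,0,[153,47,156,32,205,4,61,125]),(0,1,[]),(0,8,[]),(0,1,[]),(2,0,[153,47,156,37,200,201,255,75]),(0,543,[]),(1,0,[246,53,243,58,184,188,149,84]),(0,1,[]),(2,0,[63,249,58,243,189,185,39,232]),(0,541,[]),(1,0,[32,147,37,156,205,204,61,135])]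 ([528,533,530,622,24,33,137,257],[530,535,528,620,24,35,137,378]) = true := by decide +kernel
theorem c20019438 : chkDer M20234 [([528,533,530,622,24,33,137,257],[319,35,317,88,882,438,402,741])] [(0,8,[]),(2,0,[201,63,204,53,155,156,191,71]),(0,543,[]),(1,0,[188,32,185,47,241,243,202,93]),(0,1,[]),(2,0,[32,188,37,182,241,243,59,174]),(0,541,[]),(1,0,[63,201,58,198,155,156,33,219]),(0,1,[]),(0,8,[]),(0,1,[]),(2,0,[58,204,63,198,158,7,176,108]),(0,543,[]),(1,0,[37,185,32,182,244,2,192,105]),(0,1,[]),(2,0,[185,37,188,47,244,2,52,110]),(0,541,[]),(1,0,[204,58,201,53,158,7,43,110])] ([528,533,530,622,24,33,137,257],[528,533,530,622,24,33,137,259]) = true := by decide +kernel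
theorem c20019072 : chkDer M20234 [([528,533,530,622,24,33,137,257],[326,90,324,33,880,436,491,741])] [(0,8,[]),(2,0,[195,63,198,53,145,153,191,66]),(0,543,[]),(1,0,[179,32,182,47,254,246,202,88]),(0,1,[]),(2,0,[47,185,42,179,251,243,59,161]),(0,541,[]),(1,0,[53,204,48,195,148,156,33,209]),(0,1,[]),(0,8,[]),(0,1,[]),(2,0,[53,204,48,198,145,13,191,108]),(0,543,[]),(1,0,[47,185,42,182,254,13,202,105]),(0,1,[]),(2,0,[179,32,182,42,251,13,59,100]),(0,541,[]),(1,0,[195,63,198,48,148,13,33,97])] ([528,533,530,622,24,33,137,257],[530,535,528,620,24,35,137,378]) = true := by decide +kernel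
theorem c20016989 : chkDer M20234 [([528,533,530,622,24,33,137,257],[326,33,324,90,777,461,491,670])] [(0,8,[]),(2,0,[198,58,195,48,148,150,181,72]),(0,543,[]),(1,0,[182,37,179,42,251,252,197,87]),(0,1,[]),(2,0,[37,182,32,188,251,252,62,171]),(0,541,[]),(1,0,[58,198,63,201,148,150,36,222]),(0,1,[]),(0,8,[]),(0,1,[]),(2,0,[63,195,58,201,145,2,186,102]),(0,543,[]),(1,0,[32,179,37,188,254,7,207,102]),(0,1,[]),(2,0,[179,32,182,42,254,7,49,100]),(0,541,[]),(1,0,[195,63,198,48,145,2,46,97])] ([528,533,530,622,24,33,137,257],[528,533,530,622,24,33,137,259]) = true := by decide +kernel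
theorem c20017146 : chkDer M20234 [([528,533,530,622,24,33,137,257],[57,438,59,461,903,528,281,173])] [(0,8,[]),(2,0,[37,156,32,150,199,1,245,118]),(0,543,[]),(1,0,[58,243,63,252,178,4,154,118]),(0,1,[]),(2,0,[252,48,249,58,183,4,34,119]),(0,541,[]),(1,0,[150,42,147,37,194,1,56,114]),(0,1,[]),(0,8,[]),(0,1,[]),(2,0,[150,42,147,32,199,195,245,68]),(0,543,[]),(1,0,[252,48,249,63,178,179,154,94]),(0,1,[]),(2,0,[58,243,63,249,183,182,34,237]),(0,541,[]),(1,0,[37,156,32,147,194,198,56,130])] ([528,533,530,622,24,33,137,257],[530,535,528,620,24,35,137,378]) = true := by decide +kernel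
theorem c20018932 : chkDer M20234 [([104,2,109,123,9,128,33,257,513],[106,123,111,121,225,9,319,206,634]),([520,525,522,630,8,16,33,129,257],[126,520,124,627,193,16,345,505,35])] [(0,455,[]),(1,0,[257,268,259,262,19,91,41,240]),(2,1,[226,230,237,227,474,369,229,325]),(1,0,[382,125,374,127,235,497,120,194]),(2,1,[152,426,146,421,170,168,420,117]),(1,0,[303,163,293,171,35,308,400,89]),(1,1,[13,220,8,214,48,151,71,470])] ([528,533,530,622,24,33,137,257],[625,710,627,701,211,993,896,670]) = true := by decide +kernel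
theorem c20019154 : chkDer M20234 [([104,2,109,123,9,128,33,257,513],[106,123,111,121,225,9,319,206,634]),([520,525,522,630,8,16,33,129,257],[527,124,525,5,160,16,376,368,290])] [(0,455,[]),(1,0,[257,268,259,262,19,91,41,240]),(2,1,[214,212,217,209,378,152,223,69]),(1,0,[102,354,110,352,209,303,105,66]),(2,1,[261,148,271,155,165,11,264,477]),(1,0,[130,290,136,298,43,282,444,462]),(2,1,[61,9,56,3,208,412,428,161])] ([528,533,530,622,24,33,137,257],[622,124,620,5,168,407,397,760]) = true := by decide +kernel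
theorem c20019618 : chkDer M20234 [([104,2,109,123,9,128,33,257,513],[106,123,111,121,225,9,319,206,634]),([520,525,522,630,8,16,33,129,257],[126,625,124,522,160,8,345,410,35])] [(0,64,[]),(1,0,[257,262,259,270,25,66,58,136]),(2,1,[232,233,231,227,469,145,319,219]),(1,0,[372,117,380,127,227,288,147,362]),(1,1,[382,490,372,495,405,11,70,466]),(1,0,[238,81,228,83,153,7,485,288])] ([528,533,530,622,24,33,137,257],[407,436,405,461,36,126,932,627]) = true := by decide +kernel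
theorem c20019807 : chkDer M20234 [([104,2,109,123,9,128,33,257,513],[106,123,111,121,225,9,319,206,634]),([520,525,522,630,8,16,33,129,257],[527,5,525,124,8,193,376,443,345])] [(0,257,[]),(1,0,[259,268,257,260,19,64,50,128]),(2,1,[220,219,211,209,378,472,405,55]),(1,0,[108,362,100,352,209,460,178,270]),(1,1,[325,466,335,471,319,306,118,55]),(1,0,[64,214,74,212,178,191,472,119])] ([528,533,530,622,24,33,137,257],[319,284,317,359,62,66,808,466]) = true := by decide +kernel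
theorem c20018728 : chkDer M20234 [([104,2,109,123,9,128,33,257,513],[106,123,111,121,225,9,319,206,634]),([520,525,522,630,8,16,33,129,257],[628,126,630,7,193,8,376,360,347])] [(0,64,[]),(1,0,[257,262,259,270,25,66,58,136]),(2,1,[217,219,214,209,383,466,400,55]),(1,0,[110,362,102,352,211,454,176,270]),(1,1,[330,466,320,471,304,311,121,55]),(1,0,[74,212,64,214,186,181,464,125])] ([528,533,530,622,24,33,137,257],[317,359,319,284,71,64,851,464]) = true := by decide +kernel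
theorem c20017660 : chkDer M20234 [([104,2,109,123,9,128,33,257,513],[106,123,111,121,225,9,319,206,634]),([520,525,522,630,8,16,33,129,257],[527,124,525,5,160,16,376,370,347])] [(1,0,[265,268,267,260,27,64,48,128]),(1,1,[59,56,52,50,149,374,165,236]),(1,0,[372,125,380,119,235,290,145,362]),(2,1,[467,122,473,127,319,9,322,155]),(1,0,[228,81,238,83,147,15,493,298])] ([528,533,530,622,24,33,137,257],[405,436,407,461,38,7,991,625]) = true := by decide +kernel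
theorem c20016995 : chkDer M20234 [([104,2,109,123,9,128,33,257,513],[106,123,111,121,225,9,319,206,634]),([520,525,522,630,8,16,33,129,257],[7,520,5,627,8,160,345,329,33])] [(0,257,[]),(1,0,[259,268,257,260,19,64,50,128]),(1,1,[62,56,49,50,159,374,170,236]),(1,0,[110,362,102,352,219,460,186,270]),(2,1,[64,380,74,377,405,409,484,236]),(1,0,[64,214,74,212,178,191,472,119])] ([528,533,530,622,24,33,137,257],[319,284,317,359,62,66,808,466]) = true := by decide +kernel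
theorem c20017668 : chkDer M20234 [([528,533,530,622,24,33,137,257],[622,124,620,5,168,407,397,760])] [(0,1,[]),(2,0,[14,6,11,12,106,243,230,88]),(2,0,[12,13,9,2,117,182,211,237]),(2,0,[2,4,7,14,21,48,74,218]),(0,1,[]),(1,0,[1,7,4,8,21,48,80,234]),(1,0,[8,9,13,3,117,182,163,81]),(1,0,[3,11,6,4,106,243,131,171])] ([528,533,530,622,24,33,137,257],[530,535,528,620,24,33,137,257]) = true := by decide +kernel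
theorem c20016317 : chkDer M20234 [([520,525,522,630,8,16,33,129,257],[630,124,628,5,193,8,376,362,288]),([104,2,109,123,9,128,33,257,513],[106,123,111,121,225,9,319,206,634])] [(0,704,[]),(2,0,[209,220,212,214,223,330,400,261]),(2,1,[423,163,429,171,166,110,233,242]),(1,0,[312,426,306,421,425,217,479,495]),(1,1,[183,89,189,81,344,267,219,169])] ([528,533,530,622,24,33,137,257],[59,463,57,436,1020,530,352,214]) = true := by decide +kernel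
theorem c20018180 : chkDer M20234 [([520,525,522,630,8,16,33,129,257],[525,7,527,126,8,193,376,441,290]),([104,2,109,123,9,128,33,257,513],[106,123,111,121,225,9,319,206,634])] [(0,704,[]),(2,0,[212,214,209,220,208,335,415,256]),(2,1,[429,171,423,163,164,100,235,248]),(1,0,[306,421,312,426,428,211,474,485]),(1,1,[181,91,191,83,338,267,211,171])] ([528,533,530,622,24,33,137,257],[64,438,66,461,1022,530,281,175]) = true := by decide +kernel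
theorem c20018772 : chkDer M20234 [([520,525,522,630,8,16,33,129,257],[628,126,630,7,193,8,376,362,290]),([104,2,109,123,9,128,33,257,513],[106,123,111,121,225,9,319,206,634])] [(0,704,[]),(2,0,[212,220,209,214,223,335,405,256]),(2,1,[429,163,423,171,166,100,227,248]),(1,0,[306,426,312,421,425,211,469,485]),(1,1,[189,91,183,83,346,257,211,161])] ([528,533,530,622,24,33,137,257],[57,438,59,461,903,528,281,173]) = true := by decide +kernel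
theorem c20018844 : chkDer M20234 [([520,525,522,630,8,16,33,129,257],[5,522,7,625,8,160,345,331,90]),([104,2,109,123,9,128,33,257,513],[106,123,111,121,225,9,319,206,634])] [(0,704,[]),(2,0,[233,237,236,231,234,271,319,79]),(2,1,[138,387,128,395,143,250,209,158]),(1,0,[266,414,256,401,265,480,378,307]),(1,1,[64,150,74,158,326,91,235,318])] ([528,533,530,622,24,33,137,257],[319,35,317,88,882,438,402,741]) = true := by decide +kernel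
theorem c20017536 : chkDer M20234 [([520,525,522,630,8,16,33,129,257],[5,627,7,520,16,193,345,339,35]),([104,2,109,123,9,128,33,257,513],[106,123,111,121,225,9,319,206,634])] [(0,704,[]),(2,0,[230,226,227,232,234,256,319,79]),(2,1,[136,385,130,393,143,248,209,158]),(1,0,[271,411,261,404,265,485,378,307]),(1,1,[74,156,64,148,326,81,235,310])] ([528,533,530,622,24,33,137,257],[317,33,319,90,882,436,402,668]) = true := by decide +kernel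
theorem c20016987 : chkDer M20234 [([520,525,522,630,8,16,33,129,257],[7,520,5,627,8,160,345,331,88]),([104,2,109,123,9,128,33,257,513],[106,123,111,121,225,9,319,206,634])] [(0,704,[]),(2,0,[233,232,236,226,234,266,314,79]),(2,1,[138,393,128,385,143,240,219,158]),(1,0,[266,404,256,411,265,490,368,307]),(1,1,[66,156,72,148,324,83,227,316])] ([528,533,530,622,24,33,137,257],[326,33,324,90,777,461,491,670]) = true := by decide +kernel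
theorem c20014550 : chkDer M20234 [([5,643,2,741,538,121],[520,284,2,788,633,123]),([1,2,4,8,16,96,160,512],[104,2,109,123,10,11,160,619])] [(1,0,[1,5,33]),(0,1,[]),(2,1,[164,166,174]),(0,256,[]),(2,1,[235,233,136]),(2,0,[59,63,1]),(0,1,[]),(1,0,[58,62,1]),(0,32,[]),(2,1,[97,99,174]),(0,256,[]),(2,1,[59,57,136]),(2,0,[32,36,1])] ([5,7,124],[121,123,5]) = true := by decide +kernel
theorem c20015194 : chkDer M20234 [([5,643,2,741,538,121],[528,288,2,816,633,121]),([1,2,4,8,16,96,160,512],[104,2,109,123,10,11,160,619])] [(1,0,[1,5,33]),(0,1,[]),(2,1,[141,143,133]),(0,256,[]),(1,1,[138,136,235]),(2,0,[5,1,59]),(0,1,[]),(1,0,[5,1,58]),(0,32,[]),(1,1,[172,174,97]),(0,256,[]),(2,1,[169,171,59]),(2,0,[33,37,36])] ([5,7,124],[124,126,123]) = true := by decide +kernel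
theorem c20016360 : chkDer M20234 [([520,525,522,630,8,16,33,129,257],[630,124,628,5,193,8,376,360,347])] [(1,0,[1,2,4,8,16,32,64,128,256]),(0,1,[]),(2,0,[12,7,9,8,197,32,261,506,69]),(0,1,[]),(1,0,[9,4,12,14,250,32,325,447,69])] ([520,525,522,630,8,16,33,129,257],[627,628,625,527,16,8,35,224,378]) = true := by decide +kernel
theorem c20018257 : chkDer M20234 [([520,525,522,630,8,16,33,129,257],[525,5,527,124,8,193,376,441,288])] [(1,0,[1,2,4,8,16,32,64,128,256]),(0,1,[]),(2,0,[3,2,6,13,16,255,266,303,79]),(0,1,[]),(1,0,[3,1,6,11,16,192,335,362,74])] ([520,525,522,630,8,16,33,129,257],[520,525,522,630,8,16,33,129,259]) = true := by decide +kernel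
theorem c20017375 : chkDer M20234 [([520,525,522,630,8,16,33,129,257],[628,126,630,7,193,8,376,362,288])] [(1,0,[1,2,4,8,16,32,64,128,256]),(0,1,[]),(2,0,[9,7,12,8,192,32,266,496,79]),(0,1,[]),(1,0,[12,4,9,14,255,32,335,432,74])] ([520,525,522,630,8,16,33,129,257],[625,630,627,525,16,8,33,224,259]) = true := by decide +kernel
theorem c20019361 : chkDer M20234 [([520,525,522,630,8,16,33,129,257],[628,126,630,7,193,8,376,362,288])] [(1,0,[1,2,4,8,16,32,64,128,256]),(0,1,[]),(2,0,[9,7,12,8,192,32,266,496,79]),(0,1,[]),(1,0,[12,4,9,14,255,32,335,432,74])] ([520,525,522,630,8,16,33,129,257],[625,630,627,525,16,8,33,224,259]) = true := by decide +kernel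
theorem c20017226 : chkDer M20234 [([520,525,522,630,8,16,33,129,257],[7,520,5,627,8,160,345,331,90])] [(1,0,[1,2,4,8,16,32,64,128,256]),(0,1,[]),(2,0,[1,6,4,9,16,192,335,394,261]),(0,1,[]),(1,0,[2,6,7,12,16,255,266,463,325])] ([520,525,522,630,8,16,33,129,257],[520,525,522,630,8,16,33,129,259]) = true := by decide +kernel
theorem c20018841 : chkDer M20234 [([520,525,522,630,8,16,33,129,257],[5,522,7,625,8,160,345,331,88])] [(1,0,[1,2,4,8,16,32,64,128,256]),(0,1,[]),(2,0,[1,3,4,12,16,192,330,399,261]),(0,1,[]),(1,0,[2,3,7,9,16,255,271,458,325])] ([520,525,522,630,8,16,33,129,257],[522,527,520,628,8,16,33,129,257]) = true := by decide +kernel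
theorem c20019876 : chkDer M20234 [([104,2,109,123,9,128,33,257,513],[106,123,111,121,225,9,319,206,632])] [(1,0,[1,2,4,8,16,32,64,128,256]),(0,1,[]),(2,0,[11,8,14,2,51,32,220,171,271]),(0,1,[]),(1,0,[11,10,14,2,32,51,156,248,264])] ([104,2,109,123,9,128,33,257,513],[104,2,109,123,9,128,33,257,515]) = true := by decide +kernel
theorem c20017813 : chkDer M20234 [([520,525,522,630,8,16,33,129,257],[527,126,525,7,160,16,376,370,345])] [(1,0,[1,2,4,8,16,32,64,128,256]),(0,1,[]),(2,0,[12,7,9,8,197,32,256,511,64]),(0,1,[]),(1,0,[9,4,12,14,250,32,320,442,64])] ([520,525,522,630,8,16,33,129,257],[520,525,522,630,8,16,35,129,376]) = true := by decide +kernel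
theorem c20019570 : chkDer M20234 [([1,2,4,8,16,96,160,512],[104,2,109,123,10,11,160,619]),([5,643,2,741,538,121,617],[672,641,2,57,108,121,183])] [(0,1,[]),(1,0,[141,136,143,177]),(1,1,[97,96,101,59]),(0,4,[]),(2,0,[130,87,128,23]),(2,1,[117,64,113,48]),(1,0,[13,169,15,163])] ([520,525,522,630],[126,625,124,522]) = true := by decide +kernel
theorem c20017533 : chkDer M20234 [([520,525,522,630,8,16,33,129,257],[5,627,7,520,16,193,345,339,33])] [(1,0,[1,2,4,8,16,32,64,128,256]),(0,1,[]),(2,0,[1,6,4,9,16,197,325,389,256]),(0,1,[]),(1,0,[2,6,7,12,16,250,261,453,320])] ([520,525,522,630,8,16,33,129,257],[627,628,625,527,16,8,35,224,378]) = true := by decide +kernel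
theorem c20015691 : chkDer M20234 [([5,643,2,741,538,121],[672,33,2,736,633,123]),([1,2,4,8,16,96,160,512],[104,2,109,123,10,11,160,619])] [(1,0,[1,5,33]),(0,256,[]),(1,1,[221,223,230]),(0,256,[]),(2,0,[1,5,52]),(0,1,[]),(1,0,[1,5,49]),(0,257,[]),(2,1,[251,249,59]),(2,0,[33,37,32])] ([5,7,124],[124,126,121]) = true := by decide +kernel
theorem c20018929 : chkDer M20234 [([520,525,522,630,8,16,33,129,257],[126,520,124,627,193,16,345,505,33])] [(1,0,[1,2,4,8,16,32,64,128,256]),(0,1,[]),(2,0,[4,12,1,3,250,32,325,336,256]),(0,1,[]),(1,0,[7,9,2,3,197,32,261,272,320])] ([520,525,522,630,8,16,33,129,257],[522,527,520,628,8,16,35,129,378]) = true := by decide +kernel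
theorem c20016013 : chkDer M20234 [([5,643,2,741,538,121],[672,641,2,64,633,121]),([1,2,4,8,16,96,160,512],[104,2,109,123,10,11,160,619])] [(1,0,[1,5,33]),(0,256,[]),(1,1,[221,223,228]),(0,256,[]),(2,0,[1,5,52]),(0,1,[]),(1,0,[1,5,49]),(0,257,[]),(2,1,[251,249,57]),(2,0,[37,33,32])] ([5,7,124],[126,124,121]) = true := by decide +kernel
theorem c20016484 : chkDer M20234 [([520,525,522,630,8,16,33,129,257],[7,520,5,627,8,160,345,329,35])] [(1,0,[1,2,4,8,16,32,64,128,256]),(0,1,[]),(2,0,[1,6,4,9,16,197,320,384,256]),(0,1,[]),(1,0,[2,6,7,12,16,250,256,448,320])] ([520,525,522,630,8,16,33,129,257],[520,525,522,630,8,16,35,129,376]) = true := by decide +kernel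
theorem c20017232 : chkDer M20234 [([520,525,522,630,8,16,33,129,257],[7,520,5,627,8,160,345,329,35])] [(1,0,[1,2,4,8,16,32,64,128,256]),(0,1,[]),(2,0,[1,6,4,9,16,197,320,384,256]),(0,1,[]),(1,0,[2,6,7,12,16,250,256,448,320])] ([520,525,522,630,8,16,33,129,257],[520,525,522,630,8,16,35,129,376]) = true := by decide +kernel
theorem c20018822 : chkDer M20234 [([1,2,4,8,16,96,160,512],[104,2,109,123,10,11,160,619]),([5,643,2,741,538,121,617],[672,33,2,665,716,123,630])] [(0,1,[]),(2,0,[164,161,166,169]),(0,256,[]),(1,0,[243,205,241,174]),(2,1,[1,48,5,64]),(1,0,[5,163,7,169])] ([520,525,522,630],[5,522,7,625]) = true := by decide +kernel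
theorem c20017342 : chkDer M20234 [([1,2,4,8,16,96],[11,2,14,8,121,104]),([5,643,2,741,538,121,617],[520,788,2,357,116,123,710]),([1,2,4,8,16,96,160,512],[104,2,109,123,10,11,160,619])] [(0,256,[]),(1,0,[60,62,7]),(1,1,[94,90,5]),(0,64,[]),(1,2,[16,18,177]),(2,1,[90,94,91]),(1,0,[23,21,18])] ([5,7,124],[126,124,123]) = true := by decide +kernel
theorem c20016673 : chkDer M20234 [([1,2,4,8,16,96],[11,2,14,8,121,104]),([520,525,522,630,8,16,33,129,257],[525,5,527,124,517,693,376,796,288]),([1,2,4,8,16,96,160,512],[104,2,109,123,10,11,160,619]),([1,2,4,8,16,96,160],[104,2,109,123,10,11,160])] [(0,256,[]),(1,0,[60,62,7]),(0,256,[]),(1,1,[204,201,12]),(1,2,[23,21,177]),(1,1,[19,22,20]),(1,3,[13,15,10])] ([5,7,124],[126,124,121]) = true := by decide +kernel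
theorem c20017786 : chkDer M20234 [([5,643,2,741,538,121,617],[528,288,2,841,108,121,535]),([1,2,4,8,16,96,160,512],[104,2,109,123,10,11,160,619]),([1,2,4,8,16,96],[11,2,14,8,121,104])] [(2,0,[69,65,101]),(2,1,[133,135,143]),(0,256,[]),(1,1,[235,233,136]),(2,0,[91,95,1]),(1,2,[18,16,5])] ([5,7,124],[123,121,5]) = true := by decide +kernel
theorem c20019393 : chkDer M20234 [([1,2,4,8,16,96],[11,2,14,8,121,104]),([5,643,2,741,538,121,617],[672,641,2,57,716,121,533]),([520,525,522,630,8,16,33,129,257],[628,126,630,7,693,517,376,950,288]),([1,2,4,8,16,96,160,512],[104,2,109,123,10,11,160,619])] [(0,256,[]),(1,0,[60,62,7]),(1,1,[94,90,5]),(1,2,[43,46,212]),(1,3,[10,8,172]),(1,2,[10,15,13])] ([5,7,124],[121,123,5]) = true := by decide +kernel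
theorem c20018792 : chkDer M20234 [([1,2,4,8,16,96,160],[104,2,109,123,10,11,160]),([520,525,522,630,8,16,33,129,257],[628,126,630,7,189,13,257,278,347]),([1,2,4,8,16,96,160,512],[104,2,109,123,10,11,160,619]),([5,643,2,741,538,121,617],[672,33,2,665,716,121,533])] [(2,0,[5,7,15]),(2,1,[13,8,37]),(2,2,[172,174,59]),(2,1,[222,219,15]),(2,3,[37,33,36])] ([5,7,124],[126,124,123]) = true := by decide +kernel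
theorem c20019384 : chkDer M20234 [([1,2,4,8,16,96,160],[104,2,109,123,10,11,160]),([520,525,522,630,8,16,33,129,257],[628,126,630,7,189,13,257,278,347]),([1,2,4,8,16,96,160,512],[104,2,109,123,10,11,160,619]),([5,643,2,741,538,121,617],[672,641,2,57,716,121,533])] [(2,0,[5,7,15]),(2,1,[13,8,37]),(2,2,[172,174,59]),(2,1,[222,219,15]),(2,3,[37,33,36])] ([5,7,124],[126,124,123]) = true := by decide +kernel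
theorem c20017383 : chkDer M20234 [([1,2,4,8,16,96],[11,2,14,8,121,104]),([520,525,522,630,8,16,33,129,257],[628,126,630,7,693,517,376,948,345]),([1,2,4,8,16,96,160,512],[104,2,109,123,10,11,160,619]),([1,2,4,8,16,96,160],[104,2,109,123,10,11,160])] [(0,256,[]),(1,0,[60,62,7]),(1,1,[35,38,6]),(2,2,[23,21,163]),(1,1,[38,35,43]),(1,3,[15,13,10])] ([5,7,124],[124,126,121]) = true := by decide +kernel
theorem c20018707 : chkDer M20234 [([1,2,4,8,16,96],[11,2,14,8,121,104]),([5,643,2,741,538,121,617],[672,33,2,665,716,121,535]),([520,525,522,630,8,16,33,129,257],[628,126,630,7,693,517,376,948,345]),([1,2,4,8,16,96,160,512],[104,2,109,123,10,11,160,619])] [(0,256,[]),(1,0,[60,62,7]),(1,1,[94,90,5]),(1,2,[46,43,212]),(1,3,[8,10,174]),(1,2,[15,10,8])] ([5,7,124],[123,121,7]) = true := by decide +kernel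
theorem c20017630 : chkDer M20234 [([1,2,4,8,16,96,160],[104,2,109,123,10,11,160]),([5,643,2,741,538,121,617],[528,288,2,841,636,121,7]),([1,2,4,8,16,96,160,512],[104,2,109,123,10,11,160,619])] [(0,256,[]),(2,0,[15,13,7]),(1,1,[113,117,5]),(0,64,[]),(2,2,[18,16,130]),(2,1,[117,113,116]),(1,0,[13,15,8])] ([5,7,124],[126,124,123]) = true := by decide +kernel
theorem c20019506 : chkDer M20234 [([1,2,4,8,16,96],[11,2,14,8,121,104]),([5,643,2,741,538,121,617],[672,641,2,57,716,123,628]),([1,2,4,8,16,96,160,512],[104,2,109,123,10,11,160,619]),([520,525,522,630,8,16,33,129,257],[126,520,124,627,189,21,345,391,90]),([1,2,4,8,16,96,160],[104,2,109,123,10,11,160])] [(1,0,[5,7,60]),(1,1,[1,5,94]),(2,2,[243,241,179]),(1,3,[203,206,11]),(1,4,[8,10,7])] ([5,7,124],[123,121,7]) = true := by decide +kernel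
theorem c20017082 : chkDer M20234 [([1,2,4,8,16,96],[11,2,14,8,121,104]),([520,525,522,630,8,16,33,129,257],[630,124,628,5,693,517,376,948,347]),([1,2,4,8,16,96,160,512],[104,2,109,123,10,11,160,619]),([1,2,4,8,16,96,160],[104,2,109,123,10,11,160])] [(0,256,[]),(1,0,[60,62,7]),(1,1,[35,38,6]),(2,2,[23,21,163]),(1,1,[38,35,43]),(1,3,[15,13,8])] ([5,7,124],[124,126,123]) = true := by decide +kernel
theorem c20018048 : chkDer M20234 [([5,643,2,741,538,121,617],[528,288,2,841,108,123,212]),([1,2,4,8,16,96,160,512],[104,2,109,123,10,11,160,619]),([520,525,522,630,8,16,33,129,257],[124,522,126,625,713,609,345,859,35]),([1,2,4,8,16,96],[11,2,14,8,121,104])] [(1,0,[1,5,33]),(0,1,[]),(1,1,[149,151,172]),(1,2,[45,40,13]),(1,0,[91,95,107]),(1,3,[16,18,7])] ([5,7,124],[121,123,7]) = true := by decide +kernel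
theorem c20019008 : chkDer M20234 [([1,2,4,8,16,96],[11,2,14,8,121,104]),([520,525,522,630,8,16,33,129,257],[126,625,124,522,220,13,288,413,90]),([1,2,4,8,16,96,160,512],[104,2,109,123,10,11,160,619]),([5,643,2,741,538,121,617],[672,33,2,665,108,121,183]),([1,2,4,8,16,96,160],[104,2,109,123,10,11,160])] [(1,0,[5,7,60]),(2,1,[14,11,197]),(1,2,[177,179,66]),(2,3,[117,113,116]),(1,4,[13,15,8])] ([5,7,124],[126,124,123]) = true := by decide +kernel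
theorem c20018604 : chkDer M20234 [([1,2,4,8,16,96,160,512],[104,2,109,123,10,11,160,619]),([5,643,2,741,538,121,617],[528,816,2,345,196,123,124])] [(0,128,[]),(1,0,[180,177,182,138]),(1,1,[58,59,62,100]),(2,0,[182,60,180,5])] ([520,525,522,630],[630,124,628,5]) = true := by decide +kernel
theorem c20017999 : chkDer M20234 [([5,643,2,741,538,121,617],[528,288,2,841,108,123,214]),([1,2,4,8,16,96,160,512],[104,2,109,123,10,11,160,619]),([520,525,522,630,8,16,33,129,257],[126,522,124,625,713,609,345,859,33]),([1,2,4,8,16,96],[11,2,14,8,121,104])] [(1,0,[1,5,33]),(0,1,[]),(1,1,[149,151,172]),(1,2,[45,40,13]),(1,0,[91,95,107]),(1,3,[18,16,5])] ([5,7,124],[123,121,5]) = true := by decide +kernel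
theorem c20019087 : chkDer M20234 [([1,2,4,8,16,96],[11,2,14,8,121,104]),([520,525,522,630,8,16,33,129,257],[126,625,124,522,721,512,288,826,88]),([1,2,4,8,16,96,160,512],[104,2,109,123,10,11,160,619]),([1,2,4,8,16,96,160],[104,2,109,123,10,11,160])] [(0,256,[]),(1,0,[60,62,7]),(1,1,[35,38,6]),(2,2,[23,21,166]),(1,1,[38,35,40]),(1,3,[15,13,10])] ([5,7,124],[124,126,121]) = true := by decide +kernel
theorem c20019679 : chkDer M20234 [([1,2,4,8,16,96],[11,2,14,8,121,104]),([520,525,522,630,8,16,33,129,257],[126,625,124,522,721,512,288,826,88]),([1,2,4,8,16,96,160,512],[104,2,109,123,10,11,160,619]),([1,2,4,8,16,96,160],[104,2,109,123,10,11,160])] [(0,256,[]),(1,0,[60,62,7]),(1,1,[35,38,6]),(2,2,[23,21,166]),(1,1,[38,35,40]),(1,3,[15,13,10])] ([5,7,124],[124,126,121]) = true := by decide +kernel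
theorem c20017765 : chkDer M20234 [([1,2,4,8,16,96],[11,2,14,8,121,104]),([5,643,2,741,538,121,617],[528,288,2,841,636,123,708]),([520,525,522,630,8,16,33,129,257],[527,126,525,7,685,612,376,983,288]),([1,2,4,8,16,96,160,512],[104,2,109,123,10,11,160,619])] [(1,0,[5,7,60]),(2,1,[106,110,49]),(2,2,[14,11,37]),(2,3,[169,171,59]),(2,1,[37,33,32])] ([5,7,124],[126,124,121]) = true := by decide +kernel
theorem c20018867 : chkDer M20234 [([1,2,4,8,16,96],[11,2,14,8,121,104]),([520,525,522,630,8,16,33,129,257],[5,522,7,625,13,220,288,311,88]),([1,2,4,8,16,96,160,512],[104,2,109,123,10,11,160,619]),([5,643,2,741,538,121,617],[672,33,2,665,716,123,630]),([1,2,4,8,16,96,160],[104,2,109,123,10,11,160])] [(1,0,[5,7,60]),(2,1,[1,4,250]),(2,2,[161,163,99]),(2,3,[117,113,112]),(1,4,[13,15,10])] ([5,7,124],[126,124,121])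 = true := by decide +kernel
theorem c20019032 : chkDer M20234 [([1,2,4,8,16,96],[11,2,14,8,121,104]),([520,525,522,630,8,16,33,129,257],[126,625,124,522,220,13,288,415,35]),([1,2,4,8,16,96,160,512],[104,2,109,123,10,11,160,619]),([5,643,2,741,538,121,617],[672,33,2,665,108,121,183]),([1,2,4,8,16,96,160],[104,2,109,123,10,11,160])] [(1,0,[5,7,60]),(2,1,[14,11,192]),(1,2,[177,179,64]),(2,3,[117,113,112]),(1,4,[13,15,10])] ([5,7,124],[126,124,121]) = true := by decide +kernel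
theorem c20019162 : chkDer M20234 [([1,2,4,8,16,96,160],[104,2,109,123,10,11,160]),([5,643,2,741,538,121,617],[672,33,2,665,108,123,214]),([520,525,522,630,8,16,33,129,257],[527,124,525,5,685,612,376,983,290]),([1,2,4,8,16,96,160,512],[104,2,109,123,10,11,160,619])] [(2,0,[5,7,15]),(1,1,[1,5,113]),(1,2,[209,212,43]),(2,3,[141,143,57]),(1,2,[2,7,10])] ([5,7,124],[124,126,121]) = true := by decide +kernel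
theorem c20019754 : chkDer M20234 [([1,2,4,8,16,96,160],[104,2,109,123,10,11,160]),([5,643,2,741,538,121,617],[672,641,2,57,108,123,214]),([520,525,522,630,8,16,33,129,257],[527,124,525,5,685,612,376,983,290]),([1,2,4,8,16,96,160,512],[104,2,109,123,10,11,160,619])] [(2,0,[5,7,15]),(1,1,[1,5,113]),(1,2,[209,212,43]),(2,3,[141,143,57]),(1,2,[2,7,10])] ([5,7,124],[124,126,121]) = true := by decide +kernel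
theorem c20018855 : chkDer M20234 [([1,2,4,8,16,96,160],[104,2,109,123,10,11,160]),([520,525,522,630,8,16,33,129,257],[5,522,7,625,517,685,288,919,88]),([1,2,4,8,16,96,160,512],[104,2,109,123,10,11,160,619]),([5,643,2,741,538,121,617],[672,33,2,665,716,123,630])] [(2,0,[5,7,15]),(1,1,[3,6,22]),(1,2,[143,141,8]),(2,3,[107,111,32]),(1,1,[11,14,10])] ([5,7,124],[124,126,121]) = true := by decide +kernel
theorem c20019241 : chkDer M20234 [([1,2,4,8,16,96,160],[104,2,109,123,10,11,160]),([520,525,522,630,8,16,33,129,257],[527,5,525,124,13,189,257,446,288]),([1,2,4,8,16,96,160,512],[104,2,109,123,10,11,160,619]),([5,643,2,741,538,121,617],[672,33,2,665,108,123,212])] [(2,0,[5,7,15]),(2,1,[2,7,21]),(1,2,[141,143,10]),(2,3,[106,110,36]),(1,1,[8,13,15])] ([5,7,124],[124,126,123]) = true := by decide +kernel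
theorem c20019529 : chkDer M20234 [([1,2,4,8,16,96],[11,2,14,8,121,104]),([520,525,522,630,8,16,33,129,257],[126,520,124,627,693,612,288,862,33]),([1,2,4,8,16,96,160,512],[104,2,109,123,10,11,160,619]),([5,643,2,741,538,121,617],[672,641,2,57,716,123,628])] [(1,0,[5,7,60]),(1,1,[3,6,35]),(2,2,[172,174,57]),(2,3,[79,75,36]),(1,1,[4,1,15])] ([5,7,124],[124,126,123]) = true := by decide +kernel
theorem c20017938 : chkDer M20234 [([5,643,2,741,538,121,617],[528,288,2,841,108,123,708]),([1,2,4,8,16,96,160,512],[104,2,109,123,10,11,160,619]),([1,2,4,8,16,96],[11,2,14,8,121,104])] [(2,0,[106,110,78]),(0,1,[]),(1,1,[177,179,138]),(2,0,[91,95,5]),(1,2,[18,16,7])] ([5,7,124],[123,121,7]) = true := by decide +kernel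
theorem c20018885 : chkDer M20234 [([1,2,4,8,16,96],[11,2,14,8,121,104]),([5,643,2,741,538,121,617],[672,33,2,665,716,123,630]),([520,525,522,630,8,16,33,129,257],[5,522,7,625,512,721,288,912,88]),([1,2,4,8,16,96,160,512],[104,2,109,123,10,11,160,619])] [(1,0,[5,7,60]),(1,1,[1,5,94]),(2,2,[61,56,21]),(1,3,[174,172,10]),(2,2,[12,9,10])] ([5,7,124],[126,124,121]) = true := by decide +kernel
theorem c20019105 : chkDer M20234 [([1,2,4,8,16,96],[11,2,14,8,121,104]),([520,525,522,630,8,16,33,129,257],[126,625,124,522,685,517,288,836,88]),([1,2,4,8,16,96,160,512],[104,2,109,123,10,11,160,619]),([5,643,2,741,538,121,617],[672,33,2,665,108,121,181])] [(1,0,[5,7,60]),(1,1,[3,6,35]),(1,2,[141,143,8]),(1,1,[50,55,15]),(2,3,[33,37,36])] ([5,7,124],[124,126,123]) = true := by decide +kernel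
theorem c20019627 : chkDer M20234 [([1,2,4,8,16,96],[11,2,14,8,121,104]),([520,525,522,630,8,16,33,129,257],[126,625,124,522,685,517,288,836,88]),([1,2,4,8,16,96,160,512],[104,2,109,123,10,11,160,619]),([5,643,2,741,538,121,617],[672,641,2,57,108,121,183])] [(1,0,[5,7,60]),(1,1,[3,6,35]),(1,2,[141,143,8]),(1,1,[50,55,15]),(2,3,[33,37,36])] ([5,7,124],[124,126,123]) = true := by decide +kernel
theorem c20016493 : chkDer M20234 [([1,2,4,8,16,96],[11,2,14,8,121,104]),([5,643,2,741,538,121,617],[520,284,2,877,636,123,527]),([520,525,522,630,8,16,33,129,257],[7,520,5,627,13,220,288,309,33])] [(0,256,[]),(1,0,[60,62,7]),(1,1,[94,90,5]),(1,2,[251,254,4]),(1,0,[16,18,5])] ([5,7,124],[121,123,5]) = true := by decide +kernel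
theorem c20016937 : chkDer M20234 [([1,2,4,8,16,96],[11,2,14,8,121,104]),([5,643,2,741,538,121,617],[520,788,2,357,636,121,527]),([520,525,522,630,8,16,33,129,257],[7,520,5,627,13,220,288,309,33])] [(0,256,[]),(1,0,[60,62,7]),(1,1,[94,90,5]),(1,2,[251,254,4]),(1,0,[16,18,5])] ([5,7,124],[121,123,5]) = true := by decide +kernel
theorem c20016876 : chkDer M20234 [([5,643,2,741,538,121,617],[520,284,2,877,116,123,5]),([1,2,4,8,16,96,160,512],[104,2,109,123,10,11,160,619]),([520,525,522,630,8,16,33,129,257],[7,520,5,627,512,721,288,914,35]),([1,2,4,8,16,96,160],[104,2,109,123,10,11,160])] [(2,0,[64,68,100]),(0,1,[]),(2,1,[133,135,143]),(1,2,[18,23,7]),(2,0,[116,112,5]),(1,3,[8,10,7])] ([5,7,124],[123,121,7]) = true := by decide +kernel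
theorem c20018952 : chkDer M20234 [([1,2,4,8,16,96,160],[104,2,109,123,10,11,160]),([5,643,2,741,538,121,617],[672,33,2,665,716,123,628]),([520,525,522,630,8,16,33,129,257],[126,520,124,627,713,609,345,859,35]),([1,2,4,8,16,96,160,512],[104,2,109,123,10,11,160,619])] [(2,0,[5,7,15]),(1,1,[1,5,113]),(2,2,[55,50,32]),(2,3,[143,141,57]),(2,2,[9,12,10])] ([5,7,124],[124,126,121]) = true := by decide +kernel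
theorem c20019256 : chkDer M20234 [([1,2,4,8,16,96],[11,2,14,8,121,104]),([5,643,2,741,538,121,617],[672,33,2,665,108,123,212]),([520,525,522,630,8,16,33,129,257],[527,5,525,124,517,693,376,798,347]),([1,2,4,8,16,96,160,512],[104,2,109,123,10,11,160,619])] [(1,0,[5,7,60]),(1,1,[1,5,94]),(1,2,[209,212,17]),(1,3,[174,172,10]),(1,2,[8,13,10])] ([5,7,124],[124,126,121]) = true := by decide +kernel
theorem c20019766 : chkDer M20234 [([1,2,4,8,16,96],[11,2,14,8,121,104]),([520,525,522,630,8,16,33,129,257],[527,124,525,5,220,21,376,375,290]),([1,2,4,8,16,96,160,512],[104,2,109,123,10,11,160,619]),([5,643,2,741,538,121,617],[672,641,2,57,108,123,214])] [(1,0,[5,7,60]),(2,1,[8,13,32]),(2,2,[174,172,57]),(2,3,[78,74,36]),(1,1,[7,2,15])] ([5,7,124],[126,124,123]) = true := by decide +kernel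
theorem c20018142 : chkDer M20234 [([1,2,4,8,16,96],[11,2,14,8,121,104]),([5,643,2,741,538,121,617],[528,816,2,345,724,121,703]),([520,525,522,630,8,16,33,129,257],[525,5,527,124,517,693,376,798,347]),([1,2,4,8,16,96,160,512],[104,2,109,123,10,11,160,619])] [(0,256,[]),(1,0,[60,62,7]),(2,1,[58,62,78]),(2,2,[21,16,4]),(1,3,[10,8,138]),(2,1,[32,36,5])] ([5,7,124],[121,123,7]) = true := by decide +kernel
theorem c20019781 : chkDer M20234 [([1,2,4,8,16,96],[11,2,14,8,121,104]),([5,643,2,741,538,121,617],[672,641,2,57,108,123,214]),([1,2,4,8,16,96,160,512],[104,2,109,123,10,11,160,619]),([520,525,522,630,8,16,33,129,257],[527,124,525,5,721,609,257,937,345]),([1,2,4,8,16,96,160],[104,2,109,123,10,11,160])] [(1,0,[5,7,60]),(1,1,[1,5,94]),(2,2,[243,241,177]),(2,3,[21,16,3]),(1,4,[10,8,5])] ([5,7,124],[121,123,5])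 = true := by decide +kernel
theorem c20016652 : chkDer M20234 [([1,2,4,8,16,96],[11,2,14,8,121,104]),([5,643,2,741,538,121,617],[520,284,2,877,116,121,206]),([520,525,522,630,8,16,33,129,257],[525,5,527,124,13,189,257,444,347]),([1,2,4,8,16,96,160],[104,2,109,123,10,11,160])] [(0,256,[]),(1,0,[60,62,7]),(1,1,[94,90,5]),(0,1,[]),(1,2,[23,18,7]),(1,3,[10,8,7])] ([5,7,124],[121,123,7]) = true := by decide +kernel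
theorem c20016508 : chkDer M20234 [([1,2,4,8,16,96,160],[104,2,109,123,10,11,160]),([5,643,2,741,538,121,617],[520,284,2,877,636,123,527]),([520,525,522,630,8,16,33,129,257],[7,520,5,627,512,721,288,912,90]),([1,2,4,8,16,96,160,512],[104,2,109,123,10,11,160,619])] [(2,0,[5,7,15]),(1,1,[1,5,113]),(2,2,[2,7,21]),(1,3,[141,143,10]),(1,1,[97,101,32])] ([5,7,124],[124,126,123]) = true := by decide +kernel
theorem c20018121 : chkDer M20234 [([1,2,4,8,16,96],[11,2,14,8,121,104]),([5,643,2,741,538,121,617],[528,816,2,345,724,121,703]),([520,525,522,630,8,16,33,129,257],[525,5,527,124,13,189,257,444,345]),([1,2,4,8,16,96,160],[104,2,109,123,10,11,160])] [(0,256,[]),(1,0,[60,62,7]),(2,1,[58,62,78]),(1,2,[23,18,7]),(1,3,[10,8,7])] ([5,7,124],[121,123,7]) = true := by decide +kernel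
theorem c20017398 : chkDer M20234 [([1,2,4,8,16,96],[11,2,14,8,121,104]),([5,643,2,741,538,121,617],[520,788,2,357,116,123,206]),([520,525,522,630,8,16,33,129,257],[628,126,630,7,189,13,257,278,347]),([1,2,4,8,16,96,160],[104,2,109,123,10,11,160])] [(0,256,[]),(1,0,[60,62,7]),(1,1,[94,90,5]),(0,32,[]),(1,2,[45,40,13]),(1,3,[8,10,5])] ([5,7,124],[123,121,5]) = true := by decide +kernel
theorem c20019714 : chkDer M20234 [([5,643,2,741,538,121,617],[672,641,2,57,108,123,628]),([1,2,4,8,16,96,160,512],[104,2,109,123,10,11,160,619]),([1,2,4,8,16,96],[11,2,14,8,121,104])] [(1,0,[1,5,33]),(0,1,[]),(1,1,[230,228,221]),(0,256,[]),(2,0,[91,95,1]),(1,2,[18,16,5])] ([5,7,124],[123,121,5]) = true := by decide +kernel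
theorem c20018218 : chkDer M20234 [([1,2,4,8,16,96],[11,2,14,8,121,104]),([5,643,2,741,538,121,617],[528,816,2,345,724,121,701]),([520,525,522,630,8,16,33,129,257],[525,7,527,126,517,693,376,796,290]),([1,2,4,8,16,96,160,512],[104,2,109,123,10,11,160,619])] [(0,256,[]),(1,0,[60,62,7]),(2,1,[58,62,74]),(2,2,[21,16,1]),(1,3,[10,8,136]),(2,1,[32,36,1])] ([5,7,124],[121,123,5]) = true := by decide +kernel
theorem c20019566 : chkDer M20234 [([5,643,2,741,538,121,617],[672,641,2,57,108,121,533]),([1,2,4,8,16,96,160,512],[104,2,109,123,10,11,160,619]),([1,2,4,8,16,96,160],[104,2,109,123,10,11,160])] [(1,0,[1,5,33]),(0,1,[]),(1,1,[230,228,223]),(0,256,[]),(2,0,[112,116,5]),(1,2,[10,8,7])] ([5,7,124],[121,123,7]) = true := by decide +kernel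
theorem c20016952 : chkDer M20234 [([1,2,4,8,16,96,160],[104,2,109,123,10,11,160]),([5,643,2,741,538,121,617],[520,788,2,357,636,121,527]),([520,525,522,630,8,16,33,129,257],[7,520,5,627,512,721,288,912,90]),([1,2,4,8,16,96,160,512],[104,2,109,123,10,11,160,619])] [(2,0,[5,7,15]),(1,1,[1,5,113]),(2,2,[2,7,16]),(1,3,[141,143,8]),(1,1,[97,101,36])] ([5,7,124],[126,124,123]) = true := by decide +kernel
theorem c20017762 : chkDer M20234 [([1,2,4,8,16,96],[11,2,14,8,121,104]),([5,643,2,741,538,121,617],[528,288,2,841,636,123,708]),([520,525,522,630,8,16,33,129,257],[527,126,525,7,220,21,376,373,347])] [(0,256,[]),(1,0,[60,62,7]),(2,1,[49,53,110]),(1,2,[40,45,13]),(1,0,[18,16,5])] ([5,7,124],[123,121,5]) = true := by decide +kernel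
theorem c20016346 : chkDer M20234 [([1,2,4,8,16,96,160],[104,2,109,123,10,11,160]),([5,643,2,741,538,121,617],[520,284,2,877,636,121,710]),([520,525,522,630,8,16,33,129,257],[630,124,628,5,189,13,257,276,290])] [(0,256,[]),(2,0,[15,13,7]),(2,1,[49,53,110]),(1,2,[40,45,13]),(1,0,[8,10,7])] ([5,7,124],[123,121,7]) = true := by decide +kernel
theorem c20016809 : chkDer M20234 [([5,643,2,741,538,121,617],[520,284,2,877,116,123,7]),([1,2,4,8,16,96,160,512],[104,2,109,123,10,11,160,619]),([520,525,522,630,8,16,33,129,257],[7,520,5,627,512,721,288,912,88]),([1,2,4,8,16,96,160],[104,2,109,123,10,11,160])] [(2,0,[68,64,96]),(0,1,[]),(2,1,[135,133,141]),(1,2,[23,18,2]),(2,0,[116,112,1]),(1,3,[8,10,5])] ([5,7,124],[123,121,5]) = true := by decide +kernel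
theorem c20018783 : chkDer M20234 [([1,2,4,8,16,96],[11,2,14,8,121,104]),([5,643,2,741,538,121,617],[672,33,2,665,716,121,533]),([1,2,4,8,16,96,160,512],[104,2,109,123,10,11,160,619]),([520,525,522,630,8,16,33,129,257],[628,126,630,7,713,512,376,947,345]),([1,2,4,8,16,96,160],[104,2,109,123,10,11,160])] [(1,0,[5,7,60]),(1,1,[1,5,94]),(1,2,[192,194,163]),(2,3,[21,16,6]),(1,4,[10,8,7])] ([5,7,124],[121,123,7]) = true := by decide +kernel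
theorem c20019378 : chkDer M20234 [([1,2,4,8,16,96],[11,2,14,8,121,104]),([5,643,2,741,538,121,617],[672,641,2,57,716,121,533]),([1,2,4,8,16,96,160,512],[104,2,109,123,10,11,160,619]),([520,525,522,630,8,16,33,129,257],[628,126,630,7,713,512,376,947,347]),([1,2,4,8,16,96,160],[104,2,109,123,10,11,160])] [(1,0,[5,7,60]),(1,1,[1,5,94]),(1,2,[192,194,163]),(2,3,[21,16,6]),(1,4,[10,8,7])] ([5,7,124],[121,123,7]) = true := by decide +kernel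
theorem c20017530 : chkDer M20234 [([1,2,4,8,16,96,160],[104,2,109,123,10,11,160]),([520,525,522,630,8,16,33,129,257],[5,627,7,520,612,693,288,1014,35]),([1,2,4,8,16,96,160,512],[104,2,109,123,10,11,160,619]),([5,643,2,741,538,121,617],[528,288,2,841,636,121,535])] [(0,256,[]),(2,0,[15,13,7]),(1,1,[22,19,6]),(2,2,[57,59,172]),(1,3,[32,36,65])] ([5,7,124],[121,123,7]) = true := by decide +kernel
theorem c20016439 : chkDer M20234 [([1,2,4,8,16,96],[11,2,14,8,121,104]),([5,643,2,741,538,121,617],[520,284,2,877,636,121,708]),([520,525,522,630,8,16,33,129,257],[628,126,630,7,713,512,376,945,288])] [(0,256,[]),(1,0,[60,62,7]),(1,1,[94,90,5]),(2,2,[32,37,6]),(1,0,[16,18,7])] ([5,7,124],[121,123,7]) = true := by decide +kernel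
theorem c20016743 : chkDer M20234 [([1,2,4,8,16,96],[11,2,14,8,121,104]),([5,643,2,741,538,121,617],[520,284,2,877,116,121,204]),([520,525,522,630,8,16,33,129,257],[527,7,525,126,512,713,376,864,345]),([1,2,4,8,16,96,160],[104,2,109,123,10,11,160])] [(0,256,[]),(1,0,[60,62,7]),(1,1,[94,90,5]),(2,2,[16,21,6]),(1,3,[8,10,7])] ([5,7,124],[123,121,7]) = true := by decide +kernel
theorem c20017179 : chkDer M20234 [([1,2,4,8,16,96],[11,2,14,8,121,104]),([5,643,2,741,538,121,617],[520,788,2,357,636,123,708]),([520,525,522,630,8,16,33,129,257],[628,126,630,7,713,512,376,945,288])] [(0,256,[]),(1,0,[60,62,7]),(1,1,[94,90,5]),(2,2,[32,37,6]),(1,0,[16,18,7])] ([5,7,124],[121,123,7]) = true := by decide +kernel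
theorem c20017483 : chkDer M20234 [([1,2,4,8,16,96],[11,2,14,8,121,104]),([5,643,2,741,538,121,617],[520,788,2,357,116,123,204]),([520,525,522,630,8,16,33,129,257],[630,124,628,5,713,512,376,947,345])] [(0,256,[]),(1,0,[60,62,7]),(1,1,[94,90,5]),(2,2,[32,37,6]),(1,0,[16,18,7])] ([5,7,124],[121,123,7]) = true := by decide +kernel
theorem c20018594 : chkDer M20234 [([5,643,2,741,538,121,617],[528,816,2,345,196,123,126]),([1,2,4,8,16,96,160,512],[104,2,109,123,10,11,160,619]),([520,525,522,630,8,16,33,129,257],[525,5,527,124,517,693,376,798,347])] [(1,0,[1,5,33]),(0,32,[]),(2,1,[133,135,143]),(2,2,[16,21,4]),(1,1,[8,10,138]),(1,0,[36,32,100])] ([5,7,124],[121,123,7]) = true := by decide +kernel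
theorem c20017898 : chkDer M20234 [([1,2,4,8,16,96,160],[104,2,109,123,10,11,160]),([520,525,522,630,8,16,33,129,257],[628,5,630,124,609,721,257,769,347]),([1,2,4,8,16,96,160,512],[104,2,109,123,10,11,160,619]),([5,643,2,741,538,121,617],[528,288,2,841,108,121,5])] [(2,0,[5,7,15]),(1,1,[3,6,22]),(2,2,[169,171,59]),(2,3,[33,37,36])] ([5,7,124],[124,126,123]) = true := by decide +kernel
theorem c20019308 : chkDer M20234 [([1,2,4,8,16,96],[11,2,14,8,121,104]),([5,643,2,741,538,121,617],[672,641,2,57,716,121,535]),([1,2,4,8,16,96,160,512],[104,2,109,123,10,11,160,619]),([520,525,522,630,8,16,33,129,257],[628,126,630,7,713,512,376,947,347]),([1,2,4,8,16,96,160],[104,2,109,123,10,11,160])] [(1,0,[5,7,60]),(1,1,[1,5,94]),(1,2,[192,194,161]),(2,3,[21,16,3]),(1,4,[10,8,5])] ([5,7,124],[121,123,5]) = true := by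 decide +kernel
theorem c20018290 : chkDer M20234 [([5,643,2,741,538,121,617],[528,816,2,345,724,123,622]),([1,2,4,8,16,96,160,512],[104,2,109,123,10,11,160,619]),([520,525,522,630,8,16,33,129,257],[525,5,527,124,517,693,376,798,347])] [(0,256,[]),(1,0,[33,37,5]),(2,1,[128,130,138]),(1,2,[17,20,4]),(1,1,[8,10,143]),(1,0,[36,32,101])] ([5,7,124],[121,123,7]) = true := by decide +kernel
theorem c20017744 : chkDer M20234 [([1,2,4,8,16,96],[11,2,14,8,121,104]),([520,525,522,630,8,16,33,129,257],[527,126,525,7,721,609,257,939,290]),([1,2,4,8,16,96,160,512],[104,2,109,123,10,11,160,619]),([5,643,2,741,538,121,617],[528,288,2,841,636,123,708])] [(1,0,[5,7,60]),(1,1,[3,6,35]),(2,2,[171,169,59]),(2,3,[33,37,32])] ([5,7,124],[124,126,121]) = true := by decide +kernel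
theorem c20018057 : chkDer M20234 [([1,2,4,8,16,96],[11,2,14,8,121,104]),([520,525,522,630,8,16,33,129,257],[124,522,126,625,189,21,345,391,88]),([1,2,4,8,16,96,160,512],[104,2,109,123,10,11,160,619]),([5,643,2,741,538,121,617],[528,288,2,841,108,123,212])] [(1,0,[5,7,60]),(2,1,[11,14,32]),(2,2,[171,169,57]),(2,3,[33,37,36])] ([5,7,124],[124,126,123]) = true := by decide +kernel
theorem c20018623 : chkDer M20234 [([5,643,2,741,538,121,617],[528,816,2,345,196,123,124]),([1,2,4,8,16,96,160,512],[104,2,109,123,10,11,160,619]),([520,525,522,630,8,16,33,129,257],[630,124,628,5,189,13,257,278,345]),([1,2,4,8,16,96,160],[104,2,109,123,10,11,160])] [(1,0,[1,5,33]),(0,1,[]),(1,1,[149,151,172]),(1,2,[45,40,13]),(1,3,[10,8,7])] ([5,7,124],[121,123,7]) = true := by decide +kernel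
theorem c20018440 : chkDer M20234 [([5,643,2,741,538,121,617],[528,816,2,345,196,121,175]),([1,2,4,8,16,96,160,512],[104,2,109,123,10,11,160,619]),([520,525,522,630,8,16,33,129,257],[7,520,5,627,512,721,288,912,90])] [(1,0,[1,5,33]),(0,32,[]),(2,1,[133,135,141]),(1,2,[18,23,2]),(1,1,[8,10,136]),(2,0,[36,32,1])] ([5,7,124],[123,121,5]) = true := by decide +kernel
theorem c20018456 : chkDer M20234 [([5,643,2,741,538,121,617],[528,816,2,345,196,121,173])] [(0,1,[]),(1,0,[74,75,78,111]),(0,1,[]),(2,0,[1,75,5,107])] ([520,525,522,630],[5,520,7,627]) = true := by decide +kernel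
theorem c20016958 : chkDer M20234 [([1,2,4,8,16,96,160],[104,2,109,123,10,11,160]),([520,525,522,630,8,16,33,129,257],[7,520,5,627,517,685,288,919,90]),([1,2,4,8,16,96,160,512],[104,2,109,123,10,11,160,619]),([5,643,2,741,538,121,617],[520,788,2,357,636,121,527])] [(2,0,[5,7,15]),(1,1,[3,6,22]),(1,2,[143,141,8]),(1,3,[101,97,36])] ([5,7,124],[124,126,123]) = true := by decide +kernel
theorem c20017839 : chkDer M20234 [([5,643,2,741,538,121,617],[528,288,2,841,108,121,7]),([1,2,4,8,16,96,160,512],[104,2,109,123,10,11,160,619]),([520,525,522,630,8,16,33,129,257],[527,126,525,7,220,21,376,375,288]),([1,2,4,8,16,96],[11,2,14,8,121,104])] [(1,0,[1,5,33]),(0,1,[]),(1,1,[149,151,174]),(1,2,[45,40,8]),(1,3,[16,18,7])] ([5,7,124],[121,123,7]) = true := by decide +kernel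
theorem c20018269 : chkDer M20234 [([1,2,4,8,16,96,160],[104,2,109,123,10,11,160]),([520,525,522,630,8,16,33,129,257],[525,5,527,124,13,189,257,444,345]),([1,2,4,8,16,96,160,512],[104,2,109,123,10,11,160,619]),([5,643,2,741,538,121,617],[528,816,2,345,724,123,622])] [(0,256,[]),(2,0,[15,13,7]),(2,1,[21,16,7]),(1,2,[10,8,143]),(1,3,[32,36,101])] ([5,7,124],[123,121,7]) = true := by decide +kernel
theorem c20018667 : chkDer M20234 [([1,2,4,8,16,96],[11,2,14,8,121,104]),([520,525,522,630,8,16,33,129,257],[630,124,628,5,713,512,376,947,345]),([1,2,4,8,16,96,160,512],[104,2,109,123,10,11,160,619]),([5,643,2,741,538,121,617],[528,816,2,345,196,123,124])] [(0,256,[]),(1,0,[60,62,7]),(1,1,[35,38,6]),(1,2,[8,10,138]),(1,3,[36,32,100])] ([5,7,124],[121,123,5]) = true := by decide +kernel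
theorem c20016754 : chkDer M20234 [([5,643,2,741,538,121,617],[520,284,2,877,116,123,525]),([1,2,4,8,16,96,160,512],[104,2,109,123,10,11,160,619]),([1,2,4,8,16,96,160],[104,2,109,123,10,11,160])] [(2,0,[65,69,101]),(0,1,[]),(2,1,[128,130,138]),(2,0,[116,112,5]),(1,2,[8,10,7])] ([5,7,124],[123,121,7]) = true := by decide +kernel
theorem c20018579 : chkDer M20234 [([1,2,4,8,16,96,160],[104,2,109,123,10,11,160]),([520,525,522,630,8,16,33,129,257],[525,5,527,124,512,713,376,866,288]),([1,2,4,8,16,96,160,512],[104,2,109,123,10,11,160,619]),([5,643,2,741,538,121,617],[528,816,2,345,196,123,126])] [(0,256,[]),(2,0,[15,13,7]),(1,1,[22,19,6]),(1,2,[10,8,138]),(1,3,[32,36,100])] ([5,7,124],[123,121,7]) = true := by decide +kernel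
theorem c20017262 : chkDer M20234 [([5,643,2,741,538,121,617],[520,788,2,357,116,121,7]),([1,2,4,8,16,96,160,512],[104,2,109,123,10,11,160,619]),([520,525,522,630,8,16,33,129,257],[7,520,5,627,517,685,288,919,90]),([1,2,4,8,16,96,160],[104,2,109,123,10,11,160])] [(2,0,[68,64,100]),(0,1,[]),(2,1,[135,133,143]),(2,2,[21,16,3]),(1,3,[10,8,5])] ([5,7,124],[121,123,5]) = true := by decide +kernel
theorem c20018130 : chkDer M20234 [([1,2,4,8,16,96,160],[104,2,109,123,10,11,160]),([520,525,522,630,8,16,33,129,257],[525,5,527,124,512,713,376,866,290]),([1,2,4,8,16,96,160,512],[104,2,109,123,10,11,160,619]),([5,643,2,741,538,121,617],[528,816,2,345,724,121,703])] [(0,256,[]),(2,0,[15,13,7]),(1,1,[22,19,6]),(1,2,[10,8,138]),(2,3,[32,36,5])] ([5,7,124],[121,123,7]) = true := by decide +kernel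
theorem c20018360 : chkDer M20234 [([1,2,4,8,16,96,160],[104,2,109,123,10,11,160]),([520,525,522,630,8,16,33,129,257],[527,7,525,126,512,713,376,866,290]),([1,2,4,8,16,96,160,512],[104,2,109,123,10,11,160,619]),([5,643,2,741,538,121,617],[528,816,2,345,724,123,620])] [(0,256,[]),(2,0,[15,13,7]),(1,1,[22,19,6]),(1,2,[10,8,138]),(2,3,[36,32,5])] ([5,7,124],[123,121,7]) = true := by decide +kernel
theorem c20017335 : chkDer M20234 [([5,643,2,741,538,121,617],[520,788,2,357,116,121,5]),([1,2,4,8,16,96,160,512],[104,2,109,123,10,11,160,619]),([520,525,522,630,8,16,33,129,257],[7,520,5,627,517,685,288,917,33]),([1,2,4,8,16,96,160],[104,2,109,123,10,11,160])] [(2,0,[64,68,96]),(0,1,[]),(2,1,[133,135,141]),(2,2,[16,21,6]),(1,3,[8,10,7])] ([5,7,124],[123,121,7]) = true := by decide +kernel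
theorem c20017611 : chkDer M20234 [([1,2,4,8,16,96],[11,2,14,8,121,104]),([520,525,522,630,8,16,33,129,257],[5,625,7,522,21,189,345,342,88]),([1,2,4,8,16,96,160,512],[104,2,109,123,10,11,160,619]),([5,643,2,741,538,121,617],[528,288,2,841,636,121,533])] [(0,256,[]),(1,0,[60,62,7]),(2,1,[16,21,4]),(1,2,[8,10,138]),(2,3,[36,32,5])] ([5,7,124],[123,121,7]) = true := by decide +kernel
theorem c20018351 : chkDer M20234 [([1,2,4,8,16,96,160],[104,2,109,123,10,11,160]),([520,525,522,630,8,16,33,129,257],[527,7,525,126,13,189,257,444,345]),([1,2,4,8,16,96,160,512],[104,2,109,123,10,11,160,619]),([5,643,2,741,538,121,617],[528,816,2,345,724,123,620])] [(0,256,[]),(2,0,[15,13,7]),(2,1,[21,16,2]),(1,2,[10,8,141]),(1,3,[32,36,97])] ([5,7,124],[123,121,7]) = true := by decide +kernel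
theorem c20018203 : chkDer M20234 [([1,2,4,8,16,96,160],[104,2,109,123,10,11,160]),([520,525,522,630,8,16,33,129,257],[525,7,527,126,512,713,376,864,345]),([1,2,4,8,16,96,160,512],[104,2,109,123,10,11,160,619]),([5,643,2,741,538,121,617],[528,816,2,345,724,121,701])] [(0,256,[]),(2,0,[15,13,7]),(1,1,[22,19,6]),(1,2,[8,10,136]),(2,3,[36,32,1])] ([5,7,124],[123,121,5]) = true := by decide +kernel
theorem c20017038 : chkDer M20234 [([1,2,4,8,16,96,160],[104,2,109,123,10,11,160]),([5,643,2,741,538,121,617],[520,788,2,357,636,121,7]),([1,2,4,8,16,96,160,512],[104,2,109,123,10,11,160,619])] [(2,0,[5,7,15]),(1,1,[1,5,113]),(1,2,[136,138,8]),(1,1,[96,100,36])] ([5,7,124],[126,124,123]) = true := by decide +kernel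
theorem c20016864 : chkDer M20234 [([1,2,4,8,16,96,160],[104,2,109,123,10,11,160]),([520,525,522,630,8,16,33,129,257],[7,520,5,627,13,220,288,311,90]),([1,2,4,8,16,96,160,512],[104,2,109,123,10,11,160,619]),([5,643,2,741,538,121,617],[520,284,2,877,116,123,5])] [(2,0,[5,7,15]),(2,1,[4,1,21]),(1,2,[138,136,10]),(1,3,[100,96,32])] ([5,7,124],[124,126,123]) = true := by decide +kernel
theorem c20017308 : chkDer M20234 [([1,2,4,8,16,96,160],[104,2,109,123,10,11,160]),([520,525,522,630,8,16,33,129,257],[7,520,5,627,13,220,288,311,90]),([1,2,4,8,16,96,160,512],[104,2,109,123,10,11,160,619]),([5,643,2,741,538,121,617],[520,788,2,357,116,121,5])] [(2,0,[5,7,15]),(2,1,[4,1,21]),(1,2,[138,136,10]),(1,3,[100,96,32])] ([5,7,124],[126,124,121]) = true := by decide +kernel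
theorem c20016828 : chkDer M20234 [([5,643,2,741,538,121,617],[520,284,2,877,116,123,5])] [(0,1,[]),(2,0,[65,1,69,33]),(0,1,[]),(1,0,[68,1,64,37])] ([520,525,522,630],[7,520,5,627]) = true := by decide +kernel
theorem c20017420 : chkDer M20234 [([5,643,2,741,538,121,617],[520,788,2,357,116,123,204])] [(0,1,[]),(1,0,[74,75,78,111])] ([520,525,522,630],[630,124,628,5]) = true := by decide +kernel
theorem c20015206 : chkDer M20234 [([5,643,2,741,538,121],[528,288,2,816,633,619])] [(0,256,[]),(1,0,[33,37,5]),(0,64,[]),(2,0,[33,37,36])] ([5,7,124],[124,126,123]) = true := by decide +kernel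
theorem c20015670 : chkDer M20234 [([5,643,2,741,538,121],[672,33,2,665,716,731])] [(0,256,[]),(1,0,[33,37,5]),(0,257,[]),(2,0,[33,37,36])] ([5,7,124],[124,126,123]) = true := by decide +kernel
theorem c20014554 : chkDer M20234 [([5,643,2,741,538,121],[520,284,2,788,633,625])] [(0,256,[]),(1,0,[33,37,5]),(0,64,[]),(2,0,[33,37,32])] ([5,7,124],[124,126,121]) = true := by decide +kernel
theorem c20014893 : chkDer M20234 [([5,643,2,741,538,121],[520,788,2,284,633,625])] [(0,256,[]),(1,0,[33,37,5]),(0,64,[]),(2,0,[33,37,32])] ([5,7,124],[124,126,121]) = true := by decide +kernel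
theorem c20015507 : chkDer M20234 [([5,643,2,741,538,121],[528,816,2,288,633,617])] [(0,256,[]),(1,0,[33,37,5]),(0,64,[]),(2,0,[33,37,32])] ([5,7,124],[124,126,121]) = true := by decide +kernel
theorem c20015992 : chkDer M20234 [([5,643,2,741,538,121],[672,641,2,57,716,729])] [(0,256,[]),(1,0,[33,37,5]),(0,257,[]),(2,0,[33,37,32])] ([5,7,124],[124,126,121]) = true := by decide +kernel
theorem c20016270 : chkDer M20234 [([5,643,2,741,538,121,617],[520,284,2,877,636,121,710])] [(1,0,[75,74,79,106])] ([520,525,522,630],[630,124,628,5]) = true := by decide +kernel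
theorem c20014267 : chkDer M20234 [([1,2,4,8,16,96,160],[104,2,109,123,10,11,160]),([1,2,6,16],[1,16,6,18])] [(0,1,[]),(1,0,[108]),(0,256,[]),(2,1,[7])] ([173],[5]) = true := by decide +kernel
theorem c20019908 : chkDer M20234 [] [(0,16,[])] ([1,2,4,8,16,96,160,512],[1,2,4,10,16,96,162,512]) = true := by decide +kernel
theorem c20014283 : chkDer M20234 [([1,2,4,8,16,96,160,512],[104,2,109,123,10,11,160,619])] [(2,0,[136])] ([528],[520]) = true := by decide +kernel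
theorem c20014572 : chkDer M20234 [] [(0,48,[])] ([13],[21]) = true := by decide +kernel
theorem c20016234 : chkDer M20234 [] [(0,1,[])] ([641],[741]) = true := by decide +kernel
theorem c20016353 : chkDer M20234 [] [(0,512,[])] ([1],[4]) = true := by decide +kernel

end Cfsg.Lib.D8
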