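import Cfsg.Agent.D8.R1C1

set_option autoImplicit false
set_option maxRecDepth 100000
set_option linter.all false
set_option Elab.async false

namespace Cfsg.Lib.D8

theorem c20016526 : chkFrat M20234 E20016292 [520,525,522,630] [7,520,5,627] [520,525,522,630,8,16,33,129,257] [520,525,522,630,8,16,33,129,257] [(0,[1,2,4,8]),(0,[1,2,4,8]),(0,[1,2,4,8]),(0,[1,2,4,8]),(8,[1,2,4,13]),(160,[4,7,1,8]),(288,[14,8,11,2]),(304,[14,13,11,2]),(33,[4,13,1,7])] [⟨0,0,[],0,2,false⟩,⟨0,0,[],0,0,false⟩,⟨0,0,[],0,0,false⟩,⟨4,0,[⟨4,0,0,0⟩,⟨4,1,0,1⟩,⟨0,8,13,0⟩],2,0,false⟩,⟨2,0,[⟨4,0,0,2⟩,⟨4,3,0,3⟩,⟨0,1,4,0⟩,⟨0,8,8,0⟩,⟨0,16,21,0⟩],2,0,false⟩,⟨2,0,[⟨4,0,0,4⟩,⟨4,5,0,5⟩,⟨0,1,14,0⟩,⟨0,2,8,0⟩,⟨0,16,32,0⟩],2,0,false⟩,⟨2,0,[⟨4,17,0,6⟩,⟨4,18,0,7⟩,⟨0,1,11,0⟩,⟨0,16,37,0⟩,⟨0,64,127,0⟩],0,0,false⟩,⟨2,0,[⟨4,0,0,8⟩,⟨4,5,0,9⟩,⟨0,1,4,0⟩,⟨0,2,13,0⟩,⟨0,16,250,0⟩],0,0,false⟩]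 [([520,525,522,630,8,16,33,129,257],[7,520,5,627,8,160,345,331,88]),([520,525,522,630,8,16,33,129,257],[7,520,5,627,8,160,345,331,90]),([520,525,522,630,8,16,33,129,257],[7,520,5,627,8,160,345,329,33]),([520,525,522,630,8,16,33,129,257],[7,520,5,627,8,160,345,329,35]),([520,525,522,630,8,16,33,129,257],[7,520,5,627,13,220,288,311,88]),([520,525,522,630,8,16,33,129,257],[7,520,5,627,13,220,288,311,90]),([520,525,522,630,8,16,33,129,257],[7,520,5,627,13,220,288,309,33]),([520,525,522,630,8,16,33,129,257],[7,520,5,627,13,220,288,309,35]),([520,525,522,630,8,16,33,129,257],[7,520,5,627,512,721,288,914,33]),([520,525,522,630,8,16,33,129,257],[7,520,5,627,512,721,288,914,35]),([520,525,522,630,8,16,33,129,257],[7,520,5,627,512,721,288,912,88]),([520,525,522,630,8,16,33,129,257],[7,520,5,627,512,721,288,912,90]),([520,525,522,630,8,16,33,129,257],[7,520,5,627,517,685,288,919,88]),([520,525,522,630,8,16,33,129,257],[7,520,5,627,517,685,288,919,90]),([520,525,522,630,8,16,33,129,257],[7,520,5,627,517,685,288,917,33]),([520,525,522,630,8,16,33,129,257],[7,520,5,627,517,685,288,917,35])]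 = true := by decide +kernel
theorem c20016970 : chkFrat M20234 E20016292 [520,525,522,630] [7,520,5,627] [520,525,522,630,8,16,33,129,257] [520,525,522,630,8,16,33,129,257] [(0,[1,2,4,8]),(0,[1,2,4,8]),(0,[1,2,4,8]),(0,[1,2,4,8]),(8,[1,2,4,13]),(160,[4,7,1,8]),(288,[14,8,11,2]),(304,[14,13,11,2]),(33,[4,13,1,7])] [⟨0,0,[],0,2,false⟩,⟨0,0,[],0,0,false⟩,⟨0,0,[],0,0,false⟩,⟨4,0,[⟨4,0,0,0⟩,⟨4,1,0,1⟩,⟨0,8,13,0⟩],2,0,false⟩,⟨2,0,[⟨4,0,0,2⟩,⟨4,3,0,3⟩,⟨0,1,4,0⟩,⟨0,8,8,0⟩,⟨0,16,21,0⟩],2,0,false⟩,⟨2,0,[⟨4,0,0,4⟩,⟨4,5,0,5⟩,⟨0,1,14,0⟩,⟨0,2,8,0⟩,⟨0,16,32,0⟩],2,0,false⟩,⟨2,0,[⟨4,17,0,6⟩,⟨4,18,0,7⟩,⟨0,1,11,0⟩,⟨0,16,37,0⟩,⟨0,64,127,0⟩],0,0,false⟩,⟨2,0,[⟨4,0,0,8⟩,⟨4,5,0,9⟩,⟨0,1,4,0⟩,⟨0,2,13,0⟩,⟨0,16,250,0⟩],0,0,false⟩] [([520,525,522,630,8,16,33,129,257],[7,520,5,627,8,160,345,331,88]),([520,525,522,630,8,16,33,12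9,257],[7,520,5,627,8,160,345,331,90]),([520,525,522,630,8,16,33,129,257],[7,520,5,627,8,160,345,329,33]),([520,525,522,630,8,16,33,129,257],[7,520,5,627,8,160,345,329,35]),([520,525,522,630,8,16,33,129,257],[7,520,5,627,13,220,288,311,88]),([520,525,522,630,8,16,33,129,257],[7,520,5,627,13,220,288,311,90]),([520,525,522,630,8,16,33,129,257],[7,520,5,627,13,220,288,309,33]),([520,525,522,630,8,16,33,129,257],[7,520,5,627,13,220,288,309,35]),([520,525,522,630,8,16,33,129,257],[7,520,5,627,512,721,288,914,33]),([520,525,522,630,8,16,33,129,257],[7,520,5,627,512,721,288,914,35]),([520,525,522,630,8,16,33,129,257],[7,520,5,627,512,721,288,912,88]),([520,525,522,630,8,16,33,129,257],[7,520,5,627,512,721,288,912,90]),([520,525,522,630,8,16,33,129,257],[7,520,5,627,517,685,288,919,88]),([520,525,522,630,8,16,33,129,257],[7,520,5,627,517,685,288,919,90]),([520,525,522,630,8,16,33,129,257],[7,520,5,627,517,685,288,917,33]),([520,525,522,630,8,16,33,129,257],[7,520,5,627,517,685,288,917,35])]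 = true := by decide +kernel
theorem c20018154 : chkFrat M20234 E20016292 [520,525,522,630] [525,7,527,126] [520,525,522,630,8,16,33,129,257] [520,525,522,630,8,16,33,129,257] [(0,[1,2,4,8]),(0,[1,2,4,8]),(0,[1,2,4,8]),(0,[1,2,4,8]),(8,[1,2,4,13]),(184,[4,7,1,8]),(257,[14,8,11,2]),(441,[14,13,11,2]),(288,[4,13,1,7])] [⟨0,0,[],0,2,false⟩,⟨0,0,[],0,0,false⟩,⟨0,0,[],0,0,false⟩,⟨4,0,[⟨4,0,0,0⟩,⟨4,1,0,1⟩,⟨0,8,13,0⟩],2,0,false⟩,⟨2,0,[⟨4,0,0,2⟩,⟨4,3,0,3⟩,⟨0,1,4,0⟩,⟨0,8,8,0⟩,⟨0,16,21,0⟩],2,0,false⟩,⟨2,0,[⟨4,0,0,4⟩,⟨4,5,0,5⟩,⟨0,1,14,0⟩,⟨0,2,8,0⟩,⟨0,16,32,0⟩],2,0,false⟩,⟨2,0,[⟨4,17,0,6⟩,⟨4,18,0,7⟩,⟨0,1,11,0⟩,⟨0,16,37,0⟩,⟨0,64,127,0⟩],0,0,false⟩,⟨2,0,[⟨4,0,0,8⟩,⟨4,5,0,9⟩,⟨0,1,4,0⟩,⟨0,2,13,0⟩,⟨0,16,250,0⟩],0,0,false⟩] [([520,525,522,630,8,16,33,129,257],[525,7,527,126,8,193,376,443,345]),([520,525,522,630,8,16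,33,129,257],[525,7,527,126,8,193,376,443,347]),([520,525,522,630,8,16,33,129,257],[525,7,527,126,8,193,376,441,288]),([520,525,522,630,8,16,33,129,257],[525,7,527,126,8,193,376,441,290]),([520,525,522,630,8,16,33,129,257],[525,7,527,126,13,189,257,446,288]),([520,525,522,630,8,16,33,129,257],[525,7,527,126,13,189,257,446,290]),([520,525,522,630,8,16,33,129,257],[525,7,527,126,13,189,257,444,345]),([520,525,522,630,8,16,33,129,257],[525,7,527,126,13,189,257,444,347]),([520,525,522,630,8,16,33,129,257],[525,7,527,126,512,713,376,866,288]),([520,525,522,630,8,16,33,129,257],[525,7,527,126,512,713,376,866,290]),([520,525,522,630,8,16,33,129,257],[525,7,527,126,512,713,376,864,345]),([520,525,522,630,8,16,33,129,257],[525,7,527,126,512,713,376,864,347]),([520,525,522,630,8,16,33,129,257],[525,7,527,126,517,693,376,798,345]),([520,525,522,630,8,16,33,129,257],[525,7,527,126,517,693,376,798,347]),([520,525,522,630,8,16,33,129,257],[525,7,527,126,517,693,376,796,288]),([520,525,522,630,8,16,33,129,257],[525,7,527,126,517,693,376,796,290])]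 = true := by decide +kernel
theorem c20019198 : chkFrat M20234 E20016292 [520,525,522,630] [527,5,525,124] [520,525,522,630,8,16,33,129,257] [520,525,522,630,8,16,33,129,257] [(0,[1,2,4,8]),(0,[1,2,4,8]),(0,[1,2,4,8]),(0,[1,2,4,8]),(8,[1,2,4,13]),(184,[4,7,1,8]),(257,[14,8,11,2]),(441,[14,13,11,2]),(288,[4,13,1,7])] [⟨0,0,[],0,2,false⟩,⟨0,0,[],0,0,false⟩,⟨0,0,[],0,0,false⟩,⟨4,0,[⟨4,0,0,0⟩,⟨4,1,0,1⟩,⟨0,8,13,0⟩],2,0,false⟩,⟨2,0,[⟨4,0,0,2⟩,⟨4,3,0,3⟩,⟨0,1,4,0⟩,⟨0,8,8,0⟩,⟨0,16,21,0⟩],2,0,false⟩,⟨2,0,[⟨4,0,0,4⟩,⟨4,5,0,5⟩,⟨0,1,14,0⟩,⟨0,2,8,0⟩,⟨0,16,32,0⟩],2,0,false⟩,⟨2,0,[⟨4,17,0,6⟩,⟨4,18,0,7⟩,⟨0,1,11,0⟩,⟨0,16,37,0⟩,⟨0,64,127,0⟩],0,0,false⟩,⟨2,0,[⟨4,0,0,8⟩,⟨4,5,0,9⟩,⟨0,1,4,0⟩,⟨0,2,13,0⟩,⟨0,16,250,0⟩],0,0,false⟩] [([520,525,522,630,8,16,33,129,257],[527,5,525,124,8,193,376,443,345]),([520,525,522,630,8,16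,33,129,257],[527,5,525,124,8,193,376,443,347]),([520,525,522,630,8,16,33,129,257],[527,5,525,124,8,193,376,441,288]),([520,525,522,630,8,16,33,129,257],[527,5,525,124,8,193,376,441,290]),([520,525,522,630,8,16,33,129,257],[527,5,525,124,13,189,257,446,288]),([520,525,522,630,8,16,33,129,257],[527,5,525,124,13,189,257,446,290]),([520,525,522,630,8,16,33,129,257],[527,5,525,124,13,189,257,444,345]),([520,525,522,630,8,16,33,129,257],[527,5,525,124,13,189,257,444,347]),([520,525,522,630,8,16,33,129,257],[527,5,525,124,512,713,376,866,288]),([520,525,522,630,8,16,33,129,257],[527,5,525,124,512,713,376,866,290]),([520,525,522,630,8,16,33,129,257],[527,5,525,124,512,713,376,864,345]),([520,525,522,630,8,16,33,129,257],[527,5,525,124,512,713,376,864,347]),([520,525,522,630,8,16,33,129,257],[527,5,525,124,517,693,376,798,345]),([520,525,522,630,8,16,33,129,257],[527,5,525,124,517,693,376,798,347]),([520,525,522,630,8,16,33,129,257],[527,5,525,124,517,693,376,796,288]),([520,525,522,630,8,16,33,129,257],[527,5,525,124,517,693,376,796,290])]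 = true := by decide +kernel
theorem c20017640 : chkFrat M20234 E20016292 [520,525,522,630] [527,124,525,5] [520,525,522,630,8,16,33,129,257] [520,525,522,630,8,16,33,129,257] [(0,[1,2,4,8]),(0,[1,2,4,8]),(0,[1,2,4,8]),(0,[1,2,4,8]),(160,[1,2,4,13]),(16,[4,7,1,8]),(257,[14,8,11,2]),(265,[14,13,11,2]),(288,[4,13,1,7])] [⟨0,0,[],0,2,false⟩,⟨0,0,[],0,0,false⟩,⟨0,0,[],0,0,false⟩,⟨4,0,[⟨4,0,0,0⟩,⟨4,1,0,1⟩,⟨0,8,13,0⟩],2,0,false⟩,⟨2,0,[⟨4,0,0,2⟩,⟨4,3,0,3⟩,⟨0,1,4,0⟩,⟨0,8,8,0⟩,⟨0,16,21,0⟩],2,0,false⟩,⟨2,0,[⟨4,0,0,4⟩,⟨4,5,0,5⟩,⟨0,1,14,0⟩,⟨0,2,8,0⟩,⟨0,16,32,0⟩],2,0,false⟩,⟨2,0,[⟨4,17,0,6⟩,⟨4,18,0,7⟩,⟨0,1,11,0⟩,⟨0,16,37,0⟩,⟨0,64,127,0⟩],0,0,false⟩,⟨2,0,[⟨4,0,0,8⟩,⟨4,5,0,9⟩,⟨0,1,4,0⟩,⟨0,2,13,0⟩,⟨0,16,250,0⟩],0,0,false⟩] [([520,525,522,630,8,16,33,129,257],[527,124,525,5,160,16,376,370,345]),([520,525,522,630,8,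16,33,129,257],[527,124,525,5,160,16,376,370,347]),([520,525,522,630,8,16,33,129,257],[527,124,525,5,160,16,376,368,288]),([520,525,522,630,8,16,33,129,257],[527,124,525,5,160,16,376,368,290]),([520,525,522,630,8,16,33,129,257],[527,124,525,5,220,21,376,375,288]),([520,525,522,630,8,16,33,129,257],[527,124,525,5,220,21,376,375,290]),([520,525,522,630,8,16,33,129,257],[527,124,525,5,220,21,376,373,345]),([520,525,522,630,8,16,33,129,257],[527,124,525,5,220,21,376,373,347]),([520,525,522,630,8,16,33,129,257],[527,124,525,5,685,612,376,983,288]),([520,525,522,630,8,16,33,129,257],[527,124,525,5,685,612,376,983,290]),([520,525,522,630,8,16,33,129,257],[527,124,525,5,685,612,376,981,345]),([520,525,522,630,8,16,33,129,257],[527,124,525,5,685,612,376,981,347]),([520,525,522,630,8,16,33,129,257],[527,124,525,5,721,609,257,939,288]),([520,525,522,630,8,16,33,129,257],[527,124,525,5,721,609,257,939,290]),([520,525,522,630,8,16,33,129,257],[527,124,525,5,721,609,257,937,345]),([520,525,522,630,8,16,33,129,257],[527,124,525,5,721,609,257,937,347])]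 = true := by decide +kernel
theorem c20018746 : chkFrat M20234 E20016292 [520,525,522,630] [628,126,630,7] [520,525,522,630,8,16,33,129,257] [520,525,522,630,8,16,33,129,257] [(0,[1,2,4,8]),(0,[1,2,4,8]),(0,[1,2,4,8]),(0,[1,2,4,8]),(184,[1,2,4,13]),(8,[4,7,1,8]),(257,[14,8,11,2]),(273,[14,13,11,2]),(288,[4,13,1,7])] [⟨0,0,[],0,2,false⟩,⟨0,0,[],0,0,false⟩,⟨0,0,[],0,0,false⟩,⟨4,0,[⟨4,0,0,0⟩,⟨4,1,0,1⟩,⟨0,8,13,0⟩],2,0,false⟩,⟨2,0,[⟨4,0,0,2⟩,⟨4,3,0,3⟩,⟨0,1,4,0⟩,⟨0,8,8,0⟩,⟨0,16,21,0⟩],2,0,false⟩,⟨2,0,[⟨4,0,0,4⟩,⟨4,5,0,5⟩,⟨0,1,14,0⟩,⟨0,2,8,0⟩,⟨0,16,32,0⟩],2,0,false⟩,⟨2,0,[⟨4,17,0,6⟩,⟨4,18,0,7⟩,⟨0,1,11,0⟩,⟨0,16,37,0⟩,⟨0,64,127,0⟩],0,0,false⟩,⟨2,0,[⟨4,0,0,8⟩,⟨4,5,0,9⟩,⟨0,1,4,0⟩,⟨0,2,13,0⟩,⟨0,16,250,0⟩],0,0,false⟩] [([520,525,522,630,8,16,33,129,257],[628,126,630,7,189,13,257,278,345]),([520,525,522,630,8,1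6,33,129,257],[628,126,630,7,189,13,257,278,347]),([520,525,522,630,8,16,33,129,257],[628,126,630,7,189,13,257,276,288]),([520,525,522,630,8,16,33,129,257],[628,126,630,7,189,13,257,276,290]),([520,525,522,630,8,16,33,129,257],[628,126,630,7,193,8,376,362,288]),([520,525,522,630,8,16,33,129,257],[628,126,630,7,193,8,376,362,290]),([520,525,522,630,8,16,33,129,257],[628,126,630,7,193,8,376,360,345]),([520,525,522,630,8,16,33,129,257],[628,126,630,7,193,8,376,360,347]),([520,525,522,630,8,16,33,129,257],[628,126,630,7,693,517,376,950,288]),([520,525,522,630,8,16,33,129,257],[628,126,630,7,693,517,376,950,290]),([520,525,522,630,8,16,33,129,257],[628,126,630,7,693,517,376,948,345]),([520,525,522,630,8,16,33,129,257],[628,126,630,7,693,517,376,948,347]),([520,525,522,630,8,16,33,129,257],[628,126,630,7,713,512,376,947,345]),([520,525,522,630,8,16,33,129,257],[628,126,630,7,713,512,376,947,347]),([520,525,522,630,8,16,33,129,257],[628,126,630,7,713,512,376,945,288]),([520,525,522,630,8,16,33,129,257],[628,126,630,7,713,512,376,945,290])]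 = true := by decide +kernel
theorem c20019486 : chkFrat M20234 E20016292 [520,525,522,630] [126,520,124,627] [520,525,522,630,8,16,33,129,257] [520,525,522,630,8,16,33,129,257] [(0,[1,2,4,8]),(0,[1,2,4,8]),(0,[1,2,4,8]),(0,[1,2,4,8]),(184,[1,2,4,13]),(16,[4,7,1,8]),(288,[14,8,11,2]),(384,[14,13,11,2]),(33,[4,13,1,7])] [⟨0,0,[],0,2,false⟩,⟨0,0,[],0,0,false⟩,⟨0,0,[],0,0,false⟩,⟨4,0,[⟨4,0,0,0⟩,⟨4,1,0,1⟩,⟨0,8,13,0⟩],2,0,false⟩,⟨2,0,[⟨4,0,0,2⟩,⟨4,3,0,3⟩,⟨0,1,4,0⟩,⟨0,8,8,0⟩,⟨0,16,21,0⟩],2,0,false⟩,⟨2,0,[⟨4,0,0,4⟩,⟨4,5,0,5⟩,⟨0,1,14,0⟩,⟨0,2,8,0⟩,⟨0,16,32,0⟩],2,0,false⟩,⟨2,0,[⟨4,17,0,6⟩,⟨4,18,0,7⟩,⟨0,1,11,0⟩,⟨0,16,37,0⟩,⟨0,64,127,0⟩],0,0,false⟩,⟨2,0,[⟨4,0,0,8⟩,⟨4,5,0,9⟩,⟨0,1,4,0⟩,⟨0,2,13,0⟩,⟨0,16,250,0⟩],0,0,false⟩] [([520,525,522,630,8,16,33,129,257],[126,520,124,627,189,21,345,391,88]),([520,525,522,630,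8,16,33,129,257],[126,520,124,627,189,21,345,391,90]),([520,525,522,630,8,16,33,129,257],[126,520,124,627,189,21,345,389,33]),([520,525,522,630,8,16,33,129,257],[126,520,124,627,189,21,345,389,35]),([520,525,522,630,8,16,33,129,257],[126,520,124,627,193,16,345,507,88]),([520,525,522,630,8,16,33,129,257],[126,520,124,627,193,16,345,507,90]),([520,525,522,630,8,16,33,129,257],[126,520,124,627,193,16,345,505,33]),([520,525,522,630,8,16,33,129,257],[126,520,124,627,193,16,345,505,35]),([520,525,522,630,8,16,33,129,257],[126,520,124,627,693,612,288,862,33]),([520,525,522,630,8,16,33,129,257],[126,520,124,627,693,612,288,862,35]),([520,525,522,630,8,16,33,129,257],[126,520,124,627,693,612,288,860,88]),([520,525,522,630,8,16,33,129,257],[126,520,124,627,693,612,288,860,90]),([520,525,522,630,8,16,33,129,257],[126,520,124,627,713,609,345,859,33]),([520,525,522,630,8,16,33,129,257],[126,520,124,627,713,609,345,859,35]),([520,525,522,630,8,16,33,129,257],[126,520,124,627,713,609,345,857,88]),([520,525,522,630,8,16,33,129,257],[126,520,124,627,713,609,345,857,90])]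 = true := by decide +kernel
theorem c20019914 : chkStab M20234 [1,2,4,8,16,96,160,512] [1] [1] [2] [([1,2,4,8,16,98,193,517],[1,2,4,8,16,34,97,133]),([1,2,4,8,16,98,195,517],[1,2,4,8,16,34,99,133]),([1,2,4,8,18,96,162,512],[1,2,4,8,18,32,66,128]),([1,2,4,10,16,96,162,512],[1,2,4,10,16,32,66,128]),([1,2,6,16,8,96,160,614],[1,2,6,16,8,32,64,166]),([1,2,4,8,16,96,160,514],[1,2,4,8,16,32,64,130])] [[1,2,4,8,16,96,160,512],[1,2,4,8,16,98,193,517],[1,2,4,8,16,98,195,517],[1,2,4,8,18,96,162,512],[1,2,4,10,16,96,162,512],[1,2,6,16,8,96,160,614],[1,2,4,8,16,96,160,514],[1,2,4,8,16,96,162,512],[1,2,4,8,18,98,195,517],[1,2,4,10,16,98,195,517],[1,2,6,16,8,98,193,609],[1,2,4,8,16,98,193,519],[1,2,4,8,18,98,193,517],[1,2,4,10,16,98,193,517],[1,2,6,16,8,98,195,609],[1,2,4,8,16,98,195,519],[1,2,4,10,18,96,160,512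],[1,2,6,18,8,96,162,614],[1,2,4,8,18,96,162,514],[1,2,6,16,10,96,162,614],[1,2,4,10,16,96,162,514],[1,2,6,16,8,96,160,612],[1,2,4,8,18,96,160,512],[1,2,4,10,16,96,160,512],[1,2,6,16,8,96,162,614],[1,2,4,8,16,96,162,514],[1,2,4,10,18,98,193,517],[1,2,6,18,8,98,195,609],[1,2,4,8,18,98,195,519],[1,2,6,16,10,98,195,609],[1,2,4,10,16,98,195,519],[1,2,6,16,8,98,193,611],[1,2,4,10,18,98,195,517],[1,2,6,18,8,98,193,609],[1,2,4,8,18,98,193,519],[1,2,6,16,10,98,193,609],[1,2,4,10,16,98,193,519],[1,2,6,16,8,98,195,611],[1,2,6,18,10,96,160,614],[1,2,4,10,18,96,160,514],[1,2,6,18,8,96,162,612],[1,2,6,16,10,96,162,612],[1,2,4,10,18,96,162,512],[1,2,6,18,8,96,160,614],[1,2,4,8,18,96,160,514],[1,2,6,16,10,96,160,614],[1,2,4,10,16,96,160,514],[1,2,6,16,8,96,162,612],[1,2,6,18,10,98,193,609],[1,2,4,10,18,98,193,519],[1,2,6,18,8,98,195,611],[1,2,6,16,10,98,195,611],[1,2,6,18,10,98,195,609],[1,2,4,10,18,98,195,519],[1,2,6,18,8,98,193,611],[1,2,6,16,10,98,193,611],[1,2,6,18,10,96,160,612],[1,2,6,18,10,96,162,614],[1,2,4,10,18,96,162,514],[1,2,6,18,8,96,160,612],[1,2,6,16,10,96,160,612],[1,2,6,18,10,98,193,611],[1,2,6,18,10,98,195,611],[1,2,6,18,10,96,162,612]]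 [(0,0),(0,1),(0,2),(0,3),(0,4),(0,5),(1,1),(1,2),(1,3),(1,4),(1,5),(2,2),(2,3),(2,4),(2,5),(3,3),(3,4),(3,5),(4,4),(4,5),(5,5),(7,2),(7,3),(7,4),(7,5),(8,3),(8,4),(8,5),(9,4),(9,5),(10,5),(12,3),(12,4),(12,5),(13,4),(13,5),(14,5),(16,4),(16,5),(17,5),(19,5),(22,3),(22,4),(22,5),(23,4),(23,5),(24,5),(26,4),(26,5),(27,5),(29,5),(32,4),(32,5),(33,5),(35,5),(38,5),(42,4),(42,5),(43,5),(45,5),(48,5),(52,5),(57,5)] 6 64 = true := by decide +kernel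
theorem c20014619 : chkFrat M20234 E20014588 [5,7,124] [124,126,121] [5,7,124,1,8,16,32,128,512] [5,7,124,1,8,16,32,128,512] [(0,[1,2,4]),(0,[1,2,4]),(0,[1,2,4]),(32,[1,2,7]),(32,[1,2,7]),(32,[1,2,7]),(33,[2,1,4]),(0,[1,2,4]),(32,[1,2,7])] [⟨0,0,[],0,0,false⟩,⟨0,0,[],0,2,false⟩,⟨3,0,[⟨6,0,0,1⟩,⟨4,0,0,0⟩,⟨0,4,7,0⟩],2,2,false⟩,⟨5,0,[⟨6,0,0,0⟩,⟨4,0,0,1⟩,⟨4,1,0,2⟩,⟨0,4,7,0⟩,⟨5,0,8,0⟩],3,2,false⟩,⟨5,0,[⟨6,0,0,0⟩,⟨4,0,0,3⟩,⟨4,1,0,4⟩,⟨0,4,7,0⟩,⟨0,16,19,0⟩,⟨5,0,8,0⟩],4,5,false⟩,⟨2,0,[⟨6,0,0,1⟩,⟨4,0,0,5⟩,⟨4,4,0,6⟩,⟨4,8,0,7⟩,⟨0,1,2,0⟩],5,3,false⟩] [] = true := by decide +kernel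
theorem c20014899 : chkFrat M20234 E20014588 [5,7,124] [124,126,123] [5,7,124,1,8,16,32,128,512] [5,7,124,1,8,16,32,128,512] [(0,[1,2,4]),(0,[1,2,4]),(0,[1,2,4]),(32,[1,2,7]),(32,[1,2,7]),(32,[1,2,7]),(33,[2,1,4]),(0,[1,2,4]),(32,[1,2,7])] [⟨0,0,[],0,0,false⟩,⟨0,0,[],0,2,false⟩,⟨3,0,[⟨6,0,0,1⟩,⟨4,0,0,0⟩,⟨0,4,7,0⟩],2,2,false⟩,⟨5,0,[⟨6,0,0,0⟩,⟨4,0,0,1⟩,⟨4,1,0,2⟩,⟨0,4,7,0⟩,⟨5,0,8,0⟩],3,2,false⟩,⟨5,0,[⟨6,0,0,0⟩,⟨4,0,0,3⟩,⟨4,1,0,4⟩,⟨0,4,7,0⟩,⟨0,16,19,0⟩,⟨5,0,8,0⟩],4,5,false⟩,⟨2,0,[⟨6,0,0,1⟩,⟨4,0,0,5⟩,⟨4,4,0,6⟩,⟨4,8,0,7⟩,⟨0,1,2,0⟩],5,3,false⟩] [] = true := by decide +kernel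
theorem c20015196 : chkFrat M20234 E20014588 [5,7,124] [124,126,123] [5,7,124,1,8,16,32,128,512] [5,7,124,1,8,16,32,128,512] [(0,[1,2,4]),(0,[1,2,4]),(0,[1,2,4]),(32,[1,2,7]),(32,[1,2,7]),(32,[1,2,7]),(33,[2,1,4]),(0,[1,2,4]),(32,[1,2,7])] [⟨0,0,[],0,0,false⟩,⟨0,0,[],0,2,false⟩,⟨3,0,[⟨6,0,0,1⟩,⟨4,0,0,0⟩,⟨0,4,7,0⟩],2,2,false⟩,⟨5,0,[⟨6,0,0,0⟩,⟨4,0,0,1⟩,⟨4,1,0,2⟩,⟨0,4,7,0⟩,⟨5,0,8,0⟩],3,2,false⟩,⟨5,0,[⟨6,0,0,0⟩,⟨4,0,0,3⟩,⟨4,1,0,4⟩,⟨0,4,7,0⟩,⟨0,16,19,0⟩,⟨5,0,8,0⟩],4,5,false⟩,⟨2,0,[⟨6,0,0,1⟩,⟨4,0,0,5⟩,⟨4,4,0,6⟩,⟨4,8,0,7⟩,⟨0,1,2,0⟩],5,3,false⟩] [] = true := by decide +kernel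
theorem c20015225 : chkFrat M20234 E20014588 [5,7,124] [124,126,123] [5,7,124,1,8,16,32,128,512] [5,7,124,1,8,16,32,128,512] [(0,[1,2,4]),(0,[1,2,4]),(0,[1,2,4]),(32,[1,2,7]),(32,[1,2,7]),(32,[1,2,7]),(33,[2,1,4]),(0,[1,2,4]),(32,[1,2,7])] [⟨0,0,[],0,0,false⟩,⟨0,0,[],0,2,false⟩,⟨3,0,[⟨6,0,0,1⟩,⟨4,0,0,0⟩,⟨0,4,7,0⟩],2,2,false⟩,⟨5,0,[⟨6,0,0,0⟩,⟨4,0,0,1⟩,⟨4,1,0,2⟩,⟨0,4,7,0⟩,⟨5,0,8,0⟩],3,2,false⟩,⟨5,0,[⟨6,0,0,0⟩,⟨4,0,0,3⟩,⟨4,1,0,4⟩,⟨0,4,7,0⟩,⟨0,16,19,0⟩,⟨5,0,8,0⟩],4,5,false⟩,⟨2,0,[⟨6,0,0,1⟩,⟨4,0,0,5⟩,⟨4,4,0,6⟩,⟨4,8,0,7⟩,⟨0,1,2,0⟩],5,3,false⟩] [] = true := by decide +kernel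
theorem c20015509 : chkFrat M20234 E20014588 [5,7,124] [124,126,121] [5,7,124,1,8,16,32,128,512] [5,7,124,1,8,16,32,128,512] [(0,[1,2,4]),(0,[1,2,4]),(0,[1,2,4]),(32,[1,2,7]),(32,[1,2,7]),(32,[1,2,7]),(33,[2,1,4]),(0,[1,2,4]),(32,[1,2,7])] [⟨0,0,[],0,0,false⟩,⟨0,0,[],0,2,false⟩,⟨3,0,[⟨6,0,0,1⟩,⟨4,0,0,0⟩,⟨0,4,7,0⟩],2,2,false⟩,⟨5,0,[⟨6,0,0,0⟩,⟨4,0,0,1⟩,⟨4,1,0,2⟩,⟨0,4,7,0⟩,⟨5,0,8,0⟩],3,2,false⟩,⟨5,0,[⟨6,0,0,0⟩,⟨4,0,0,3⟩,⟨4,1,0,4⟩,⟨0,4,7,0⟩,⟨0,16,19,0⟩,⟨5,0,8,0⟩],4,5,false⟩,⟨2,0,[⟨6,0,0,1⟩,⟨4,0,0,5⟩,⟨4,4,0,6⟩,⟨4,8,0,7⟩,⟨0,1,2,0⟩],5,3,false⟩] [] = true := by decide +kernel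
theorem c20015542 : chkFrat M20234 E20014588 [5,7,124] [124,126,123] [5,7,124,1,8,16,32,128,512] [5,7,124,1,8,16,32,128,512] [(0,[1,2,4]),(0,[1,2,4]),(0,[1,2,4]),(32,[1,2,7]),(32,[1,2,7]),(32,[1,2,7]),(33,[2,1,4]),(0,[1,2,4]),(32,[1,2,7])] [⟨0,0,[],0,0,false⟩,⟨0,0,[],0,2,false⟩,⟨3,0,[⟨6,0,0,1⟩,⟨4,0,0,0⟩,⟨0,4,7,0⟩],2,2,false⟩,⟨5,0,[⟨6,0,0,0⟩,⟨4,0,0,1⟩,⟨4,1,0,2⟩,⟨0,4,7,0⟩,⟨5,0,8,0⟩],3,2,false⟩,⟨5,0,[⟨6,0,0,0⟩,⟨4,0,0,3⟩,⟨4,1,0,4⟩,⟨0,4,7,0⟩,⟨0,16,19,0⟩,⟨5,0,8,0⟩],4,5,false⟩,⟨2,0,[⟨6,0,0,1⟩,⟨4,0,0,5⟩,⟨4,4,0,6⟩,⟨4,8,0,7⟩,⟨0,1,2,0⟩],5,3,false⟩] [] = true := by decide +kernel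
theorem c20015689 : chkFrat M20234 E20014588 [5,7,124] [126,124,121] [5,7,124,1,8,16,32,128,512] [5,7,124,1,8,16,32,128,512] [(0,[1,2,4]),(0,[1,2,4]),(0,[1,2,4]),(32,[1,2,7]),(32,[1,2,7]),(32,[1,2,7]),(33,[2,1,4]),(0,[1,2,4]),(32,[1,2,7])] [⟨0,0,[],0,0,false⟩,⟨0,0,[],0,2,false⟩,⟨3,0,[⟨6,0,0,1⟩,⟨4,0,0,0⟩,⟨0,4,7,0⟩],2,2,false⟩,⟨5,0,[⟨6,0,0,0⟩,⟨4,0,0,1⟩,⟨4,1,0,2⟩,⟨0,4,7,0⟩,⟨5,0,8,0⟩],3,2,false⟩,⟨5,0,[⟨6,0,0,0⟩,⟨4,0,0,3⟩,⟨4,1,0,4⟩,⟨0,4,7,0⟩,⟨0,16,19,0⟩,⟨5,0,8,0⟩],4,5,false⟩,⟨2,0,[⟨6,0,0,1⟩,⟨4,0,0,5⟩,⟨4,4,0,6⟩,⟨4,8,0,7⟩,⟨0,1,2,0⟩],5,3,false⟩] [] = true := by decide +kernel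
theorem c20015718 : chkFrat M20234 E20014588 [5,7,124] [124,126,123] [5,7,124,1,8,16,32,128,512] [5,7,124,1,8,16,32,128,512] [(0,[1,2,4]),(0,[1,2,4]),(0,[1,2,4]),(32,[1,2,7]),(32,[1,2,7]),(32,[1,2,7]),(33,[2,1,4]),(0,[1,2,4]),(32,[1,2,7])] [⟨0,0,[],0,0,false⟩,⟨0,0,[],0,2,false⟩,⟨3,0,[⟨6,0,0,1⟩,⟨4,0,0,0⟩,⟨0,4,7,0⟩],2,2,false⟩,⟨5,0,[⟨6,0,0,0⟩,⟨4,0,0,1⟩,⟨4,1,0,2⟩,⟨0,4,7,0⟩,⟨5,0,8,0⟩],3,2,false⟩,⟨5,0,[⟨6,0,0,0⟩,⟨4,0,0,3⟩,⟨4,1,0,4⟩,⟨0,4,7,0⟩,⟨0,16,19,0⟩,⟨5,0,8,0⟩],4,5,false⟩,⟨2,0,[⟨6,0,0,1⟩,⟨4,0,0,5⟩,⟨4,4,0,6⟩,⟨4,8,0,7⟩,⟨0,1,2,0⟩],5,3,false⟩] [] = true := by decide +kernel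
theorem c20016023 : chkFrat M20234 E20014588 [5,7,124] [124,126,121] [5,7,124,1,8,16,32,128,512] [5,7,124,1,8,16,32,128,512] [(0,[1,2,4]),(0,[1,2,4]),(0,[1,2,4]),(32,[1,2,7]),(32,[1,2,7]),(32,[1,2,7]),(33,[2,1,4]),(0,[1,2,4]),(32,[1,2,7])] [⟨0,0,[],0,0,false⟩,⟨0,0,[],0,2,false⟩,⟨3,0,[⟨6,0,0,1⟩,⟨4,0,0,0⟩,⟨0,4,7,0⟩],2,2,false⟩,⟨5,0,[⟨6,0,0,0⟩,⟨4,0,0,1⟩,⟨4,1,0,2⟩,⟨0,4,7,0⟩,⟨5,0,8,0⟩],3,2,false⟩,⟨5,0,[⟨6,0,0,0⟩,⟨4,0,0,3⟩,⟨4,1,0,4⟩,⟨0,4,7,0⟩,⟨0,16,19,0⟩,⟨5,0,8,0⟩],4,5,false⟩,⟨2,0,[⟨6,0,0,1⟩,⟨4,0,0,5⟩,⟨4,4,0,6⟩,⟨4,8,0,7⟩,⟨0,1,2,0⟩],5,3,false⟩] [] = true := by decide +kernel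
theorem c20016336 : chkFrat M20234 E20014588 [5,7,124] [124,126,123] [5,7,124,1,8,16,32,128,512] [5,7,124,1,8,16,32,128,512] [(0,[1,2,4]),(0,[1,2,4]),(0,[1,2,4]),(32,[1,2,7]),(32,[1,2,7]),(32,[1,2,7]),(33,[2,1,4]),(0,[1,2,4]),(32,[1,2,7])] [⟨0,0,[],0,0,false⟩,⟨0,0,[],0,2,false⟩,⟨3,0,[⟨6,0,0,1⟩,⟨4,0,0,0⟩,⟨0,4,7,0⟩],2,2,false⟩,⟨5,0,[⟨6,0,0,0⟩,⟨4,0,0,1⟩,⟨4,1,0,2⟩,⟨0,4,7,0⟩,⟨5,0,8,0⟩],3,2,false⟩,⟨5,0,[⟨6,0,0,0⟩,⟨4,0,0,3⟩,⟨4,1,0,4⟩,⟨0,4,7,0⟩,⟨0,16,19,0⟩,⟨5,0,8,0⟩],4,5,false⟩,⟨2,0,[⟨6,0,0,1⟩,⟨4,0,0,5⟩,⟨4,4,0,6⟩,⟨4,8,0,7⟩,⟨0,1,2,0⟩],5,3,false⟩] [] = true := by decide +kernel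
theorem c20016448 : chkFrat M20234 E20014588 [5,7,124] [126,124,123] [5,7,124,1,8,16,32,128,512] [5,7,124,1,8,16,32,128,512] [(0,[1,2,4]),(0,[1,2,4]),(0,[1,2,4]),(32,[1,2,7]),(32,[1,2,7]),(32,[1,2,7]),(33,[2,1,4]),(0,[1,2,4]),(32,[1,2,7])] [⟨0,0,[],0,0,false⟩,⟨0,0,[],0,2,false⟩,⟨3,0,[⟨6,0,0,1⟩,⟨4,0,0,0⟩,⟨0,4,7,0⟩],2,2,false⟩,⟨5,0,[⟨6,0,0,0⟩,⟨4,0,0,1⟩,⟨4,1,0,2⟩,⟨0,4,7,0⟩,⟨5,0,8,0⟩],3,2,false⟩,⟨5,0,[⟨6,0,0,0⟩,⟨4,0,0,3⟩,⟨4,1,0,4⟩,⟨0,4,7,0⟩,⟨0,16,19,0⟩,⟨5,0,8,0⟩],4,5,false⟩,⟨2,0,[⟨6,0,0,1⟩,⟨4,0,0,5⟩,⟨4,4,0,6⟩,⟨4,8,0,7⟩,⟨0,1,2,0⟩],5,3,false⟩] [] = true := by decide +kernel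
theorem c20016516 : chkFrat M20234 E20014588 [5,7,124] [126,124,121] [5,7,124,1,8,16,32,128,512] [5,7,124,1,8,16,32,128,512] [(0,[1,2,4]),(0,[1,2,4]),(0,[1,2,4]),(32,[1,2,7]),(32,[1,2,7]),(32,[1,2,7]),(33,[2,1,4]),(0,[1,2,4]),(32,[1,2,7])] [⟨0,0,[],0,0,false⟩,⟨0,0,[],0,2,false⟩,⟨3,0,[⟨6,0,0,1⟩,⟨4,0,0,0⟩,⟨0,4,7,0⟩],2,2,false⟩,⟨5,0,[⟨6,0,0,0⟩,⟨4,0,0,1⟩,⟨4,1,0,2⟩,⟨0,4,7,0⟩,⟨5,0,8,0⟩],3,2,false⟩,⟨5,0,[⟨6,0,0,0⟩,⟨4,0,0,3⟩,⟨4,1,0,4⟩,⟨0,4,7,0⟩,⟨0,16,19,0⟩,⟨5,0,8,0⟩],4,5,false⟩,⟨2,0,[⟨6,0,0,1⟩,⟨4,0,0,5⟩,⟨4,4,0,6⟩,⟨4,8,0,7⟩,⟨0,1,2,0⟩],5,3,false⟩] [] = true := by decide +kernel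
theorem c20016583 : chkFrat M20234 E20014588 [5,7,124] [124,126,121] [5,7,124,1,8,16,32,128,512] [5,7,124,1,8,16,32,128,512] [(0,[1,2,4]),(0,[1,2,4]),(0,[1,2,4]),(32,[1,2,7]),(32,[1,2,7]),(32,[1,2,7]),(33,[2,1,4]),(0,[1,2,4]),(32,[1,2,7])] [⟨0,0,[],0,0,false⟩,⟨0,0,[],0,2,false⟩,⟨3,0,[⟨6,0,0,1⟩,⟨4,0,0,0⟩,⟨0,4,7,0⟩],2,2,false⟩,⟨5,0,[⟨6,0,0,0⟩,⟨4,0,0,1⟩,⟨4,1,0,2⟩,⟨0,4,7,0⟩,⟨5,0,8,0⟩],3,2,false⟩,⟨5,0,[⟨6,0,0,0⟩,⟨4,0,0,3⟩,⟨4,1,0,4⟩,⟨0,4,7,0⟩,⟨0,16,19,0⟩,⟨5,0,8,0⟩],4,5,false⟩,⟨2,0,[⟨6,0,0,1⟩,⟨4,0,0,5⟩,⟨4,4,0,6⟩,⟨4,8,0,7⟩,⟨0,1,2,0⟩],5,3,false⟩] [] = true := by decide +kernel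
theorem c20016608 : chkFrat M20234 E20014588 [5,7,124] [126,124,121] [5,7,124,1,8,16,32,128,512] [5,7,124,1,8,16,32,128,512] [(0,[1,2,4]),(0,[1,2,4]),(0,[1,2,4]),(32,[1,2,7]),(32,[1,2,7]),(32,[1,2,7]),(33,[2,1,4]),(0,[1,2,4]),(32,[1,2,7])] [⟨0,0,[],0,0,false⟩,⟨0,0,[],0,2,false⟩,⟨3,0,[⟨6,0,0,1⟩,⟨4,0,0,0⟩,⟨0,4,7,0⟩],2,2,false⟩,⟨5,0,[⟨6,0,0,0⟩,⟨4,0,0,1⟩,⟨4,1,0,2⟩,⟨0,4,7,0⟩,⟨5,0,8,0⟩],3,2,false⟩,⟨5,0,[⟨6,0,0,0⟩,⟨4,0,0,3⟩,⟨4,1,0,4⟩,⟨0,4,7,0⟩,⟨0,16,19,0⟩,⟨5,0,8,0⟩],4,5,false⟩,⟨2,0,[⟨6,0,0,1⟩,⟨4,0,0,5⟩,⟨4,4,0,6⟩,⟨4,8,0,7⟩,⟨0,1,2,0⟩],5,3,false⟩] [] = true := by decide +kernel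
theorem c20016721 : chkFrat M20234 E20014588 [5,7,124] [126,124,123] [5,7,124,1,8,16,32,128,512] [5,7,124,1,8,16,32,128,512] [(0,[1,2,4]),(0,[1,2,4]),(0,[1,2,4]),(32,[1,2,7]),(32,[1,2,7]),(32,[1,2,7]),(33,[2,1,4]),(0,[1,2,4]),(32,[1,2,7])] [⟨0,0,[],0,0,false⟩,⟨0,0,[],0,2,false⟩,⟨3,0,[⟨6,0,0,1⟩,⟨4,0,0,0⟩,⟨0,4,7,0⟩],2,2,false⟩,⟨5,0,[⟨6,0,0,0⟩,⟨4,0,0,1⟩,⟨4,1,0,2⟩,⟨0,4,7,0⟩,⟨5,0,8,0⟩],3,2,false⟩,⟨5,0,[⟨6,0,0,0⟩,⟨4,0,0,3⟩,⟨4,1,0,4⟩,⟨0,4,7,0⟩,⟨0,16,19,0⟩,⟨5,0,8,0⟩],4,5,false⟩,⟨2,0,[⟨6,0,0,1⟩,⟨4,0,0,5⟩,⟨4,4,0,6⟩,⟨4,8,0,7⟩,⟨0,1,2,0⟩],5,3,false⟩] [] = true := by decide +kernel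
theorem c20016866 : chkFrat M20234 E20014588 [5,7,124] [124,126,123] [5,7,124,1,8,16,32,128,512] [5,7,124,1,8,16,32,128,512] [(0,[1,2,4]),(0,[1,2,4]),(0,[1,2,4]),(32,[1,2,7]),(32,[1,2,7]),(32,[1,2,7]),(33,[2,1,4]),(0,[1,2,4]),(32,[1,2,7])] [⟨0,0,[],0,0,false⟩,⟨0,0,[],0,2,false⟩,⟨3,0,[⟨6,0,0,1⟩,⟨4,0,0,0⟩,⟨0,4,7,0⟩],2,2,false⟩,⟨5,0,[⟨6,0,0,0⟩,⟨4,0,0,1⟩,⟨4,1,0,2⟩,⟨0,4,7,0⟩,⟨5,0,8,0⟩],3,2,false⟩,⟨5,0,[⟨6,0,0,0⟩,⟨4,0,0,3⟩,⟨4,1,0,4⟩,⟨0,4,7,0⟩,⟨0,16,19,0⟩,⟨5,0,8,0⟩],4,5,false⟩,⟨2,0,[⟨6,0,0,1⟩,⟨4,0,0,5⟩,⟨4,4,0,6⟩,⟨4,8,0,7⟩,⟨0,1,2,0⟩],5,3,false⟩] [] = true := by decide +kernel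
theorem c20016957 : chkFrat M20234 E20014588 [5,7,124] [124,126,123] [5,7,124,1,8,16,32,128,512] [5,7,124,1,8,16,32,128,512] [(0,[1,2,4]),(0,[1,2,4]),(0,[1,2,4]),(32,[1,2,7]),(32,[1,2,7]),(32,[1,2,7]),(33,[2,1,4]),(0,[1,2,4]),(32,[1,2,7])] [⟨0,0,[],0,0,false⟩,⟨0,0,[],0,2,false⟩,⟨3,0,[⟨6,0,0,1⟩,⟨4,0,0,0⟩,⟨0,4,7,0⟩],2,2,false⟩,⟨5,0,[⟨6,0,0,0⟩,⟨4,0,0,1⟩,⟨4,1,0,2⟩,⟨0,4,7,0⟩,⟨5,0,8,0⟩],3,2,false⟩,⟨5,0,[⟨6,0,0,0⟩,⟨4,0,0,3⟩,⟨4,1,0,4⟩,⟨0,4,7,0⟩,⟨0,16,19,0⟩,⟨5,0,8,0⟩],4,5,false⟩,⟨2,0,[⟨6,0,0,1⟩,⟨4,0,0,5⟩,⟨4,4,0,6⟩,⟨4,8,0,7⟩,⟨0,1,2,0⟩],5,3,false⟩] [] = true := by decide +kernel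
theorem c20017024 : chkFrat M20234 E20014588 [5,7,124] [124,126,121] [5,7,124,1,8,16,32,128,512] [5,7,124,1,8,16,32,128,512] [(0,[1,2,4]),(0,[1,2,4]),(0,[1,2,4]),(32,[1,2,7]),(32,[1,2,7]),(32,[1,2,7]),(33,[2,1,4]),(0,[1,2,4]),(32,[1,2,7])] [⟨0,0,[],0,0,false⟩,⟨0,0,[],0,2,false⟩,⟨3,0,[⟨6,0,0,1⟩,⟨4,0,0,0⟩,⟨0,4,7,0⟩],2,2,false⟩,⟨5,0,[⟨6,0,0,0⟩,⟨4,0,0,1⟩,⟨4,1,0,2⟩,⟨0,4,7,0⟩,⟨5,0,8,0⟩],3,2,false⟩,⟨5,0,[⟨6,0,0,0⟩,⟨4,0,0,3⟩,⟨4,1,0,4⟩,⟨0,4,7,0⟩,⟨0,16,19,0⟩,⟨5,0,8,0⟩],4,5,false⟩,⟨2,0,[⟨6,0,0,1⟩,⟨4,0,0,5⟩,⟨4,4,0,6⟩,⟨4,8,0,7⟩,⟨0,1,2,0⟩],5,3,false⟩] [] = true := by decide +kernel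
theorem c20017081 : chkFrat M20234 E20014588 [5,7,124] [124,126,123] [5,7,124,1,8,16,32,128,512] [5,7,124,1,8,16,32,128,512] [(0,[1,2,4]),(0,[1,2,4]),(0,[1,2,4]),(32,[1,2,7]),(32,[1,2,7]),(32,[1,2,7]),(33,[2,1,4]),(0,[1,2,4]),(32,[1,2,7])] [⟨0,0,[],0,0,false⟩,⟨0,0,[],0,2,false⟩,⟨3,0,[⟨6,0,0,1⟩,⟨4,0,0,0⟩,⟨0,4,7,0⟩],2,2,false⟩,⟨5,0,[⟨6,0,0,0⟩,⟨4,0,0,1⟩,⟨4,1,0,2⟩,⟨0,4,7,0⟩,⟨5,0,8,0⟩],3,2,false⟩,⟨5,0,[⟨6,0,0,0⟩,⟨4,0,0,3⟩,⟨4,1,0,4⟩,⟨0,4,7,0⟩,⟨0,16,19,0⟩,⟨5,0,8,0⟩],4,5,false⟩,⟨2,0,[⟨6,0,0,1⟩,⟨4,0,0,5⟩,⟨4,4,0,6⟩,⟨4,8,0,7⟩,⟨0,1,2,0⟩],5,3,false⟩] [] = true := by decide +kernel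
theorem c20017178 : chkFrat M20234 E20014588 [5,7,124] [124,126,121] [5,7,124,1,8,16,32,128,512] [5,7,124,1,8,16,32,128,512] [(0,[1,2,4]),(0,[1,2,4]),(0,[1,2,4]),(32,[1,2,7]),(32,[1,2,7]),(32,[1,2,7]),(33,[2,1,4]),(0,[1,2,4]),(32,[1,2,7])] [⟨0,0,[],0,0,false⟩,⟨0,0,[],0,2,false⟩,⟨3,0,[⟨6,0,0,1⟩,⟨4,0,0,0⟩,⟨0,4,7,0⟩],2,2,false⟩,⟨5,0,[⟨6,0,0,0⟩,⟨4,0,0,1⟩,⟨4,1,0,2⟩,⟨0,4,7,0⟩,⟨5,0,8,0⟩],3,2,false⟩,⟨5,0,[⟨6,0,0,0⟩,⟨4,0,0,3⟩,⟨4,1,0,4⟩,⟨0,4,7,0⟩,⟨0,16,19,0⟩,⟨5,0,8,0⟩],4,5,false⟩,⟨2,0,[⟨6,0,0,1⟩,⟨4,0,0,5⟩,⟨4,4,0,6⟩,⟨4,8,0,7⟩,⟨0,1,2,0⟩],5,3,false⟩] [] = true := by decide +kernel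
theorem c20017307 : chkFrat M20234 E20014588 [5,7,124] [126,124,121] [5,7,124,1,8,16,32,128,512] [5,7,124,1,8,16,32,128,512] [(0,[1,2,4]),(0,[1,2,4]),(0,[1,2,4]),(32,[1,2,7]),(32,[1,2,7]),(32,[1,2,7]),(33,[2,1,4]),(0,[1,2,4]),(32,[1,2,7])] [⟨0,0,[],0,0,false⟩,⟨0,0,[],0,2,false⟩,⟨3,0,[⟨6,0,0,1⟩,⟨4,0,0,0⟩,⟨0,4,7,0⟩],2,2,false⟩,⟨5,0,[⟨6,0,0,0⟩,⟨4,0,0,1⟩,⟨4,1,0,2⟩,⟨0,4,7,0⟩,⟨5,0,8,0⟩],3,2,false⟩,⟨5,0,[⟨6,0,0,0⟩,⟨4,0,0,3⟩,⟨4,1,0,4⟩,⟨0,4,7,0⟩,⟨0,16,19,0⟩,⟨5,0,8,0⟩],4,5,false⟩,⟨2,0,[⟨6,0,0,1⟩,⟨4,0,0,5⟩,⟨4,4,0,6⟩,⟨4,8,0,7⟩,⟨0,1,2,0⟩],5,3,false⟩] [] = true := by decide +kernel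
theorem c20017388 : chkFrat M20234 E20014588 [5,7,124] [124,126,121] [5,7,124,1,8,16,32,128,512] [5,7,124,1,8,16,32,128,512] [(0,[1,2,4]),(0,[1,2,4]),(0,[1,2,4]),(32,[1,2,7]),(32,[1,2,7]),(32,[1,2,7]),(33,[2,1,4]),(0,[1,2,4]),(32,[1,2,7])] [⟨0,0,[],0,0,false⟩,⟨0,0,[],0,2,false⟩,⟨3,0,[⟨6,0,0,1⟩,⟨4,0,0,0⟩,⟨0,4,7,0⟩],2,2,false⟩,⟨5,0,[⟨6,0,0,0⟩,⟨4,0,0,1⟩,⟨4,1,0,2⟩,⟨0,4,7,0⟩,⟨5,0,8,0⟩],3,2,false⟩,⟨5,0,[⟨6,0,0,0⟩,⟨4,0,0,3⟩,⟨4,1,0,4⟩,⟨0,4,7,0⟩,⟨0,16,19,0⟩,⟨5,0,8,0⟩],4,5,false⟩,⟨2,0,[⟨6,0,0,1⟩,⟨4,0,0,5⟩,⟨4,4,0,6⟩,⟨4,8,0,7⟩,⟨0,1,2,0⟩],5,3,false⟩] [] = true := by decide +kernel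
theorem c20017523 : chkFrat M20234 E20014588 [5,7,124] [124,126,121] [5,7,124,1,8,16,32,128,512] [5,7,124,1,8,16,32,128,512] [(0,[1,2,4]),(0,[1,2,4]),(0,[1,2,4]),(32,[1,2,7]),(32,[1,2,7]),(32,[1,2,7]),(33,[2,1,4]),(0,[1,2,4]),(32,[1,2,7])] [⟨0,0,[],0,0,false⟩,⟨0,0,[],0,2,false⟩,⟨3,0,[⟨6,0,0,1⟩,⟨4,0,0,0⟩,⟨0,4,7,0⟩],2,2,false⟩,⟨5,0,[⟨6,0,0,0⟩,⟨4,0,0,1⟩,⟨4,1,0,2⟩,⟨0,4,7,0⟩,⟨5,0,8,0⟩],3,2,false⟩,⟨5,0,[⟨6,0,0,0⟩,⟨4,0,0,3⟩,⟨4,1,0,4⟩,⟨0,4,7,0⟩,⟨0,16,19,0⟩,⟨5,0,8,0⟩],4,5,false⟩,⟨2,0,[⟨6,0,0,1⟩,⟨4,0,0,5⟩,⟨4,4,0,6⟩,⟨4,8,0,7⟩,⟨0,1,2,0⟩],5,3,false⟩] [] = true := by decide +kernel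
theorem c20017622 : chkFrat M20234 E20014588 [5,7,124] [124,126,121] [5,7,124,1,8,16,32,128,512] [5,7,124,1,8,16,32,128,512] [(0,[1,2,4]),(0,[1,2,4]),(0,[1,2,4]),(32,[1,2,7]),(32,[1,2,7]),(32,[1,2,7]),(33,[2,1,4]),(0,[1,2,4]),(32,[1,2,7])] [⟨0,0,[],0,0,false⟩,⟨0,0,[],0,2,false⟩,⟨3,0,[⟨6,0,0,1⟩,⟨4,0,0,0⟩,⟨0,4,7,0⟩],2,2,false⟩,⟨5,0,[⟨6,0,0,0⟩,⟨4,0,0,1⟩,⟨4,1,0,2⟩,⟨0,4,7,0⟩,⟨5,0,8,0⟩],3,2,false⟩,⟨5,0,[⟨6,0,0,0⟩,⟨4,0,0,3⟩,⟨4,1,0,4⟩,⟨0,4,7,0⟩,⟨0,16,19,0⟩,⟨5,0,8,0⟩],4,5,false⟩,⟨2,0,[⟨6,0,0,1⟩,⟨4,0,0,5⟩,⟨4,4,0,6⟩,⟨4,8,0,7⟩,⟨0,1,2,0⟩],5,3,false⟩] [] = true := by decide +kernel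
theorem c20017697 : chkFrat M20234 E20014588 [5,7,124] [126,124,123] [5,7,124,1,8,16,32,128,512] [5,7,124,1,8,16,32,128,512] [(0,[1,2,4]),(0,[1,2,4]),(0,[1,2,4]),(32,[1,2,7]),(32,[1,2,7]),(32,[1,2,7]),(33,[2,1,4]),(0,[1,2,4]),(32,[1,2,7])] [⟨0,0,[],0,0,false⟩,⟨0,0,[],0,2,false⟩,⟨3,0,[⟨6,0,0,1⟩,⟨4,0,0,0⟩,⟨0,4,7,0⟩],2,2,false⟩,⟨5,0,[⟨6,0,0,0⟩,⟨4,0,0,1⟩,⟨4,1,0,2⟩,⟨0,4,7,0⟩,⟨5,0,8,0⟩],3,2,false⟩,⟨5,0,[⟨6,0,0,0⟩,⟨4,0,0,3⟩,⟨4,1,0,4⟩,⟨0,4,7,0⟩,⟨0,16,19,0⟩,⟨5,0,8,0⟩],4,5,false⟩,⟨2,0,[⟨6,0,0,1⟩,⟨4,0,0,5⟩,⟨4,4,0,6⟩,⟨4,8,0,7⟩,⟨0,1,2,0⟩],5,3,false⟩] [] = true := by decide +kernel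
theorem c20017767 : chkFrat M20234 E20014588 [5,7,124] [126,124,121] [5,7,124,1,8,16,32,128,512] [5,7,124,1,8,16,32,128,512] [(0,[1,2,4]),(0,[1,2,4]),(0,[1,2,4]),(32,[1,2,7]),(32,[1,2,7]),(32,[1,2,7]),(33,[2,1,4]),(0,[1,2,4]),(32,[1,2,7])] [⟨0,0,[],0,0,false⟩,⟨0,0,[],0,2,false⟩,⟨3,0,[⟨6,0,0,1⟩,⟨4,0,0,0⟩,⟨0,4,7,0⟩],2,2,false⟩,⟨5,0,[⟨6,0,0,0⟩,⟨4,0,0,1⟩,⟨4,1,0,2⟩,⟨0,4,7,0⟩,⟨5,0,8,0⟩],3,2,false⟩,⟨5,0,[⟨6,0,0,0⟩,⟨4,0,0,3⟩,⟨4,1,0,4⟩,⟨0,4,7,0⟩,⟨0,16,19,0⟩,⟨5,0,8,0⟩],4,5,false⟩,⟨2,0,[⟨6,0,0,1⟩,⟨4,0,0,5⟩,⟨4,4,0,6⟩,⟨4,8,0,7⟩,⟨0,1,2,0⟩],5,3,false⟩] [] = true := by decide +kernel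
theorem c20017835 : chkFrat M20234 E20014588 [5,7,124] [126,124,123] [5,7,124,1,8,16,32,128,512] [5,7,124,1,8,16,32,128,512] [(0,[1,2,4]),(0,[1,2,4]),(0,[1,2,4]),(32,[1,2,7]),(32,[1,2,7]),(32,[1,2,7]),(33,[2,1,4]),(0,[1,2,4]),(32,[1,2,7])] [⟨0,0,[],0,0,false⟩,⟨0,0,[],0,2,false⟩,⟨3,0,[⟨6,0,0,1⟩,⟨4,0,0,0⟩,⟨0,4,7,0⟩],2,2,false⟩,⟨5,0,[⟨6,0,0,0⟩,⟨4,0,0,1⟩,⟨4,1,0,2⟩,⟨0,4,7,0⟩,⟨5,0,8,0⟩],3,2,false⟩,⟨5,0,[⟨6,0,0,0⟩,⟨4,0,0,3⟩,⟨4,1,0,4⟩,⟨0,4,7,0⟩,⟨0,16,19,0⟩,⟨5,0,8,0⟩],4,5,false⟩,⟨2,0,[⟨6,0,0,1⟩,⟨4,0,0,5⟩,⟨4,4,0,6⟩,⟨4,8,0,7⟩,⟨0,1,2,0⟩],5,3,false⟩] [] = true := by decide +kernel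
theorem c20017929 : chkFrat M20234 E20014588 [5,7,124] [124,126,121] [5,7,124,1,8,16,32,128,512] [5,7,124,1,8,16,32,128,512] [(0,[1,2,4]),(0,[1,2,4]),(0,[1,2,4]),(32,[1,2,7]),(32,[1,2,7]),(32,[1,2,7]),(33,[2,1,4]),(0,[1,2,4]),(32,[1,2,7])] [⟨0,0,[],0,0,false⟩,⟨0,0,[],0,2,false⟩,⟨3,0,[⟨6,0,0,1⟩,⟨4,0,0,0⟩,⟨0,4,7,0⟩],2,2,false⟩,⟨5,0,[⟨6,0,0,0⟩,⟨4,0,0,1⟩,⟨4,1,0,2⟩,⟨0,4,7,0⟩,⟨5,0,8,0⟩],3,2,false⟩,⟨5,0,[⟨6,0,0,0⟩,⟨4,0,0,3⟩,⟨4,1,0,4⟩,⟨0,4,7,0⟩,⟨0,16,19,0⟩,⟨5,0,8,0⟩],4,5,false⟩,⟨2,0,[⟨6,0,0,1⟩,⟨4,0,0,5⟩,⟨4,4,0,6⟩,⟨4,8,0,7⟩,⟨0,1,2,0⟩],5,3,false⟩] [] = true := by decide +kernel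
theorem c20018065 : chkFrat M20234 E20014588 [5,7,124] [124,126,123] [5,7,124,1,8,16,32,128,512] [5,7,124,1,8,16,32,128,512] [(0,[1,2,4]),(0,[1,2,4]),(0,[1,2,4]),(32,[1,2,7]),(32,[1,2,7]),(32,[1,2,7]),(33,[2,1,4]),(0,[1,2,4]),(32,[1,2,7])] [⟨0,0,[],0,0,false⟩,⟨0,0,[],0,2,false⟩,⟨3,0,[⟨6,0,0,1⟩,⟨4,0,0,0⟩,⟨0,4,7,0⟩],2,2,false⟩,⟨5,0,[⟨6,0,0,0⟩,⟨4,0,0,1⟩,⟨4,1,0,2⟩,⟨0,4,7,0⟩,⟨5,0,8,0⟩],3,2,false⟩,⟨5,0,[⟨6,0,0,0⟩,⟨4,0,0,3⟩,⟨4,1,0,4⟩,⟨0,4,7,0⟩,⟨0,16,19,0⟩,⟨5,0,8,0⟩],4,5,false⟩,⟨2,0,[⟨6,0,0,1⟩,⟨4,0,0,5⟩,⟨4,4,0,6⟩,⟨4,8,0,7⟩,⟨0,1,2,0⟩],5,3,false⟩] [] = true := by decide +kernel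
theorem c20018663 : chkFrat M20234 E20014588 [5,7,124] [124,126,123] [5,7,124,1,8,16,32,128,512] [5,7,124,1,8,16,32,128,512] [(0,[1,2,4]),(0,[1,2,4]),(0,[1,2,4]),(32,[1,2,7]),(32,[1,2,7]),(32,[1,2,7]),(33,[2,1,4]),(0,[1,2,4]),(32,[1,2,7])] [⟨0,0,[],0,0,false⟩,⟨0,0,[],0,2,false⟩,⟨3,0,[⟨6,0,0,1⟩,⟨4,0,0,0⟩,⟨0,4,7,0⟩],2,2,false⟩,⟨5,0,[⟨6,0,0,0⟩,⟨4,0,0,1⟩,⟨4,1,0,2⟩,⟨0,4,7,0⟩,⟨5,0,8,0⟩],3,2,false⟩,⟨5,0,[⟨6,0,0,0⟩,⟨4,0,0,3⟩,⟨4,1,0,4⟩,⟨0,4,7,0⟩,⟨0,16,19,0⟩,⟨5,0,8,0⟩],4,5,false⟩,⟨2,0,[⟨6,0,0,1⟩,⟨4,0,0,5⟩,⟨4,4,0,6⟩,⟨4,8,0,7⟩,⟨0,1,2,0⟩],5,3,false⟩] [] = true := by decide +kernel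
theorem c20018791 : chkFrat M20234 E20014588 [5,7,124] [126,124,123] [5,7,124,1,8,16,32,128,512] [5,7,124,1,8,16,32,128,512] [(0,[1,2,4]),(0,[1,2,4]),(0,[1,2,4]),(32,[1,2,7]),(32,[1,2,7]),(32,[1,2,7]),(33,[2,1,4]),(0,[1,2,4]),(32,[1,2,7])] [⟨0,0,[],0,0,false⟩,⟨0,0,[],0,2,false⟩,⟨3,0,[⟨6,0,0,1⟩,⟨4,0,0,0⟩,⟨0,4,7,0⟩],2,2,false⟩,⟨5,0,[⟨6,0,0,0⟩,⟨4,0,0,1⟩,⟨4,1,0,2⟩,⟨0,4,7,0⟩,⟨5,0,8,0⟩],3,2,false⟩,⟨5,0,[⟨6,0,0,0⟩,⟨4,0,0,3⟩,⟨4,1,0,4⟩,⟨0,4,7,0⟩,⟨0,16,19,0⟩,⟨5,0,8,0⟩],4,5,false⟩,⟨2,0,[⟨6,0,0,1⟩,⟨4,0,0,5⟩,⟨4,4,0,6⟩,⟨4,8,0,7⟩,⟨0,1,2,0⟩],5,3,false⟩] [] = true := by decide +kernel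
theorem c20018875 : chkFrat M20234 E20014588 [5,7,124] [126,124,123] [5,7,124,1,8,16,32,128,512] [5,7,124,1,8,16,32,128,512] [(0,[1,2,4]),(0,[1,2,4]),(0,[1,2,4]),(32,[1,2,7]),(32,[1,2,7]),(32,[1,2,7]),(33,[2,1,4]),(0,[1,2,4]),(32,[1,2,7])] [⟨0,0,[],0,0,false⟩,⟨0,0,[],0,2,false⟩,⟨3,0,[⟨6,0,0,1⟩,⟨4,0,0,0⟩,⟨0,4,7,0⟩],2,2,false⟩,⟨5,0,[⟨6,0,0,0⟩,⟨4,0,0,1⟩,⟨4,1,0,2⟩,⟨0,4,7,0⟩,⟨5,0,8,0⟩],3,2,false⟩,⟨5,0,[⟨6,0,0,0⟩,⟨4,0,0,3⟩,⟨4,1,0,4⟩,⟨0,4,7,0⟩,⟨0,16,19,0⟩,⟨5,0,8,0⟩],4,5,false⟩,⟨2,0,[⟨6,0,0,1⟩,⟨4,0,0,5⟩,⟨4,4,0,6⟩,⟨4,8,0,7⟩,⟨0,1,2,0⟩],5,3,false⟩] [] = true := by decide +kernel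
theorem c20018945 : chkFrat M20234 E20014588 [5,7,124] [124,126,123] [5,7,124,1,8,16,32,128,512] [5,7,124,1,8,16,32,128,512] [(0,[1,2,4]),(0,[1,2,4]),(0,[1,2,4]),(32,[1,2,7]),(32,[1,2,7]),(32,[1,2,7]),(33,[2,1,4]),(0,[1,2,4]),(32,[1,2,7])] [⟨0,0,[],0,0,false⟩,⟨0,0,[],0,2,false⟩,⟨3,0,[⟨6,0,0,1⟩,⟨4,0,0,0⟩,⟨0,4,7,0⟩],2,2,false⟩,⟨5,0,[⟨6,0,0,0⟩,⟨4,0,0,1⟩,⟨4,1,0,2⟩,⟨0,4,7,0⟩,⟨5,0,8,0⟩],3,2,false⟩,⟨5,0,[⟨6,0,0,0⟩,⟨4,0,0,3⟩,⟨4,1,0,4⟩,⟨0,4,7,0⟩,⟨0,16,19,0⟩,⟨5,0,8,0⟩],4,5,false⟩,⟨2,0,[⟨6,0,0,1⟩,⟨4,0,0,5⟩,⟨4,4,0,6⟩,⟨4,8,0,7⟩,⟨0,1,2,0⟩],5,3,false⟩] [] = true := by decide +kernel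
theorem c20019013 : chkFrat M20234 E20014588 [5,7,124] [124,126,123] [5,7,124,1,8,16,32,128,512] [5,7,124,1,8,16,32,128,512] [(0,[1,2,4]),(0,[1,2,4]),(0,[1,2,4]),(32,[1,2,7]),(32,[1,2,7]),(32,[1,2,7]),(33,[2,1,4]),(0,[1,2,4]),(32,[1,2,7])] [⟨0,0,[],0,0,false⟩,⟨0,0,[],0,2,false⟩,⟨3,0,[⟨6,0,0,1⟩,⟨4,0,0,0⟩,⟨0,4,7,0⟩],2,2,false⟩,⟨5,0,[⟨6,0,0,0⟩,⟨4,0,0,1⟩,⟨4,1,0,2⟩,⟨0,4,7,0⟩,⟨5,0,8,0⟩],3,2,false⟩,⟨5,0,[⟨6,0,0,0⟩,⟨4,0,0,3⟩,⟨4,1,0,4⟩,⟨0,4,7,0⟩,⟨0,16,19,0⟩,⟨5,0,8,0⟩],4,5,false⟩,⟨2,0,[⟨6,0,0,1⟩,⟨4,0,0,5⟩,⟨4,4,0,6⟩,⟨4,8,0,7⟩,⟨0,1,2,0⟩],5,3,false⟩] [] = true := by decide +kernel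
theorem c20019043 : chkFrat M20234 E20014588 [5,7,124] [124,126,121] [5,7,124,1,8,16,32,128,512] [5,7,124,1,8,16,32,128,512] [(0,[1,2,4]),(0,[1,2,4]),(0,[1,2,4]),(32,[1,2,7]),(32,[1,2,7]),(32,[1,2,7]),(33,[2,1,4]),(0,[1,2,4]),(32,[1,2,7])] [⟨0,0,[],0,0,false⟩,⟨0,0,[],0,2,false⟩,⟨3,0,[⟨6,0,0,1⟩,⟨4,0,0,0⟩,⟨0,4,7,0⟩],2,2,false⟩,⟨5,0,[⟨6,0,0,0⟩,⟨4,0,0,1⟩,⟨4,1,0,2⟩,⟨0,4,7,0⟩,⟨5,0,8,0⟩],3,2,false⟩,⟨5,0,[⟨6,0,0,0⟩,⟨4,0,0,3⟩,⟨4,1,0,4⟩,⟨0,4,7,0⟩,⟨0,16,19,0⟩,⟨5,0,8,0⟩],4,5,false⟩,⟨2,0,[⟨6,0,0,1⟩,⟨4,0,0,5⟩,⟨4,4,0,6⟩,⟨4,8,0,7⟩,⟨0,1,2,0⟩],5,3,false⟩] [] = true := by decide +kernel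
theorem c20019101 : chkFrat M20234 E20014588 [5,7,124] [124,126,123] [5,7,124,1,8,16,32,128,512] [5,7,124,1,8,16,32,128,512] [(0,[1,2,4]),(0,[1,2,4]),(0,[1,2,4]),(32,[1,2,7]),(32,[1,2,7]),(32,[1,2,7]),(33,[2,1,4]),(0,[1,2,4]),(32,[1,2,7])] [⟨0,0,[],0,0,false⟩,⟨0,0,[],0,2,false⟩,⟨3,0,[⟨6,0,0,1⟩,⟨4,0,0,0⟩,⟨0,4,7,0⟩],2,2,false⟩,⟨5,0,[⟨6,0,0,0⟩,⟨4,0,0,1⟩,⟨4,1,0,2⟩,⟨0,4,7,0⟩,⟨5,0,8,0⟩],3,2,false⟩,⟨5,0,[⟨6,0,0,0⟩,⟨4,0,0,3⟩,⟨4,1,0,4⟩,⟨0,4,7,0⟩,⟨0,16,19,0⟩,⟨5,0,8,0⟩],4,5,false⟩,⟨2,0,[⟨6,0,0,1⟩,⟨4,0,0,5⟩,⟨4,4,0,6⟩,⟨4,8,0,7⟩,⟨0,1,2,0⟩],5,3,false⟩] [] = true := by decide +kernel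
theorem c20019167 : chkFrat M20234 E20014588 [5,7,124] [126,124,121] [5,7,124,1,8,16,32,128,512] [5,7,124,1,8,16,32,128,512] [(0,[1,2,4]),(0,[1,2,4]),(0,[1,2,4]),(32,[1,2,7]),(32,[1,2,7]),(32,[1,2,7]),(33,[2,1,4]),(0,[1,2,4]),(32,[1,2,7])] [⟨0,0,[],0,0,false⟩,⟨0,0,[],0,2,false⟩,⟨3,0,[⟨6,0,0,1⟩,⟨4,0,0,0⟩,⟨0,4,7,0⟩],2,2,false⟩,⟨5,0,[⟨6,0,0,0⟩,⟨4,0,0,1⟩,⟨4,1,0,2⟩,⟨0,4,7,0⟩,⟨5,0,8,0⟩],3,2,false⟩,⟨5,0,[⟨6,0,0,0⟩,⟨4,0,0,3⟩,⟨4,1,0,4⟩,⟨0,4,7,0⟩,⟨0,16,19,0⟩,⟨5,0,8,0⟩],4,5,false⟩,⟨2,0,[⟨6,0,0,1⟩,⟨4,0,0,5⟩,⟨4,4,0,6⟩,⟨4,8,0,7⟩,⟨0,1,2,0⟩],5,3,false⟩] [] = true := by decide +kernel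
theorem c20019237 : chkFrat M20234 E20014588 [5,7,124] [126,124,121] [5,7,124,1,8,16,32,128,512] [5,7,124,1,8,16,32,128,512] [(0,[1,2,4]),(0,[1,2,4]),(0,[1,2,4]),(32,[1,2,7]),(32,[1,2,7]),(32,[1,2,7]),(33,[2,1,4]),(0,[1,2,4]),(32,[1,2,7])] [⟨0,0,[],0,0,false⟩,⟨0,0,[],0,2,false⟩,⟨3,0,[⟨6,0,0,1⟩,⟨4,0,0,0⟩,⟨0,4,7,0⟩],2,2,false⟩,⟨5,0,[⟨6,0,0,0⟩,⟨4,0,0,1⟩,⟨4,1,0,2⟩,⟨0,4,7,0⟩,⟨5,0,8,0⟩],3,2,false⟩,⟨5,0,[⟨6,0,0,0⟩,⟨4,0,0,3⟩,⟨4,1,0,4⟩,⟨0,4,7,0⟩,⟨0,16,19,0⟩,⟨5,0,8,0⟩],4,5,false⟩,⟨2,0,[⟨6,0,0,1⟩,⟨4,0,0,5⟩,⟨4,4,0,6⟩,⟨4,8,0,7⟩,⟨0,1,2,0⟩],5,3,false⟩] [] = true := by decide +kernel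
theorem c20019261 : chkFrat M20234 E20014588 [5,7,124] [126,124,121] [5,7,124,1,8,16,32,128,512] [5,7,124,1,8,16,32,128,512] [(0,[1,2,4]),(0,[1,2,4]),(0,[1,2,4]),(32,[1,2,7]),(32,[1,2,7]),(32,[1,2,7]),(33,[2,1,4]),(0,[1,2,4]),(32,[1,2,7])] [⟨0,0,[],0,0,false⟩,⟨0,0,[],0,2,false⟩,⟨3,0,[⟨6,0,0,1⟩,⟨4,0,0,0⟩,⟨0,4,7,0⟩],2,2,false⟩,⟨5,0,[⟨6,0,0,0⟩,⟨4,0,0,1⟩,⟨4,1,0,2⟩,⟨0,4,7,0⟩,⟨5,0,8,0⟩],3,2,false⟩,⟨5,0,[⟨6,0,0,0⟩,⟨4,0,0,3⟩,⟨4,1,0,4⟩,⟨0,4,7,0⟩,⟨0,16,19,0⟩,⟨5,0,8,0⟩],4,5,false⟩,⟨2,0,[⟨6,0,0,1⟩,⟨4,0,0,5⟩,⟨4,4,0,6⟩,⟨4,8,0,7⟩,⟨0,1,2,0⟩],5,3,false⟩] [] = true := by decide +kernel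
theorem c20019383 : chkFrat M20234 E20014588 [5,7,124] [126,124,123] [5,7,124,1,8,16,32,128,512] [5,7,124,1,8,16,32,128,512] [(0,[1,2,4]),(0,[1,2,4]),(0,[1,2,4]),(32,[1,2,7]),(32,[1,2,7]),(32,[1,2,7]),(33,[2,1,4]),(0,[1,2,4]),(32,[1,2,7])] [⟨0,0,[],0,0,false⟩,⟨0,0,[],0,2,false⟩,⟨3,0,[⟨6,0,0,1⟩,⟨4,0,0,0⟩,⟨0,4,7,0⟩],2,2,false⟩,⟨5,0,[⟨6,0,0,0⟩,⟨4,0,0,1⟩,⟨4,1,0,2⟩,⟨0,4,7,0⟩,⟨5,0,8,0⟩],3,2,false⟩,⟨5,0,[⟨6,0,0,0⟩,⟨4,0,0,3⟩,⟨4,1,0,4⟩,⟨0,4,7,0⟩,⟨0,16,19,0⟩,⟨5,0,8,0⟩],4,5,false⟩,⟨2,0,[⟨6,0,0,1⟩,⟨4,0,0,5⟩,⟨4,4,0,6⟩,⟨4,8,0,7⟩,⟨0,1,2,0⟩],5,3,false⟩] [] = true := by decide +kernel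
theorem c20019467 : chkFrat M20234 E20014588 [5,7,124] [126,124,123] [5,7,124,1,8,16,32,128,512] [5,7,124,1,8,16,32,128,512] [(0,[1,2,4]),(0,[1,2,4]),(0,[1,2,4]),(32,[1,2,7]),(32,[1,2,7]),(32,[1,2,7]),(33,[2,1,4]),(0,[1,2,4]),(32,[1,2,7])] [⟨0,0,[],0,0,false⟩,⟨0,0,[],0,2,false⟩,⟨3,0,[⟨6,0,0,1⟩,⟨4,0,0,0⟩,⟨0,4,7,0⟩],2,2,false⟩,⟨5,0,[⟨6,0,0,0⟩,⟨4,0,0,1⟩,⟨4,1,0,2⟩,⟨0,4,7,0⟩,⟨5,0,8,0⟩],3,2,false⟩,⟨5,0,[⟨6,0,0,0⟩,⟨4,0,0,3⟩,⟨4,1,0,4⟩,⟨0,4,7,0⟩,⟨0,16,19,0⟩,⟨5,0,8,0⟩],4,5,false⟩,⟨2,0,[⟨6,0,0,1⟩,⟨4,0,0,5⟩,⟨4,4,0,6⟩,⟨4,8,0,7⟩,⟨0,1,2,0⟩],5,3,false⟩] [] = true := by decide +kernel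
theorem c20019537 : chkFrat M20234 E20014588 [5,7,124] [124,126,123] [5,7,124,1,8,16,32,128,512] [5,7,124,1,8,16,32,128,512] [(0,[1,2,4]),(0,[1,2,4]),(0,[1,2,4]),(32,[1,2,7]),(32,[1,2,7]),(32,[1,2,7]),(33,[2,1,4]),(0,[1,2,4]),(32,[1,2,7])] [⟨0,0,[],0,0,false⟩,⟨0,0,[],0,2,false⟩,⟨3,0,[⟨6,0,0,1⟩,⟨4,0,0,0⟩,⟨0,4,7,0⟩],2,2,false⟩,⟨5,0,[⟨6,0,0,0⟩,⟨4,0,0,1⟩,⟨4,1,0,2⟩,⟨0,4,7,0⟩,⟨5,0,8,0⟩],3,2,false⟩,⟨5,0,[⟨6,0,0,0⟩,⟨4,0,0,3⟩,⟨4,1,0,4⟩,⟨0,4,7,0⟩,⟨0,16,19,0⟩,⟨5,0,8,0⟩],4,5,false⟩,⟨2,0,[⟨6,0,0,1⟩,⟨4,0,0,5⟩,⟨4,4,0,6⟩,⟨4,8,0,7⟩,⟨0,1,2,0⟩],5,3,false⟩] [] = true := by decide +kernel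
theorem c20019605 : chkFrat M20234 E20014588 [5,7,124] [124,126,123] [5,7,124,1,8,16,32,128,512] [5,7,124,1,8,16,32,128,512] [(0,[1,2,4]),(0,[1,2,4]),(0,[1,2,4]),(32,[1,2,7]),(32,[1,2,7]),(32,[1,2,7]),(33,[2,1,4]),(0,[1,2,4]),(32,[1,2,7])] [⟨0,0,[],0,0,false⟩,⟨0,0,[],0,2,false⟩,⟨3,0,[⟨6,0,0,1⟩,⟨4,0,0,0⟩,⟨0,4,7,0⟩],2,2,false⟩,⟨5,0,[⟨6,0,0,0⟩,⟨4,0,0,1⟩,⟨4,1,0,2⟩,⟨0,4,7,0⟩,⟨5,0,8,0⟩],3,2,false⟩,⟨5,0,[⟨6,0,0,0⟩,⟨4,0,0,3⟩,⟨4,1,0,4⟩,⟨0,4,7,0⟩,⟨0,16,19,0⟩,⟨5,0,8,0⟩],4,5,false⟩,⟨2,0,[⟨6,0,0,1⟩,⟨4,0,0,5⟩,⟨4,4,0,6⟩,⟨4,8,0,7⟩,⟨0,1,2,0⟩],5,3,false⟩] [] = true := by decide +kernel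
theorem c20019635 : chkFrat M20234 E20014588 [5,7,124] [124,126,121] [5,7,124,1,8,16,32,128,512] [5,7,124,1,8,16,32,128,512] [(0,[1,2,4]),(0,[1,2,4]),(0,[1,2,4]),(32,[1,2,7]),(32,[1,2,7]),(32,[1,2,7]),(33,[2,1,4]),(0,[1,2,4]),(32,[1,2,7])] [⟨0,0,[],0,0,false⟩,⟨0,0,[],0,2,false⟩,⟨3,0,[⟨6,0,0,1⟩,⟨4,0,0,0⟩,⟨0,4,7,0⟩],2,2,false⟩,⟨5,0,[⟨6,0,0,0⟩,⟨4,0,0,1⟩,⟨4,1,0,2⟩,⟨0,4,7,0⟩,⟨5,0,8,0⟩],3,2,false⟩,⟨5,0,[⟨6,0,0,0⟩,⟨4,0,0,3⟩,⟨4,1,0,4⟩,⟨0,4,7,0⟩,⟨0,16,19,0⟩,⟨5,0,8,0⟩],4,5,false⟩,⟨2,0,[⟨6,0,0,1⟩,⟨4,0,0,5⟩,⟨4,4,0,6⟩,⟨4,8,0,7⟩,⟨0,1,2,0⟩],5,3,false⟩] [] = true := by decide +kernel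
theorem c20019693 : chkFrat M20234 E20014588 [5,7,124] [124,126,123] [5,7,124,1,8,16,32,128,512] [5,7,124,1,8,16,32,128,512] [(0,[1,2,4]),(0,[1,2,4]),(0,[1,2,4]),(32,[1,2,7]),(32,[1,2,7]),(32,[1,2,7]),(33,[2,1,4]),(0,[1,2,4]),(32,[1,2,7])] [⟨0,0,[],0,0,false⟩,⟨0,0,[],0,2,false⟩,⟨3,0,[⟨6,0,0,1⟩,⟨4,0,0,0⟩,⟨0,4,7,0⟩],2,2,false⟩,⟨5,0,[⟨6,0,0,0⟩,⟨4,0,0,1⟩,⟨4,1,0,2⟩,⟨0,4,7,0⟩,⟨5,0,8,0⟩],3,2,false⟩,⟨5,0,[⟨6,0,0,0⟩,⟨4,0,0,3⟩,⟨4,1,0,4⟩,⟨0,4,7,0⟩,⟨0,16,19,0⟩,⟨5,0,8,0⟩],4,5,false⟩,⟨2,0,[⟨6,0,0,1⟩,⟨4,0,0,5⟩,⟨4,4,0,6⟩,⟨4,8,0,7⟩,⟨0,1,2,0⟩],5,3,false⟩] [] = true := by decide +kernel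
theorem c20019759 : chkFrat M20234 E20014588 [5,7,124] [126,124,121] [5,7,124,1,8,16,32,128,512] [5,7,124,1,8,16,32,128,512] [(0,[1,2,4]),(0,[1,2,4]),(0,[1,2,4]),(32,[1,2,7]),(32,[1,2,7]),(32,[1,2,7]),(33,[2,1,4]),(0,[1,2,4]),(32,[1,2,7])] [⟨0,0,[],0,0,false⟩,⟨0,0,[],0,2,false⟩,⟨3,0,[⟨6,0,0,1⟩,⟨4,0,0,0⟩,⟨0,4,7,0⟩],2,2,false⟩,⟨5,0,[⟨6,0,0,0⟩,⟨4,0,0,1⟩,⟨4,1,0,2⟩,⟨0,4,7,0⟩,⟨5,0,8,0⟩],3,2,false⟩,⟨5,0,[⟨6,0,0,0⟩,⟨4,0,0,3⟩,⟨4,1,0,4⟩,⟨0,4,7,0⟩,⟨0,16,19,0⟩,⟨5,0,8,0⟩],4,5,false⟩,⟨2,0,[⟨6,0,0,1⟩,⟨4,0,0,5⟩,⟨4,4,0,6⟩,⟨4,8,0,7⟩,⟨0,1,2,0⟩],5,3,false⟩] [] = true := by decide +kernel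
theorem c20019829 : chkFrat M20234 E20014588 [5,7,124] [126,124,121] [5,7,124,1,8,16,32,128,512] [5,7,124,1,8,16,32,128,512] [(0,[1,2,4]),(0,[1,2,4]),(0,[1,2,4]),(32,[1,2,7]),(32,[1,2,7]),(32,[1,2,7]),(33,[2,1,4]),(0,[1,2,4]),(32,[1,2,7])] [⟨0,0,[],0,0,false⟩,⟨0,0,[],0,2,false⟩,⟨3,0,[⟨6,0,0,1⟩,⟨4,0,0,0⟩,⟨0,4,7,0⟩],2,2,false⟩,⟨5,0,[⟨6,0,0,0⟩,⟨4,0,0,1⟩,⟨4,1,0,2⟩,⟨0,4,7,0⟩,⟨5,0,8,0⟩],3,2,false⟩,⟨5,0,[⟨6,0,0,0⟩,⟨4,0,0,3⟩,⟨4,1,0,4⟩,⟨0,4,7,0⟩,⟨0,16,19,0⟩,⟨5,0,8,0⟩],4,5,false⟩,⟨2,0,[⟨6,0,0,1⟩,⟨4,0,0,5⟩,⟨4,4,0,6⟩,⟨4,8,0,7⟩,⟨0,1,2,0⟩],5,3,false⟩] [] = true := by decide +kernel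
theorem c20019853 : chkFrat M20234 E20014588 [5,7,124] [126,124,121] [5,7,124,1,8,16,32,128,512] [5,7,124,1,8,16,32,128,512] [(0,[1,2,4]),(0,[1,2,4]),(0,[1,2,4]),(32,[1,2,7]),(32,[1,2,7]),(32,[1,2,7]),(33,[2,1,4]),(0,[1,2,4]),(32,[1,2,7])] [⟨0,0,[],0,0,false⟩,⟨0,0,[],0,2,false⟩,⟨3,0,[⟨6,0,0,1⟩,⟨4,0,0,0⟩,⟨0,4,7,0⟩],2,2,false⟩,⟨5,0,[⟨6,0,0,0⟩,⟨4,0,0,1⟩,⟨4,1,0,2⟩,⟨0,4,7,0⟩,⟨5,0,8,0⟩],3,2,false⟩,⟨5,0,[⟨6,0,0,0⟩,⟨4,0,0,3⟩,⟨4,1,0,4⟩,⟨0,4,7,0⟩,⟨0,16,19,0⟩,⟨5,0,8,0⟩],4,5,false⟩,⟨2,0,[⟨6,0,0,1⟩,⟨4,0,0,5⟩,⟨4,4,0,6⟩,⟨4,8,0,7⟩,⟨0,1,2,0⟩],5,3,false⟩] [] = true := by decide +kernel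
theorem c20014887 : chkFrat M20234 E20014546 [5,7,124] [123,121,7] [5,7,124,1,8,16,32,128,512] [5,7,124,1,8,16,32,128,512] [(0,[1,2,4]),(0,[1,2,4]),(0,[1,2,4]),(33,[1,2,7]),(33,[1,2,7]),(33,[1,2,7]),(1,[2,1,4]),(0,[1,2,4]),(33,[1,2,7])] [⟨0,0,[],0,0,false⟩,⟨0,0,[],0,2,false⟩,⟨3,0,[⟨6,0,0,1⟩,⟨4,0,0,0⟩,⟨0,4,7,0⟩],2,2,false⟩] [] = true := by decide +kernel
theorem c20016342 : chkFrat M20234 E20014546 [5,7,124] [123,121,7] [5,7,124,1,8,16,32,128,512] [5,7,124,1,8,16,32,128,512] [(0,[1,2,4]),(0,[1,2,4]),(0,[1,2,4]),(33,[1,2,7]),(33,[1,2,7]),(33,[1,2,7]),(1,[2,1,4]),(0,[1,2,4]),(33,[1,2,7])] [⟨0,0,[],0,0,false⟩,⟨0,0,[],0,2,false⟩,⟨3,0,[⟨6,0,0,1⟩,⟨4,0,0,0⟩,⟨0,4,7,0⟩],2,2,false⟩] [] = true := by decide +kernel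
theorem c20016420 : chkFrat M20234 E20014546 [5,7,124] [121,123,7] [5,7,124,1,8,16,32,128,512] [5,7,124,1,8,16,32,128,512] [(0,[1,2,4]),(0,[1,2,4]),(0,[1,2,4]),(33,[1,2,7]),(33,[1,2,7]),(33,[1,2,7]),(1,[2,1,4]),(0,[1,2,4]),(33,[1,2,7])] [⟨0,0,[],0,0,false⟩,⟨0,0,[],0,2,false⟩,⟨3,0,[⟨6,0,0,1⟩,⟨4,0,0,0⟩,⟨0,4,7,0⟩],2,2,false⟩] [] = true := by decide +kernel
theorem c20016498 : chkFrat M20234 E20014546 [5,7,124] [121,123,5] [5,7,124,1,8,16,32,128,512] [5,7,124,1,8,16,32,128,512] [(0,[1,2,4]),(0,[1,2,4]),(0,[1,2,4]),(33,[1,2,7]),(33,[1,2,7]),(33,[1,2,7]),(1,[2,1,4]),(0,[1,2,4]),(33,[1,2,7])] [⟨0,0,[],0,0,false⟩,⟨0,0,[],0,2,false⟩,⟨3,0,[⟨6,0,0,1⟩,⟨4,0,0,0⟩,⟨0,4,7,0⟩],2,2,false⟩] [] = true := by decide +kernel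
theorem c20016654 : chkFrat M20234 E20014546 [5,7,124] [121,123,7] [5,7,124,1,8,16,32,128,512] [5,7,124,1,8,16,32,128,512] [(0,[1,2,4]),(0,[1,2,4]),(0,[1,2,4]),(33,[1,2,7]),(33,[1,2,7]),(33,[1,2,7]),(1,[2,1,4]),(0,[1,2,4]),(33,[1,2,7])] [⟨0,0,[],0,0,false⟩,⟨0,0,[],0,2,false⟩,⟨3,0,[⟨6,0,0,1⟩,⟨4,0,0,0⟩,⟨0,4,7,0⟩],2,2,false⟩] [] = true := by decide +kernel
theorem c20016736 : chkFrat M20234 E20014546 [5,7,124] [121,123,5] [5,7,124,1,8,16,32,128,512] [5,7,124,1,8,16,32,128,512] [(0,[1,2,4]),(0,[1,2,4]),(0,[1,2,4]),(33,[1,2,7]),(33,[1,2,7]),(33,[1,2,7]),(1,[2,1,4]),(0,[1,2,4]),(33,[1,2,7])] [⟨0,0,[],0,0,false⟩,⟨0,0,[],0,2,false⟩,⟨3,0,[⟨6,0,0,1⟩,⟨4,0,0,0⟩,⟨0,4,7,0⟩],2,2,false⟩] [] = true := by decide +kernel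
theorem c20016808 : chkFrat M20234 E20014546 [5,7,124] [123,121,5] [5,7,124,1,8,16,32,128,512] [5,7,124,1,8,16,32,128,512] [(0,[1,2,4]),(0,[1,2,4]),(0,[1,2,4]),(33,[1,2,7]),(33,[1,2,7]),(33,[1,2,7]),(1,[2,1,4]),(0,[1,2,4]),(33,[1,2,7])] [⟨0,0,[],0,0,false⟩,⟨0,0,[],0,2,false⟩,⟨3,0,[⟨6,0,0,1⟩,⟨4,0,0,0⟩,⟨0,4,7,0⟩],2,2,false⟩] [] = true := by decide +kernel
theorem c20016878 : chkFrat M20234 E20014546 [5,7,124] [123,121,7] [5,7,124,1,8,16,32,128,512] [5,7,124,1,8,16,32,128,512] [(0,[1,2,4]),(0,[1,2,4]),(0,[1,2,4]),(33,[1,2,7]),(33,[1,2,7]),(33,[1,2,7]),(1,[2,1,4]),(0,[1,2,4]),(33,[1,2,7])] [⟨0,0,[],0,0,false⟩,⟨0,0,[],0,2,false⟩,⟨3,0,[⟨6,0,0,1⟩,⟨4,0,0,0⟩,⟨0,4,7,0⟩],2,2,false⟩] [] = true := by decide +kernel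
theorem c20016936 : chkFrat M20234 E20014546 [5,7,124] [123,121,5] [5,7,124,1,8,16,32,128,512] [5,7,124,1,8,16,32,128,512] [(0,[1,2,4]),(0,[1,2,4]),(0,[1,2,4]),(33,[1,2,7]),(33,[1,2,7]),(33,[1,2,7]),(1,[2,1,4]),(0,[1,2,4]),(33,[1,2,7])] [⟨0,0,[],0,0,false⟩,⟨0,0,[],0,2,false⟩,⟨3,0,[⟨6,0,0,1⟩,⟨4,0,0,0⟩,⟨0,4,7,0⟩],2,2,false⟩] [] = true := by decide +kernel
theorem c20017070 : chkFrat M20234 E20014546 [5,7,124] [121,123,5] [5,7,124,1,8,16,32,128,512] [5,7,124,1,8,16,32,128,512] [(0,[1,2,4]),(0,[1,2,4]),(0,[1,2,4]),(33,[1,2,7]),(33,[1,2,7]),(33,[1,2,7]),(1,[2,1,4]),(0,[1,2,4]),(33,[1,2,7])] [⟨0,0,[],0,0,false⟩,⟨0,0,[],0,2,false⟩,⟨3,0,[⟨6,0,0,1⟩,⟨4,0,0,0⟩,⟨0,4,7,0⟩],2,2,false⟩] [] = true := by decide +kernel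
theorem c20017140 : chkFrat M20234 E20014546 [5,7,124] [123,121,5] [5,7,124,1,8,16,32,128,512] [5,7,124,1,8,16,32,128,512] [(0,[1,2,4]),(0,[1,2,4]),(0,[1,2,4]),(33,[1,2,7]),(33,[1,2,7]),(33,[1,2,7]),(1,[2,1,4]),(0,[1,2,4]),(33,[1,2,7])] [⟨0,0,[],0,0,false⟩,⟨0,0,[],0,2,false⟩,⟨3,0,[⟨6,0,0,1⟩,⟨4,0,0,0⟩,⟨0,4,7,0⟩],2,2,false⟩] [] = true := by decide +kernel
theorem c20017200 : chkFrat M20234 E20014546 [5,7,124] [121,123,5] [5,7,124,1,8,16,32,128,512] [5,7,124,1,8,16,32,128,512] [(0,[1,2,4]),(0,[1,2,4]),(0,[1,2,4]),(33,[1,2,7]),(33,[1,2,7]),(33,[1,2,7]),(1,[2,1,4]),(0,[1,2,4]),(33,[1,2,7])] [⟨0,0,[],0,0,false⟩,⟨0,0,[],0,2,false⟩,⟨3,0,[⟨6,0,0,1⟩,⟨4,0,0,0⟩,⟨0,4,7,0⟩],2,2,false⟩] [] = true := by decide +kernel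
theorem c20017270 : chkFrat M20234 E20014546 [5,7,124] [121,123,5] [5,7,124,1,8,16,32,128,512] [5,7,124,1,8,16,32,128,512] [(0,[1,2,4]),(0,[1,2,4]),(0,[1,2,4]),(33,[1,2,7]),(33,[1,2,7]),(33,[1,2,7]),(1,[2,1,4]),(0,[1,2,4]),(33,[1,2,7])] [⟨0,0,[],0,0,false⟩,⟨0,0,[],0,2,false⟩,⟨3,0,[⟨6,0,0,1⟩,⟨4,0,0,0⟩,⟨0,4,7,0⟩],2,2,false⟩] [] = true := by decide +kernel
theorem c20017340 : chkFrat M20234 E20014546 [5,7,124] [123,121,7] [5,7,124,1,8,16,32,128,512] [5,7,124,1,8,16,32,128,512] [(0,[1,2,4]),(0,[1,2,4]),(0,[1,2,4]),(33,[1,2,7]),(33,[1,2,7]),(33,[1,2,7]),(1,[2,1,4]),(0,[1,2,4]),(33,[1,2,7])] [⟨0,0,[],0,0,false⟩,⟨0,0,[],0,2,false⟩,⟨3,0,[⟨6,0,0,1⟩,⟨4,0,0,0⟩,⟨0,4,7,0⟩],2,2,false⟩] [] = true := by decide +kernel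
theorem c20017418 : chkFrat M20234 E20014546 [5,7,124] [123,121,7] [5,7,124,1,8,16,32,128,512] [5,7,124,1,8,16,32,128,512] [(0,[1,2,4]),(0,[1,2,4]),(0,[1,2,4]),(33,[1,2,7]),(33,[1,2,7]),(33,[1,2,7]),(1,[2,1,4]),(0,[1,2,4]),(33,[1,2,7])] [⟨0,0,[],0,0,false⟩,⟨0,0,[],0,2,false⟩,⟨3,0,[⟨6,0,0,1⟩,⟨4,0,0,0⟩,⟨0,4,7,0⟩],2,2,false⟩] [] = true := by decide +kernel
theorem c20017488 : chkFrat M20234 E20014546 [5,7,124] [121,123,7] [5,7,124,1,8,16,32,128,512] [5,7,124,1,8,16,32,128,512] [(0,[1,2,4]),(0,[1,2,4]),(0,[1,2,4]),(33,[1,2,7]),(33,[1,2,7]),(33,[1,2,7]),(1,[2,1,4]),(0,[1,2,4]),(33,[1,2,7])] [⟨0,0,[],0,0,false⟩,⟨0,0,[],0,2,false⟩,⟨3,0,[⟨6,0,0,1⟩,⟨4,0,0,0⟩,⟨0,4,7,0⟩],2,2,false⟩] [] = true := by decide +kernel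
theorem c20017558 : chkFrat M20234 E20014546 [5,7,124] [121,123,7] [5,7,124,1,8,16,32,128,512] [5,7,124,1,8,16,32,128,512] [(0,[1,2,4]),(0,[1,2,4]),(0,[1,2,4]),(33,[1,2,7]),(33,[1,2,7]),(33,[1,2,7]),(1,[2,1,4]),(0,[1,2,4]),(33,[1,2,7])] [⟨0,0,[],0,0,false⟩,⟨0,0,[],0,2,false⟩,⟨3,0,[⟨6,0,0,1⟩,⟨4,0,0,0⟩,⟨0,4,7,0⟩],2,2,false⟩] [] = true := by decide +kernel
theorem c20017628 : chkFrat M20234 E20014546 [5,7,124] [123,121,7] [5,7,124,1,8,16,32,128,512] [5,7,124,1,8,16,32,128,512] [(0,[1,2,4]),(0,[1,2,4]),(0,[1,2,4]),(33,[1,2,7]),(33,[1,2,7]),(33,[1,2,7]),(1,[2,1,4]),(0,[1,2,4]),(33,[1,2,7])] [⟨0,0,[],0,0,false⟩,⟨0,0,[],0,2,false⟩,⟨3,0,[⟨6,0,0,1⟩,⟨4,0,0,0⟩,⟨0,4,7,0⟩],2,2,false⟩] [] = true := by decide +kernel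
theorem c20017764 : chkFrat M20234 E20014546 [5,7,124] [123,121,5] [5,7,124,1,8,16,32,128,512] [5,7,124,1,8,16,32,128,512] [(0,[1,2,4]),(0,[1,2,4]),(0,[1,2,4]),(33,[1,2,7]),(33,[1,2,7]),(33,[1,2,7]),(1,[2,1,4]),(0,[1,2,4]),(33,[1,2,7])] [⟨0,0,[],0,0,false⟩,⟨0,0,[],0,2,false⟩,⟨3,0,[⟨6,0,0,1⟩,⟨4,0,0,0⟩,⟨0,4,7,0⟩],2,2,false⟩] [] = true := by decide +kernel
theorem c20017856 : chkFrat M20234 E20014546 [5,7,124] [121,123,7] [5,7,124,1,8,16,32,128,512] [5,7,124,1,8,16,32,128,512] [(0,[1,2,4]),(0,[1,2,4]),(0,[1,2,4]),(33,[1,2,7]),(33,[1,2,7]),(33,[1,2,7]),(1,[2,1,4]),(0,[1,2,4]),(33,[1,2,7])] [⟨0,0,[],0,0,false⟩,⟨0,0,[],0,2,false⟩,⟨3,0,[⟨6,0,0,1⟩,⟨4,0,0,0⟩,⟨0,4,7,0⟩],2,2,false⟩] [] = true := by decide +kernel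
theorem c20017940 : chkFrat M20234 E20014546 [5,7,124] [123,121,7] [5,7,124,1,8,16,32,128,512] [5,7,124,1,8,16,32,128,512] [(0,[1,2,4]),(0,[1,2,4]),(0,[1,2,4]),(33,[1,2,7]),(33,[1,2,7]),(33,[1,2,7]),(1,[2,1,4]),(0,[1,2,4]),(33,[1,2,7])] [⟨0,0,[],0,0,false⟩,⟨0,0,[],0,2,false⟩,⟨3,0,[⟨6,0,0,1⟩,⟨4,0,0,0⟩,⟨0,4,7,0⟩],2,2,false⟩] [] = true := by decide +kernel
theorem c20018010 : chkFrat M20234 E20014546 [5,7,124] [123,121,5] [5,7,124,1,8,16,32,128,512] [5,7,124,1,8,16,32,128,512] [(0,[1,2,4]),(0,[1,2,4]),(0,[1,2,4]),(33,[1,2,7]),(33,[1,2,7]),(33,[1,2,7]),(1,[2,1,4]),(0,[1,2,4]),(33,[1,2,7])] [⟨0,0,[],0,0,false⟩,⟨0,0,[],0,2,false⟩,⟨3,0,[⟨6,0,0,1⟩,⟨4,0,0,0⟩,⟨0,4,7,0⟩],2,2,false⟩] [] = true := by decide +kernel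
theorem c20018080 : chkFrat M20234 E20014546 [5,7,124] [121,123,5] [5,7,124,1,8,16,32,128,512] [5,7,124,1,8,16,32,128,512] [(0,[1,2,4]),(0,[1,2,4]),(0,[1,2,4]),(33,[1,2,7]),(33,[1,2,7]),(33,[1,2,7]),(1,[2,1,4]),(0,[1,2,4]),(33,[1,2,7])] [⟨0,0,[],0,0,false⟩,⟨0,0,[],0,2,false⟩,⟨3,0,[⟨6,0,0,1⟩,⟨4,0,0,0⟩,⟨0,4,7,0⟩],2,2,false⟩] [] = true := by decide +kernel
theorem c20018138 : chkFrat M20234 E20014546 [5,7,124] [121,123,7] [5,7,124,1,8,16,32,128,512] [5,7,124,1,8,16,32,128,512] [(0,[1,2,4]),(0,[1,2,4]),(0,[1,2,4]),(33,[1,2,7]),(33,[1,2,7]),(33,[1,2,7]),(1,[2,1,4]),(0,[1,2,4]),(33,[1,2,7])] [⟨0,0,[],0,0,false⟩,⟨0,0,[],0,2,false⟩,⟨3,0,[⟨6,0,0,1⟩,⟨4,0,0,0⟩,⟨0,4,7,0⟩],2,2,false⟩] [] = true := by decide +kernel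
theorem c20018196 : chkFrat M20234 E20014546 [5,7,124] [123,121,7] [5,7,124,1,8,16,32,128,512] [5,7,124,1,8,16,32,128,512] [(0,[1,2,4]),(0,[1,2,4]),(0,[1,2,4]),(33,[1,2,7]),(33,[1,2,7]),(33,[1,2,7]),(1,[2,1,4]),(0,[1,2,4]),(33,[1,2,7])] [⟨0,0,[],0,0,false⟩,⟨0,0,[],0,2,false⟩,⟨3,0,[⟨6,0,0,1⟩,⟨4,0,0,0⟩,⟨0,4,7,0⟩],2,2,false⟩] [] = true := by decide +kernel
theorem c20018220 : chkFrat M20234 E20014546 [5,7,124] [121,123,5] [5,7,124,1,8,16,32,128,512] [5,7,124,1,8,16,32,128,512] [(0,[1,2,4]),(0,[1,2,4]),(0,[1,2,4]),(33,[1,2,7]),(33,[1,2,7]),(33,[1,2,7]),(1,[2,1,4]),(0,[1,2,4]),(33,[1,2,7])] [⟨0,0,[],0,0,false⟩,⟨0,0,[],0,2,false⟩,⟨3,0,[⟨6,0,0,1⟩,⟨4,0,0,0⟩,⟨0,4,7,0⟩],2,2,false⟩] [] = true := by decide +kernel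
theorem c20018280 : chkFrat M20234 E20014546 [5,7,124] [123,121,7] [5,7,124,1,8,16,32,128,512] [5,7,124,1,8,16,32,128,512] [(0,[1,2,4]),(0,[1,2,4]),(0,[1,2,4]),(33,[1,2,7]),(33,[1,2,7]),(33,[1,2,7]),(1,[2,1,4]),(0,[1,2,4]),(33,[1,2,7])] [⟨0,0,[],0,0,false⟩,⟨0,0,[],0,2,false⟩,⟨3,0,[⟨6,0,0,1⟩,⟨4,0,0,0⟩,⟨0,4,7,0⟩],2,2,false⟩] [] = true := by decide +kernel
theorem c20018338 : chkFrat M20234 E20014546 [5,7,124] [123,121,7] [5,7,124,1,8,16,32,128,512] [5,7,124,1,8,16,32,128,512] [(0,[1,2,4]),(0,[1,2,4]),(0,[1,2,4]),(33,[1,2,7]),(33,[1,2,7]),(33,[1,2,7]),(1,[2,1,4]),(0,[1,2,4]),(33,[1,2,7])] [⟨0,0,[],0,0,false⟩,⟨0,0,[],0,2,false⟩,⟨3,0,[⟨6,0,0,1⟩,⟨4,0,0,0⟩,⟨0,4,7,0⟩],2,2,false⟩] [] = true := by decide +kernel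
theorem c20018362 : chkFrat M20234 E20014546 [5,7,124] [123,121,7] [5,7,124,1,8,16,32,128,512] [5,7,124,1,8,16,32,128,512] [(0,[1,2,4]),(0,[1,2,4]),(0,[1,2,4]),(33,[1,2,7]),(33,[1,2,7]),(33,[1,2,7]),(1,[2,1,4]),(0,[1,2,4]),(33,[1,2,7])] [⟨0,0,[],0,0,false⟩,⟨0,0,[],0,2,false⟩,⟨3,0,[⟨6,0,0,1⟩,⟨4,0,0,0⟩,⟨0,4,7,0⟩],2,2,false⟩] [] = true := by decide +kernel
theorem c20018430 : chkFrat M20234 E20014546 [5,7,124] [121,123,7] [5,7,124,1,8,16,32,128,512] [5,7,124,1,8,16,32,128,512] [(0,[1,2,4]),(0,[1,2,4]),(0,[1,2,4]),(33,[1,2,7]),(33,[1,2,7]),(33,[1,2,7]),(1,[2,1,4]),(0,[1,2,4]),(33,[1,2,7])] [⟨0,0,[],0,0,false⟩,⟨0,0,[],0,2,false⟩,⟨3,0,[⟨6,0,0,1⟩,⟨4,0,0,0⟩,⟨0,4,7,0⟩],2,2,false⟩] [] = true := by decide +kernel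
theorem c20018454 : chkFrat M20234 E20014546 [5,7,124] [123,121,7] [5,7,124,1,8,16,32,128,512] [5,7,124,1,8,16,32,128,512] [(0,[1,2,4]),(0,[1,2,4]),(0,[1,2,4]),(33,[1,2,7]),(33,[1,2,7]),(33,[1,2,7]),(1,[2,1,4]),(0,[1,2,4]),(33,[1,2,7])] [⟨0,0,[],0,0,false⟩,⟨0,0,[],0,2,false⟩,⟨3,0,[⟨6,0,0,1⟩,⟨4,0,0,0⟩,⟨0,4,7,0⟩],2,2,false⟩] [] = true := by decide +kernel
theorem c20018512 : chkFrat M20234 E20014546 [5,7,124] [123,121,5] [5,7,124,1,8,16,32,128,512] [5,7,124,1,8,16,32,128,512] [(0,[1,2,4]),(0,[1,2,4]),(0,[1,2,4]),(33,[1,2,7]),(33,[1,2,7]),(33,[1,2,7]),(1,[2,1,4]),(0,[1,2,4]),(33,[1,2,7])] [⟨0,0,[],0,0,false⟩,⟨0,0,[],0,2,false⟩,⟨3,0,[⟨6,0,0,1⟩,⟨4,0,0,0⟩,⟨0,4,7,0⟩],2,2,false⟩] [] = true := by decide +kernel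
theorem c20018578 : chkFrat M20234 E20014546 [5,7,124] [123,121,7] [5,7,124,1,8,16,32,128,512] [5,7,124,1,8,16,32,128,512] [(0,[1,2,4]),(0,[1,2,4]),(0,[1,2,4]),(33,[1,2,7]),(33,[1,2,7]),(33,[1,2,7]),(1,[2,1,4]),(0,[1,2,4]),(33,[1,2,7])] [⟨0,0,[],0,0,false⟩,⟨0,0,[],0,2,false⟩,⟨3,0,[⟨6,0,0,1⟩,⟨4,0,0,0⟩,⟨0,4,7,0⟩],2,2,false⟩] [] = true := by decide +kernel
theorem c20018602 : chkFrat M20234 E20014546 [5,7,124] [121,123,7] [5,7,124,1,8,16,32,128,512] [5,7,124,1,8,16,32,128,512] [(0,[1,2,4]),(0,[1,2,4]),(0,[1,2,4]),(33,[1,2,7]),(33,[1,2,7]),(33,[1,2,7]),(1,[2,1,4]),(0,[1,2,4]),(33,[1,2,7])] [⟨0,0,[],0,0,false⟩,⟨0,0,[],0,2,false⟩,⟨3,0,[⟨6,0,0,1⟩,⟨4,0,0,0⟩,⟨0,4,7,0⟩],2,2,false⟩] [] = true := by decide +kernel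
theorem c20018672 : chkFrat M20234 E20014546 [5,7,124] [121,123,5] [5,7,124,1,8,16,32,128,512] [5,7,124,1,8,16,32,128,512] [(0,[1,2,4]),(0,[1,2,4]),(0,[1,2,4]),(33,[1,2,7]),(33,[1,2,7]),(33,[1,2,7]),(1,[2,1,4]),(0,[1,2,4]),(33,[1,2,7])] [⟨0,0,[],0,0,false⟩,⟨0,0,[],0,2,false⟩,⟨3,0,[⟨6,0,0,1⟩,⟨4,0,0,0⟩,⟨0,4,7,0⟩],2,2,false⟩] [] = true := by decide +kernel
theorem c20018742 : chkFrat M20234 E20014546 [5,7,124] [121,123,5] [5,7,124,1,8,16,32,128,512] [5,7,124,1,8,16,32,128,512] [(0,[1,2,4]),(0,[1,2,4]),(0,[1,2,4]),(33,[1,2,7]),(33,[1,2,7]),(33,[1,2,7]),(1,[2,1,4]),(0,[1,2,4]),(33,[1,2,7])] [⟨0,0,[],0,0,false⟩,⟨0,0,[],0,2,false⟩,⟨3,0,[⟨6,0,0,1⟩,⟨4,0,0,0⟩,⟨0,4,7,0⟩],2,2,false⟩] [] = true := by decide +kernel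
theorem c20018812 : chkFrat M20234 E20014546 [5,7,124] [121,123,7] [5,7,124,1,8,16,32,128,512] [5,7,124,1,8,16,32,128,512] [(0,[1,2,4]),(0,[1,2,4]),(0,[1,2,4]),(33,[1,2,7]),(33,[1,2,7]),(33,[1,2,7]),(1,[2,1,4]),(0,[1,2,4]),(33,[1,2,7])] [⟨0,0,[],0,0,false⟩,⟨0,0,[],0,2,false⟩,⟨3,0,[⟨6,0,0,1⟩,⟨4,0,0,0⟩,⟨0,4,7,0⟩],2,2,false⟩] [] = true := by decide +kernel
theorem c20018968 : chkFrat M20234 E20014546 [5,7,124] [123,121,5] [5,7,124,1,8,16,32,128,512] [5,7,124,1,8,16,32,128,512] [(0,[1,2,4]),(0,[1,2,4]),(0,[1,2,4]),(33,[1,2,7]),(33,[1,2,7]),(33,[1,2,7]),(1,[2,1,4]),(0,[1,2,4]),(33,[1,2,7])] [⟨0,0,[],0,0,false⟩,⟨0,0,[],0,2,false⟩,⟨3,0,[⟨6,0,0,1⟩,⟨4,0,0,0⟩,⟨0,4,7,0⟩],2,2,false⟩] [] = true := by decide +kernel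
theorem c20019194 : chkFrat M20234 E20014546 [5,7,124] [121,123,5] [5,7,124,1,8,16,32,128,512] [5,7,124,1,8,16,32,128,512] [(0,[1,2,4]),(0,[1,2,4]),(0,[1,2,4]),(33,[1,2,7]),(33,[1,2,7]),(33,[1,2,7]),(1,[2,1,4]),(0,[1,2,4]),(33,[1,2,7])] [⟨0,0,[],0,0,false⟩,⟨0,0,[],0,2,false⟩,⟨3,0,[⟨6,0,0,1⟩,⟨4,0,0,0⟩,⟨0,4,7,0⟩],2,2,false⟩] [] = true := by decide +kernel
theorem c20019334 : chkFrat M20234 E20014546 [5,7,124] [121,123,5] [5,7,124,1,8,16,32,128,512] [5,7,124,1,8,16,32,128,512] [(0,[1,2,4]),(0,[1,2,4]),(0,[1,2,4]),(33,[1,2,7]),(33,[1,2,7]),(33,[1,2,7]),(1,[2,1,4]),(0,[1,2,4]),(33,[1,2,7])] [⟨0,0,[],0,0,false⟩,⟨0,0,[],0,2,false⟩,⟨3,0,[⟨6,0,0,1⟩,⟨4,0,0,0⟩,⟨0,4,7,0⟩],2,2,false⟩] [] = true := by decide +kernel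
theorem c20019404 : chkFrat M20234 E20014546 [5,7,124] [121,123,7] [5,7,124,1,8,16,32,128,512] [5,7,124,1,8,16,32,128,512] [(0,[1,2,4]),(0,[1,2,4]),(0,[1,2,4]),(33,[1,2,7]),(33,[1,2,7]),(33,[1,2,7]),(1,[2,1,4]),(0,[1,2,4]),(33,[1,2,7])] [⟨0,0,[],0,0,false⟩,⟨0,0,[],0,2,false⟩,⟨3,0,[⟨6,0,0,1⟩,⟨4,0,0,0⟩,⟨0,4,7,0⟩],2,2,false⟩] [] = true := by decide +kernel
theorem c20019560 : chkFrat M20234 E20014546 [5,7,124] [123,121,5] [5,7,124,1,8,16,32,128,512] [5,7,124,1,8,16,32,128,512] [(0,[1,2,4]),(0,[1,2,4]),(0,[1,2,4]),(33,[1,2,7]),(33,[1,2,7]),(33,[1,2,7]),(1,[2,1,4]),(0,[1,2,4]),(33,[1,2,7])] [⟨0,0,[],0,0,false⟩,⟨0,0,[],0,2,false⟩,⟨3,0,[⟨6,0,0,1⟩,⟨4,0,0,0⟩,⟨0,4,7,0⟩],2,2,false⟩] [] = true := by decide +kernel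
theorem c20019786 : chkFrat M20234 E20014546 [5,7,124] [121,123,5] [5,7,124,1,8,16,32,128,512] [5,7,124,1,8,16,32,128,512] [(0,[1,2,4]),(0,[1,2,4]),(0,[1,2,4]),(33,[1,2,7]),(33,[1,2,7]),(33,[1,2,7]),(1,[2,1,4]),(0,[1,2,4]),(33,[1,2,7])] [⟨0,0,[],0,0,false⟩,⟨0,0,[],0,2,false⟩,⟨3,0,[⟨6,0,0,1⟩,⟨4,0,0,0⟩,⟨0,4,7,0⟩],2,2,false⟩] [] = true := by decide +kernel
theorem c20016857 : chkFrat M20234 E20016357 [528,533,530,622,24,33,137,257] [319,284,317,359,62,66,808,466] [528,533,530,622,24,33,137,257,1] [528,533,530,622,24,33,137,257,1] [(317,[1,2,4,8,21,47,74,143]),(284,[1,2,4,8,21,42,74,128]),(317,[1,2,4,8,21,47,74,143]),(284,[1,2,4,8,21,42,74,128]),(60,[4,7,1,13,16,37,64,138]),(57,[14,8,11,2,21,32,79,128]),(808,[11,8,14,2,16,47,64,133]),(425,[14,2,11,8,26,32,69,128]),(61,[2,1,7,14,16,32,95,160])] [⟨0,0,[],0,0,false⟩,⟨0,0,[],0,0,false⟩,⟨0,0,[],0,0,false⟩,⟨0,0,[],0,0,false⟩,⟨0,0,[],0,0,false⟩,⟨0,0,[],0,0,false⟩,⟨0,0,[],0,0,false⟩,⟨2,0,[⟨6,0,0,1⟩,⟨4,0,0,0⟩,⟨4,3,0,1⟩,⟨0,1,2,0⟩,⟨0,32,32,0⟩,⟨7,0,16,0⟩],1,0,false⟩]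 [] = true := by decide +kernel
theorem c20017473 : chkFrat M20234 E20016357 [528,533,530,622,24,33,137,257] [324,286,326,357,69,64,808,466] [528,533,530,622,24,33,137,257,1] [528,533,530,622,24,33,137,257,1] [(317,[1,2,4,8,21,47,74,143]),(284,[1,2,4,8,21,42,74,128]),(317,[1,2,4,8,21,47,74,143]),(284,[1,2,4,8,21,42,74,128]),(60,[4,7,1,13,16,37,64,138]),(57,[14,8,11,2,21,32,79,128]),(808,[11,8,14,2,16,47,64,133]),(425,[14,2,11,8,26,32,69,128]),(25,[2,1,7,14,16,32,95,160])] [⟨0,0,[],0,0,false⟩,⟨0,0,[],0,0,false⟩,⟨0,0,[],0,0,false⟩,⟨0,0,[],0,0,false⟩,⟨0,0,[],0,0,false⟩,⟨0,0,[],0,0,false⟩,⟨0,0,[],0,0,false⟩,⟨2,0,[⟨6,0,0,1⟩,⟨4,0,0,0⟩,⟨4,3,0,1⟩,⟨0,1,2,0⟩,⟨0,32,32,0⟩,⟨7,0,16,0⟩],1,0,false⟩] [] = true := by decide +kernel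
theorem c20018033 : chkFrat M20234 E20016357 [528,533,530,622,24,33,137,257] [319,359,317,284,69,57,808,466] [528,533,530,622,24,33,137,257,1] [528,533,530,622,24,33,137,257,1] [(317,[1,2,4,8,21,47,74,143]),(284,[1,2,4,8,21,42,74,128]),(317,[1,2,4,8,21,47,74,143]),(284,[1,2,4,8,21,42,74,128]),(60,[4,7,1,13,16,37,64,138]),(57,[14,8,11,2,21,32,79,128]),(808,[11,8,14,2,16,47,64,133]),(425,[14,2,11,8,26,32,69,128]),(37,[2,1,7,14,16,32,95,160])] [⟨0,0,[],0,0,false⟩,⟨0,0,[],0,0,false⟩,⟨0,0,[],0,0,false⟩,⟨0,0,[],0,0,false⟩,⟨0,0,[],0,0,false⟩,⟨0,0,[],0,0,false⟩,⟨0,0,[],0,0,false⟩,⟨2,0,[⟨6,0,0,1⟩,⟨4,0,0,0⟩,⟨4,3,0,1⟩,⟨0,1,2,0⟩,⟨0,32,32,0⟩,⟨7,0,16,0⟩],1,0,false⟩] [] = true := by decide +kernel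
theorem c20018657 : chkFrat M20234 E20016357 [528,533,530,622,24,33,137,257] [324,286,326,357,69,64,808,466] [528,533,530,622,24,33,137,257,1] [528,533,530,622,24,33,137,257,1] [(317,[1,2,4,8,21,47,74,143]),(284,[1,2,4,8,21,42,74,128]),(317,[1,2,4,8,21,47,74,143]),(284,[1,2,4,8,21,42,74,128]),(60,[4,7,1,13,16,37,64,138]),(57,[14,8,11,2,21,32,79,128]),(808,[11,8,14,2,16,47,64,133]),(425,[14,2,11,8,26,32,69,128]),(25,[2,1,7,14,16,32,95,160])] [⟨0,0,[],0,0,false⟩,⟨0,0,[],0,0,false⟩,⟨0,0,[],0,0,false⟩,⟨0,0,[],0,0,false⟩,⟨0,0,[],0,0,false⟩,⟨0,0,[],0,0,false⟩,⟨0,0,[],0,0,false⟩,⟨2,0,[⟨6,0,0,1⟩,⟨4,0,0,0⟩,⟨4,3,0,1⟩,⟨0,1,2,0⟩,⟨0,32,32,0⟩,⟨7,0,16,0⟩],1,0,false⟩] [] = true := by decide +kernel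
theorem c20019217 : chkFrat M20234 E20016357 [528,533,530,622,24,33,137,257] [319,284,317,359,62,66,808,466] [528,533,530,622,24,33,137,257,1] [528,533,530,622,24,33,137,257,1] [(317,[1,2,4,8,21,47,74,143]),(284,[1,2,4,8,21,42,74,128]),(317,[1,2,4,8,21,47,74,143]),(284,[1,2,4,8,21,42,74,128]),(60,[4,7,1,13,16,37,64,138]),(57,[14,8,11,2,21,32,79,128]),(808,[11,8,14,2,16,47,64,133]),(425,[14,2,11,8,26,32,69,128]),(61,[2,1,7,14,16,32,95,160])] [⟨0,0,[],0,0,false⟩,⟨0,0,[],0,0,false⟩,⟨0,0,[],0,0,false⟩,⟨0,0,[],0,0,false⟩,⟨0,0,[],0,0,false⟩,⟨0,0,[],0,0,false⟩,⟨0,0,[],0,0,false⟩,⟨2,0,[⟨6,0,0,1⟩,⟨4,0,0,0⟩,⟨4,3,0,1⟩,⟨0,1,2,0⟩,⟨0,32,32,0⟩,⟨7,0,16,0⟩],1,0,false⟩] [] = true := by decide +kernel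
theorem c20019809 : chkFrat M20234 E20016357 [528,533,530,622,24,33,137,257] [319,284,317,359,62,66,808,466] [528,533,530,622,24,33,137,257,1] [528,533,530,622,24,33,137,257,1] [(317,[1,2,4,8,21,47,74,143]),(284,[1,2,4,8,21,42,74,128]),(317,[1,2,4,8,21,47,74,143]),(284,[1,2,4,8,21,42,74,128]),(60,[4,7,1,13,16,37,64,138]),(57,[14,8,11,2,21,32,79,128]),(808,[11,8,14,2,16,47,64,133]),(425,[14,2,11,8,26,32,69,128]),(61,[2,1,7,14,16,32,95,160])] [⟨0,0,[],0,0,false⟩,⟨0,0,[],0,0,false⟩,⟨0,0,[],0,0,false⟩,⟨0,0,[],0,0,false⟩,⟨0,0,[],0,0,false⟩,⟨0,0,[],0,0,false⟩,⟨0,0,[],0,0,false⟩,⟨2,0,[⟨6,0,0,1⟩,⟨4,0,0,0⟩,⟨4,3,0,1⟩,⟨0,1,2,0⟩,⟨0,32,32,0⟩,⟨7,0,16,0⟩],1,0,false⟩] [] = true := by decide +kernel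
theorem c20016547 : chkLift M20234 D20234 E20016323 [528,533,530,622,24,33,137,257] [528,533,530,622,24,33,137,259] [528,533,530,622,24,33,137,257,1,8] [(1,[2,1,7,14,16,32,95,160]),(0,[1,2,4,8,16,32,64,128]),(4,[2,1,7,14,16,37,95,170]),(8,[4,7,1,8,21,48,80,234]),(16,[1,2,4,13,21,53,80,229]),(32,[8,14,13,1,21,32,85,160]),(57,[11,13,14,7,21,37,79,138]),(128,[13,14,8,4,21,63,74,223]),(256,[2,14,7,1,26,32,80,160]),(512,[1,2,4,13,16,63,95,239])] 0 [1,2,4,8,16,32,64,133] [⟨0,0,[],0,0,false⟩,⟨0,0,[],0,0,false⟩,⟨0,0,[],0,0,false⟩,⟨0,0,[],0,0,false⟩,⟨0,0,[],0,0,false⟩,⟨0,0,[],0,0,false⟩,⟨0,0,[],0,0,false⟩,⟨1,2,[⟨4,0,0,0⟩,⟨0,8,14,0⟩,⟨0,32,32,0⟩],1,0,false⟩,⟨1,4,[⟨4,0,0,1⟩,⟨4,3,0,2⟩,⟨0,8,8,0⟩,⟨0,16,21,0⟩,⟨0,32,48,0⟩],0,0,false⟩] [] [256,5,259,512,533,288,63,842,416,532] [([528,533,530,622,24,33,137,259,1,8],[]),([528,533,530,622,24,33,137,259,1,10],[])]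 [] = true := by decide +kernel
theorem c20017148 : chkLift M20234 D20234 E20016323 [528,533,530,622,24,33,137,257] [530,535,528,620,24,35,137,378] [528,533,530,622,24,33,137,257,1,8] [(1,[2,1,7,14,16,32,95,160]),(0,[1,2,4,8,16,32,64,128]),(4,[2,1,7,14,16,37,95,170]),(8,[4,7,1,8,21,48,80,234]),(16,[1,2,4,13,21,53,80,229]),(32,[8,14,13,1,21,32,85,160]),(57,[11,13,14,7,21,37,79,138]),(128,[13,14,8,4,21,63,74,223]),(256,[2,14,7,1,26,32,80,160]),(512,[1,2,4,13,16,63,95,239])] 0 [4,7,1,13,16,37,64,143] [⟨0,0,[],0,0,false⟩,⟨0,0,[],0,0,false⟩,⟨0,0,[],0,0,false⟩,⟨0,0,[],0,0,false⟩,⟨0,0,[],0,0,false⟩,⟨0,0,[],0,0,false⟩,⟨0,0,[],0,0,false⟩,⟨1,2,[⟨4,0,0,0⟩,⟨0,8,14,0⟩,⟨0,32,32,0⟩],1,0,false⟩,⟨1,4,[⟨4,0,0,1⟩,⟨4,3,0,2⟩,⟨0,8,8,0⟩,⟨0,16,21,0⟩,⟨0,32,48,0⟩],0,0,false⟩] [] [256,5,259,512,533,288,63,842,416,532] [([530,535,528,620,24,35,137,378,1,8],[]),([530,535,528,620,24,35,137,378,1,10],[])]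 [] = true := by decide +kernel
theorem c20017734 : chkLift M20234 D20234 E20016323 [528,533,530,622,24,33,137,257] [530,535,528,620,24,33,137,257] [528,533,530,622,24,33,137,257,1,8] [(1,[2,1,7,14,16,32,95,160]),(0,[1,2,4,8,16,32,64,128]),(4,[2,1,7,14,16,37,95,170]),(8,[4,7,1,8,21,48,80,234]),(16,[1,2,4,13,21,53,80,229]),(32,[8,14,13,1,21,32,85,160]),(57,[11,13,14,7,21,37,79,138]),(128,[13,14,8,4,21,63,74,223]),(256,[2,14,7,1,26,32,80,160]),(512,[1,2,4,13,16,63,95,239])] 0 [4,7,1,13,16,32,64,128] [⟨0,0,[],0,0,false⟩,⟨0,0,[],0,0,false⟩,⟨0,0,[],0,0,false⟩,⟨0,0,[],0,0,false⟩,⟨0,0,[],0,0,false⟩,⟨0,0,[],0,0,false⟩,⟨0,0,[],0,0,false⟩,⟨1,2,[⟨4,0,0,0⟩,⟨0,8,14,0⟩,⟨0,32,32,0⟩],1,0,false⟩,⟨1,4,[⟨4,0,0,1⟩,⟨4,3,0,2⟩,⟨0,8,8,0⟩,⟨0,16,21,0⟩,⟨0,32,48,0⟩],0,0,false⟩] [] [256,5,259,512,533,288,63,842,416,532] [([530,535,528,620,24,33,137,257,1,8],[]),([530,535,528,620,24,33,137,257,1,10],[])]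 [] = true := by decide +kernel
theorem c20018485 : chkLift M20234 D20234 E20016323 [528,533,530,622,24,33,137,257] [530,535,528,620,24,35,137,378] [528,533,530,622,24,33,137,257,1,8] [(1,[2,1,7,14,16,32,95,160]),(0,[1,2,4,8,16,32,64,128]),(4,[2,1,7,14,16,37,95,170]),(8,[4,7,1,8,21,48,80,234]),(16,[1,2,4,13,21,53,80,229]),(32,[8,14,13,1,21,32,85,160]),(57,[11,13,14,7,21,37,79,138]),(128,[13,14,8,4,21,63,74,223]),(256,[2,14,7,1,26,32,80,160]),(512,[1,2,4,13,16,63,95,239])] 0 [4,7,1,13,16,37,64,143] [⟨0,0,[],0,0,false⟩,⟨0,0,[],0,0,false⟩,⟨0,0,[],0,0,false⟩,⟨0,0,[],0,0,false⟩,⟨0,0,[],0,0,false⟩,⟨0,0,[],0,0,false⟩,⟨0,0,[],0,0,false⟩,⟨1,2,[⟨4,0,0,0⟩,⟨0,8,14,0⟩,⟨0,32,32,0⟩],1,0,false⟩,⟨1,4,[⟨4,0,0,1⟩,⟨4,3,0,2⟩,⟨0,8,8,0⟩,⟨0,16,21,0⟩,⟨0,32,48,0⟩],0,0,false⟩] [] [256,5,259,512,533,288,63,842,416,532] [([530,535,528,620,24,35,137,378,1,8],[]),([530,535,528,620,24,35,137,378,1,10],[])]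 [] = true := by decide +kernel
theorem c20019158 : chkLift M20234 D20234 E20016323 [528,533,530,622,24,33,137,257] [530,535,528,620,24,33,137,257] [528,533,530,622,24,33,137,257,1,8] [(1,[2,1,7,14,16,32,95,160]),(0,[1,2,4,8,16,32,64,128]),(4,[2,1,7,14,16,37,95,170]),(8,[4,7,1,8,21,48,80,234]),(16,[1,2,4,13,21,53,80,229]),(32,[8,14,13,1,21,32,85,160]),(57,[11,13,14,7,21,37,79,138]),(128,[13,14,8,4,21,63,74,223]),(256,[2,14,7,1,26,32,80,160]),(512,[1,2,4,13,16,63,95,239])] 0 [4,7,1,13,16,32,64,128] [⟨0,0,[],0,0,false⟩,⟨0,0,[],0,0,false⟩,⟨0,0,[],0,0,false⟩,⟨0,0,[],0,0,false⟩,⟨0,0,[],0,0,false⟩,⟨0,0,[],0,0,false⟩,⟨0,0,[],0,0,false⟩,⟨1,2,[⟨4,0,0,0⟩,⟨0,8,14,0⟩,⟨0,32,32,0⟩],1,0,false⟩,⟨1,4,[⟨4,0,0,1⟩,⟨4,3,0,2⟩,⟨0,8,8,0⟩,⟨0,16,21,0⟩,⟨0,32,48,0⟩],0,0,false⟩] [] [256,5,259,512,533,288,63,842,416,532] [([530,535,528,620,24,33,137,257,1,8],[]),([530,535,528,620,24,33,137,257,1,10],[])]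 [] = true := by decide +kernel
theorem c20019817 : chkLift M20234 D20234 E20016323 [528,533,530,622,24,33,137,257] [528,533,530,622,24,33,137,259] [528,533,530,622,24,33,137,257,1,8] [(1,[2,1,7,14,16,32,95,160]),(0,[1,2,4,8,16,32,64,128]),(4,[2,1,7,14,16,37,95,170]),(8,[4,7,1,8,21,48,80,234]),(16,[1,2,4,13,21,53,80,229]),(32,[8,14,13,1,21,32,85,160]),(57,[11,13,14,7,21,37,79,138]),(128,[13,14,8,4,21,63,74,223]),(256,[2,14,7,1,26,32,80,160]),(512,[1,2,4,13,16,63,95,239])] 0 [1,2,4,8,16,32,64,133] [⟨0,0,[],0,0,false⟩,⟨0,0,[],0,0,false⟩,⟨0,0,[],0,0,false⟩,⟨0,0,[],0,0,false⟩,⟨0,0,[],0,0,false⟩,⟨0,0,[],0,0,false⟩,⟨0,0,[],0,0,false⟩,⟨1,2,[⟨4,0,0,0⟩,⟨0,8,14,0⟩,⟨0,32,32,0⟩],1,0,false⟩,⟨1,4,[⟨4,0,0,1⟩,⟨4,3,0,2⟩,⟨0,8,8,0⟩,⟨0,16,21,0⟩,⟨0,32,48,0⟩],0,0,false⟩] [] [256,5,259,512,533,288,63,842,416,532] [([528,533,530,622,24,33,137,259,1,8],[]),([528,533,530,622,24,33,137,259,1,10],[])]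 [] = true := by decide +kernel
theorem c20016362 : chkLift M20234 D20234 E20014166 [520,525,522,630,8,16,33,129,257] [627,628,625,527,16,8,35,224,378] [520,525,522,630,8,16,33,129,257,1] [(1,[2,1,7,14,16,32,64,186,320]),(0,[1,2,4,8,16,32,64,128,256]),(4,[2,1,7,14,16,32,69,186,335]),(16,[1,2,4,13,16,37,112,181,495]),(8,[4,7,1,8,21,32,117,176,485]),(32,[8,14,13,1,32,16,64,128,320]),(64,[11,13,14,7,32,16,69,186,271]),(225,[13,14,8,4,37,21,122,186,431]),(377,[13,4,8,11,250,197,64,101,320]),(609,[1,2,4,13,16,32,122,186,490])] 0 [11,13,14,7,32,16,69,186,266] [⟨0,0,[],0,0,false⟩,⟨0,0,[],0,0,false⟩,⟨0,0,[],0,0,false⟩,⟨0,0,[],0,0,false⟩,⟨0,0,[],0,0,false⟩,⟨0,0,[],0,0,false⟩,⟨0,0,[],0,0,false⟩,⟨0,0,[],0,0,false⟩,⟨1,2,[⟨4,0,0,0⟩,⟨0,8,14,0⟩,⟨0,64,64,0⟩],0,0,false⟩] [] [512,5,515,16,32,576,122,698,832,17] [([627,628,625,527,16,8,35,224,378,3],[]),([627,628,625,527,16,8,35,224,378,1],[])]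 [] = true := by decide +kernel
theorem c20016631 : chkLift M20234 D20234 E20014166 [520,525,522,630,8,16,33,129,257] [520,525,522,630,8,16,35,129,376] [520,525,522,630,8,16,33,129,257,1] [(1,[2,1,7,14,16,32,64,186,320]),(0,[1,2,4,8,16,32,64,128,256]),(4,[2,1,7,14,16,32,69,186,335]),(8,[1,2,4,13,16,37,112,181,495]),(16,[4,7,1,8,21,32,117,176,485]),(32,[8,14,13,1,32,16,64,128,320]),(64,[11,13,14,7,32,16,69,186,271]),(128,[13,14,8,4,37,21,122,186,431]),(377,[13,4,8,11,250,197,64,101,320]),(512,[1,2,4,13,16,32,122,186,490])] 0 [1,2,4,8,16,32,69,128,271] [⟨0,0,[],0,0,false⟩,⟨0,0,[],0,0,false⟩,⟨0,0,[],0,0,false⟩,⟨0,0,[],0,0,false⟩,⟨0,0,[],0,0,false⟩,⟨0,0,[],0,0,false⟩,⟨0,0,[],0,0,false⟩,⟨0,0,[],0,0,false⟩,⟨1,2,[⟨4,0,0,0⟩,⟨0,8,14,0⟩,⟨0,64,64,0⟩],0,0,false⟩] [] [512,5,515,16,32,576,122,698,832,17] [([520,525,522,630,8,16,35,129,376,3],[]),([520,525,522,630,8,16,35,129,376,1],[])]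 [] = true := by decide +kernel
theorem c20016924 : chkLift M20234 D20234 E20014166 [520,525,522,630,8,16,33,129,257] [520,525,522,630,8,16,33,129,259] [520,525,522,630,8,16,33,129,257,1] [(1,[2,1,7,14,16,32,64,186,320]),(0,[1,2,4,8,16,32,64,128,256]),(4,[2,1,7,14,16,32,69,186,335]),(8,[1,2,4,13,16,37,112,181,495]),(16,[4,7,1,8,21,32,117,176,485]),(32,[8,14,13,1,32,16,64,128,320]),(64,[11,13,14,7,32,16,69,186,271]),(128,[13,14,8,4,37,21,122,186,431]),(256,[13,4,8,11,250,197,64,101,320]),(512,[1,2,4,13,16,32,122,186,490])] 0 [1,2,4,8,16,32,64,128,261] [⟨0,0,[],0,0,false⟩,⟨0,0,[],0,0,false⟩,⟨0,0,[],0,0,false⟩,⟨0,0,[],0,0,false⟩,⟨0,0,[],0,0,false⟩,⟨0,0,[],0,0,false⟩,⟨0,0,[],0,0,false⟩,⟨0,0,[],0,0,false⟩,⟨1,2,[⟨4,0,0,0⟩,⟨0,8,14,0⟩,⟨0,64,64,0⟩],0,0,false⟩] [] [512,5,515,16,32,576,122,698,832,17] [([520,525,522,630,8,16,33,129,259,3],[]),([520,525,522,630,8,16,33,129,259,1],[])]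 [] = true := by decide +kernel
theorem c20017228 : chkLift M20234 D20234 E20014166 [520,525,522,630,8,16,33,129,257] [520,525,522,630,8,16,33,129,259] [520,525,522,630,8,16,33,129,257,1] [(1,[2,1,7,14,16,32,64,186,320]),(0,[1,2,4,8,16,32,64,128,256]),(4,[2,1,7,14,16,32,69,186,335]),(8,[1,2,4,13,16,37,112,181,495]),(16,[4,7,1,8,21,32,117,176,485]),(32,[8,14,13,1,32,16,64,128,320]),(64,[11,13,14,7,32,16,69,186,271]),(128,[13,14,8,4,37,21,122,186,431]),(256,[13,4,8,11,250,197,64,101,320]),(512,[1,2,4,13,16,32,122,186,490])] 0 [1,2,4,8,16,32,64,128,261] [⟨0,0,[],0,0,false⟩,⟨0,0,[],0,0,false⟩,⟨0,0,[],0,0,false⟩,⟨0,0,[],0,0,false⟩,⟨0,0,[],0,0,false⟩,⟨0,0,[],0,0,false⟩,⟨0,0,[],0,0,false⟩,⟨0,0,[],0,0,false⟩,⟨1,2,[⟨4,0,0,0⟩,⟨0,8,14,0⟩,⟨0,64,64,0⟩],0,0,false⟩] [] [512,5,515,16,32,576,122,698,832,17] [([520,525,522,630,8,16,33,129,259,3],[]),([520,525,522,630,8,16,33,129,259,1],[])]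 [] = true := by decide +kernel
theorem c20017511 : chkLift M20234 D20234 E20014166 [520,525,522,630,8,16,33,129,257] [627,628,625,527,16,8,33,224,257] [520,525,522,630,8,16,33,129,257,1] [(1,[2,1,7,14,16,32,64,186,320]),(0,[1,2,4,8,16,32,64,128,256]),(4,[2,1,7,14,16,32,69,186,335]),(16,[1,2,4,13,16,37,112,181,495]),(8,[4,7,1,8,21,32,117,176,485]),(32,[8,14,13,1,32,16,64,128,320]),(64,[11,13,14,7,32,16,69,186,271]),(225,[13,14,8,4,37,21,122,186,431]),(256,[13,4,8,11,250,197,64,101,320]),(609,[1,2,4,13,16,32,122,186,490])] 0 [11,13,14,7,32,16,64,186,256] [⟨0,0,[],0,0,false⟩,⟨0,0,[],0,0,false⟩,⟨0,0,[],0,0,false⟩,⟨0,0,[],0,0,false⟩,⟨0,0,[],0,0,false⟩,⟨0,0,[],0,0,false⟩,⟨0,0,[],0,0,false⟩,⟨0,0,[],0,0,false⟩,⟨1,2,[⟨4,0,0,0⟩,⟨0,8,14,0⟩,⟨0,64,64,0⟩],0,0,false⟩] [] [512,5,515,16,32,576,122,698,832,17] [([627,628,625,527,16,8,33,224,257,3],[]),([627,628,625,527,16,8,33,224,257,1],[])]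 [] = true := by decide +kernel
theorem c20017815 : chkLift M20234 D20234 E20014166 [520,525,522,630,8,16,33,129,257] [520,525,522,630,8,16,35,129,376] [520,525,522,630,8,16,33,129,257,1] [(1,[2,1,7,14,16,32,64,186,320]),(0,[1,2,4,8,16,32,64,128,256]),(4,[2,1,7,14,16,32,69,186,335]),(8,[1,2,4,13,16,37,112,181,495]),(16,[4,7,1,8,21,32,117,176,485]),(32,[8,14,13,1,32,16,64,128,320]),(64,[11,13,14,7,32,16,69,186,271]),(128,[13,14,8,4,37,21,122,186,431]),(377,[13,4,8,11,250,197,64,101,320]),(512,[1,2,4,13,16,32,122,186,490])] 0 [1,2,4,8,16,32,69,128,271] [⟨0,0,[],0,0,false⟩,⟨0,0,[],0,0,false⟩,⟨0,0,[],0,0,false⟩,⟨0,0,[],0,0,false⟩,⟨0,0,[],0,0,false⟩,⟨0,0,[],0,0,false⟩,⟨0,0,[],0,0,false⟩,⟨0,0,[],0,0,false⟩,⟨1,2,[⟨4,0,0,0⟩,⟨0,8,14,0⟩,⟨0,64,64,0⟩],0,0,false⟩] [] [512,5,515,16,32,576,122,698,832,17] [([520,525,522,630,8,16,35,129,376,3],[]),([520,525,522,630,8,16,35,129,376,1],[])]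 [] = true := by decide +kernel
theorem c20018103 : chkLift M20234 D20234 E20014166 [520,525,522,630,8,16,33,129,257] [520,525,522,630,8,16,35,129,376] [520,525,522,630,8,16,33,129,257,1] [(1,[2,1,7,14,16,32,64,186,320]),(0,[1,2,4,8,16,32,64,128,256]),(4,[2,1,7,14,16,32,69,186,335]),(8,[1,2,4,13,16,37,112,181,495]),(16,[4,7,1,8,21,32,117,176,485]),(32,[8,14,13,1,32,16,64,128,320]),(64,[11,13,14,7,32,16,69,186,271]),(128,[13,14,8,4,37,21,122,186,431]),(377,[13,4,8,11,250,197,64,101,320]),(512,[1,2,4,13,16,32,122,186,490])] 0 [1,2,4,8,16,32,69,128,271] [⟨0,0,[],0,0,false⟩,⟨0,0,[],0,0,false⟩,⟨0,0,[],0,0,false⟩,⟨0,0,[],0,0,false⟩,⟨0,0,[],0,0,false⟩,⟨0,0,[],0,0,false⟩,⟨0,0,[],0,0,false⟩,⟨0,0,[],0,0,false⟩,⟨1,2,[⟨4,0,0,0⟩,⟨0,8,14,0⟩,⟨0,64,64,0⟩],0,0,false⟩] [] [512,5,515,16,32,576,122,698,832,17] [([520,525,522,630,8,16,35,129,376,3],[]),([520,525,522,630,8,16,35,129,376,1],[])]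 [] = true := by decide +kernel
theorem c20018412 : chkLift M20234 D20234 E20014166 [520,525,522,630,8,16,33,129,257] [520,525,522,630,8,16,33,129,259] [520,525,522,630,8,16,33,129,257,1] [(1,[2,1,7,14,16,32,64,186,320]),(0,[1,2,4,8,16,32,64,128,256]),(4,[2,1,7,14,16,32,69,186,335]),(8,[1,2,4,13,16,37,112,181,495]),(16,[4,7,1,8,21,32,117,176,485]),(32,[8,14,13,1,32,16,64,128,320]),(64,[11,13,14,7,32,16,69,186,271]),(128,[13,14,8,4,37,21,122,186,431]),(256,[13,4,8,11,250,197,64,101,320]),(512,[1,2,4,13,16,32,122,186,490])] 0 [1,2,4,8,16,32,64,128,261] [⟨0,0,[],0,0,false⟩,⟨0,0,[],0,0,false⟩,⟨0,0,[],0,0,false⟩,⟨0,0,[],0,0,false⟩,⟨0,0,[],0,0,false⟩,⟨0,0,[],0,0,false⟩,⟨0,0,[],0,0,false⟩,⟨0,0,[],0,0,false⟩,⟨1,2,[⟨4,0,0,0⟩,⟨0,8,14,0⟩,⟨0,64,64,0⟩],0,0,false⟩] [] [512,5,515,16,32,576,122,698,832,17] [([520,525,522,630,8,16,33,129,259,3],[]),([520,525,522,630,8,16,33,129,259,1],[])]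 [] = true := by decide +kernel
theorem c20018701 : chkLift M20234 D20234 E20014166 [520,525,522,630,8,16,33,129,257] [625,630,627,525,16,8,33,224,259] [520,525,522,630,8,16,33,129,257,1] [(1,[2,1,7,14,16,32,64,186,320]),(0,[1,2,4,8,16,32,64,128,256]),(4,[2,1,7,14,16,32,69,186,335]),(16,[1,2,4,13,16,37,112,181,495]),(8,[4,7,1,8,21,32,117,176,485]),(32,[8,14,13,1,32,16,64,128,320]),(64,[11,13,14,7,32,16,69,186,271]),(225,[13,14,8,4,37,21,122,186,431]),(256,[13,4,8,11,250,197,64,101,320]),(609,[1,2,4,13,16,32,122,186,490])] 0 [14,8,11,2,32,16,64,186,261] [⟨0,0,[],0,0,false⟩,⟨0,0,[],0,0,false⟩,⟨0,0,[],0,0,false⟩,⟨0,0,[],0,0,false⟩,⟨0,0,[],0,0,false⟩,⟨0,0,[],0,0,false⟩,⟨0,0,[],0,0,false⟩,⟨0,0,[],0,0,false⟩,⟨1,2,[⟨4,0,0,0⟩,⟨0,8,14,0⟩,⟨0,64,64,0⟩],0,0,false⟩] [] [512,5,515,16,32,576,122,698,832,17] [([625,630,627,525,16,8,33,224,259,3],[]),([625,630,627,525,16,8,33,224,259,1],[])]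 [] = true := by decide +kernel
theorem c20018999 : chkLift M20234 D20234 E20014166 [520,525,522,630,8,16,33,129,257] [627,628,625,527,16,8,33,224,257] [520,525,522,630,8,16,33,129,257,1] [(1,[2,1,7,14,16,32,64,186,320]),(0,[1,2,4,8,16,32,64,128,256]),(4,[2,1,7,14,16,32,69,186,335]),(16,[1,2,4,13,16,37,112,181,495]),(8,[4,7,1,8,21,32,117,176,485]),(32,[8,14,13,1,32,16,64,128,320]),(64,[11,13,14,7,32,16,69,186,271]),(225,[13,14,8,4,37,21,122,186,431]),(256,[13,4,8,11,250,197,64,101,320]),(609,[1,2,4,13,16,32,122,186,490])] 0 [11,13,14,7,32,16,64,186,256] [⟨0,0,[],0,0,false⟩,⟨0,0,[],0,0,false⟩,⟨0,0,[],0,0,false⟩,⟨0,0,[],0,0,false⟩,⟨0,0,[],0,0,false⟩,⟨0,0,[],0,0,false⟩,⟨0,0,[],0,0,false⟩,⟨0,0,[],0,0,false⟩,⟨1,2,[⟨4,0,0,0⟩,⟨0,8,14,0⟩,⟨0,64,64,0⟩],0,0,false⟩] [] [512,5,515,16,32,576,122,698,832,17] [([627,628,625,527,16,8,33,224,257,3],[]),([627,628,625,527,16,8,33,224,257,1],[])]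 [] = true := by decide +kernel
theorem c20019293 : chkLift M20234 D20234 E20014166 [520,525,522,630,8,16,33,129,257] [625,630,627,525,16,8,33,224,259] [520,525,522,630,8,16,33,129,257,1] [(1,[2,1,7,14,16,32,64,186,320]),(0,[1,2,4,8,16,32,64,128,256]),(4,[2,1,7,14,16,32,69,186,335]),(16,[1,2,4,13,16,37,112,181,495]),(8,[4,7,1,8,21,32,117,176,485]),(32,[8,14,13,1,32,16,64,128,320]),(64,[11,13,14,7,32,16,69,186,271]),(225,[13,14,8,4,37,21,122,186,431]),(256,[13,4,8,11,250,197,64,101,320]),(609,[1,2,4,13,16,32,122,186,490])] 0 [14,8,11,2,32,16,64,186,261] [⟨0,0,[],0,0,false⟩,⟨0,0,[],0,0,false⟩,⟨0,0,[],0,0,false⟩,⟨0,0,[],0,0,false⟩,⟨0,0,[],0,0,false⟩,⟨0,0,[],0,0,false⟩,⟨0,0,[],0,0,false⟩,⟨0,0,[],0,0,false⟩,⟨1,2,[⟨4,0,0,0⟩,⟨0,8,14,0⟩,⟨0,64,64,0⟩],0,0,false⟩] [] [512,5,515,16,32,576,122,698,832,17] [([625,630,627,525,16,8,33,224,259,3],[]),([625,630,627,525,16,8,33,224,259,1],[])]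 [] = true := by decide +kernel
theorem c20019591 : chkLift M20234 D20234 E20014166 [520,525,522,630,8,16,33,129,257] [627,628,625,527,16,8,33,224,257] [520,525,522,630,8,16,33,129,257,1] [(1,[2,1,7,14,16,32,64,186,320]),(0,[1,2,4,8,16,32,64,128,256]),(4,[2,1,7,14,16,32,69,186,335]),(16,[1,2,4,13,16,37,112,181,495]),(8,[4,7,1,8,21,32,117,176,485]),(32,[8,14,13,1,32,16,64,128,320]),(64,[11,13,14,7,32,16,69,186,271]),(225,[13,14,8,4,37,21,122,186,431]),(256,[13,4,8,11,250,197,64,101,320]),(609,[1,2,4,13,16,32,122,186,490])] 0 [11,13,14,7,32,16,64,186,256] [⟨0,0,[],0,0,false⟩,⟨0,0,[],0,0,false⟩,⟨0,0,[],0,0,false⟩,⟨0,0,[],0,0,false⟩,⟨0,0,[],0,0,false⟩,⟨0,0,[],0,0,false⟩,⟨0,0,[],0,0,false⟩,⟨0,0,[],0,0,false⟩,⟨1,2,[⟨4,0,0,0⟩,⟨0,8,14,0⟩,⟨0,64,64,0⟩],0,0,false⟩] [] [512,5,515,16,32,576,122,698,832,17] [([627,628,625,527,16,8,33,224,257,3],[]),([627,628,625,527,16,8,33,224,257,1],[])]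 [] = true := by decide +kernel
theorem c20014230 : chkFrat M20234 E20000004 [1,2,4,8,16,96] [104,2,109,123,10,11] [1,2,4,8,16,96,160,512] [1,2,4,8,16,96,160,512] [(104,[1,2,4,8,16,34]),(0,[1,2,4,8,16,32]),(104,[1,2,4,8,16,34]),(121,[1,2,4,8,18,32]),(8,[1,2,4,10,16,32]),(9,[3,2,6,8,16,32]),(160,[32,2,39,10,18,1]),(617,[4,2,1,8,16,39])] [⟨0,0,[],0,0,false⟩,⟨0,0,[],0,0,false⟩,⟨0,0,[],0,0,false⟩,⟨0,0,[],0,0,false⟩,⟨0,0,[],0,0,false⟩,⟨2,0,[⟨0,1,32,0⟩,⟨0,8,10,0⟩,⟨0,16,18,0⟩,⟨0,32,1,0⟩,⟨1,0,0,0⟩],1,0,false⟩,⟨2,0,[⟨0,1,4,0⟩,⟨0,8,8,0⟩,⟨0,16,16,0⟩,⟨0,32,39,0⟩,⟨0,64,64,0⟩],0,0,false⟩] [([1,2,4,8,16,96,160,512],[104,2,109,123,10,11,160,617]),([1,2,4,8,16,96,160,512],[104,2,109,123,10,11,160,619])] = true := by decide +kernel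
theorem c20016205 : chkCF M20234 (5,Z20014556) [1,9] = true := by decide +kernel
theorem c20019890 : chkRb M20234 [1,2,4,8,16,32,64,128,256,514] D20234 = true := by decide +kernel
theorem c20016634 : chkDer M20234 [([528,533,530,622,24,33,137,257],[59,461,57,438,1022,619,283,175])] [(0,8,[]),(2,0,[42,156,47,150,205,4,240,121]),(0,543,[]),(1,0,[48,243,53,252,189,1,159,124]),(0,1,[]),(2,0,[252,58,249,48,184,1,40,120]),(0,541,[]),(1,0,[150,37,147,42,200,4,55,120]),(0,1,[]),(0,8,[]),(0,1,[]),(2,0,[150,37,147,47,205,204,240,68]),(0,543,[]),(1,0,[252,58,249,53,189,185,159,94]),(0,1,[]),(2,0,[48,243,53,249,184,188,40,231]),(0,541,[]),(1,0,[42,156,47,147,200,201,55,141])] ([528,533,530,622,24,33,137,257],[530,535,528,620,24,35,137,378]) = true := by decide +kernel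
theorem c20019664 : chkDer M20234 [([528,533,530,622,24,33,137,257],[326,90,324,33,880,436,491,741])] [(0,8,[]),(2,0,[195,63,198,53,145,153,191,66]),(0,543,[]),(1,0,[179,32,182,47,254,246,202,88]),(0,1,[]),(2,0,[47,185,42,179,251,243,59,161]),(0,541,[]),(1,0,[53,204,48,195,148,156,33,209]),(0,1,[]),(0,8,[]),(0,1,[]),(2,0,[53,204,48,198,145,13,191,108]),(0,543,[]),(1,0,[47,185,42,182,254,13,202,105]),(0,1,[]),(2,0,[179,32,182,42,251,13,59,100]),(0,541,[]),(1,0,[195,63,198,48,148,13,33,97])] ([528,533,530,622,24,33,137,257],[530,535,528,620,24,35,137,378]) = true := by decide +kernel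
theorem c20017293 : chkDer M20234 [([528,533,530,622,24,33,137,257],[326,33,324,90,777,461,491,670])] [(0,8,[]),(2,0,[198,58,195,48,148,150,181,72]),(0,543,[]),(1,0,[182,37,179,42,251,252,197,87]),(0,1,[]),(2,0,[37,182,32,188,251,252,62,171]),(0,541,[]),(1,0,[58,198,63,201,148,150,36,222]),(0,1,[]),(0,8,[]),(0,1,[]),(2,0,[63,195,58,201,145,2,186,102]),(0,543,[]),(1,0,[32,179,37,188,254,7,207,102]),(0,1,[]),(2,0,[179,32,182,42,254,7,49,100]),(0,541,[]),(1,0,[195,63,198,48,145,2,46,97])] ([528,533,530,622,24,33,137,257],[528,533,530,622,24,33,137,259]) = true := by decide +kernel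
theorem c20018704 : chkDer M20234 [([528,533,530,622,24,33,137,257],[57,438,59,461,903,528,281,173])] [(0,8,[]),(2,0,[37,156,32,150,199,1,245,118]),(0,543,[]),(1,0,[58,243,63,252,178,4,154,118]),(0,1,[]),(2,0,[252,48,249,58,183,4,34,119]),(0,541,[]),(1,0,[150,42,147,37,194,1,56,114]),(0,1,[]),(0,8,[]),(0,1,[]),(2,0,[150,42,147,32,199,195,245,68]),(0,543,[]),(1,0,[252,48,249,63,178,179,154,94]),(0,1,[]),(2,0,[58,243,63,249,183,182,34,237]),(0,541,[]),(1,0,[37,156,32,147,194,198,56,130])] ([528,533,530,622,24,33,137,257],[530,535,528,620,24,35,137,378]) = true := by decide +kernel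
theorem c20018037 : chkDer M20234 [([104,2,109,123,9,128,33,257,513],[106,123,111,121,225,9,319,206,634]),([520,525,522,630,8,16,33,129,257],[124,522,126,625,193,16,345,505,33])] [(0,455,[]),(1,0,[257,268,259,262,19,91,41,240]),(2,1,[231,230,232,227,479,369,229,320]),(1,0,[380,125,372,127,233,497,120,192]),(2,1,[146,431,152,416,165,173,420,122]),(1,0,[293,161,303,169,43,310,400,81]),(1,1,[8,211,13,217,58,152,71,476])] ([528,533,530,622,24,33,137,257],[625,703,627,708,168,922,898,741]) = true := by decide +kernel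
theorem c20017730 : chkDer M20234 [([104,2,109,123,9,128,33,257,513],[106,123,111,121,225,9,319,206,634]),([520,525,522,630,8,16,33,129,257],[527,126,525,7,160,16,376,370,347])] [(0,455,[]),(1,0,[257,268,259,262,19,91,41,240]),(2,1,[214,209,217,212,368,152,218,69]),(1,0,[102,352,110,354,219,303,107,66]),(2,1,[271,158,261,145,165,11,264,471]),(1,0,[136,296,130,288,43,282,444,452]),(2,1,[61,9,56,3,213,406,422,161])] ([528,533,530,622,24,33,137,257],[622,124,620,5,170,494,502,760]) = true := by decide +kernel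
theorem c20018260 : chkDer M20234 [([104,2,109,123,9,128,33,257,513],[106,123,111,121,225,9,319,206,634]),([520,525,522,630,8,16,33,129,257],[525,5,527,124,8,193,376,441,290])] [(0,257,[]),(1,0,[259,268,257,260,19,64,50,128]),(2,1,[220,219,211,209,373,466,415,55]),(1,0,[108,362,100,352,217,454,184,270]),(1,1,[325,466,335,471,309,311,115,55]),(1,0,[72,220,66,222,176,181,472,119])] ([528,533,530,622,24,33,137,257],[324,286,326,357,69,64,808,466]) = true := by decide +kernel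
theorem c20017170 : chkDer M20234 [([104,2,109,123,9,128,33,257,513],[106,123,111,121,225,9,319,206,634]),([520,525,522,630,8,16,33,129,257],[628,126,630,7,193,8,376,360,347])] [(0,64,[]),(1,0,[257,262,259,270,25,66,58,136]),(2,1,[217,219,214,209,383,466,400,55]),(1,0,[110,362,102,352,211,454,176,270]),(1,1,[330,466,320,471,304,311,121,55]),(1,0,[74,212,64,214,186,181,464,125])] ([528,533,530,622,24,33,137,257],[317,359,319,284,71,64,851,464]) = true := by decide +kernel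
theorem c20017605 : chkDer M20234 [([104,2,109,123,9,128,33,257,513],[106,123,111,121,225,9,319,206,634]),([520,525,522,630,8,16,33,129,257],[5,625,7,522,16,193,345,339,33])] [(0,64,[]),(1,0,[257,262,259,270,25,66,58,136]),(1,1,[49,61,62,55,154,377,160,230]),(1,0,[108,360,100,354,219,454,186,268]),(2,1,[79,374,69,371,400,403,484,236]),(1,0,[72,220,66,222,176,181,472,119])] ([528,533,530,622,24,33,137,257],[324,286,326,357,69,64,808,466]) = true := by decide +kernel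
theorem c20016551 : chkDer M20234 [([104,2,109,123,9,128,33,257,513],[106,123,111,121,225,9,319,206,634]),([520,525,522,630,8,16,33,129,257],[7,520,5,627,8,160,345,329,33])] [(0,257,[]),(1,0,[259,268,257,260,19,64,50,128]),(1,1,[62,56,49,50,159,374,170,236]),(1,0,[110,362,102,352,219,460,186,270]),(2,1,[64,380,74,377,405,409,484,236]),(1,0,[64,214,74,212,178,191,472,119])] ([528,533,530,622,24,33,137,257],[319,284,317,359,62,66,808,466]) = true := by decide +kernel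
theorem c20018413 : chkDer M20234 [([104,2,109,123,9,128,33,257,513],[106,123,111,121,225,9,319,206,634]),([520,525,522,630,8,16,33,129,257],[7,520,5,627,8,160,345,329,33])] [(0,257,[]),(1,0,[259,268,257,260,19,64,50,128]),(1,1,[62,56,49,50,159,374,170,236]),(1,0,[110,362,102,352,219,460,186,270]),(2,1,[64,380,74,377,405,409,484,236]),(1,0,[64,214,74,212,178,191,472,119])] ([528,533,530,622,24,33,137,257],[319,284,317,359,62,66,808,466]) = true := by decide +kernel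
theorem c20017824 : chkDer M20234 [([104,2,109,123,9,128,33,257,513],[106,123,111,121,225,9,319,206,634]),([520,525,522,630,8,16,33,129,257],[527,126,525,7,160,16,376,368,290])] [(1,0,[265,268,267,260,27,64,48,128]),(1,1,[59,56,52,50,149,374,165,236]),(1,0,[372,127,380,117,233,298,147,362]),(2,1,[473,117,467,112,314,6,322,158]),(1,0,[238,89,228,91,145,7,493,296])] ([528,533,530,622,24,33,137,257],[407,463,405,438,95,126,991,520]) = true := by decide +kernel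
theorem c20017732 : chkDer M20234 [([528,533,530,622,24,33,137,257],[622,124,620,5,170,494,502,760])] [(0,1,[]),(2,0,[14,6,11,12,106,246,230,87]),(2,0,[12,13,9,2,112,188,220,231]),(2,0,[2,4,7,14,21,48,74,218]),(0,1,[]),(1,0,[1,7,4,8,21,48,80,234]),(1,0,[8,9,13,3,112,188,169,81]),(1,0,[3,11,6,4,106,246,131,161])] ([528,533,530,622,24,33,137,257],[530,535,528,620,24,33,137,257]) = true := by decide +kernel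
theorem c20017144 : chkDer M20234 [([520,525,522,630,8,16,33,129,257],[628,126,630,7,193,8,376,362,290]),([104,2,109,123,9,128,33,257,513],[106,123,111,121,225,9,319,206,634])] [(0,704,[]),(2,0,[212,220,209,214,223,335,405,256]),(2,1,[429,163,423,171,166,100,227,248]),(1,0,[306,426,312,421,425,211,469,485]),(1,1,[189,91,183,83,346,257,211,161])] ([528,533,530,622,24,33,137,257],[57,438,59,461,903,528,281,173]) = true := by decide +kernel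
theorem c20016699 : chkDer M20234 [([520,525,522,630,8,16,33,129,257],[527,7,525,126,8,193,376,443,345]),([104,2,109,123,9,128,33,257,513],[106,123,111,121,225,9,319,206,634])] [(0,704,[]),(2,0,[212,214,209,220,213,320,405,271]),(2,1,[429,171,423,163,174,102,227,250]),(1,0,[306,421,312,426,422,214,469,480]),(1,1,[189,81,183,89,336,265,209,163])] ([528,533,530,622,24,33,137,257],[57,436,59,463,901,617,354,212]) = true := by decide +kernel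
theorem c20019070 : chkDer M20234 [([520,525,522,630,8,16,33,129,257],[126,625,124,522,160,8,345,408,90]),([104,2,109,123,9,128,33,257,513],[106,123,111,121,225,9,319,206,634])] [(0,704,[]),(2,0,[230,237,227,231,224,271,314,79]),(2,1,[136,387,130,395,135,250,219,158]),(1,0,[271,414,261,401,262,480,368,307]),(1,1,[66,148,72,156,332,81,227,318])] ([528,533,530,622,24,33,137,257],[326,90,324,33,880,436,491,741]) = true := by decide +kernel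
theorem c20016847 : chkDer M20234 [([520,525,522,630,8,16,33,129,257],[7,520,5,627,8,160,345,331,88]),([104,2,109,123,9,128,33,257,513],[106,123,111,121,225,9,319,206,634])] [(0,704,[]),(2,0,[233,232,236,226,234,266,314,79]),(2,1,[138,393,128,385,143,240,219,158]),(1,0,[266,404,256,411,265,490,368,307]),(1,1,[66,156,72,148,324,83,227,316])] ([528,533,530,622,24,33,137,257],[326,33,324,90,777,461,491,670]) = true := by decide +kernel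
theorem c20014597 : chkDer M20234 [([5,643,2,741,538,121],[520,284,2,788,113,121]),([1,2,4,8,16,96,160,512],[104,2,109,123,10,11,160,619])] [(1,0,[1,5,33]),(0,1,[]),(2,1,[164,166,172]),(0,256,[]),(2,1,[235,233,138]),(2,0,[58,62,5]),(0,1,[]),(1,0,[59,63,5]),(0,32,[]),(2,1,[97,99,172]),(0,256,[]),(2,1,[59,57,138]),(2,0,[36,32,5])] ([5,7,124],[123,121,7]) = true := by decide +kernel
theorem c20015503 : chkDer M20234 [([5,643,2,741,538,121],[528,816,2,288,633,123]),([1,2,4,8,16,96,160,512],[104,2,109,123,10,11,160,619])] [(1,0,[1,5,33]),(0,1,[]),(2,1,[141,143,135]),(0,256,[]),(1,1,[138,136,233]),(2,0,[5,1,63]),(0,1,[]),(1,0,[5,1,62]),(0,32,[]),(1,1,[172,174,99]),(0,256,[]),(2,1,[169,171,57]),(2,0,[37,33,36])] ([5,7,124],[126,124,123]) = true := by decide +kernel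
theorem c20017076 : chkDer M20234 [([520,525,522,630,8,16,33,129,257],[630,124,628,5,193,8,376,362,290])] [(1,0,[1,2,4,8,16,32,64,128,256]),(0,1,[]),(2,0,[12,7,9,8,192,32,271,501,74]),(0,1,[]),(1,0,[9,4,12,14,255,32,330,437,79])] ([520,525,522,630,8,16,33,129,257],[627,628,625,527,16,8,33,224,257]) = true := by decide +kernel
theorem c20017886 : chkDer M20234 [([520,525,522,630,8,16,33,129,257],[628,5,630,124,16,160,376,474,290])] [(1,0,[1,2,4,8,16,32,64,128,256]),(0,1,[]),(2,0,[6,2,3,13,16,255,271,298,74]),(0,1,[]),(1,0,[6,1,3,11,16,192,330,367,79])] ([520,525,522,630,8,16,33,129,257],[627,628,625,527,16,8,33,224,257]) = true := by decide +kernel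
theorem c20019818 : chkDer M20234 [([520,525,522,630,8,16,33,129,257],[527,5,525,124,8,193,376,441,290])] [(1,0,[1,2,4,8,16,32,64,128,256]),(0,1,[]),(2,0,[3,2,6,13,16,255,271,298,74]),(0,1,[]),(1,0,[3,1,6,11,16,192,330,367,79])] ([520,525,522,630,8,16,33,129,257],[522,527,520,628,8,16,33,129,257]) = true := by decide +kernel
theorem c20018769 : chkDer M20234 [([520,525,522,630,8,16,33,129,257],[628,126,630,7,193,8,376,362,288])] [(1,0,[1,2,4,8,16,32,64,128,256]),(0,1,[]),(2,0,[9,7,12,8,192,32,266,496,79]),(0,1,[]),(1,0,[12,4,9,14,255,32,335,432,74])] ([520,525,522,630,8,16,33,129,257],[625,630,627,525,16,8,33,224,259]) = true := by decide +kernel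
theorem c20016852 : chkDer M20234 [([520,525,522,630,8,16,33,129,257],[7,520,5,627,8,160,345,331,90])] [(1,0,[1,2,4,8,16,32,64,128,256]),(0,1,[]),(2,0,[1,6,4,9,16,192,335,394,261]),(0,1,[]),(1,0,[2,6,7,12,16,255,266,463,325])] ([520,525,522,630,8,16,33,129,257],[520,525,522,630,8,16,33,129,259]) = true := by decide +kernel
theorem c20018034 : chkDer M20234 [([520,525,522,630,8,16,33,129,257],[124,522,126,625,193,16,345,507,90])] [(1,0,[1,2,4,8,16,32,64,128,256]),(0,1,[]),(2,0,[4,9,1,6,255,32,335,346,261]),(0,1,[]),(1,0,[7,12,2,6,192,32,266,287,325])] ([520,525,522,630,8,16,33,129,257],[520,525,522,630,8,16,33,129,259]) = true := by decide +kernel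
theorem c20019515 : chkDer M20234 [([520,525,522,630,8,16,33,129,257],[126,520,124,627,193,16,345,507,88])] [(1,0,[1,2,4,8,16,32,64,128,256]),(0,1,[]),(2,0,[4,12,1,3,255,32,330,351,261]),(0,1,[]),(1,0,[7,9,2,3,192,32,271,282,325])] ([520,525,522,630,8,16,33,129,257],[522,527,520,628,8,16,33,129,257]) = true := by decide +kernel
theorem c20019336 : chkDer M20234 [([1,2,4,8,16,96,160,512],[104,2,109,123,10,11,160,619]),([5,643,2,741,538,121,617],[672,641,2,57,716,121,533])] [(0,1,[]),(1,0,[141,136,143,177]),(1,1,[97,96,101,59]),(0,4,[]),(2,0,[85,128,87,194]),(2,1,[65,117,69,5]),(1,0,[172,13,174,7])] ([520,525,522,630],[628,126,630,7]) = true := by decide +kernel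
theorem c20018795 : chkDer M20234 [([520,525,522,630,8,16,33,129,257],[628,126,630,7,193,8,376,360,345])] [(1,0,[1,2,4,8,16,32,64,128,256]),(0,1,[]),(2,0,[9,7,12,8,197,32,256,511,64]),(0,1,[]),(1,0,[12,4,9,14,250,32,320,442,64])] ([520,525,522,630,8,16,33,129,257],[625,630,627,525,16,8,35,224,376]) = true := by decide +kernel
theorem c20019640 : chkDer M20234 [([1,2,4,8,16,96,160,512],[104,2,109,123,10,11,160,619]),([5,643,2,741,538,121,617],[672,641,2,57,108,121,181])] [(0,1,[]),(1,0,[141,136,143,177]),(1,1,[97,96,101,59]),(0,4,[]),(2,0,[128,85,130,23]),(2,1,[117,64,113,48]),(1,0,[13,169,15,163])] ([520,525,522,630],[126,625,124,522]) = true := by decide +kernel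
theorem c20019441 : chkDer M20234 [([520,525,522,630,8,16,33,129,257],[5,522,7,625,8,160,345,329,33])] [(1,0,[1,2,4,8,16,32,64,128,256]),(0,1,[]),(2,0,[1,3,4,12,16,197,325,389,256]),(0,1,[]),(1,0,[2,3,7,9,16,250,261,453,320])] ([520,525,522,630,8,16,33,129,257],[522,527,520,628,8,16,35,129,378]) = true := by decide +kernel
theorem c20016017 : chkDer M20234 [([5,643,2,741,538,121],[672,641,2,64,633,123]),([1,2,4,8,16,96,160,512],[104,2,109,123,10,11,160,619])] [(1,0,[1,5,33]),(0,256,[]),(1,1,[221,223,230]),(0,256,[]),(2,0,[1,5,52]),(0,1,[]),(1,0,[1,5,49]),(0,257,[]),(2,1,[251,249,59]),(2,0,[33,37,32])] ([5,7,124],[124,126,121]) = true := by decide +kernel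
theorem c20019615 : chkDer M20234 [([520,525,522,630,8,16,33,129,257],[126,625,124,522,160,8,345,410,33])] [(1,0,[1,2,4,8,16,32,64,128,256]),(0,1,[]),(2,0,[4,9,1,6,250,32,325,336,256]),(0,1,[]),(1,0,[7,12,2,6,197,32,261,272,320])] ([520,525,522,630,8,16,33,129,257],[627,628,625,527,16,8,35,224,378]) = true := by decide +kernel
theorem c20014251 : chkBig M20234 6 33 [1,2,28,32,68,256,640] = true := by decide +kernel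
theorem c20016928 : chkDer M20234 [([520,525,522,630,8,16,33,129,257],[7,520,5,627,8,160,345,329,35])] [(1,0,[1,2,4,8,16,32,64,128,256]),(0,1,[]),(2,0,[1,6,4,9,16,197,320,384,256]),(0,1,[]),(1,0,[2,6,7,12,16,250,256,448,320])] ([520,525,522,630,8,16,33,129,257],[520,525,522,630,8,16,35,129,376]) = true := by decide +kernel
theorem c20019788 : chkDer M20234 [([1,2,4,8,16,96,160,512],[104,2,109,123,10,11,160,619]),([5,643,2,741,538,121,617],[672,641,2,57,108,123,212])] [(2,0,[161,164,163,174]),(0,256,[]),(1,0,[205,243,207,144]),(2,1,[49,1,53,113]),(1,0,[166,5,164,15])] ([520,525,522,630],[527,5,525,124]) = true := by decide +kernel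
theorem c20016450 : chkDer M20234 [([1,2,4,8,16,96],[11,2,14,8,121,104]),([5,643,2,741,538,121,617],[520,284,2,877,636,121,204]),([1,2,4,8,16,96,160,512],[104,2,109,123,10,11,160,619])] [(0,256,[]),(1,0,[60,62,7]),(1,1,[94,90,5]),(0,64,[]),(1,2,[18,16,177]),(2,1,[90,94,95]),(1,0,[23,21,16])] ([5,7,124],[126,124,121]) = true := by decide +kernel
theorem c20018374 : chkDer M20234 [([1,2,4,8,16,96],[11,2,14,8,121,104]),([5,643,2,741,538,121,617],[528,816,2,345,724,123,124]),([1,2,4,8,16,96,160,512],[104,2,109,123,10,11,160,619])] [(0,256,[]),(1,0,[60,62,7]),(1,1,[94,90,5]),(0,64,[]),(2,2,[16,18,130]),(2,1,[90,94,95]),(1,0,[23,21,16])] ([5,7,124],[126,124,121]) = true := by decide +kernel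
theorem c20019912 : chkDer M20234 [([1,2,4,8,16,96,160,512],[104,2,109,123,10,11,160,617])] [(1,0,[1,2,4,8,16,32,64,128]),(1,0,[40,2,45,59,10,11,64,169]),(1,0,[48,2,53,18,57,19,64,179])] ([1,2,4,8,16,96,160,512],[1,2,4,8,16,96,160,514]) = true := by decide +kernel
theorem c20018801 : chkDer M20234 [([1,2,4,8,16,96],[11,2,14,8,121,104]),([5,643,2,741,538,121,617],[672,33,2,665,716,121,533]),([520,525,522,630,8,16,33,129,257],[628,126,630,7,693,517,376,950,288]),([1,2,4,8,16,96,160,512],[104,2,109,123,10,11,160,619])] [(0,256,[]),(1,0,[60,62,7]),(1,1,[94,90,5]),(1,2,[43,46,212]),(1,3,[10,8,172]),(1,2,[10,15,13])] ([5,7,124],[121,123,5]) = true := by decide +kernel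
theorem c20018719 : chkDer M20234 [([1,2,4,8,16,96,160],[104,2,109,123,10,11,160]),([520,525,522,630,8,16,33,129,257],[628,126,630,7,189,13,257,278,345]),([1,2,4,8,16,96,160,512],[104,2,109,123,10,11,160,619]),([5,643,2,741,538,121,617],[672,33,2,665,716,121,535])] [(2,0,[5,7,15]),(2,1,[13,8,37]),(2,2,[172,174,59]),(2,1,[222,219,15]),(2,3,[37,33,36])] ([5,7,124],[126,124,123]) = true := by decide +kernel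
theorem c20019311 : chkDer M20234 [([1,2,4,8,16,96,160],[104,2,109,123,10,11,160]),([520,525,522,630,8,16,33,129,257],[628,126,630,7,189,13,257,278,345]),([1,2,4,8,16,96,160,512],[104,2,109,123,10,11,160,619]),([5,643,2,741,538,121,617],[672,641,2,57,716,121,535])] [(2,0,[5,7,15]),(2,1,[13,8,37]),(2,2,[172,174,59]),(2,1,[222,219,15]),(2,3,[37,33,36])] ([5,7,124],[126,124,123]) = true := by decide +kernel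
theorem c20016433 : chkDer M20234 [([1,2,4,8,16,96],[11,2,14,8,121,104]),([520,525,522,630,8,16,33,129,257],[628,126,630,7,693,517,376,950,288]),([1,2,4,8,16,96,160,512],[104,2,109,123,10,11,160,619]),([1,2,4,8,16,96,160],[104,2,109,123,10,11,160])] [(0,256,[]),(1,0,[60,62,7]),(1,1,[35,38,6]),(2,2,[23,21,163]),(1,1,[38,35,43]),(1,3,[15,13,10])] ([5,7,124],[124,126,121]) = true := by decide +kernel
theorem c20017407 : chkDer M20234 [([1,2,4,8,16,96],[11,2,14,8,121,104]),([520,525,522,630,8,16,33,129,257],[628,126,630,7,693,517,376,950,288]),([1,2,4,8,16,96,160,512],[104,2,109,123,10,11,160,619]),([1,2,4,8,16,96,160],[104,2,109,123,10,11,160])] [(0,256,[]),(1,0,[60,62,7]),(1,1,[35,38,6]),(2,2,[23,21,163]),(1,1,[38,35,43]),(1,3,[15,13,10])] ([5,7,124],[124,126,121]) = true := by decide +kernel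
theorem c20018777 : chkDer M20234 [([1,2,4,8,16,96],[11,2,14,8,121,104]),([5,643,2,741,538,121,617],[672,33,2,665,716,121,533]),([520,525,522,630,8,16,33,129,257],[628,126,630,7,693,517,376,948,345]),([1,2,4,8,16,96,160,512],[104,2,109,123,10,11,160,619])] [(0,256,[]),(1,0,[60,62,7]),(1,1,[94,90,5]),(1,2,[43,46,212]),(1,3,[10,8,174]),(1,2,[10,15,8])] ([5,7,124],[121,123,7]) = true := by decide +kernel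
theorem c20018911 : chkDer M20234 [([1,2,4,8,16,96],[11,2,14,8,121,104]),([5,643,2,741,538,121,617],[672,33,2,665,716,123,628]),([1,2,4,8,16,96,160,512],[104,2,109,123,10,11,160,619]),([520,525,522,630,8,16,33,129,257],[126,520,124,627,189,21,345,391,88]),([1,2,4,8,16,96,160],[104,2,109,123,10,11,160])] [(1,0,[5,7,60]),(1,1,[1,5,94]),(2,2,[243,241,179]),(1,3,[203,206,11]),(1,4,[8,10,7])] ([5,7,124],[123,121,7]) = true := by decide +kernel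
theorem c20016331 : chkDer M20234 [([1,2,4,8,16,96],[11,2,14,8,121,104]),([520,525,522,630,8,16,33,129,257],[630,124,628,5,693,517,376,948,345]),([1,2,4,8,16,96,160,512],[104,2,109,123,10,11,160,619]),([1,2,4,8,16,96,160],[104,2,109,123,10,11,160])] [(0,256,[]),(1,0,[60,62,7]),(1,1,[35,38,6]),(2,2,[23,21,163]),(1,1,[38,35,43]),(1,3,[15,13,8])] ([5,7,124],[124,126,123]) = true := by decide +kernel
theorem c20017453 : chkDer M20234 [([1,2,4,8,16,96],[11,2,14,8,121,104]),([520,525,522,630,8,16,33,129,257],[630,124,628,5,693,517,376,948,345]),([1,2,4,8,16,96,160,512],[104,2,109,123,10,11,160,619]),([1,2,4,8,16,96,160],[104,2,109,123,10,11,160])] [(0,256,[]),(1,0,[60,62,7]),(1,1,[35,38,6]),(2,2,[23,21,163]),(1,1,[38,35,43]),(1,3,[15,13,8])] ([5,7,124],[124,126,123]) = true := by decide +kernel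
theorem c20018637 : chkDer M20234 [([1,2,4,8,16,96],[11,2,14,8,121,104]),([520,525,522,630,8,16,33,129,257],[630,124,628,5,693,517,376,948,345]),([1,2,4,8,16,96,160,512],[104,2,109,123,10,11,160,619]),([1,2,4,8,16,96,160],[104,2,109,123,10,11,160])] [(0,256,[]),(1,0,[60,62,7]),(1,1,[35,38,6]),(2,2,[23,21,163]),(1,1,[38,35,43]),(1,3,[15,13,8])] ([5,7,124],[124,126,123]) = true := by decide +kernel
theorem c20019597 : chkDer M20234 [([1,2,4,8,16,96],[11,2,14,8,121,104]),([520,525,522,630,8,16,33,129,257],[126,625,124,522,220,13,288,413,88]),([1,2,4,8,16,96,160,512],[104,2,109,123,10,11,160,619]),([5,643,2,741,538,121,617],[672,641,2,57,108,121,183]),([1,2,4,8,16,96,160],[104,2,109,123,10,11,160])] [(1,0,[5,7,60]),(2,1,[14,11,197]),(1,2,[177,179,66]),(2,3,[117,113,116]),(1,4,[13,15,8])] ([5,7,124],[126,124,123])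 = true := by decide +kernel
theorem c20017550 : chkDer M20234 [([1,2,4,8,16,96],[11,2,14,8,121,104]),([520,525,522,630,8,16,33,129,257],[5,627,7,520,609,713,345,904,35]),([1,2,4,8,16,96,160,512],[104,2,109,123,10,11,160,619]),([1,2,4,8,16,96,160],[104,2,109,123,10,11,160])] [(0,256,[]),(1,0,[60,62,7]),(2,1,[22,19,4]),(2,2,[21,23,163]),(2,1,[22,19,21]),(1,3,[15,13,10])] ([5,7,124],[124,126,121]) = true := by decide +kernel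
theorem c20018008 : chkDer M20234 [([5,643,2,741,538,121,617],[528,288,2,841,108,123,214]),([1,2,4,8,16,96,160,512],[104,2,109,123,10,11,160,619]),([520,525,522,630,8,16,33,129,257],[126,522,124,625,713,609,345,857,90]),([1,2,4,8,16,96],[11,2,14,8,121,104])] [(1,0,[1,5,33]),(0,1,[]),(1,1,[149,151,172]),(1,2,[45,40,13]),(1,0,[91,95,107]),(1,3,[18,16,5])] ([5,7,124],[123,121,5]) = true := by decide +kernel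
theorem c20019114 : chkDer M20234 [([1,2,4,8,16,96],[11,2,14,8,121,104]),([520,525,522,630,8,16,33,129,257],[126,625,124,522,721,512,288,824,35]),([1,2,4,8,16,96,160,512],[104,2,109,123,10,11,160,619]),([1,2,4,8,16,96,160],[104,2,109,123,10,11,160])] [(0,256,[]),(1,0,[60,62,7]),(1,1,[35,38,6]),(2,2,[23,21,166]),(1,1,[38,35,40]),(1,3,[15,13,10])] ([5,7,124],[124,126,121]) = true := by decide +kernel
theorem c20019706 : chkDer M20234 [([1,2,4,8,16,96],[11,2,14,8,121,104]),([520,525,522,630,8,16,33,129,257],[126,625,124,522,721,512,288,824,35]),([1,2,4,8,16,96,160,512],[104,2,109,123,10,11,160,619]),([1,2,4,8,16,96,160],[104,2,109,123,10,11,160])] [(0,256,[]),(1,0,[60,62,7]),(1,1,[35,38,6]),(2,2,[23,21,166]),(1,1,[38,35,40]),(1,3,[15,13,10])] ([5,7,124],[124,126,121]) = true := by decide +kernel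
theorem c20017774 : chkDer M20234 [([1,2,4,8,16,96],[11,2,14,8,121,104]),([5,643,2,741,538,121,617],[528,288,2,841,636,123,708]),([520,525,522,630,8,16,33,129,257],[527,126,525,7,685,612,376,981,347]),([1,2,4,8,16,96,160,512],[104,2,109,123,10,11,160,619])] [(1,0,[5,7,60]),(2,1,[106,110,49]),(2,2,[14,11,37]),(2,3,[169,171,59]),(2,1,[37,33,32])] ([5,7,124],[126,124,121]) = true := by decide +kernel
theorem c20019462 : chkDer M20234 [([1,2,4,8,16,96],[11,2,14,8,121,104]),([520,525,522,630,8,16,33,129,257],[5,522,7,625,13,220,288,311,90]),([1,2,4,8,16,96,160,512],[104,2,109,123,10,11,160,619]),([5,643,2,741,538,121,617],[672,641,2,57,716,123,630]),([1,2,4,8,16,96,160],[104,2,109,123,10,11,160])] [(1,0,[5,7,60]),(2,1,[1,4,250]),(2,2,[161,163,99]),(2,3,[117,113,112]),(1,4,[13,15,10])] ([5,7,124],[126,124,121])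 = true := by decide +kernel
theorem c20019694 : chkDer M20234 [([1,2,4,8,16,96],[11,2,14,8,121,104]),([520,525,522,630,8,16,33,129,257],[126,625,124,522,220,13,288,415,35]),([1,2,4,8,16,96,160,512],[104,2,109,123,10,11,160,619]),([5,643,2,741,538,121,617],[672,641,2,57,108,121,181]),([1,2,4,8,16,96,160],[104,2,109,123,10,11,160])] [(1,0,[5,7,60]),(2,1,[14,11,192]),(1,2,[177,179,64]),(2,3,[113,117,116]),(1,4,[15,13,8])] ([5,7,124],[124,126,123]) = true := by decide +kernel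
theorem c20019238 : chkDer M20234 [([1,2,4,8,16,96],[11,2,14,8,121,104]),([520,525,522,630,8,16,33,129,257],[527,5,525,124,512,713,376,864,347]),([1,2,4,8,16,96,160,512],[104,2,109,123,10,11,160,619]),([5,643,2,741,538,121,617],[672,33,2,665,108,123,212]),([1,2,4,8,16,96,160],[104,2,109,123,10,11,160])] [(1,0,[5,7,60]),(1,1,[3,6,35]),(2,2,[163,161,97]),(2,3,[117,113,112]),(1,4,[13,15,10])] ([5,7,124],[126,124,121]) = true := by decide +kernel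
theorem c20019830 : chkDer M20234 [([1,2,4,8,16,96],[11,2,14,8,121,104]),([520,525,522,630,8,16,33,129,257],[527,5,525,124,512,713,376,864,347]),([1,2,4,8,16,96,160,512],[104,2,109,123,10,11,160,619]),([5,643,2,741,538,121,617],[672,641,2,57,108,123,212]),([1,2,4,8,16,96,160],[104,2,109,123,10,11,160])] [(1,0,[5,7,60]),(1,1,[3,6,35]),(2,2,[163,161,97]),(2,3,[117,113,112]),(1,4,[13,15,10])] ([5,7,124],[126,124,121]) = true := by decide +kernel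
theorem c20018943 : chkDer M20234 [([1,2,4,8,16,96],[11,2,14,8,121,104]),([520,525,522,630,8,16,33,129,257],[126,520,124,627,693,612,288,860,88]),([1,2,4,8,16,96,160,512],[104,2,109,123,10,11,160,619]),([5,643,2,741,538,121,617],[672,33,2,665,716,123,628])] [(1,0,[5,7,60]),(1,1,[3,6,35]),(2,2,[172,174,57]),(2,3,[79,75,36]),(1,1,[4,1,15])] ([5,7,124],[124,126,123]) = true := by decide +kernel
theorem c20019453 : chkDer M20234 [([1,2,4,8,16,96,160],[104,2,109,123,10,11,160]),([520,525,522,630,8,16,33,129,257],[5,522,7,625,517,685,288,917,33]),([1,2,4,8,16,96,160,512],[104,2,109,123,10,11,160,619]),([5,643,2,741,538,121,617],[672,641,2,57,716,123,630])] [(2,0,[5,7,15]),(1,1,[3,6,22]),(1,2,[143,141,8]),(2,3,[107,111,32]),(1,1,[11,14,10])] ([5,7,124],[124,126,121]) = true := by decide +kernel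
theorem c20019839 : chkDer M20234 [([1,2,4,8,16,96,160],[104,2,109,123,10,11,160]),([520,525,522,630,8,16,33,129,257],[527,5,525,124,13,189,257,444,345]),([1,2,4,8,16,96,160,512],[104,2,109,123,10,11,160,619]),([5,643,2,741,538,121,617],[672,641,2,57,108,123,212])] [(2,0,[5,7,15]),(2,1,[2,7,21]),(1,2,[141,143,10]),(2,3,[106,110,36]),(1,1,[8,13,15])] ([5,7,124],[124,126,123]) = true := by decide +kernel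
theorem c20018879 : chkDer M20234 [([1,2,4,8,16,96],[11,2,14,8,121,104]),([5,643,2,741,538,121,617],[672,33,2,665,716,123,630]),([520,525,522,630,8,16,33,129,257],[5,522,7,625,512,721,288,914,33]),([1,2,4,8,16,96,160,512],[104,2,109,123,10,11,160,619])] [(1,0,[5,7,60]),(1,1,[1,5,94]),(2,2,[61,56,21]),(1,3,[174,172,10]),(2,2,[12,9,10])] ([5,7,124],[126,124,121]) = true := by decide +kernel
theorem c20019081 : chkDer M20234 [([1,2,4,8,16,96],[11,2,14,8,121,104]),([520,525,522,630,8,16,33,129,257],[126,625,124,522,685,517,288,838,33]),([1,2,4,8,16,96,160,512],[104,2,109,123,10,11,160,619]),([5,643,2,741,538,121,617],[672,33,2,665,108,121,181])] [(1,0,[5,7,60]),(1,1,[3,6,35]),(1,2,[141,143,8]),(1,1,[50,55,15]),(2,3,[33,37,36])] ([5,7,124],[124,126,123]) = true := by decide +kernel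
theorem c20019603 : chkDer M20234 [([1,2,4,8,16,96],[11,2,14,8,121,104]),([520,525,522,630,8,16,33,129,257],[126,625,124,522,685,517,288,838,33]),([1,2,4,8,16,96,160,512],[104,2,109,123,10,11,160,619]),([5,643,2,741,538,121,617],[672,641,2,57,108,121,183])] [(1,0,[5,7,60]),(1,1,[3,6,35]),(1,2,[141,143,8]),(1,1,[50,55,15]),(2,3,[33,37,36])] ([5,7,124],[124,126,123]) = true := by decide +kernel
theorem c20016487 : chkDer M20234 [([1,2,4,8,16,96],[11,2,14,8,121,104]),([5,643,2,741,538,121,617],[520,284,2,877,636,123,527]),([520,525,522,630,8,16,33,129,257],[7,520,5,627,13,220,288,311,88])] [(0,256,[]),(1,0,[60,62,7]),(1,1,[94,90,5]),(1,2,[251,254,4]),(1,0,[18,16,5])] ([5,7,124],[123,121,5]) = true := by decide +kernel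
theorem c20016931 : chkDer M20234 [([1,2,4,8,16,96],[11,2,14,8,121,104]),([5,643,2,741,538,121,617],[520,788,2,357,636,121,527]),([520,525,522,630,8,16,33,129,257],[7,520,5,627,13,220,288,311,88])] [(0,256,[]),(1,0,[60,62,7]),(1,1,[94,90,5]),(1,2,[251,254,4]),(1,0,[18,16,5])] ([5,7,124],[123,121,5]) = true := by decide +kernel
theorem c20018300 : chkDer M20234 [([1,2,4,8,16,96,160,512],[104,2,109,123,10,11,160,619]),([5,643,2,741,538,121,617],[528,816,2,345,724,123,620])] [(0,8,[]),(1,0,[136,141,138,180]),(1,1,[96,97,100,58]),(2,0,[143,7,141,62])] ([520,525,522,630],[527,7,525,126]) = true := by decide +kernel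
theorem c20017256 : chkDer M20234 [([5,643,2,741,538,121,617],[520,788,2,357,116,121,7]),([1,2,4,8,16,96,160,512],[104,2,109,123,10,11,160,619]),([520,525,522,630,8,16,33,129,257],[7,520,5,627,512,721,288,912,90]),([1,2,4,8,16,96,160],[104,2,109,123,10,11,160])] [(2,0,[68,64,100]),(0,1,[]),(2,1,[135,133,143]),(1,2,[23,18,7]),(2,0,[112,116,5]),(1,3,[10,8,7])] ([5,7,124],[121,123,7]) = true := by decide +kernel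
theorem c20019180 : chkDer M20234 [([1,2,4,8,16,96],[11,2,14,8,121,104]),([520,525,522,630,8,16,33,129,257],[527,124,525,5,220,21,376,373,347]),([1,2,4,8,16,96,160,512],[104,2,109,123,10,11,160,619]),([5,643,2,741,538,121,617],[672,33,2,665,108,123,214])] [(1,0,[5,7,60]),(2,1,[8,13,32]),(2,2,[174,172,57]),(2,3,[78,74,36]),(1,1,[7,2,15])] ([5,7,124],[126,124,123]) = true := by decide +kernel
theorem c20019550 : chkDer M20234 [([1,2,4,8,16,96,160],[104,2,109,123,10,11,160]),([5,643,2,741,538,121,617],[672,641,2,57,716,123,628]),([520,525,522,630,8,16,33,129,257],[126,520,124,627,713,609,345,857,90]),([1,2,4,8,16,96,160,512],[104,2,109,123,10,11,160,619])] [(2,0,[5,7,15]),(1,1,[1,5,113]),(2,2,[55,50,32]),(2,3,[143,141,57]),(2,2,[9,12,10])] ([5,7,124],[124,126,121]) = true := by decide +kernel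
theorem c20019854 : chkDer M20234 [([1,2,4,8,16,96],[11,2,14,8,121,104]),([5,643,2,741,538,121,617],[672,641,2,57,108,123,212]),([520,525,522,630,8,16,33,129,257],[527,5,525,124,517,693,376,796,290]),([1,2,4,8,16,96,160,512],[104,2,109,123,10,11,160,619])] [(1,0,[5,7,60]),(1,1,[1,5,94]),(1,2,[209,212,17]),(1,3,[172,174,10]),(1,2,[13,8,10])] ([5,7,124],[126,124,121]) = true := by decide +kernel
theorem c20019192 : chkDer M20234 [([1,2,4,8,16,96],[11,2,14,8,121,104]),([5,643,2,741,538,121,617],[672,33,2,665,108,123,214]),([1,2,4,8,16,96,160,512],[104,2,109,123,10,11,160,619]),([520,525,522,630,8,16,33,129,257],[527,124,525,5,721,609,257,937,347]),([1,2,4,8,16,96,160],[104,2,109,123,10,11,160])] [(1,0,[5,7,60]),(1,1,[1,5,94]),(2,2,[243,241,177]),(2,3,[21,16,3]),(1,4,[10,8,5])] ([5,7,124],[121,123,5])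 = true := by decide +kernel
theorem c20016643 : chkDer M20234 [([1,2,4,8,16,96],[11,2,14,8,121,104]),([5,643,2,741,538,121,617],[520,284,2,877,116,121,206]),([520,525,522,630,8,16,33,129,257],[525,5,527,124,13,189,257,446,288]),([1,2,4,8,16,96,160],[104,2,109,123,10,11,160])] [(0,256,[]),(1,0,[60,62,7]),(1,1,[94,90,5]),(0,1,[]),(1,2,[23,18,7]),(1,3,[10,8,7])] ([5,7,124],[121,123,7]) = true := by decide +kernel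
theorem c20016499 : chkDer M20234 [([1,2,4,8,16,96,160],[104,2,109,123,10,11,160]),([5,643,2,741,538,121,617],[520,284,2,877,636,123,527]),([520,525,522,630,8,16,33,129,257],[7,520,5,627,512,721,288,914,33]),([1,2,4,8,16,96,160,512],[104,2,109,123,10,11,160,619])] [(2,0,[5,7,15]),(1,1,[1,5,113]),(2,2,[2,7,21]),(1,3,[141,143,10]),(1,1,[97,101,32])] ([5,7,124],[124,126,123]) = true := by decide +kernel
theorem c20017934 : chkDer M20234 [([5,643,2,741,538,121,617],[528,288,2,841,108,123,710]),([1,2,4,8,16,96,160,512],[104,2,109,123,10,11,160,619]),([1,2,4,8,16,96],[11,2,14,8,121,104])] [(2,0,[110,106,74]),(0,1,[]),(1,1,[179,177,136]),(2,0,[91,95,1]),(1,2,[18,16,5])] ([5,7,124],[123,121,5]) = true := by decide +kernel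
theorem c20016734 : chkDer M20234 [([1,2,4,8,16,96],[11,2,14,8,121,104]),([5,643,2,741,538,121,617],[520,284,2,877,116,121,204]),([520,525,522,630,8,16,33,129,257],[527,7,525,126,13,189,257,444,347]),([1,2,4,8,16,96,160],[104,2,109,123,10,11,160])] [(0,256,[]),(1,0,[60,62,7]),(1,1,[94,90,5]),(0,1,[]),(1,2,[18,23,7]),(1,3,[10,8,5])] ([5,7,124],[121,123,5]) = true := by decide +kernel
theorem c20019122 : chkDer M20234 [([5,643,2,741,538,121,617],[672,33,2,665,108,123,628]),([1,2,4,8,16,96,160,512],[104,2,109,123,10,11,160,619]),([1,2,4,8,16,96],[11,2,14,8,121,104])] [(1,0,[1,5,33]),(0,1,[]),(1,1,[230,228,221]),(0,256,[]),(2,0,[91,95,1]),(1,2,[18,16,5])] ([5,7,124],[123,121,5]) = true := by decide +kernel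
theorem c20018492 : chkDer M20234 [([1,2,4,8,16,96],[11,2,14,8,121,104]),([5,643,2,741,538,121,617],[528,816,2,345,196,121,173]),([520,525,522,630,8,16,33,129,257],[5,520,7,627,13,220,288,311,90]),([1,2,4,8,16,96,160],[104,2,109,123,10,11,160])] [(0,256,[]),(1,0,[60,62,7]),(2,1,[63,59,79]),(1,2,[17,20,4]),(1,3,[8,10,7])] ([5,7,124],[123,121,7]) = true := by decide +kernel
theorem c20018818 : chkDer M20234 [([5,643,2,741,538,121,617],[672,33,2,665,716,121,181]),([1,2,4,8,16,96,160,512],[104,2,109,123,10,11,160,619]),([1,2,4,8,16,96,160],[104,2,109,123,10,11,160])] [(1,0,[1,5,33]),(0,1,[]),(1,1,[230,228,223]),(0,256,[]),(2,0,[112,116,5]),(1,2,[10,8,7])] ([5,7,124],[121,123,7]) = true := by decide +kernel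
theorem c20016572 : chkDer M20234 [([1,2,4,8,16,96,160],[104,2,109,123,10,11,160]),([5,643,2,741,538,121,617],[520,284,2,877,636,123,525]),([520,525,522,630,8,16,33,129,257],[7,520,5,627,512,721,288,914,35]),([1,2,4,8,16,96,160,512],[104,2,109,123,10,11,160,619])] [(2,0,[5,7,15]),(1,1,[1,5,113]),(2,2,[2,7,16]),(1,3,[141,143,8]),(1,1,[97,101,36])] ([5,7,124],[126,124,121]) = true := by decide +kernel
theorem c20017602 : chkDer M20234 [([1,2,4,8,16,96,160],[104,2,109,123,10,11,160]),([520,525,522,630,8,16,33,129,257],[5,625,7,522,612,693,288,1014,35]),([1,2,4,8,16,96,160,512],[104,2,109,123,10,11,160,619]),([5,643,2,741,538,121,617],[528,288,2,841,636,121,533])] [(0,256,[]),(2,0,[15,13,7]),(1,1,[22,19,6]),(2,2,[59,57,174]),(1,3,[36,32,69])] ([5,7,124],[123,121,7]) = true := by decide +kernel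
theorem c20018422 : chkDer M20234 [([1,2,4,8,16,96],[11,2,14,8,121,104]),([5,643,2,741,538,121,617],[528,816,2,345,196,121,175]),([520,525,522,630,8,16,33,129,257],[7,520,5,627,13,220,288,311,90]),([1,2,4,8,16,96,160],[104,2,109,123,10,11,160])] [(0,256,[]),(1,0,[60,62,7]),(2,1,[63,59,75]),(1,2,[17,20,1]),(1,3,[10,8,7])] ([5,7,124],[121,123,7]) = true := by decide +kernel
theorem c20018188 : chkDer M20234 [([1,2,4,8,16,96],[11,2,14,8,121,104]),([5,643,2,741,538,121,617],[528,816,2,345,724,121,701]),([520,525,522,630,8,16,33,129,257],[525,7,527,126,13,189,257,446,290]),([1,2,4,8,16,96,160],[104,2,109,123,10,11,160])] [(0,256,[]),(1,0,[60,62,7]),(2,1,[58,62,74]),(1,2,[23,18,2]),(1,3,[8,10,7])] ([5,7,124],[123,121,7]) = true := by decide +kernel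
theorem c20017320 : chkDer M20234 [([5,643,2,741,538,121,617],[520,788,2,357,116,121,5]),([1,2,4,8,16,96,160,512],[104,2,109,123,10,11,160,619]),([520,525,522,630,8,16,33,129,257],[7,520,5,627,512,721,288,914,35]),([1,2,4,8,16,96,160],[104,2,109,123,10,11,160])] [(2,0,[64,68,96]),(0,1,[]),(2,1,[133,135,141]),(1,2,[18,23,2]),(2,0,[112,116,1]),(1,3,[10,8,5])] ([5,7,124],[121,123,5]) = true := by decide +kernel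
theorem c20018810 : chkDer M20234 [([1,2,4,8,16,96],[11,2,14,8,121,104]),([5,643,2,741,538,121,617],[672,33,2,665,716,121,533]),([1,2,4,8,16,96,160,512],[104,2,109,123,10,11,160,619]),([520,525,522,630,8,16,33,129,257],[628,126,630,7,713,512,376,945,290]),([1,2,4,8,16,96,160],[104,2,109,123,10,11,160])] [(1,0,[5,7,60]),(1,1,[1,5,94]),(1,2,[192,194,163]),(2,3,[21,16,6]),(1,4,[10,8,7])] ([5,7,124],[121,123,7]) = true := by decide +kernel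
theorem c20017164 : chkDer M20234 [([1,2,4,8,16,96,160],[104,2,109,123,10,11,160]),([5,643,2,741,538,121,617],[520,788,2,357,636,123,708]),([520,525,522,630,8,16,33,129,257],[628,126,630,7,189,13,257,278,347])] [(0,256,[]),(2,0,[15,13,7]),(2,1,[53,49,110]),(1,2,[45,40,13]),(1,0,[8,10,5])] ([5,7,124],[123,121,5]) = true := by decide +kernel
theorem c20016369 : chkDer M20234 [([1,2,4,8,16,96],[11,2,14,8,121,104]),([5,643,2,741,538,121,617],[520,284,2,877,636,121,710]),([520,525,522,630,8,16,33,129,257],[630,124,628,5,713,512,376,947,345])] [(0,256,[]),(1,0,[60,62,7]),(1,1,[94,90,5]),(2,2,[37,32,6]),(1,0,[18,16,7])] ([5,7,124],[123,121,7]) = true := by decide +kernel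
theorem c20016661 : chkDer M20234 [([1,2,4,8,16,96],[11,2,14,8,121,104]),([5,643,2,741,538,121,617],[520,284,2,877,116,121,206]),([520,525,522,630,8,16,33,129,257],[525,5,527,124,512,713,376,864,345]),([1,2,4,8,16,96,160],[104,2,109,123,10,11,160])] [(0,256,[]),(1,0,[60,62,7]),(1,1,[94,90,5]),(2,2,[21,16,6]),(1,3,[10,8,7])] ([5,7,124],[121,123,7]) = true := by decide +kernel
theorem c20017109 : chkDer M20234 [([1,2,4,8,16,96],[11,2,14,8,121,104]),([5,643,2,741,538,121,617],[520,788,2,357,636,123,710]),([520,525,522,630,8,16,33,129,257],[630,124,628,5,713,512,376,947,345])] [(0,256,[]),(1,0,[60,62,7]),(1,1,[94,90,5]),(2,2,[37,32,6]),(1,0,[18,16,7])] ([5,7,124],[123,121,7]) = true := by decide +kernel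
theorem c20017413 : chkDer M20234 [([1,2,4,8,16,96],[11,2,14,8,121,104]),([5,643,2,741,538,121,617],[520,788,2,357,116,123,206]),([520,525,522,630,8,16,33,129,257],[628,126,630,7,713,512,376,945,288])] [(0,256,[]),(1,0,[60,62,7]),(1,1,[94,90,5]),(2,2,[37,32,6]),(1,0,[18,16,7])] ([5,7,124],[123,121,7]) = true := by decide +kernel
theorem c20017689 : chkDer M20234 [([1,2,4,8,16,96],[11,2,14,8,121,104]),([5,643,2,741,538,121,617],[528,288,2,841,636,123,710]),([520,525,522,630,8,16,33,129,257],[527,124,525,5,220,21,376,373,345])] [(0,256,[]),(1,0,[60,62,7]),(2,1,[49,53,106]),(1,2,[40,45,8]),(1,0,[16,18,5])] ([5,7,124],[121,123,5]) = true := by decide +kernel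
theorem c20017830 : chkDer M20234 [([1,2,4,8,16,96],[11,2,14,8,121,104]),([520,525,522,630,8,16,33,129,257],[527,126,525,7,721,609,257,939,290]),([1,2,4,8,16,96,160,512],[104,2,109,123,10,11,160,619]),([5,643,2,741,538,121,617],[528,288,2,841,108,121,7])] [(1,0,[5,7,60]),(1,1,[3,6,35]),(2,2,[171,169,59]),(2,3,[37,33,36])] ([5,7,124],[126,124,123]) = true := by decide +kernel
theorem c20018716 : chkDer M20234 [([1,2,4,8,16,96],[11,2,14,8,121,104]),([5,643,2,741,538,121,617],[672,33,2,665,716,121,535]),([1,2,4,8,16,96,160,512],[104,2,109,123,10,11,160,619]),([520,525,522,630,8,16,33,129,257],[628,126,630,7,713,512,376,947,347]),([1,2,4,8,16,96,160],[104,2,109,123,10,11,160])] [(1,0,[5,7,60]),(1,1,[1,5,94]),(1,2,[192,194,161]),(2,3,[21,16,3]),(1,4,[10,8,5])] ([5,7,124],[121,123,5]) = true := by decide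 +kernel
theorem c20016398 : chkDer M20234 [([1,2,4,8,16,96,160],[104,2,109,123,10,11,160]),([5,643,2,741,538,121,617],[520,284,2,877,636,121,708]),([520,525,522,630,8,16,33,129,257],[628,126,630,7,189,13,257,276,290])] [(0,256,[]),(2,0,[15,13,7]),(2,1,[49,53,106]),(1,2,[40,45,8]),(1,0,[10,8,7])] ([5,7,124],[121,123,7]) = true := by decide +kernel
theorem c20017698 : chkDer M20234 [([1,2,4,8,16,96],[11,2,14,8,121,104]),([520,525,522,630,8,16,33,129,257],[527,124,525,5,721,609,257,939,290]),([1,2,4,8,16,96,160,512],[104,2,109,123,10,11,160,619]),([5,643,2,741,538,121,617],[528,288,2,841,636,123,710])] [(1,0,[5,7,60]),(1,1,[3,6,35]),(2,2,[169,171,57]),(2,3,[37,33,36])] ([5,7,124],[126,124,123]) = true := by decide +kernel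
theorem c20017987 : chkDer M20234 [([1,2,4,8,16,96],[11,2,14,8,121,104]),([520,525,522,630,8,16,33,129,257],[126,522,124,625,189,21,345,391,88]),([1,2,4,8,16,96,160,512],[104,2,109,123,10,11,160,619]),([5,643,2,741,538,121,617],[528,288,2,841,108,123,214])] [(1,0,[5,7,60]),(2,1,[14,11,32]),(2,2,[169,171,57]),(2,3,[37,33,36])] ([5,7,124],[126,124,123]) = true := by decide +kernel
theorem c20017065 : chkDer M20234 [([1,2,4,8,16,96,160],[104,2,109,123,10,11,160]),([5,643,2,741,538,121,617],[520,788,2,357,636,123,710]),([520,525,522,630,8,16,33,129,257],[630,124,628,5,189,13,257,278,345])] [(0,256,[]),(2,0,[15,13,7]),(2,1,[53,49,106]),(1,2,[45,40,8]),(1,0,[10,8,5])] ([5,7,124],[121,123,5]) = true := by decide +kernel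
theorem c20017560 : chkDer M20234 [([1,2,4,8,16,96,160,512],[104,2,109,123,10,11,160,619]),([5,643,2,741,538,121,617],[528,288,2,841,636,121,533])] [(0,8,[]),(1,0,[136,141,138,180]),(2,1,[1,64,5,48]),(1,0,[5,169,7,163])] ([520,525,522,630],[5,625,7,522]) = true := by decide +kernel
theorem c20018510 : chkDer M20234 [([5,643,2,741,538,121,617],[528,816,2,345,196,121,173]),([1,2,4,8,16,96,160,512],[104,2,109,123,10,11,160,619]),([520,525,522,630,8,16,33,129,257],[5,520,7,627,512,721,288,912,90])] [(1,0,[1,5,33]),(0,32,[]),(2,1,[133,135,141]),(1,2,[18,23,2]),(1,1,[8,10,136]),(2,0,[36,32,1])] ([5,7,124],[123,121,5]) = true := by decide +kernel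
theorem c20016520 : chkDer M20234 [([1,2,4,8,16,96,160],[104,2,109,123,10,11,160]),([520,525,522,630,8,16,33,129,257],[7,520,5,627,517,685,288,917,35]),([1,2,4,8,16,96,160,512],[104,2,109,123,10,11,160,619]),([5,643,2,741,538,121,617],[520,284,2,877,636,123,527])] [(2,0,[5,7,15]),(1,1,[3,6,22]),(1,2,[143,141,8]),(1,3,[101,97,36])] ([5,7,124],[126,124,121]) = true := by decide +kernel
theorem c20016964 : chkDer M20234 [([1,2,4,8,16,96,160],[104,2,109,123,10,11,160]),([520,525,522,630,8,16,33,129,257],[7,520,5,627,517,685,288,917,35]),([1,2,4,8,16,96,160,512],[104,2,109,123,10,11,160,619]),([5,643,2,741,538,121,617],[520,788,2,357,636,121,527])] [(2,0,[5,7,15]),(1,1,[3,6,22]),(1,2,[143,141,8]),(1,3,[101,97,36])] ([5,7,124],[124,126,123]) = true := by decide +kernel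
theorem c20017845 : chkDer M20234 [([5,643,2,741,538,121,617],[528,288,2,841,108,121,7]),([1,2,4,8,16,96,160,512],[104,2,109,123,10,11,160,619]),([520,525,522,630,8,16,33,129,257],[527,126,525,7,220,21,376,373,345]),([1,2,4,8,16,96],[11,2,14,8,121,104])] [(1,0,[1,5,33]),(0,1,[]),(1,1,[149,151,174]),(1,2,[45,40,8]),(1,3,[16,18,7])] ([5,7,124],[121,123,7]) = true := by decide +kernel
theorem c20018573 : chkDer M20234 [([5,643,2,741,538,121,617],[528,816,2,345,196,123,126]),([1,2,4,8,16,96,160,512],[104,2,109,123,10,11,160,619]),([520,525,522,630,8,16,33,129,257],[525,5,527,124,13,189,257,444,345]),([1,2,4,8,16,96,160],[104,2,109,123,10,11,160])] [(1,0,[1,5,33]),(0,32,[]),(2,1,[133,135,143]),(1,2,[18,23,7]),(1,3,[8,10,7])] ([5,7,124],[123,121,7]) = true := by decide +kernel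
theorem c20018339 : chkDer M20234 [([5,643,2,741,538,121,617],[528,816,2,345,724,123,620]),([1,2,4,8,16,96,160,512],[104,2,109,123,10,11,160,619]),([520,525,522,630,8,16,33,129,257],[527,7,525,126,517,693,376,796,288])] [(0,256,[]),(1,0,[33,37,5]),(2,1,[128,130,138]),(1,2,[17,20,4]),(1,1,[10,8,141]),(1,0,[32,36,97])] ([5,7,124],[123,121,7]) = true := by decide +kernel
theorem c20017981 : chkDer M20234 [([5,643,2,741,538,121,617],[528,288,2,841,108,123,214]),([1,2,4,8,16,96,160,512],[104,2,109,123,10,11,160,619]),([520,525,522,630,8,16,33,129,257],[126,522,124,625,693,612,288,860,88]),([1,2,4,8,16,96],[11,2,14,8,121,104])] [(1,0,[1,5,33]),(0,1,[]),(1,1,[149,151,172]),(2,2,[32,37,6]),(1,3,[16,18,7])] ([5,7,124],[121,123,7]) = true := by decide +kernel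
theorem c20016891 : chkDer M20234 [([5,643,2,741,538,121,617],[520,284,2,877,116,123,5]),([1,2,4,8,16,96,160,512],[104,2,109,123,10,11,160,619]),([520,525,522,630,8,16,33,129,257],[7,520,5,627,517,685,288,917,33]),([1,2,4,8,16,96,160],[104,2,109,123,10,11,160])] [(2,0,[64,68,100]),(0,1,[]),(2,1,[133,135,143]),(2,2,[16,21,3]),(1,3,[8,10,5])] ([5,7,124],[123,121,5]) = true := by decide +kernel
theorem c20018075 : chkDer M20234 [([5,643,2,741,538,121,617],[528,288,2,841,108,123,212]),([1,2,4,8,16,96,160,512],[104,2,109,123,10,11,160,619]),([520,525,522,630,8,16,33,129,257],[124,522,126,625,693,612,288,860,88]),([1,2,4,8,16,96],[11,2,14,8,121,104])] [(1,0,[1,5,33]),(0,1,[]),(1,1,[149,151,172]),(2,2,[32,37,3]),(1,3,[16,18,5])] ([5,7,124],[121,123,5]) = true := by decide +kernel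
theorem c20018281 : chkDer M20234 [([1,2,4,8,16,96,160],[104,2,109,123,10,11,160]),([520,525,522,630,8,16,33,129,257],[525,5,527,124,512,713,376,864,345]),([1,2,4,8,16,96,160,512],[104,2,109,123,10,11,160,619]),([5,643,2,741,538,121,617],[528,816,2,345,724,123,622])] [(0,256,[]),(2,0,[15,13,7]),(1,1,[22,19,6]),(1,2,[10,8,138]),(2,3,[36,32,5])] ([5,7,124],[123,121,7]) = true := by decide +kernel
theorem c20016821 : chkDer M20234 [([5,643,2,741,538,121,617],[520,284,2,877,116,123,7]),([1,2,4,8,16,96,160,512],[104,2,109,123,10,11,160,619]),([520,525,522,630,8,16,33,129,257],[7,520,5,627,517,685,288,917,33]),([1,2,4,8,16,96,160],[104,2,109,123,10,11,160])] [(2,0,[68,64,96]),(0,1,[]),(2,1,[135,133,141]),(2,2,[21,16,6]),(1,3,[10,8,7])] ([5,7,124],[121,123,7]) = true := by decide +kernel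
theorem c20017541 : chkDer M20234 [([1,2,4,8,16,96],[11,2,14,8,121,104]),([520,525,522,630,8,16,33,129,257],[5,627,7,520,21,189,345,340,33]),([1,2,4,8,16,96,160,512],[104,2,109,123,10,11,160,619]),([5,643,2,741,538,121,617],[528,288,2,841,636,121,535])] [(0,256,[]),(1,0,[60,62,7]),(2,1,[16,21,4]),(1,2,[8,10,138]),(2,3,[36,32,5])] ([5,7,124],[123,121,7]) = true := by decide +kernel
theorem c20017915 : chkDer M20234 [([5,643,2,741,538,121,617],[528,288,2,841,108,121,5]),([1,2,4,8,16,96,160,512],[104,2,109,123,10,11,160,619]),([520,525,522,630,8,16,33,129,257],[628,5,630,124,21,220,376,420,345]),([1,2,4,8,16,96],[11,2,14,8,121,104])] [(1,0,[1,5,33]),(0,32,[]),(2,1,[133,135,141]),(1,2,[18,23,2]),(1,3,[16,18,5])] ([5,7,124],[121,123,5]) = true := by decide +kernel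
theorem c20018449 : chkDer M20234 [([5,643,2,741,538,121,617],[528,816,2,345,196,121,175]),([1,2,4,8,16,96,160,512],[104,2,109,123,10,11,160,619]),([520,525,522,630,8,16,33,129,257],[7,520,5,627,517,685,288,917,33]),([1,2,4,8,16,96,160],[104,2,109,123,10,11,160])] [(1,0,[1,5,33]),(0,32,[]),(2,1,[133,135,141]),(2,2,[16,21,6]),(1,3,[8,10,7])] ([5,7,124],[123,121,7]) = true := by decide +kernel
theorem c20018519 : chkDer M20234 [([5,643,2,741,538,121,617],[528,816,2,345,196,121,173]),([1,2,4,8,16,96,160,512],[104,2,109,123,10,11,160,619]),([520,525,522,630,8,16,33,129,257],[5,520,7,627,517,685,288,917,33]),([1,2,4,8,16,96,160],[104,2,109,123,10,11,160])] [(1,0,[1,5,33]),(0,32,[]),(2,1,[133,135,141]),(2,2,[16,21,3]),(1,3,[8,10,5])] ([5,7,124],[123,121,5]) = true := by decide +kernel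
theorem c20016791 : chkDer M20234 [([1,2,4,8,16,96,160],[104,2,109,123,10,11,160]),([520,525,522,630,8,16,33,129,257],[7,520,5,627,13,220,288,311,88]),([1,2,4,8,16,96,160,512],[104,2,109,123,10,11,160,619]),([5,643,2,741,538,121,617],[520,284,2,877,116,123,7])] [(2,0,[5,7,15]),(2,1,[4,1,21]),(1,2,[138,136,10]),(1,3,[100,96,32])] ([5,7,124],[126,124,123]) = true := by decide +kernel
theorem c20017235 : chkDer M20234 [([1,2,4,8,16,96,160],[104,2,109,123,10,11,160]),([520,525,522,630,8,16,33,129,257],[7,520,5,627,13,220,288,311,88]),([1,2,4,8,16,96,160,512],[104,2,109,123,10,11,160,619]),([5,643,2,741,538,121,617],[520,788,2,357,116,121,7])] [(2,0,[5,7,15]),(2,1,[4,1,21]),(1,2,[138,136,10]),(1,3,[100,96,32])] ([5,7,124],[124,126,121]) = true := by decide +kernel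
theorem c20016454 : chkDer M20234 [([5,643,2,741,538,121,617],[520,284,2,877,636,123,527])] [(0,1,[]),(2,0,[68,1,64,33]),(0,1,[]),(1,0,[65,1,69,37])] ([520,525,522,630],[7,520,5,627]) = true := by decide +kernel
theorem c20017202 : chkDer M20234 [([5,643,2,741,538,121,617],[520,788,2,357,116,121,7])] [(0,1,[]),(2,0,[69,1,65,37]),(0,1,[]),(1,0,[64,1,68,33])] ([520,525,522,630],[7,520,5,627]) = true := by decide +kernel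
theorem c20014621 : chkDer M20234 [([5,643,2,741,538,121],[520,284,2,877,636,627])] [(0,256,[]),(1,0,[33,37,5]),(0,64,[]),(2,0,[33,37,36])] ([5,7,124],[124,126,123]) = true := by decide +kernel
theorem c20015235 : chkDer M20234 [([5,643,2,741,538,121],[528,288,2,841,636,619])] [(0,256,[]),(1,0,[33,37,5]),(0,64,[]),(2,0,[33,37,36])] ([5,7,124],[124,126,123]) = true := by decide +kernel
theorem c20015699 : chkDer M20234 [([5,643,2,741,538,121],[672,33,2,736,633,731])] [(0,256,[]),(1,0,[33,37,5]),(0,257,[]),(2,0,[33,37,36])] ([5,7,124],[124,126,123]) = true := by decide +kernel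
theorem c20014617 : chkDer M20234 [([5,643,2,741,538,121],[520,284,2,877,636,625])] [(0,256,[]),(1,0,[33,37,5]),(0,64,[]),(2,0,[33,37,32])] ([5,7,124],[124,126,121]) = true := by decide +kernel
theorem c20015231 : chkDer M20234 [([5,643,2,741,538,121],[528,288,2,841,636,617])] [(0,256,[]),(1,0,[33,37,5]),(0,64,[]),(2,0,[33,37,32])] ([5,7,124],[124,126,121]) = true := by decide +kernel
theorem c20015695 : chkDer M20234 [([5,643,2,741,538,121],[672,33,2,736,633,729])] [(0,256,[]),(1,0,[33,37,5]),(0,257,[]),(2,0,[33,37,32])] ([5,7,124],[124,126,121]) = true := by decide +kernel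
theorem c20019894 : chkTr M20234 [1,2,4,8,16,32,64,128,256,514] ([104,2,109,123,9,128],[104,123,109,121,154,9]) ([104,2,109,123,9,128],[104,123,109,121,154,9]) = true := by decide +kernel
theorem c20014238 : chkScM M20234 [104,2,109,123] [104,2,109,123,9,128,33,257] [104,2,109,123,9,128,33,257,513] [1,2,4,8] [1,2,4,8] = true := by decide +kernel
theorem c20019874 : chkDer M20234 [] [(0,17,[])] ([104,2,109,123,9,128,33,257,513],[104,2,109,123,11,249,59,499,516]) = true := by decide +kernel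
theorem c20014259 : chkDer M20234 [([1,2,6,16],[1,16,6,18])] [(0,32,[]),(2,0,[7])] ([13],[5]) = true := by decide +kernel
theorem c20014255 : chkDer M20234 [([1,2,4,8],[1,8,4,10])] [(2,0,[2])] ([8],[2]) = true := by decide +kernel
theorem c20016207 : chkDer M20234 [] [(0,32,[])] ([5],[7]) = true := by decide +kernel
theorem c20016276 : chkDer M20234 [] [(0,4,[])] ([33],[35]) = true := by decide +kernel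

end Cfsg.Lib.D8
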