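import Cfsg.Agent.D8.R1C1

set_option autoImplicit false
set_option maxRecDepth 100000
set_option linter.all false
set_option Elab.async false

namespace Cfsg.Lib.D8

theorem c20016612 : chkFrat M20234 E20016292 [520,525,522,630] [525,5,527,124] [520,525,522,630,8,16,33,129,257] [520,525,522,630,8,16,33,129,257] [(0,[1,2,4,8]),(0,[1,2,4,8]),(0,[1,2,4,8]),(0,[1,2,4,8]),(8,[1,2,4,13]),(184,[4,7,1,8]),(257,[14,8,11,2]),(441,[14,13,11,2]),(288,[4,13,1,7])] [⟨0,0,[],0,2,false⟩,⟨0,0,[],0,0,false⟩,⟨0,0,[],0,0,false⟩,⟨4,0,[⟨4,0,0,0⟩,⟨4,1,0,1⟩,⟨0,8,13,0⟩],2,0,false⟩,⟨2,0,[⟨4,0,0,2⟩,⟨4,3,0,3⟩,⟨0,1,4,0⟩,⟨0,8,8,0⟩,⟨0,16,21,0⟩],2,0,false⟩,⟨2,0,[⟨4,0,0,4⟩,⟨4,5,0,5⟩,⟨0,1,14,0⟩,⟨0,2,8,0⟩,⟨0,16,32,0⟩],2,0,false⟩,⟨2,0,[⟨4,17,0,6⟩,⟨4,18,0,7⟩,⟨0,1,11,0⟩,⟨0,16,37,0⟩,⟨0,64,127,0⟩],0,0,false⟩,⟨2,0,[⟨4,0,0,8⟩,⟨4,5,0,9⟩,⟨0,1,4,0⟩,⟨0,2,13,0⟩,⟨0,16,250,0⟩],0,0,false⟩]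 [([520,525,522,630,8,16,33,129,257],[525,5,527,124,8,193,376,443,345]),([520,525,522,630,8,16,33,129,257],[525,5,527,124,8,193,376,443,347]),([520,525,522,630,8,16,33,129,257],[525,5,527,124,8,193,376,441,288]),([520,525,522,630,8,16,33,129,257],[525,5,527,124,8,193,376,441,290]),([520,525,522,630,8,16,33,129,257],[525,5,527,124,13,189,257,446,288]),([520,525,522,630,8,16,33,129,257],[525,5,527,124,13,189,257,446,290]),([520,525,522,630,8,16,33,129,257],[525,5,527,124,13,189,257,444,345]),([520,525,522,630,8,16,33,129,257],[525,5,527,124,13,189,257,444,347]),([520,525,522,630,8,16,33,129,257],[525,5,527,124,512,713,376,866,288]),([520,525,522,630,8,16,33,129,257],[525,5,527,124,512,713,376,866,290]),([520,525,522,630,8,16,33,129,257],[525,5,527,124,512,713,376,864,345]),([520,525,522,630,8,16,33,129,257],[525,5,527,124,512,713,376,864,347]),([520,525,522,630,8,16,33,129,257],[525,5,527,124,517,693,376,798,345]),([520,525,522,630,8,16,33,129,257],[525,5,527,124,517,693,376,798,347]),([520,525,522,630,8,16,33,129,257],[525,5,527,124,517,693,376,796,288]),([520,525,522,630,8,16,33,129,257],[525,5,527,124,517,693,376,796,290])]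 = true := by decide +kernel
theorem c20017204 : chkFrat M20234 E20016292 [520,525,522,630] [7,520,5,627] [520,525,522,630,8,16,33,129,257] [520,525,522,630,8,16,33,129,257] [(0,[1,2,4,8]),(0,[1,2,4,8]),(0,[1,2,4,8]),(0,[1,2,4,8]),(8,[1,2,4,13]),(160,[4,7,1,8]),(288,[14,8,11,2]),(304,[14,13,11,2]),(33,[4,13,1,7])] [⟨0,0,[],0,2,false⟩,⟨0,0,[],0,0,false⟩,⟨0,0,[],0,0,false⟩,⟨4,0,[⟨4,0,0,0⟩,⟨4,1,0,1⟩,⟨0,8,13,0⟩],2,0,false⟩,⟨2,0,[⟨4,0,0,2⟩,⟨4,3,0,3⟩,⟨0,1,4,0⟩,⟨0,8,8,0⟩,⟨0,16,21,0⟩],2,0,false⟩,⟨2,0,[⟨4,0,0,4⟩,⟨4,5,0,5⟩,⟨0,1,14,0⟩,⟨0,2,8,0⟩,⟨0,16,32,0⟩],2,0,false⟩,⟨2,0,[⟨4,17,0,6⟩,⟨4,18,0,7⟩,⟨0,1,11,0⟩,⟨0,16,37,0⟩,⟨0,64,127,0⟩],0,0,false⟩,⟨2,0,[⟨4,0,0,8⟩,⟨4,5,0,9⟩,⟨0,1,4,0⟩,⟨0,2,13,0⟩,⟨0,16,250,0⟩],0,0,false⟩] [([520,525,522,630,8,16,33,129,257],[7,520,5,627,8,160,345,331,88]),([520,525,522,630,8,16,33,129,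257],[7,520,5,627,8,160,345,331,90]),([520,525,522,630,8,16,33,129,257],[7,520,5,627,8,160,345,329,33]),([520,525,522,630,8,16,33,129,257],[7,520,5,627,8,160,345,329,35]),([520,525,522,630,8,16,33,129,257],[7,520,5,627,13,220,288,311,88]),([520,525,522,630,8,16,33,129,257],[7,520,5,627,13,220,288,311,90]),([520,525,522,630,8,16,33,129,257],[7,520,5,627,13,220,288,309,33]),([520,525,522,630,8,16,33,129,257],[7,520,5,627,13,220,288,309,35]),([520,525,522,630,8,16,33,129,257],[7,520,5,627,512,721,288,914,33]),([520,525,522,630,8,16,33,129,257],[7,520,5,627,512,721,288,914,35]),([520,525,522,630,8,16,33,129,257],[7,520,5,627,512,721,288,912,88]),([520,525,522,630,8,16,33,129,257],[7,520,5,627,512,721,288,912,90]),([520,525,522,630,8,16,33,129,257],[7,520,5,627,517,685,288,919,88]),([520,525,522,630,8,16,33,129,257],[7,520,5,627,517,685,288,919,90]),([520,525,522,630,8,16,33,129,257],[7,520,5,627,517,685,288,917,33]),([520,525,522,630,8,16,33,129,257],[7,520,5,627,517,685,288,917,35])]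 = true := by decide +kernel
theorem c20018232 : chkFrat M20234 E20016292 [520,525,522,630] [525,5,527,124] [520,525,522,630,8,16,33,129,257] [520,525,522,630,8,16,33,129,257] [(0,[1,2,4,8]),(0,[1,2,4,8]),(0,[1,2,4,8]),(0,[1,2,4,8]),(8,[1,2,4,13]),(184,[4,7,1,8]),(257,[14,8,11,2]),(441,[14,13,11,2]),(288,[4,13,1,7])] [⟨0,0,[],0,2,false⟩,⟨0,0,[],0,0,false⟩,⟨0,0,[],0,0,false⟩,⟨4,0,[⟨4,0,0,0⟩,⟨4,1,0,1⟩,⟨0,8,13,0⟩],2,0,false⟩,⟨2,0,[⟨4,0,0,2⟩,⟨4,3,0,3⟩,⟨0,1,4,0⟩,⟨0,8,8,0⟩,⟨0,16,21,0⟩],2,0,false⟩,⟨2,0,[⟨4,0,0,4⟩,⟨4,5,0,5⟩,⟨0,1,14,0⟩,⟨0,2,8,0⟩,⟨0,16,32,0⟩],2,0,false⟩,⟨2,0,[⟨4,17,0,6⟩,⟨4,18,0,7⟩,⟨0,1,11,0⟩,⟨0,16,37,0⟩,⟨0,64,127,0⟩],0,0,false⟩,⟨2,0,[⟨4,0,0,8⟩,⟨4,5,0,9⟩,⟨0,1,4,0⟩,⟨0,2,13,0⟩,⟨0,16,250,0⟩],0,0,false⟩] [([520,525,522,630,8,16,33,129,257],[525,5,527,124,8,193,376,443,345]),([520,525,522,630,8,16,3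3,129,257],[525,5,527,124,8,193,376,443,347]),([520,525,522,630,8,16,33,129,257],[525,5,527,124,8,193,376,441,288]),([520,525,522,630,8,16,33,129,257],[525,5,527,124,8,193,376,441,290]),([520,525,522,630,8,16,33,129,257],[525,5,527,124,13,189,257,446,288]),([520,525,522,630,8,16,33,129,257],[525,5,527,124,13,189,257,446,290]),([520,525,522,630,8,16,33,129,257],[525,5,527,124,13,189,257,444,345]),([520,525,522,630,8,16,33,129,257],[525,5,527,124,13,189,257,444,347]),([520,525,522,630,8,16,33,129,257],[525,5,527,124,512,713,376,866,288]),([520,525,522,630,8,16,33,129,257],[525,5,527,124,512,713,376,866,290]),([520,525,522,630,8,16,33,129,257],[525,5,527,124,512,713,376,864,345]),([520,525,522,630,8,16,33,129,257],[525,5,527,124,512,713,376,864,347]),([520,525,522,630,8,16,33,129,257],[525,5,527,124,517,693,376,798,345]),([520,525,522,630,8,16,33,129,257],[525,5,527,124,517,693,376,798,347]),([520,525,522,630,8,16,33,129,257],[525,5,527,124,517,693,376,796,288]),([520,525,522,630,8,16,33,129,257],[525,5,527,124,517,693,376,796,290])]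 = true := by decide +kernel
theorem c20019416 : chkFrat M20234 E20016292 [520,525,522,630] [5,522,7,625] [520,525,522,630,8,16,33,129,257] [520,525,522,630,8,16,33,129,257] [(0,[1,2,4,8]),(0,[1,2,4,8]),(0,[1,2,4,8]),(0,[1,2,4,8]),(8,[1,2,4,13]),(160,[4,7,1,8]),(288,[14,8,11,2]),(304,[14,13,11,2]),(33,[4,13,1,7])] [⟨0,0,[],0,2,false⟩,⟨0,0,[],0,0,false⟩,⟨0,0,[],0,0,false⟩,⟨4,0,[⟨4,0,0,0⟩,⟨4,1,0,1⟩,⟨0,8,13,0⟩],2,0,false⟩,⟨2,0,[⟨4,0,0,2⟩,⟨4,3,0,3⟩,⟨0,1,4,0⟩,⟨0,8,8,0⟩,⟨0,16,21,0⟩],2,0,false⟩,⟨2,0,[⟨4,0,0,4⟩,⟨4,5,0,5⟩,⟨0,1,14,0⟩,⟨0,2,8,0⟩,⟨0,16,32,0⟩],2,0,false⟩,⟨2,0,[⟨4,17,0,6⟩,⟨4,18,0,7⟩,⟨0,1,11,0⟩,⟨0,16,37,0⟩,⟨0,64,127,0⟩],0,0,false⟩,⟨2,0,[⟨4,0,0,8⟩,⟨4,5,0,9⟩,⟨0,1,4,0⟩,⟨0,2,13,0⟩,⟨0,16,250,0⟩],0,0,false⟩] [([520,525,522,630,8,16,33,129,257],[5,522,7,625,8,160,345,331,88]),([520,525,522,630,8,16,33,129,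257],[5,522,7,625,8,160,345,331,90]),([520,525,522,630,8,16,33,129,257],[5,522,7,625,8,160,345,329,33]),([520,525,522,630,8,16,33,129,257],[5,522,7,625,8,160,345,329,35]),([520,525,522,630,8,16,33,129,257],[5,522,7,625,13,220,288,311,88]),([520,525,522,630,8,16,33,129,257],[5,522,7,625,13,220,288,311,90]),([520,525,522,630,8,16,33,129,257],[5,522,7,625,13,220,288,309,33]),([520,525,522,630,8,16,33,129,257],[5,522,7,625,13,220,288,309,35]),([520,525,522,630,8,16,33,129,257],[5,522,7,625,512,721,288,914,33]),([520,525,522,630,8,16,33,129,257],[5,522,7,625,512,721,288,914,35]),([520,525,522,630,8,16,33,129,257],[5,522,7,625,512,721,288,912,88]),([520,525,522,630,8,16,33,129,257],[5,522,7,625,512,721,288,912,90]),([520,525,522,630,8,16,33,129,257],[5,522,7,625,517,685,288,919,88]),([520,525,522,630,8,16,33,129,257],[5,522,7,625,517,685,288,919,90]),([520,525,522,630,8,16,33,129,257],[5,522,7,625,517,685,288,917,33]),([520,525,522,630,8,16,33,129,257],[5,522,7,625,517,685,288,917,35])]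 = true := by decide +kernel
theorem c20017710 : chkFrat M20234 E20016292 [520,525,522,630] [527,126,525,7] [520,525,522,630,8,16,33,129,257] [520,525,522,630,8,16,33,129,257] [(0,[1,2,4,8]),(0,[1,2,4,8]),(0,[1,2,4,8]),(0,[1,2,4,8]),(160,[1,2,4,13]),(16,[4,7,1,8]),(257,[14,8,11,2]),(265,[14,13,11,2]),(288,[4,13,1,7])] [⟨0,0,[],0,2,false⟩,⟨0,0,[],0,0,false⟩,⟨0,0,[],0,0,false⟩,⟨4,0,[⟨4,0,0,0⟩,⟨4,1,0,1⟩,⟨0,8,13,0⟩],2,0,false⟩,⟨2,0,[⟨4,0,0,2⟩,⟨4,3,0,3⟩,⟨0,1,4,0⟩,⟨0,8,8,0⟩,⟨0,16,21,0⟩],2,0,false⟩,⟨2,0,[⟨4,0,0,4⟩,⟨4,5,0,5⟩,⟨0,1,14,0⟩,⟨0,2,8,0⟩,⟨0,16,32,0⟩],2,0,false⟩,⟨2,0,[⟨4,17,0,6⟩,⟨4,18,0,7⟩,⟨0,1,11,0⟩,⟨0,16,37,0⟩,⟨0,64,127,0⟩],0,0,false⟩,⟨2,0,[⟨4,0,0,8⟩,⟨4,5,0,9⟩,⟨0,1,4,0⟩,⟨0,2,13,0⟩,⟨0,16,250,0⟩],0,0,false⟩] [([520,525,522,630,8,16,33,129,257],[527,126,525,7,160,16,376,370,345]),([520,525,522,630,8,16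,33,129,257],[527,126,525,7,160,16,376,370,347]),([520,525,522,630,8,16,33,129,257],[527,126,525,7,160,16,376,368,288]),([520,525,522,630,8,16,33,129,257],[527,126,525,7,160,16,376,368,290]),([520,525,522,630,8,16,33,129,257],[527,126,525,7,220,21,376,375,288]),([520,525,522,630,8,16,33,129,257],[527,126,525,7,220,21,376,375,290]),([520,525,522,630,8,16,33,129,257],[527,126,525,7,220,21,376,373,345]),([520,525,522,630,8,16,33,129,257],[527,126,525,7,220,21,376,373,347]),([520,525,522,630,8,16,33,129,257],[527,126,525,7,685,612,376,983,288]),([520,525,522,630,8,16,33,129,257],[527,126,525,7,685,612,376,983,290]),([520,525,522,630,8,16,33,129,257],[527,126,525,7,685,612,376,981,345]),([520,525,522,630,8,16,33,129,257],[527,126,525,7,685,612,376,981,347]),([520,525,522,630,8,16,33,129,257],[527,126,525,7,721,609,257,939,288]),([520,525,522,630,8,16,33,129,257],[527,126,525,7,721,609,257,939,290]),([520,525,522,630,8,16,33,129,257],[527,126,525,7,721,609,257,937,345]),([520,525,522,630,8,16,33,129,257],[527,126,525,7,721,609,257,937,347])]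 = true := by decide +kernel
theorem c20018894 : chkFrat M20234 E20016292 [520,525,522,630] [126,520,124,627] [520,525,522,630,8,16,33,129,257] [520,525,522,630,8,16,33,129,257] [(0,[1,2,4,8]),(0,[1,2,4,8]),(0,[1,2,4,8]),(0,[1,2,4,8]),(184,[1,2,4,13]),(16,[4,7,1,8]),(288,[14,8,11,2]),(384,[14,13,11,2]),(33,[4,13,1,7])] [⟨0,0,[],0,2,false⟩,⟨0,0,[],0,0,false⟩,⟨0,0,[],0,0,false⟩,⟨4,0,[⟨4,0,0,0⟩,⟨4,1,0,1⟩,⟨0,8,13,0⟩],2,0,false⟩,⟨2,0,[⟨4,0,0,2⟩,⟨4,3,0,3⟩,⟨0,1,4,0⟩,⟨0,8,8,0⟩,⟨0,16,21,0⟩],2,0,false⟩,⟨2,0,[⟨4,0,0,4⟩,⟨4,5,0,5⟩,⟨0,1,14,0⟩,⟨0,2,8,0⟩,⟨0,16,32,0⟩],2,0,false⟩,⟨2,0,[⟨4,17,0,6⟩,⟨4,18,0,7⟩,⟨0,1,11,0⟩,⟨0,16,37,0⟩,⟨0,64,127,0⟩],0,0,false⟩,⟨2,0,[⟨4,0,0,8⟩,⟨4,5,0,9⟩,⟨0,1,4,0⟩,⟨0,2,13,0⟩,⟨0,16,250,0⟩],0,0,false⟩] [([520,525,522,630,8,16,33,129,257],[126,520,124,627,189,21,345,391,88]),([520,525,522,630,8,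16,33,129,257],[126,520,124,627,189,21,345,391,90]),([520,525,522,630,8,16,33,129,257],[126,520,124,627,189,21,345,389,33]),([520,525,522,630,8,16,33,129,257],[126,520,124,627,189,21,345,389,35]),([520,525,522,630,8,16,33,129,257],[126,520,124,627,193,16,345,507,88]),([520,525,522,630,8,16,33,129,257],[126,520,124,627,193,16,345,507,90]),([520,525,522,630,8,16,33,129,257],[126,520,124,627,193,16,345,505,33]),([520,525,522,630,8,16,33,129,257],[126,520,124,627,193,16,345,505,35]),([520,525,522,630,8,16,33,129,257],[126,520,124,627,693,612,288,862,33]),([520,525,522,630,8,16,33,129,257],[126,520,124,627,693,612,288,862,35]),([520,525,522,630,8,16,33,129,257],[126,520,124,627,693,612,288,860,88]),([520,525,522,630,8,16,33,129,257],[126,520,124,627,693,612,288,860,90]),([520,525,522,630,8,16,33,129,257],[126,520,124,627,713,609,345,859,33]),([520,525,522,630,8,16,33,129,257],[126,520,124,627,713,609,345,859,35]),([520,525,522,630,8,16,33,129,257],[126,520,124,627,713,609,345,857,88]),([520,525,522,630,8,16,33,129,257],[126,520,124,627,713,609,345,857,90])]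 = true := by decide +kernel
theorem c20019572 : chkFrat M20234 E20016292 [520,525,522,630] [126,625,124,522] [520,525,522,630,8,16,33,129,257] [520,525,522,630,8,16,33,129,257] [(0,[1,2,4,8]),(0,[1,2,4,8]),(0,[1,2,4,8]),(0,[1,2,4,8]),(160,[1,2,4,13]),(8,[4,7,1,8]),(288,[14,8,11,2]),(408,[14,13,11,2]),(33,[4,13,1,7])] [⟨0,0,[],0,2,false⟩,⟨0,0,[],0,0,false⟩,⟨0,0,[],0,0,false⟩,⟨4,0,[⟨4,0,0,0⟩,⟨4,1,0,1⟩,⟨0,8,13,0⟩],2,0,false⟩,⟨2,0,[⟨4,0,0,2⟩,⟨4,3,0,3⟩,⟨0,1,4,0⟩,⟨0,8,8,0⟩,⟨0,16,21,0⟩],2,0,false⟩,⟨2,0,[⟨4,0,0,4⟩,⟨4,5,0,5⟩,⟨0,1,14,0⟩,⟨0,2,8,0⟩,⟨0,16,32,0⟩],2,0,false⟩,⟨2,0,[⟨4,17,0,6⟩,⟨4,18,0,7⟩,⟨0,1,11,0⟩,⟨0,16,37,0⟩,⟨0,64,127,0⟩],0,0,false⟩,⟨2,0,[⟨4,0,0,8⟩,⟨4,5,0,9⟩,⟨0,1,4,0⟩,⟨0,2,13,0⟩,⟨0,16,250,0⟩],0,0,false⟩] [([520,525,522,630,8,16,33,129,257],[126,625,124,522,160,8,345,410,33]),([520,525,522,630,8,16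,33,129,257],[126,625,124,522,160,8,345,410,35]),([520,525,522,630,8,16,33,129,257],[126,625,124,522,160,8,345,408,88]),([520,525,522,630,8,16,33,129,257],[126,625,124,522,160,8,345,408,90]),([520,525,522,630,8,16,33,129,257],[126,625,124,522,220,13,288,415,33]),([520,525,522,630,8,16,33,129,257],[126,625,124,522,220,13,288,415,35]),([520,525,522,630,8,16,33,129,257],[126,625,124,522,220,13,288,413,88]),([520,525,522,630,8,16,33,129,257],[126,625,124,522,220,13,288,413,90]),([520,525,522,630,8,16,33,129,257],[126,625,124,522,685,517,288,838,33]),([520,525,522,630,8,16,33,129,257],[126,625,124,522,685,517,288,838,35]),([520,525,522,630,8,16,33,129,257],[126,625,124,522,685,517,288,836,88]),([520,525,522,630,8,16,33,129,257],[126,625,124,522,685,517,288,836,90]),([520,525,522,630,8,16,33,129,257],[126,625,124,522,721,512,288,826,88]),([520,525,522,630,8,16,33,129,257],[126,625,124,522,721,512,288,826,90]),([520,525,522,630,8,16,33,129,257],[126,625,124,522,721,512,288,824,33]),([520,525,522,630,8,16,33,129,257],[126,625,124,522,721,512,288,824,35])]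 = true := by decide +kernel
theorem c20014590 : chkFrat M20234 E20014588 [5,7,124] [124,126,121] [5,7,124,1,8,16,32,128,512] [5,7,124,1,8,16,32,128,512] [(0,[1,2,4]),(0,[1,2,4]),(0,[1,2,4]),(32,[1,2,7]),(32,[1,2,7]),(32,[1,2,7]),(33,[2,1,4]),(0,[1,2,4]),(32,[1,2,7])] [⟨0,0,[],0,0,false⟩,⟨0,0,[],0,2,false⟩,⟨3,0,[⟨6,0,0,1⟩,⟨4,0,0,0⟩,⟨0,4,7,0⟩],2,2,false⟩,⟨5,0,[⟨6,0,0,0⟩,⟨4,0,0,1⟩,⟨4,1,0,2⟩,⟨0,4,7,0⟩,⟨5,0,8,0⟩],3,2,false⟩,⟨5,0,[⟨6,0,0,0⟩,⟨4,0,0,3⟩,⟨4,1,0,4⟩,⟨0,4,7,0⟩,⟨0,16,19,0⟩,⟨5,0,8,0⟩],4,5,false⟩,⟨2,0,[⟨6,0,0,1⟩,⟨4,0,0,5⟩,⟨4,4,0,6⟩,⟨4,8,0,7⟩,⟨0,1,2,0⟩],5,3,false⟩] [] = true := by decide +kernel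
theorem c20014607 : chkFrat M20234 E20014588 [5,7,124] [124,126,121] [5,7,124,1,8,16,32,128,512] [5,7,124,1,8,16,32,128,512] [(0,[1,2,4]),(0,[1,2,4]),(0,[1,2,4]),(32,[1,2,7]),(32,[1,2,7]),(32,[1,2,7]),(33,[2,1,4]),(0,[1,2,4]),(32,[1,2,7])] [⟨0,0,[],0,0,false⟩,⟨0,0,[],0,2,false⟩,⟨3,0,[⟨6,0,0,1⟩,⟨4,0,0,0⟩,⟨0,4,7,0⟩],2,2,false⟩,⟨5,0,[⟨6,0,0,0⟩,⟨4,0,0,1⟩,⟨4,1,0,2⟩,⟨0,4,7,0⟩,⟨5,0,8,0⟩],3,2,false⟩,⟨5,0,[⟨6,0,0,0⟩,⟨4,0,0,3⟩,⟨4,1,0,4⟩,⟨0,4,7,0⟩,⟨0,16,19,0⟩,⟨5,0,8,0⟩],4,5,false⟩,⟨2,0,[⟨6,0,0,1⟩,⟨4,0,0,5⟩,⟨4,4,0,6⟩,⟨4,8,0,7⟩,⟨0,1,2,0⟩],5,3,false⟩] [] = true := by decide +kernel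
theorem c20014634 : chkFrat M20234 E20014588 [5,7,124] [124,126,123] [5,7,124,1,8,16,32,128,512] [5,7,124,1,8,16,32,128,512] [(0,[1,2,4]),(0,[1,2,4]),(0,[1,2,4]),(32,[1,2,7]),(32,[1,2,7]),(32,[1,2,7]),(33,[2,1,4]),(0,[1,2,4]),(32,[1,2,7])] [⟨0,0,[],0,0,false⟩,⟨0,0,[],0,2,false⟩,⟨3,0,[⟨6,0,0,1⟩,⟨4,0,0,0⟩,⟨0,4,7,0⟩],2,2,false⟩,⟨5,0,[⟨6,0,0,0⟩,⟨4,0,0,1⟩,⟨4,1,0,2⟩,⟨0,4,7,0⟩,⟨5,0,8,0⟩],3,2,false⟩,⟨5,0,[⟨6,0,0,0⟩,⟨4,0,0,3⟩,⟨4,1,0,4⟩,⟨0,4,7,0⟩,⟨0,16,19,0⟩,⟨5,0,8,0⟩],4,5,false⟩,⟨2,0,[⟨6,0,0,1⟩,⟨4,0,0,5⟩,⟨4,4,0,6⟩,⟨4,8,0,7⟩,⟨0,1,2,0⟩],5,3,false⟩] [] = true := by decide +kernel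
theorem c20014935 : chkFrat M20234 E20014588 [5,7,124] [124,126,121] [5,7,124,1,8,16,32,128,512] [5,7,124,1,8,16,32,128,512] [(0,[1,2,4]),(0,[1,2,4]),(0,[1,2,4]),(32,[1,2,7]),(32,[1,2,7]),(32,[1,2,7]),(33,[2,1,4]),(0,[1,2,4]),(32,[1,2,7])] [⟨0,0,[],0,0,false⟩,⟨0,0,[],0,2,false⟩,⟨3,0,[⟨6,0,0,1⟩,⟨4,0,0,0⟩,⟨0,4,7,0⟩],2,2,false⟩,⟨5,0,[⟨6,0,0,0⟩,⟨4,0,0,1⟩,⟨4,1,0,2⟩,⟨0,4,7,0⟩,⟨5,0,8,0⟩],3,2,false⟩,⟨5,0,[⟨6,0,0,0⟩,⟨4,0,0,3⟩,⟨4,1,0,4⟩,⟨0,4,7,0⟩,⟨0,16,19,0⟩,⟨5,0,8,0⟩],4,5,false⟩,⟨2,0,[⟨6,0,0,1⟩,⟨4,0,0,5⟩,⟨4,4,0,6⟩,⟨4,8,0,7⟩,⟨0,1,2,0⟩],5,3,false⟩] [] = true := by decide +kernel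
theorem c20015217 : chkFrat M20234 E20014588 [5,7,124] [126,124,123] [5,7,124,1,8,16,32,128,512] [5,7,124,1,8,16,32,128,512] [(0,[1,2,4]),(0,[1,2,4]),(0,[1,2,4]),(32,[1,2,7]),(32,[1,2,7]),(32,[1,2,7]),(33,[2,1,4]),(0,[1,2,4]),(32,[1,2,7])] [⟨0,0,[],0,0,false⟩,⟨0,0,[],0,2,false⟩,⟨3,0,[⟨6,0,0,1⟩,⟨4,0,0,0⟩,⟨0,4,7,0⟩],2,2,false⟩,⟨5,0,[⟨6,0,0,0⟩,⟨4,0,0,1⟩,⟨4,1,0,2⟩,⟨0,4,7,0⟩,⟨5,0,8,0⟩],3,2,false⟩,⟨5,0,[⟨6,0,0,0⟩,⟨4,0,0,3⟩,⟨4,1,0,4⟩,⟨0,4,7,0⟩,⟨0,16,19,0⟩,⟨5,0,8,0⟩],4,5,false⟩,⟨2,0,[⟨6,0,0,1⟩,⟨4,0,0,5⟩,⟨4,4,0,6⟩,⟨4,8,0,7⟩,⟨0,1,2,0⟩],5,3,false⟩] [] = true := by decide +kernel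
theorem c20015501 : chkFrat M20234 E20014588 [5,7,124] [124,126,123] [5,7,124,1,8,16,32,128,512] [5,7,124,1,8,16,32,128,512] [(0,[1,2,4]),(0,[1,2,4]),(0,[1,2,4]),(32,[1,2,7]),(32,[1,2,7]),(32,[1,2,7]),(33,[2,1,4]),(0,[1,2,4]),(32,[1,2,7])] [⟨0,0,[],0,0,false⟩,⟨0,0,[],0,2,false⟩,⟨3,0,[⟨6,0,0,1⟩,⟨4,0,0,0⟩,⟨0,4,7,0⟩],2,2,false⟩,⟨5,0,[⟨6,0,0,0⟩,⟨4,0,0,1⟩,⟨4,1,0,2⟩,⟨0,4,7,0⟩,⟨5,0,8,0⟩],3,2,false⟩,⟨5,0,[⟨6,0,0,0⟩,⟨4,0,0,3⟩,⟨4,1,0,4⟩,⟨0,4,7,0⟩,⟨0,16,19,0⟩,⟨5,0,8,0⟩],4,5,false⟩,⟨2,0,[⟨6,0,0,1⟩,⟨4,0,0,5⟩,⟨4,4,0,6⟩,⟨4,8,0,7⟩,⟨0,1,2,0⟩],5,3,false⟩] [] = true := by decide +kernel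
theorem c20015530 : chkFrat M20234 E20014588 [5,7,124] [124,126,123] [5,7,124,1,8,16,32,128,512] [5,7,124,1,8,16,32,128,512] [(0,[1,2,4]),(0,[1,2,4]),(0,[1,2,4]),(32,[1,2,7]),(32,[1,2,7]),(32,[1,2,7]),(33,[2,1,4]),(0,[1,2,4]),(32,[1,2,7])] [⟨0,0,[],0,0,false⟩,⟨0,0,[],0,2,false⟩,⟨3,0,[⟨6,0,0,1⟩,⟨4,0,0,0⟩,⟨0,4,7,0⟩],2,2,false⟩,⟨5,0,[⟨6,0,0,0⟩,⟨4,0,0,1⟩,⟨4,1,0,2⟩,⟨0,4,7,0⟩,⟨5,0,8,0⟩],3,2,false⟩,⟨5,0,[⟨6,0,0,0⟩,⟨4,0,0,3⟩,⟨4,1,0,4⟩,⟨0,4,7,0⟩,⟨0,16,19,0⟩,⟨5,0,8,0⟩],4,5,false⟩,⟨2,0,[⟨6,0,0,1⟩,⟨4,0,0,5⟩,⟨4,4,0,6⟩,⟨4,8,0,7⟩,⟨0,1,2,0⟩],5,3,false⟩] [] = true := by decide +kernel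
theorem c20015679 : chkFrat M20234 E20014588 [5,7,124] [124,126,121] [5,7,124,1,8,16,32,128,512] [5,7,124,1,8,16,32,128,512] [(0,[1,2,4]),(0,[1,2,4]),(0,[1,2,4]),(32,[1,2,7]),(32,[1,2,7]),(32,[1,2,7]),(33,[2,1,4]),(0,[1,2,4]),(32,[1,2,7])] [⟨0,0,[],0,0,false⟩,⟨0,0,[],0,2,false⟩,⟨3,0,[⟨6,0,0,1⟩,⟨4,0,0,0⟩,⟨0,4,7,0⟩],2,2,false⟩,⟨5,0,[⟨6,0,0,0⟩,⟨4,0,0,1⟩,⟨4,1,0,2⟩,⟨0,4,7,0⟩,⟨5,0,8,0⟩],3,2,false⟩,⟨5,0,[⟨6,0,0,0⟩,⟨4,0,0,3⟩,⟨4,1,0,4⟩,⟨0,4,7,0⟩,⟨0,16,19,0⟩,⟨5,0,8,0⟩],4,5,false⟩,⟨2,0,[⟨6,0,0,1⟩,⟨4,0,0,5⟩,⟨4,4,0,6⟩,⟨4,8,0,7⟩,⟨0,1,2,0⟩],5,3,false⟩] [] = true := by decide +kernel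
theorem c20015710 : chkFrat M20234 E20014588 [5,7,124] [124,126,121] [5,7,124,1,8,16,32,128,512] [5,7,124,1,8,16,32,128,512] [(0,[1,2,4]),(0,[1,2,4]),(0,[1,2,4]),(32,[1,2,7]),(32,[1,2,7]),(32,[1,2,7]),(33,[2,1,4]),(0,[1,2,4]),(32,[1,2,7])] [⟨0,0,[],0,0,false⟩,⟨0,0,[],0,2,false⟩,⟨3,0,[⟨6,0,0,1⟩,⟨4,0,0,0⟩,⟨0,4,7,0⟩],2,2,false⟩,⟨5,0,[⟨6,0,0,0⟩,⟨4,0,0,1⟩,⟨4,1,0,2⟩,⟨0,4,7,0⟩,⟨5,0,8,0⟩],3,2,false⟩,⟨5,0,[⟨6,0,0,0⟩,⟨4,0,0,3⟩,⟨4,1,0,4⟩,⟨0,4,7,0⟩,⟨0,16,19,0⟩,⟨5,0,8,0⟩],4,5,false⟩,⟨2,0,[⟨6,0,0,1⟩,⟨4,0,0,5⟩,⟨4,4,0,6⟩,⟨4,8,0,7⟩,⟨0,1,2,0⟩],5,3,false⟩] [] = true := by decide +kernel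
theorem c20016015 : chkFrat M20234 E20014588 [5,7,124] [126,124,121] [5,7,124,1,8,16,32,128,512] [5,7,124,1,8,16,32,128,512] [(0,[1,2,4]),(0,[1,2,4]),(0,[1,2,4]),(32,[1,2,7]),(32,[1,2,7]),(32,[1,2,7]),(33,[2,1,4]),(0,[1,2,4]),(32,[1,2,7])] [⟨0,0,[],0,0,false⟩,⟨0,0,[],0,2,false⟩,⟨3,0,[⟨6,0,0,1⟩,⟨4,0,0,0⟩,⟨0,4,7,0⟩],2,2,false⟩,⟨5,0,[⟨6,0,0,0⟩,⟨4,0,0,1⟩,⟨4,1,0,2⟩,⟨0,4,7,0⟩,⟨5,0,8,0⟩],3,2,false⟩,⟨5,0,[⟨6,0,0,0⟩,⟨4,0,0,3⟩,⟨4,1,0,4⟩,⟨0,4,7,0⟩,⟨0,16,19,0⟩,⟨5,0,8,0⟩],4,5,false⟩,⟨2,0,[⟨6,0,0,1⟩,⟨4,0,0,5⟩,⟨4,4,0,6⟩,⟨4,8,0,7⟩,⟨0,1,2,0⟩],5,3,false⟩] [] = true := by decide +kernel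
theorem c20016044 : chkFrat M20234 E20014588 [5,7,124] [124,126,123] [5,7,124,1,8,16,32,128,512] [5,7,124,1,8,16,32,128,512] [(0,[1,2,4]),(0,[1,2,4]),(0,[1,2,4]),(32,[1,2,7]),(32,[1,2,7]),(32,[1,2,7]),(33,[2,1,4]),(0,[1,2,4]),(32,[1,2,7])] [⟨0,0,[],0,0,false⟩,⟨0,0,[],0,2,false⟩,⟨3,0,[⟨6,0,0,1⟩,⟨4,0,0,0⟩,⟨0,4,7,0⟩],2,2,false⟩,⟨5,0,[⟨6,0,0,0⟩,⟨4,0,0,1⟩,⟨4,1,0,2⟩,⟨0,4,7,0⟩,⟨5,0,8,0⟩],3,2,false⟩,⟨5,0,[⟨6,0,0,0⟩,⟨4,0,0,3⟩,⟨4,1,0,4⟩,⟨0,4,7,0⟩,⟨0,16,19,0⟩,⟨5,0,8,0⟩],4,5,false⟩,⟨2,0,[⟨6,0,0,1⟩,⟨4,0,0,5⟩,⟨4,4,0,6⟩,⟨4,8,0,7⟩,⟨0,1,2,0⟩],5,3,false⟩] [] = true := by decide +kernel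
theorem c20016435 : chkFrat M20234 E20014588 [5,7,124] [124,126,121] [5,7,124,1,8,16,32,128,512] [5,7,124,1,8,16,32,128,512] [(0,[1,2,4]),(0,[1,2,4]),(0,[1,2,4]),(32,[1,2,7]),(32,[1,2,7]),(32,[1,2,7]),(33,[2,1,4]),(0,[1,2,4]),(32,[1,2,7])] [⟨0,0,[],0,0,false⟩,⟨0,0,[],0,2,false⟩,⟨3,0,[⟨6,0,0,1⟩,⟨4,0,0,0⟩,⟨0,4,7,0⟩],2,2,false⟩,⟨5,0,[⟨6,0,0,0⟩,⟨4,0,0,1⟩,⟨4,1,0,2⟩,⟨0,4,7,0⟩,⟨5,0,8,0⟩],3,2,false⟩,⟨5,0,[⟨6,0,0,0⟩,⟨4,0,0,3⟩,⟨4,1,0,4⟩,⟨0,4,7,0⟩,⟨0,16,19,0⟩,⟨5,0,8,0⟩],4,5,false⟩,⟨2,0,[⟨6,0,0,1⟩,⟨4,0,0,5⟩,⟨4,4,0,6⟩,⟨4,8,0,7⟩,⟨0,1,2,0⟩],5,3,false⟩] [] = true := by decide +kernel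
theorem c20016510 : chkFrat M20234 E20014588 [5,7,124] [124,126,123] [5,7,124,1,8,16,32,128,512] [5,7,124,1,8,16,32,128,512] [(0,[1,2,4]),(0,[1,2,4]),(0,[1,2,4]),(32,[1,2,7]),(32,[1,2,7]),(32,[1,2,7]),(33,[2,1,4]),(0,[1,2,4]),(32,[1,2,7])] [⟨0,0,[],0,0,false⟩,⟨0,0,[],0,2,false⟩,⟨3,0,[⟨6,0,0,1⟩,⟨4,0,0,0⟩,⟨0,4,7,0⟩],2,2,false⟩,⟨5,0,[⟨6,0,0,0⟩,⟨4,0,0,1⟩,⟨4,1,0,2⟩,⟨0,4,7,0⟩,⟨5,0,8,0⟩],3,2,false⟩,⟨5,0,[⟨6,0,0,0⟩,⟨4,0,0,3⟩,⟨4,1,0,4⟩,⟨0,4,7,0⟩,⟨0,16,19,0⟩,⟨5,0,8,0⟩],4,5,false⟩,⟨2,0,[⟨6,0,0,1⟩,⟨4,0,0,5⟩,⟨4,4,0,6⟩,⟨4,8,0,7⟩,⟨0,1,2,0⟩],5,3,false⟩] [] = true := by decide +kernel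
theorem c20016577 : chkFrat M20234 E20014588 [5,7,124] [126,124,121] [5,7,124,1,8,16,32,128,512] [5,7,124,1,8,16,32,128,512] [(0,[1,2,4]),(0,[1,2,4]),(0,[1,2,4]),(32,[1,2,7]),(32,[1,2,7]),(32,[1,2,7]),(33,[2,1,4]),(0,[1,2,4]),(32,[1,2,7])] [⟨0,0,[],0,0,false⟩,⟨0,0,[],0,2,false⟩,⟨3,0,[⟨6,0,0,1⟩,⟨4,0,0,0⟩,⟨0,4,7,0⟩],2,2,false⟩,⟨5,0,[⟨6,0,0,0⟩,⟨4,0,0,1⟩,⟨4,1,0,2⟩,⟨0,4,7,0⟩,⟨5,0,8,0⟩],3,2,false⟩,⟨5,0,[⟨6,0,0,0⟩,⟨4,0,0,3⟩,⟨4,1,0,4⟩,⟨0,4,7,0⟩,⟨0,16,19,0⟩,⟨5,0,8,0⟩],4,5,false⟩,⟨2,0,[⟨6,0,0,1⟩,⟨4,0,0,5⟩,⟨4,4,0,6⟩,⟨4,8,0,7⟩,⟨0,1,2,0⟩],5,3,false⟩] [] = true := by decide +kernel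
theorem c20016600 : chkFrat M20234 E20014588 [5,7,124] [126,124,121] [5,7,124,1,8,16,32,128,512] [5,7,124,1,8,16,32,128,512] [(0,[1,2,4]),(0,[1,2,4]),(0,[1,2,4]),(32,[1,2,7]),(32,[1,2,7]),(32,[1,2,7]),(33,[2,1,4]),(0,[1,2,4]),(32,[1,2,7])] [⟨0,0,[],0,0,false⟩,⟨0,0,[],0,2,false⟩,⟨3,0,[⟨6,0,0,1⟩,⟨4,0,0,0⟩,⟨0,4,7,0⟩],2,2,false⟩,⟨5,0,[⟨6,0,0,0⟩,⟨4,0,0,1⟩,⟨4,1,0,2⟩,⟨0,4,7,0⟩,⟨5,0,8,0⟩],3,2,false⟩,⟨5,0,[⟨6,0,0,0⟩,⟨4,0,0,3⟩,⟨4,1,0,4⟩,⟨0,4,7,0⟩,⟨0,16,19,0⟩,⟨5,0,8,0⟩],4,5,false⟩,⟨2,0,[⟨6,0,0,1⟩,⟨4,0,0,5⟩,⟨4,4,0,6⟩,⟨4,8,0,7⟩,⟨0,1,2,0⟩],5,3,false⟩] [] = true := by decide +kernel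
theorem c20016715 : chkFrat M20234 E20014588 [5,7,124] [124,126,123] [5,7,124,1,8,16,32,128,512] [5,7,124,1,8,16,32,128,512] [(0,[1,2,4]),(0,[1,2,4]),(0,[1,2,4]),(32,[1,2,7]),(32,[1,2,7]),(32,[1,2,7]),(33,[2,1,4]),(0,[1,2,4]),(32,[1,2,7])] [⟨0,0,[],0,0,false⟩,⟨0,0,[],0,2,false⟩,⟨3,0,[⟨6,0,0,1⟩,⟨4,0,0,0⟩,⟨0,4,7,0⟩],2,2,false⟩,⟨5,0,[⟨6,0,0,0⟩,⟨4,0,0,1⟩,⟨4,1,0,2⟩,⟨0,4,7,0⟩,⟨5,0,8,0⟩],3,2,false⟩,⟨5,0,[⟨6,0,0,0⟩,⟨4,0,0,3⟩,⟨4,1,0,4⟩,⟨0,4,7,0⟩,⟨0,16,19,0⟩,⟨5,0,8,0⟩],4,5,false⟩,⟨2,0,[⟨6,0,0,1⟩,⟨4,0,0,5⟩,⟨4,4,0,6⟩,⟨4,8,0,7⟩,⟨0,1,2,0⟩],5,3,false⟩] [] = true := by decide +kernel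
theorem c20016802 : chkFrat M20234 E20014588 [5,7,124] [126,124,123] [5,7,124,1,8,16,32,128,512] [5,7,124,1,8,16,32,128,512] [(0,[1,2,4]),(0,[1,2,4]),(0,[1,2,4]),(32,[1,2,7]),(32,[1,2,7]),(32,[1,2,7]),(33,[2,1,4]),(0,[1,2,4]),(32,[1,2,7])] [⟨0,0,[],0,0,false⟩,⟨0,0,[],0,2,false⟩,⟨3,0,[⟨6,0,0,1⟩,⟨4,0,0,0⟩,⟨0,4,7,0⟩],2,2,false⟩,⟨5,0,[⟨6,0,0,0⟩,⟨4,0,0,1⟩,⟨4,1,0,2⟩,⟨0,4,7,0⟩,⟨5,0,8,0⟩],3,2,false⟩,⟨5,0,[⟨6,0,0,0⟩,⟨4,0,0,3⟩,⟨4,1,0,4⟩,⟨0,4,7,0⟩,⟨0,16,19,0⟩,⟨5,0,8,0⟩],4,5,false⟩,⟨2,0,[⟨6,0,0,1⟩,⟨4,0,0,5⟩,⟨4,4,0,6⟩,⟨4,8,0,7⟩,⟨0,1,2,0⟩],5,3,false⟩] [] = true := by decide +kernel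
theorem c20016951 : chkFrat M20234 E20014588 [5,7,124] [126,124,123] [5,7,124,1,8,16,32,128,512] [5,7,124,1,8,16,32,128,512] [(0,[1,2,4]),(0,[1,2,4]),(0,[1,2,4]),(32,[1,2,7]),(32,[1,2,7]),(32,[1,2,7]),(33,[2,1,4]),(0,[1,2,4]),(32,[1,2,7])] [⟨0,0,[],0,0,false⟩,⟨0,0,[],0,2,false⟩,⟨3,0,[⟨6,0,0,1⟩,⟨4,0,0,0⟩,⟨0,4,7,0⟩],2,2,false⟩,⟨5,0,[⟨6,0,0,0⟩,⟨4,0,0,1⟩,⟨4,1,0,2⟩,⟨0,4,7,0⟩,⟨5,0,8,0⟩],3,2,false⟩,⟨5,0,[⟨6,0,0,0⟩,⟨4,0,0,3⟩,⟨4,1,0,4⟩,⟨0,4,7,0⟩,⟨0,16,19,0⟩,⟨5,0,8,0⟩],4,5,false⟩,⟨2,0,[⟨6,0,0,1⟩,⟨4,0,0,5⟩,⟨4,4,0,6⟩,⟨4,8,0,7⟩,⟨0,1,2,0⟩],5,3,false⟩] [] = true := by decide +kernel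
theorem c20017018 : chkFrat M20234 E20014588 [5,7,124] [124,126,121] [5,7,124,1,8,16,32,128,512] [5,7,124,1,8,16,32,128,512] [(0,[1,2,4]),(0,[1,2,4]),(0,[1,2,4]),(32,[1,2,7]),(32,[1,2,7]),(32,[1,2,7]),(33,[2,1,4]),(0,[1,2,4]),(32,[1,2,7])] [⟨0,0,[],0,0,false⟩,⟨0,0,[],0,2,false⟩,⟨3,0,[⟨6,0,0,1⟩,⟨4,0,0,0⟩,⟨0,4,7,0⟩],2,2,false⟩,⟨5,0,[⟨6,0,0,0⟩,⟨4,0,0,1⟩,⟨4,1,0,2⟩,⟨0,4,7,0⟩,⟨5,0,8,0⟩],3,2,false⟩,⟨5,0,[⟨6,0,0,0⟩,⟨4,0,0,3⟩,⟨4,1,0,4⟩,⟨0,4,7,0⟩,⟨0,16,19,0⟩,⟨5,0,8,0⟩],4,5,false⟩,⟨2,0,[⟨6,0,0,1⟩,⟨4,0,0,5⟩,⟨4,4,0,6⟩,⟨4,8,0,7⟩,⟨0,1,2,0⟩],5,3,false⟩] [] = true := by decide +kernel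
theorem c20017040 : chkFrat M20234 E20014588 [5,7,124] [126,124,123] [5,7,124,1,8,16,32,128,512] [5,7,124,1,8,16,32,128,512] [(0,[1,2,4]),(0,[1,2,4]),(0,[1,2,4]),(32,[1,2,7]),(32,[1,2,7]),(32,[1,2,7]),(33,[2,1,4]),(0,[1,2,4]),(32,[1,2,7])] [⟨0,0,[],0,0,false⟩,⟨0,0,[],0,2,false⟩,⟨3,0,[⟨6,0,0,1⟩,⟨4,0,0,0⟩,⟨0,4,7,0⟩],2,2,false⟩,⟨5,0,[⟨6,0,0,0⟩,⟨4,0,0,1⟩,⟨4,1,0,2⟩,⟨0,4,7,0⟩,⟨5,0,8,0⟩],3,2,false⟩,⟨5,0,[⟨6,0,0,0⟩,⟨4,0,0,3⟩,⟨4,1,0,4⟩,⟨0,4,7,0⟩,⟨0,16,19,0⟩,⟨5,0,8,0⟩],4,5,false⟩,⟨2,0,[⟨6,0,0,1⟩,⟨4,0,0,5⟩,⟨4,4,0,6⟩,⟨4,8,0,7⟩,⟨0,1,2,0⟩],5,3,false⟩] [] = true := by decide +kernel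
theorem c20017154 : chkFrat M20234 E20014588 [5,7,124] [124,126,121] [5,7,124,1,8,16,32,128,512] [5,7,124,1,8,16,32,128,512] [(0,[1,2,4]),(0,[1,2,4]),(0,[1,2,4]),(32,[1,2,7]),(32,[1,2,7]),(32,[1,2,7]),(33,[2,1,4]),(0,[1,2,4]),(32,[1,2,7])] [⟨0,0,[],0,0,false⟩,⟨0,0,[],0,2,false⟩,⟨3,0,[⟨6,0,0,1⟩,⟨4,0,0,0⟩,⟨0,4,7,0⟩],2,2,false⟩,⟨5,0,[⟨6,0,0,0⟩,⟨4,0,0,1⟩,⟨4,1,0,2⟩,⟨0,4,7,0⟩,⟨5,0,8,0⟩],3,2,false⟩,⟨5,0,[⟨6,0,0,0⟩,⟨4,0,0,3⟩,⟨4,1,0,4⟩,⟨0,4,7,0⟩,⟨0,16,19,0⟩,⟨5,0,8,0⟩],4,5,false⟩,⟨2,0,[⟨6,0,0,1⟩,⟨4,0,0,5⟩,⟨4,4,0,6⟩,⟨4,8,0,7⟩,⟨0,1,2,0⟩],5,3,false⟩] [] = true := by decide +kernel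
theorem c20017243 : chkFrat M20234 E20014588 [5,7,124] [124,126,121] [5,7,124,1,8,16,32,128,512] [5,7,124,1,8,16,32,128,512] [(0,[1,2,4]),(0,[1,2,4]),(0,[1,2,4]),(32,[1,2,7]),(32,[1,2,7]),(32,[1,2,7]),(33,[2,1,4]),(0,[1,2,4]),(32,[1,2,7])] [⟨0,0,[],0,0,false⟩,⟨0,0,[],0,2,false⟩,⟨3,0,[⟨6,0,0,1⟩,⟨4,0,0,0⟩,⟨0,4,7,0⟩],2,2,false⟩,⟨5,0,[⟨6,0,0,0⟩,⟨4,0,0,1⟩,⟨4,1,0,2⟩,⟨0,4,7,0⟩,⟨5,0,8,0⟩],3,2,false⟩,⟨5,0,[⟨6,0,0,0⟩,⟨4,0,0,3⟩,⟨4,1,0,4⟩,⟨0,4,7,0⟩,⟨0,16,19,0⟩,⟨5,0,8,0⟩],4,5,false⟩,⟨2,0,[⟨6,0,0,1⟩,⟨4,0,0,5⟩,⟨4,4,0,6⟩,⟨4,8,0,7⟩,⟨0,1,2,0⟩],5,3,false⟩] [] = true := by decide +kernel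
theorem c20017348 : chkFrat M20234 E20014588 [5,7,124] [126,124,121] [5,7,124,1,8,16,32,128,512] [5,7,124,1,8,16,32,128,512] [(0,[1,2,4]),(0,[1,2,4]),(0,[1,2,4]),(32,[1,2,7]),(32,[1,2,7]),(32,[1,2,7]),(33,[2,1,4]),(0,[1,2,4]),(32,[1,2,7])] [⟨0,0,[],0,0,false⟩,⟨0,0,[],0,2,false⟩,⟨3,0,[⟨6,0,0,1⟩,⟨4,0,0,0⟩,⟨0,4,7,0⟩],2,2,false⟩,⟨5,0,[⟨6,0,0,0⟩,⟨4,0,0,1⟩,⟨4,1,0,2⟩,⟨0,4,7,0⟩,⟨5,0,8,0⟩],3,2,false⟩,⟨5,0,[⟨6,0,0,0⟩,⟨4,0,0,3⟩,⟨4,1,0,4⟩,⟨0,4,7,0⟩,⟨0,16,19,0⟩,⟨5,0,8,0⟩],4,5,false⟩,⟨2,0,[⟨6,0,0,1⟩,⟨4,0,0,5⟩,⟨4,4,0,6⟩,⟨4,8,0,7⟩,⟨0,1,2,0⟩],5,3,false⟩] [] = true := by decide +kernel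
theorem c20017479 : chkFrat M20234 E20014588 [5,7,124] [124,126,123] [5,7,124,1,8,16,32,128,512] [5,7,124,1,8,16,32,128,512] [(0,[1,2,4]),(0,[1,2,4]),(0,[1,2,4]),(32,[1,2,7]),(32,[1,2,7]),(32,[1,2,7]),(33,[2,1,4]),(0,[1,2,4]),(32,[1,2,7])] [⟨0,0,[],0,0,false⟩,⟨0,0,[],0,2,false⟩,⟨3,0,[⟨6,0,0,1⟩,⟨4,0,0,0⟩,⟨0,4,7,0⟩],2,2,false⟩,⟨5,0,[⟨6,0,0,0⟩,⟨4,0,0,1⟩,⟨4,1,0,2⟩,⟨0,4,7,0⟩,⟨5,0,8,0⟩],3,2,false⟩,⟨5,0,[⟨6,0,0,0⟩,⟨4,0,0,3⟩,⟨4,1,0,4⟩,⟨0,4,7,0⟩,⟨0,16,19,0⟩,⟨5,0,8,0⟩],4,5,false⟩,⟨2,0,[⟨6,0,0,1⟩,⟨4,0,0,5⟩,⟨4,4,0,6⟩,⟨4,8,0,7⟩,⟨0,1,2,0⟩],5,3,false⟩] [] = true := by decide +kernel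
theorem c20017598 : chkFrat M20234 E20014588 [5,7,124] [124,126,121] [5,7,124,1,8,16,32,128,512] [5,7,124,1,8,16,32,128,512] [(0,[1,2,4]),(0,[1,2,4]),(0,[1,2,4]),(32,[1,2,7]),(32,[1,2,7]),(32,[1,2,7]),(33,[2,1,4]),(0,[1,2,4]),(32,[1,2,7])] [⟨0,0,[],0,0,false⟩,⟨0,0,[],0,2,false⟩,⟨3,0,[⟨6,0,0,1⟩,⟨4,0,0,0⟩,⟨0,4,7,0⟩],2,2,false⟩,⟨5,0,[⟨6,0,0,0⟩,⟨4,0,0,1⟩,⟨4,1,0,2⟩,⟨0,4,7,0⟩,⟨5,0,8,0⟩],3,2,false⟩,⟨5,0,[⟨6,0,0,0⟩,⟨4,0,0,3⟩,⟨4,1,0,4⟩,⟨0,4,7,0⟩,⟨0,16,19,0⟩,⟨5,0,8,0⟩],4,5,false⟩,⟨2,0,[⟨6,0,0,1⟩,⟨4,0,0,5⟩,⟨4,4,0,6⟩,⟨4,8,0,7⟩,⟨0,1,2,0⟩],5,3,false⟩] [] = true := by decide +kernel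
theorem c20017679 : chkFrat M20234 E20014588 [5,7,124] [124,126,121] [5,7,124,1,8,16,32,128,512] [5,7,124,1,8,16,32,128,512] [(0,[1,2,4]),(0,[1,2,4]),(0,[1,2,4]),(32,[1,2,7]),(32,[1,2,7]),(32,[1,2,7]),(33,[2,1,4]),(0,[1,2,4]),(32,[1,2,7])] [⟨0,0,[],0,0,false⟩,⟨0,0,[],0,2,false⟩,⟨3,0,[⟨6,0,0,1⟩,⟨4,0,0,0⟩,⟨0,4,7,0⟩],2,2,false⟩,⟨5,0,[⟨6,0,0,0⟩,⟨4,0,0,1⟩,⟨4,1,0,2⟩,⟨0,4,7,0⟩,⟨5,0,8,0⟩],3,2,false⟩,⟨5,0,[⟨6,0,0,0⟩,⟨4,0,0,3⟩,⟨4,1,0,4⟩,⟨0,4,7,0⟩,⟨0,16,19,0⟩,⟨5,0,8,0⟩],4,5,false⟩,⟨2,0,[⟨6,0,0,1⟩,⟨4,0,0,5⟩,⟨4,4,0,6⟩,⟨4,8,0,7⟩,⟨0,1,2,0⟩],5,3,false⟩] [] = true := by decide +kernel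
theorem c20017749 : chkFrat M20234 E20014588 [5,7,124] [124,126,121] [5,7,124,1,8,16,32,128,512] [5,7,124,1,8,16,32,128,512] [(0,[1,2,4]),(0,[1,2,4]),(0,[1,2,4]),(32,[1,2,7]),(32,[1,2,7]),(32,[1,2,7]),(33,[2,1,4]),(0,[1,2,4]),(32,[1,2,7])] [⟨0,0,[],0,0,false⟩,⟨0,0,[],0,2,false⟩,⟨3,0,[⟨6,0,0,1⟩,⟨4,0,0,0⟩,⟨0,4,7,0⟩],2,2,false⟩,⟨5,0,[⟨6,0,0,0⟩,⟨4,0,0,1⟩,⟨4,1,0,2⟩,⟨0,4,7,0⟩,⟨5,0,8,0⟩],3,2,false⟩,⟨5,0,[⟨6,0,0,0⟩,⟨4,0,0,3⟩,⟨4,1,0,4⟩,⟨0,4,7,0⟩,⟨0,16,19,0⟩,⟨5,0,8,0⟩],4,5,false⟩,⟨2,0,[⟨6,0,0,1⟩,⟨4,0,0,5⟩,⟨4,4,0,6⟩,⟨4,8,0,7⟩,⟨0,1,2,0⟩],5,3,false⟩] [] = true := by decide +kernel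
theorem c20017829 : chkFrat M20234 E20014588 [5,7,124] [126,124,123] [5,7,124,1,8,16,32,128,512] [5,7,124,1,8,16,32,128,512] [(0,[1,2,4]),(0,[1,2,4]),(0,[1,2,4]),(32,[1,2,7]),(32,[1,2,7]),(32,[1,2,7]),(33,[2,1,4]),(0,[1,2,4]),(32,[1,2,7])] [⟨0,0,[],0,0,false⟩,⟨0,0,[],0,2,false⟩,⟨3,0,[⟨6,0,0,1⟩,⟨4,0,0,0⟩,⟨0,4,7,0⟩],2,2,false⟩,⟨5,0,[⟨6,0,0,0⟩,⟨4,0,0,1⟩,⟨4,1,0,2⟩,⟨0,4,7,0⟩,⟨5,0,8,0⟩],3,2,false⟩,⟨5,0,[⟨6,0,0,0⟩,⟨4,0,0,3⟩,⟨4,1,0,4⟩,⟨0,4,7,0⟩,⟨0,16,19,0⟩,⟨5,0,8,0⟩],4,5,false⟩,⟨2,0,[⟨6,0,0,1⟩,⟨4,0,0,5⟩,⟨4,4,0,6⟩,⟨4,8,0,7⟩,⟨0,1,2,0⟩],5,3,false⟩] [] = true := by decide +kernel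
theorem c20017923 : chkFrat M20234 E20014588 [5,7,124] [124,126,123] [5,7,124,1,8,16,32,128,512] [5,7,124,1,8,16,32,128,512] [(0,[1,2,4]),(0,[1,2,4]),(0,[1,2,4]),(32,[1,2,7]),(32,[1,2,7]),(32,[1,2,7]),(33,[2,1,4]),(0,[1,2,4]),(32,[1,2,7])] [⟨0,0,[],0,0,false⟩,⟨0,0,[],0,2,false⟩,⟨3,0,[⟨6,0,0,1⟩,⟨4,0,0,0⟩,⟨0,4,7,0⟩],2,2,false⟩,⟨5,0,[⟨6,0,0,0⟩,⟨4,0,0,1⟩,⟨4,1,0,2⟩,⟨0,4,7,0⟩,⟨5,0,8,0⟩],3,2,false⟩,⟨5,0,[⟨6,0,0,0⟩,⟨4,0,0,3⟩,⟨4,1,0,4⟩,⟨0,4,7,0⟩,⟨0,16,19,0⟩,⟨5,0,8,0⟩],4,5,false⟩,⟨2,0,[⟨6,0,0,1⟩,⟨4,0,0,5⟩,⟨4,4,0,6⟩,⟨4,8,0,7⟩,⟨0,1,2,0⟩],5,3,false⟩] [] = true := by decide +kernel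
theorem c20018059 : chkFrat M20234 E20014588 [5,7,124] [124,126,123] [5,7,124,1,8,16,32,128,512] [5,7,124,1,8,16,32,128,512] [(0,[1,2,4]),(0,[1,2,4]),(0,[1,2,4]),(32,[1,2,7]),(32,[1,2,7]),(32,[1,2,7]),(33,[2,1,4]),(0,[1,2,4]),(32,[1,2,7])] [⟨0,0,[],0,0,false⟩,⟨0,0,[],0,2,false⟩,⟨3,0,[⟨6,0,0,1⟩,⟨4,0,0,0⟩,⟨0,4,7,0⟩],2,2,false⟩,⟨5,0,[⟨6,0,0,0⟩,⟨4,0,0,1⟩,⟨4,1,0,2⟩,⟨0,4,7,0⟩,⟨5,0,8,0⟩],3,2,false⟩,⟨5,0,[⟨6,0,0,0⟩,⟨4,0,0,3⟩,⟨4,1,0,4⟩,⟨0,4,7,0⟩,⟨0,16,19,0⟩,⟨5,0,8,0⟩],4,5,false⟩,⟨2,0,[⟨6,0,0,1⟩,⟨4,0,0,5⟩,⟨4,4,0,6⟩,⟨4,8,0,7⟩,⟨0,1,2,0⟩],5,3,false⟩] [] = true := by decide +kernel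
theorem c20018639 : chkFrat M20234 E20014588 [5,7,124] [124,126,123] [5,7,124,1,8,16,32,128,512] [5,7,124,1,8,16,32,128,512] [(0,[1,2,4]),(0,[1,2,4]),(0,[1,2,4]),(32,[1,2,7]),(32,[1,2,7]),(32,[1,2,7]),(33,[2,1,4]),(0,[1,2,4]),(32,[1,2,7])] [⟨0,0,[],0,0,false⟩,⟨0,0,[],0,2,false⟩,⟨3,0,[⟨6,0,0,1⟩,⟨4,0,0,0⟩,⟨0,4,7,0⟩],2,2,false⟩,⟨5,0,[⟨6,0,0,0⟩,⟨4,0,0,1⟩,⟨4,1,0,2⟩,⟨0,4,7,0⟩,⟨5,0,8,0⟩],3,2,false⟩,⟨5,0,[⟨6,0,0,0⟩,⟨4,0,0,3⟩,⟨4,1,0,4⟩,⟨0,4,7,0⟩,⟨0,16,19,0⟩,⟨5,0,8,0⟩],4,5,false⟩,⟨2,0,[⟨6,0,0,1⟩,⟨4,0,0,5⟩,⟨4,4,0,6⟩,⟨4,8,0,7⟩,⟨0,1,2,0⟩],5,3,false⟩] [] = true := by decide +kernel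
theorem c20018765 : chkFrat M20234 E20014588 [5,7,124] [124,126,123] [5,7,124,1,8,16,32,128,512] [5,7,124,1,8,16,32,128,512] [(0,[1,2,4]),(0,[1,2,4]),(0,[1,2,4]),(32,[1,2,7]),(32,[1,2,7]),(32,[1,2,7]),(33,[2,1,4]),(0,[1,2,4]),(32,[1,2,7])] [⟨0,0,[],0,0,false⟩,⟨0,0,[],0,2,false⟩,⟨3,0,[⟨6,0,0,1⟩,⟨4,0,0,0⟩,⟨0,4,7,0⟩],2,2,false⟩,⟨5,0,[⟨6,0,0,0⟩,⟨4,0,0,1⟩,⟨4,1,0,2⟩,⟨0,4,7,0⟩,⟨5,0,8,0⟩],3,2,false⟩,⟨5,0,[⟨6,0,0,0⟩,⟨4,0,0,3⟩,⟨4,1,0,4⟩,⟨0,4,7,0⟩,⟨0,16,19,0⟩,⟨5,0,8,0⟩],4,5,false⟩,⟨2,0,[⟨6,0,0,1⟩,⟨4,0,0,5⟩,⟨4,4,0,6⟩,⟨4,8,0,7⟩,⟨0,1,2,0⟩],5,3,false⟩] [] = true := by decide +kernel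
theorem c20018869 : chkFrat M20234 E20014588 [5,7,124] [126,124,121] [5,7,124,1,8,16,32,128,512] [5,7,124,1,8,16,32,128,512] [(0,[1,2,4]),(0,[1,2,4]),(0,[1,2,4]),(32,[1,2,7]),(32,[1,2,7]),(32,[1,2,7]),(33,[2,1,4]),(0,[1,2,4]),(32,[1,2,7])] [⟨0,0,[],0,0,false⟩,⟨0,0,[],0,2,false⟩,⟨3,0,[⟨6,0,0,1⟩,⟨4,0,0,0⟩,⟨0,4,7,0⟩],2,2,false⟩,⟨5,0,[⟨6,0,0,0⟩,⟨4,0,0,1⟩,⟨4,1,0,2⟩,⟨0,4,7,0⟩,⟨5,0,8,0⟩],3,2,false⟩,⟨5,0,[⟨6,0,0,0⟩,⟨4,0,0,3⟩,⟨4,1,0,4⟩,⟨0,4,7,0⟩,⟨0,16,19,0⟩,⟨5,0,8,0⟩],4,5,false⟩,⟨2,0,[⟨6,0,0,1⟩,⟨4,0,0,5⟩,⟨4,4,0,6⟩,⟨4,8,0,7⟩,⟨0,1,2,0⟩],5,3,false⟩] [] = true := by decide +kernel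
theorem c20018939 : chkFrat M20234 E20014588 [5,7,124] [124,126,123] [5,7,124,1,8,16,32,128,512] [5,7,124,1,8,16,32,128,512] [(0,[1,2,4]),(0,[1,2,4]),(0,[1,2,4]),(32,[1,2,7]),(32,[1,2,7]),(32,[1,2,7]),(33,[2,1,4]),(0,[1,2,4]),(32,[1,2,7])] [⟨0,0,[],0,0,false⟩,⟨0,0,[],0,2,false⟩,⟨3,0,[⟨6,0,0,1⟩,⟨4,0,0,0⟩,⟨0,4,7,0⟩],2,2,false⟩,⟨5,0,[⟨6,0,0,0⟩,⟨4,0,0,1⟩,⟨4,1,0,2⟩,⟨0,4,7,0⟩,⟨5,0,8,0⟩],3,2,false⟩,⟨5,0,[⟨6,0,0,0⟩,⟨4,0,0,3⟩,⟨4,1,0,4⟩,⟨0,4,7,0⟩,⟨0,16,19,0⟩,⟨5,0,8,0⟩],4,5,false⟩,⟨2,0,[⟨6,0,0,1⟩,⟨4,0,0,5⟩,⟨4,4,0,6⟩,⟨4,8,0,7⟩,⟨0,1,2,0⟩],5,3,false⟩] [] = true := by decide +kernel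
theorem c20019007 : chkFrat M20234 E20014588 [5,7,124] [126,124,123] [5,7,124,1,8,16,32,128,512] [5,7,124,1,8,16,32,128,512] [(0,[1,2,4]),(0,[1,2,4]),(0,[1,2,4]),(32,[1,2,7]),(32,[1,2,7]),(32,[1,2,7]),(33,[2,1,4]),(0,[1,2,4]),(32,[1,2,7])] [⟨0,0,[],0,0,false⟩,⟨0,0,[],0,2,false⟩,⟨3,0,[⟨6,0,0,1⟩,⟨4,0,0,0⟩,⟨0,4,7,0⟩],2,2,false⟩,⟨5,0,[⟨6,0,0,0⟩,⟨4,0,0,1⟩,⟨4,1,0,2⟩,⟨0,4,7,0⟩,⟨5,0,8,0⟩],3,2,false⟩,⟨5,0,[⟨6,0,0,0⟩,⟨4,0,0,3⟩,⟨4,1,0,4⟩,⟨0,4,7,0⟩,⟨0,16,19,0⟩,⟨5,0,8,0⟩],4,5,false⟩,⟨2,0,[⟨6,0,0,1⟩,⟨4,0,0,5⟩,⟨4,4,0,6⟩,⟨4,8,0,7⟩,⟨0,1,2,0⟩],5,3,false⟩] [] = true := by decide +kernel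
theorem c20019037 : chkFrat M20234 E20014588 [5,7,124] [124,126,123] [5,7,124,1,8,16,32,128,512] [5,7,124,1,8,16,32,128,512] [(0,[1,2,4]),(0,[1,2,4]),(0,[1,2,4]),(32,[1,2,7]),(32,[1,2,7]),(32,[1,2,7]),(33,[2,1,4]),(0,[1,2,4]),(32,[1,2,7])] [⟨0,0,[],0,0,false⟩,⟨0,0,[],0,2,false⟩,⟨3,0,[⟨6,0,0,1⟩,⟨4,0,0,0⟩,⟨0,4,7,0⟩],2,2,false⟩,⟨5,0,[⟨6,0,0,0⟩,⟨4,0,0,1⟩,⟨4,1,0,2⟩,⟨0,4,7,0⟩,⟨5,0,8,0⟩],3,2,false⟩,⟨5,0,[⟨6,0,0,0⟩,⟨4,0,0,3⟩,⟨4,1,0,4⟩,⟨0,4,7,0⟩,⟨0,16,19,0⟩,⟨5,0,8,0⟩],4,5,false⟩,⟨2,0,[⟨6,0,0,1⟩,⟨4,0,0,5⟩,⟨4,4,0,6⟩,⟨4,8,0,7⟩,⟨0,1,2,0⟩],5,3,false⟩] [] = true := by decide +kernel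
theorem c20019089 : chkFrat M20234 E20014588 [5,7,124] [124,126,121] [5,7,124,1,8,16,32,128,512] [5,7,124,1,8,16,32,128,512] [(0,[1,2,4]),(0,[1,2,4]),(0,[1,2,4]),(32,[1,2,7]),(32,[1,2,7]),(32,[1,2,7]),(33,[2,1,4]),(0,[1,2,4]),(32,[1,2,7])] [⟨0,0,[],0,0,false⟩,⟨0,0,[],0,2,false⟩,⟨3,0,[⟨6,0,0,1⟩,⟨4,0,0,0⟩,⟨0,4,7,0⟩],2,2,false⟩,⟨5,0,[⟨6,0,0,0⟩,⟨4,0,0,1⟩,⟨4,1,0,2⟩,⟨0,4,7,0⟩,⟨5,0,8,0⟩],3,2,false⟩,⟨5,0,[⟨6,0,0,0⟩,⟨4,0,0,3⟩,⟨4,1,0,4⟩,⟨0,4,7,0⟩,⟨0,16,19,0⟩,⟨5,0,8,0⟩],4,5,false⟩,⟨2,0,[⟨6,0,0,1⟩,⟨4,0,0,5⟩,⟨4,4,0,6⟩,⟨4,8,0,7⟩,⟨0,1,2,0⟩],5,3,false⟩] [] = true := by decide +kernel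
theorem c20019161 : chkFrat M20234 E20014588 [5,7,124] [124,126,121] [5,7,124,1,8,16,32,128,512] [5,7,124,1,8,16,32,128,512] [(0,[1,2,4]),(0,[1,2,4]),(0,[1,2,4]),(32,[1,2,7]),(32,[1,2,7]),(32,[1,2,7]),(33,[2,1,4]),(0,[1,2,4]),(32,[1,2,7])] [⟨0,0,[],0,0,false⟩,⟨0,0,[],0,2,false⟩,⟨3,0,[⟨6,0,0,1⟩,⟨4,0,0,0⟩,⟨0,4,7,0⟩],2,2,false⟩,⟨5,0,[⟨6,0,0,0⟩,⟨4,0,0,1⟩,⟨4,1,0,2⟩,⟨0,4,7,0⟩,⟨5,0,8,0⟩],3,2,false⟩,⟨5,0,[⟨6,0,0,0⟩,⟨4,0,0,3⟩,⟨4,1,0,4⟩,⟨0,4,7,0⟩,⟨0,16,19,0⟩,⟨5,0,8,0⟩],4,5,false⟩,⟨2,0,[⟨6,0,0,1⟩,⟨4,0,0,5⟩,⟨4,4,0,6⟩,⟨4,8,0,7⟩,⟨0,1,2,0⟩],5,3,false⟩] [] = true := by decide +kernel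
theorem c20019231 : chkFrat M20234 E20014588 [5,7,124] [126,124,121] [5,7,124,1,8,16,32,128,512] [5,7,124,1,8,16,32,128,512] [(0,[1,2,4]),(0,[1,2,4]),(0,[1,2,4]),(32,[1,2,7]),(32,[1,2,7]),(32,[1,2,7]),(33,[2,1,4]),(0,[1,2,4]),(32,[1,2,7])] [⟨0,0,[],0,0,false⟩,⟨0,0,[],0,2,false⟩,⟨3,0,[⟨6,0,0,1⟩,⟨4,0,0,0⟩,⟨0,4,7,0⟩],2,2,false⟩,⟨5,0,[⟨6,0,0,0⟩,⟨4,0,0,1⟩,⟨4,1,0,2⟩,⟨0,4,7,0⟩,⟨5,0,8,0⟩],3,2,false⟩,⟨5,0,[⟨6,0,0,0⟩,⟨4,0,0,3⟩,⟨4,1,0,4⟩,⟨0,4,7,0⟩,⟨0,16,19,0⟩,⟨5,0,8,0⟩],4,5,false⟩,⟨2,0,[⟨6,0,0,1⟩,⟨4,0,0,5⟩,⟨4,4,0,6⟩,⟨4,8,0,7⟩,⟨0,1,2,0⟩],5,3,false⟩] [] = true := by decide +kernel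
theorem c20019255 : chkFrat M20234 E20014588 [5,7,124] [124,126,121] [5,7,124,1,8,16,32,128,512] [5,7,124,1,8,16,32,128,512] [(0,[1,2,4]),(0,[1,2,4]),(0,[1,2,4]),(32,[1,2,7]),(32,[1,2,7]),(32,[1,2,7]),(33,[2,1,4]),(0,[1,2,4]),(32,[1,2,7])] [⟨0,0,[],0,0,false⟩,⟨0,0,[],0,2,false⟩,⟨3,0,[⟨6,0,0,1⟩,⟨4,0,0,0⟩,⟨0,4,7,0⟩],2,2,false⟩,⟨5,0,[⟨6,0,0,0⟩,⟨4,0,0,1⟩,⟨4,1,0,2⟩,⟨0,4,7,0⟩,⟨5,0,8,0⟩],3,2,false⟩,⟨5,0,[⟨6,0,0,0⟩,⟨4,0,0,3⟩,⟨4,1,0,4⟩,⟨0,4,7,0⟩,⟨0,16,19,0⟩,⟨5,0,8,0⟩],4,5,false⟩,⟨2,0,[⟨6,0,0,1⟩,⟨4,0,0,5⟩,⟨4,4,0,6⟩,⟨4,8,0,7⟩,⟨0,1,2,0⟩],5,3,false⟩] [] = true := by decide +kernel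
theorem c20019357 : chkFrat M20234 E20014588 [5,7,124] [124,126,123] [5,7,124,1,8,16,32,128,512] [5,7,124,1,8,16,32,128,512] [(0,[1,2,4]),(0,[1,2,4]),(0,[1,2,4]),(32,[1,2,7]),(32,[1,2,7]),(32,[1,2,7]),(33,[2,1,4]),(0,[1,2,4]),(32,[1,2,7])] [⟨0,0,[],0,0,false⟩,⟨0,0,[],0,2,false⟩,⟨3,0,[⟨6,0,0,1⟩,⟨4,0,0,0⟩,⟨0,4,7,0⟩],2,2,false⟩,⟨5,0,[⟨6,0,0,0⟩,⟨4,0,0,1⟩,⟨4,1,0,2⟩,⟨0,4,7,0⟩,⟨5,0,8,0⟩],3,2,false⟩,⟨5,0,[⟨6,0,0,0⟩,⟨4,0,0,3⟩,⟨4,1,0,4⟩,⟨0,4,7,0⟩,⟨0,16,19,0⟩,⟨5,0,8,0⟩],4,5,false⟩,⟨2,0,[⟨6,0,0,1⟩,⟨4,0,0,5⟩,⟨4,4,0,6⟩,⟨4,8,0,7⟩,⟨0,1,2,0⟩],5,3,false⟩] [] = true := by decide +kernel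
theorem c20019461 : chkFrat M20234 E20014588 [5,7,124] [126,124,121] [5,7,124,1,8,16,32,128,512] [5,7,124,1,8,16,32,128,512] [(0,[1,2,4]),(0,[1,2,4]),(0,[1,2,4]),(32,[1,2,7]),(32,[1,2,7]),(32,[1,2,7]),(33,[2,1,4]),(0,[1,2,4]),(32,[1,2,7])] [⟨0,0,[],0,0,false⟩,⟨0,0,[],0,2,false⟩,⟨3,0,[⟨6,0,0,1⟩,⟨4,0,0,0⟩,⟨0,4,7,0⟩],2,2,false⟩,⟨5,0,[⟨6,0,0,0⟩,⟨4,0,0,1⟩,⟨4,1,0,2⟩,⟨0,4,7,0⟩,⟨5,0,8,0⟩],3,2,false⟩,⟨5,0,[⟨6,0,0,0⟩,⟨4,0,0,3⟩,⟨4,1,0,4⟩,⟨0,4,7,0⟩,⟨0,16,19,0⟩,⟨5,0,8,0⟩],4,5,false⟩,⟨2,0,[⟨6,0,0,1⟩,⟨4,0,0,5⟩,⟨4,4,0,6⟩,⟨4,8,0,7⟩,⟨0,1,2,0⟩],5,3,false⟩] [] = true := by decide +kernel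
theorem c20019531 : chkFrat M20234 E20014588 [5,7,124] [124,126,123] [5,7,124,1,8,16,32,128,512] [5,7,124,1,8,16,32,128,512] [(0,[1,2,4]),(0,[1,2,4]),(0,[1,2,4]),(32,[1,2,7]),(32,[1,2,7]),(32,[1,2,7]),(33,[2,1,4]),(0,[1,2,4]),(32,[1,2,7])] [⟨0,0,[],0,0,false⟩,⟨0,0,[],0,2,false⟩,⟨3,0,[⟨6,0,0,1⟩,⟨4,0,0,0⟩,⟨0,4,7,0⟩],2,2,false⟩,⟨5,0,[⟨6,0,0,0⟩,⟨4,0,0,1⟩,⟨4,1,0,2⟩,⟨0,4,7,0⟩,⟨5,0,8,0⟩],3,2,false⟩,⟨5,0,[⟨6,0,0,0⟩,⟨4,0,0,3⟩,⟨4,1,0,4⟩,⟨0,4,7,0⟩,⟨0,16,19,0⟩,⟨5,0,8,0⟩],4,5,false⟩,⟨2,0,[⟨6,0,0,1⟩,⟨4,0,0,5⟩,⟨4,4,0,6⟩,⟨4,8,0,7⟩,⟨0,1,2,0⟩],5,3,false⟩] [] = true := by decide +kernel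
theorem c20019599 : chkFrat M20234 E20014588 [5,7,124] [126,124,123] [5,7,124,1,8,16,32,128,512] [5,7,124,1,8,16,32,128,512] [(0,[1,2,4]),(0,[1,2,4]),(0,[1,2,4]),(32,[1,2,7]),(32,[1,2,7]),(32,[1,2,7]),(33,[2,1,4]),(0,[1,2,4]),(32,[1,2,7])] [⟨0,0,[],0,0,false⟩,⟨0,0,[],0,2,false⟩,⟨3,0,[⟨6,0,0,1⟩,⟨4,0,0,0⟩,⟨0,4,7,0⟩],2,2,false⟩,⟨5,0,[⟨6,0,0,0⟩,⟨4,0,0,1⟩,⟨4,1,0,2⟩,⟨0,4,7,0⟩,⟨5,0,8,0⟩],3,2,false⟩,⟨5,0,[⟨6,0,0,0⟩,⟨4,0,0,3⟩,⟨4,1,0,4⟩,⟨0,4,7,0⟩,⟨0,16,19,0⟩,⟨5,0,8,0⟩],4,5,false⟩,⟨2,0,[⟨6,0,0,1⟩,⟨4,0,0,5⟩,⟨4,4,0,6⟩,⟨4,8,0,7⟩,⟨0,1,2,0⟩],5,3,false⟩] [] = true := by decide +kernel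
theorem c20019629 : chkFrat M20234 E20014588 [5,7,124] [124,126,123] [5,7,124,1,8,16,32,128,512] [5,7,124,1,8,16,32,128,512] [(0,[1,2,4]),(0,[1,2,4]),(0,[1,2,4]),(32,[1,2,7]),(32,[1,2,7]),(32,[1,2,7]),(33,[2,1,4]),(0,[1,2,4]),(32,[1,2,7])] [⟨0,0,[],0,0,false⟩,⟨0,0,[],0,2,false⟩,⟨3,0,[⟨6,0,0,1⟩,⟨4,0,0,0⟩,⟨0,4,7,0⟩],2,2,false⟩,⟨5,0,[⟨6,0,0,0⟩,⟨4,0,0,1⟩,⟨4,1,0,2⟩,⟨0,4,7,0⟩,⟨5,0,8,0⟩],3,2,false⟩,⟨5,0,[⟨6,0,0,0⟩,⟨4,0,0,3⟩,⟨4,1,0,4⟩,⟨0,4,7,0⟩,⟨0,16,19,0⟩,⟨5,0,8,0⟩],4,5,false⟩,⟨2,0,[⟨6,0,0,1⟩,⟨4,0,0,5⟩,⟨4,4,0,6⟩,⟨4,8,0,7⟩,⟨0,1,2,0⟩],5,3,false⟩] [] = true := by decide +kernel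
theorem c20019681 : chkFrat M20234 E20014588 [5,7,124] [124,126,121] [5,7,124,1,8,16,32,128,512] [5,7,124,1,8,16,32,128,512] [(0,[1,2,4]),(0,[1,2,4]),(0,[1,2,4]),(32,[1,2,7]),(32,[1,2,7]),(32,[1,2,7]),(33,[2,1,4]),(0,[1,2,4]),(32,[1,2,7])] [⟨0,0,[],0,0,false⟩,⟨0,0,[],0,2,false⟩,⟨3,0,[⟨6,0,0,1⟩,⟨4,0,0,0⟩,⟨0,4,7,0⟩],2,2,false⟩,⟨5,0,[⟨6,0,0,0⟩,⟨4,0,0,1⟩,⟨4,1,0,2⟩,⟨0,4,7,0⟩,⟨5,0,8,0⟩],3,2,false⟩,⟨5,0,[⟨6,0,0,0⟩,⟨4,0,0,3⟩,⟨4,1,0,4⟩,⟨0,4,7,0⟩,⟨0,16,19,0⟩,⟨5,0,8,0⟩],4,5,false⟩,⟨2,0,[⟨6,0,0,1⟩,⟨4,0,0,5⟩,⟨4,4,0,6⟩,⟨4,8,0,7⟩,⟨0,1,2,0⟩],5,3,false⟩] [] = true := by decide +kernel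
theorem c20019753 : chkFrat M20234 E20014588 [5,7,124] [124,126,121] [5,7,124,1,8,16,32,128,512] [5,7,124,1,8,16,32,128,512] [(0,[1,2,4]),(0,[1,2,4]),(0,[1,2,4]),(32,[1,2,7]),(32,[1,2,7]),(32,[1,2,7]),(33,[2,1,4]),(0,[1,2,4]),(32,[1,2,7])] [⟨0,0,[],0,0,false⟩,⟨0,0,[],0,2,false⟩,⟨3,0,[⟨6,0,0,1⟩,⟨4,0,0,0⟩,⟨0,4,7,0⟩],2,2,false⟩,⟨5,0,[⟨6,0,0,0⟩,⟨4,0,0,1⟩,⟨4,1,0,2⟩,⟨0,4,7,0⟩,⟨5,0,8,0⟩],3,2,false⟩,⟨5,0,[⟨6,0,0,0⟩,⟨4,0,0,3⟩,⟨4,1,0,4⟩,⟨0,4,7,0⟩,⟨0,16,19,0⟩,⟨5,0,8,0⟩],4,5,false⟩,⟨2,0,[⟨6,0,0,1⟩,⟨4,0,0,5⟩,⟨4,4,0,6⟩,⟨4,8,0,7⟩,⟨0,1,2,0⟩],5,3,false⟩] [] = true := by decide +kernel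
theorem c20019823 : chkFrat M20234 E20014588 [5,7,124] [126,124,121] [5,7,124,1,8,16,32,128,512] [5,7,124,1,8,16,32,128,512] [(0,[1,2,4]),(0,[1,2,4]),(0,[1,2,4]),(32,[1,2,7]),(32,[1,2,7]),(32,[1,2,7]),(33,[2,1,4]),(0,[1,2,4]),(32,[1,2,7])] [⟨0,0,[],0,0,false⟩,⟨0,0,[],0,2,false⟩,⟨3,0,[⟨6,0,0,1⟩,⟨4,0,0,0⟩,⟨0,4,7,0⟩],2,2,false⟩,⟨5,0,[⟨6,0,0,0⟩,⟨4,0,0,1⟩,⟨4,1,0,2⟩,⟨0,4,7,0⟩,⟨5,0,8,0⟩],3,2,false⟩,⟨5,0,[⟨6,0,0,0⟩,⟨4,0,0,3⟩,⟨4,1,0,4⟩,⟨0,4,7,0⟩,⟨0,16,19,0⟩,⟨5,0,8,0⟩],4,5,false⟩,⟨2,0,[⟨6,0,0,1⟩,⟨4,0,0,5⟩,⟨4,4,0,6⟩,⟨4,8,0,7⟩,⟨0,1,2,0⟩],5,3,false⟩] [] = true := by decide +kernel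
theorem c20019847 : chkFrat M20234 E20014588 [5,7,124] [124,126,121] [5,7,124,1,8,16,32,128,512] [5,7,124,1,8,16,32,128,512] [(0,[1,2,4]),(0,[1,2,4]),(0,[1,2,4]),(32,[1,2,7]),(32,[1,2,7]),(32,[1,2,7]),(33,[2,1,4]),(0,[1,2,4]),(32,[1,2,7])] [⟨0,0,[],0,0,false⟩,⟨0,0,[],0,2,false⟩,⟨3,0,[⟨6,0,0,1⟩,⟨4,0,0,0⟩,⟨0,4,7,0⟩],2,2,false⟩,⟨5,0,[⟨6,0,0,0⟩,⟨4,0,0,1⟩,⟨4,1,0,2⟩,⟨0,4,7,0⟩,⟨5,0,8,0⟩],3,2,false⟩,⟨5,0,[⟨6,0,0,0⟩,⟨4,0,0,3⟩,⟨4,1,0,4⟩,⟨0,4,7,0⟩,⟨0,16,19,0⟩,⟨5,0,8,0⟩],4,5,false⟩,⟨2,0,[⟨6,0,0,1⟩,⟨4,0,0,5⟩,⟨4,4,0,6⟩,⟨4,8,0,7⟩,⟨0,1,2,0⟩],5,3,false⟩] [] = true := by decide +kernel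
theorem c20014599 : chkFrat M20234 E20014546 [5,7,124] [123,121,7] [5,7,124,1,8,16,32,128,512] [5,7,124,1,8,16,32,128,512] [(0,[1,2,4]),(0,[1,2,4]),(0,[1,2,4]),(33,[1,2,7]),(33,[1,2,7]),(33,[1,2,7]),(1,[2,1,4]),(0,[1,2,4]),(33,[1,2,7])] [⟨0,0,[],0,0,false⟩,⟨0,0,[],0,2,false⟩,⟨3,0,[⟨6,0,0,1⟩,⟨4,0,0,0⟩,⟨0,4,7,0⟩],2,2,false⟩] [] = true := by decide +kernel
theorem c20016316 : chkFrat M20234 E20014546 [5,7,124] [123,121,7] [5,7,124,1,8,16,32,128,512] [5,7,124,1,8,16,32,128,512] [(0,[1,2,4]),(0,[1,2,4]),(0,[1,2,4]),(33,[1,2,7]),(33,[1,2,7]),(33,[1,2,7]),(1,[2,1,4]),(0,[1,2,4]),(33,[1,2,7])] [⟨0,0,[],0,0,false⟩,⟨0,0,[],0,2,false⟩,⟨3,0,[⟨6,0,0,1⟩,⟨4,0,0,0⟩,⟨0,4,7,0⟩],2,2,false⟩] [] = true := by decide +kernel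
theorem c20016400 : chkFrat M20234 E20014546 [5,7,124] [121,123,7] [5,7,124,1,8,16,32,128,512] [5,7,124,1,8,16,32,128,512] [(0,[1,2,4]),(0,[1,2,4]),(0,[1,2,4]),(33,[1,2,7]),(33,[1,2,7]),(33,[1,2,7]),(1,[2,1,4]),(0,[1,2,4]),(33,[1,2,7])] [⟨0,0,[],0,0,false⟩,⟨0,0,[],0,2,false⟩,⟨3,0,[⟨6,0,0,1⟩,⟨4,0,0,0⟩,⟨0,4,7,0⟩],2,2,false⟩] [] = true := by decide +kernel
theorem c20016492 : chkFrat M20234 E20014546 [5,7,124] [123,121,5] [5,7,124,1,8,16,32,128,512] [5,7,124,1,8,16,32,128,512] [(0,[1,2,4]),(0,[1,2,4]),(0,[1,2,4]),(33,[1,2,7]),(33,[1,2,7]),(33,[1,2,7]),(1,[2,1,4]),(0,[1,2,4]),(33,[1,2,7])] [⟨0,0,[],0,0,false⟩,⟨0,0,[],0,2,false⟩,⟨3,0,[⟨6,0,0,1⟩,⟨4,0,0,0⟩,⟨0,4,7,0⟩],2,2,false⟩] [] = true := by decide +kernel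
theorem c20016648 : chkFrat M20234 E20014546 [5,7,124] [121,123,7] [5,7,124,1,8,16,32,128,512] [5,7,124,1,8,16,32,128,512] [(0,[1,2,4]),(0,[1,2,4]),(0,[1,2,4]),(33,[1,2,7]),(33,[1,2,7]),(33,[1,2,7]),(1,[2,1,4]),(0,[1,2,4]),(33,[1,2,7])] [⟨0,0,[],0,0,false⟩,⟨0,0,[],0,2,false⟩,⟨3,0,[⟨6,0,0,1⟩,⟨4,0,0,0⟩,⟨0,4,7,0⟩],2,2,false⟩] [] = true := by decide +kernel
theorem c20016730 : chkFrat M20234 E20014546 [5,7,124] [121,123,5] [5,7,124,1,8,16,32,128,512] [5,7,124,1,8,16,32,128,512] [(0,[1,2,4]),(0,[1,2,4]),(0,[1,2,4]),(33,[1,2,7]),(33,[1,2,7]),(33,[1,2,7]),(1,[2,1,4]),(0,[1,2,4]),(33,[1,2,7])] [⟨0,0,[],0,0,false⟩,⟨0,0,[],0,2,false⟩,⟨3,0,[⟨6,0,0,1⟩,⟨4,0,0,0⟩,⟨0,4,7,0⟩],2,2,false⟩] [] = true := by decide +kernel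
theorem c20016756 : chkFrat M20234 E20014546 [5,7,124] [123,121,7] [5,7,124,1,8,16,32,128,512] [5,7,124,1,8,16,32,128,512] [(0,[1,2,4]),(0,[1,2,4]),(0,[1,2,4]),(33,[1,2,7]),(33,[1,2,7]),(33,[1,2,7]),(1,[2,1,4]),(0,[1,2,4]),(33,[1,2,7])] [⟨0,0,[],0,0,false⟩,⟨0,0,[],0,2,false⟩,⟨3,0,[⟨6,0,0,1⟩,⟨4,0,0,0⟩,⟨0,4,7,0⟩],2,2,false⟩] [] = true := by decide +kernel
theorem c20016826 : chkFrat M20234 E20014546 [5,7,124] [121,123,7] [5,7,124,1,8,16,32,128,512] [5,7,124,1,8,16,32,128,512] [(0,[1,2,4]),(0,[1,2,4]),(0,[1,2,4]),(33,[1,2,7]),(33,[1,2,7]),(33,[1,2,7]),(1,[2,1,4]),(0,[1,2,4]),(33,[1,2,7])] [⟨0,0,[],0,0,false⟩,⟨0,0,[],0,2,false⟩,⟨3,0,[⟨6,0,0,1⟩,⟨4,0,0,0⟩,⟨0,4,7,0⟩],2,2,false⟩] [] = true := by decide +kernel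
theorem c20016896 : chkFrat M20234 E20014546 [5,7,124] [123,121,5] [5,7,124,1,8,16,32,128,512] [5,7,124,1,8,16,32,128,512] [(0,[1,2,4]),(0,[1,2,4]),(0,[1,2,4]),(33,[1,2,7]),(33,[1,2,7]),(33,[1,2,7]),(1,[2,1,4]),(0,[1,2,4]),(33,[1,2,7])] [⟨0,0,[],0,0,false⟩,⟨0,0,[],0,2,false⟩,⟨3,0,[⟨6,0,0,1⟩,⟨4,0,0,0⟩,⟨0,4,7,0⟩],2,2,false⟩] [] = true := by decide +kernel
theorem c20017012 : chkFrat M20234 E20014546 [5,7,124] [123,121,5] [5,7,124,1,8,16,32,128,512] [5,7,124,1,8,16,32,128,512] [(0,[1,2,4]),(0,[1,2,4]),(0,[1,2,4]),(33,[1,2,7]),(33,[1,2,7]),(33,[1,2,7]),(1,[2,1,4]),(0,[1,2,4]),(33,[1,2,7])] [⟨0,0,[],0,0,false⟩,⟨0,0,[],0,2,false⟩,⟨3,0,[⟨6,0,0,1⟩,⟨4,0,0,0⟩,⟨0,4,7,0⟩],2,2,false⟩] [] = true := by decide +kernel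
theorem c20017114 : chkFrat M20234 E20014546 [5,7,124] [123,121,7] [5,7,124,1,8,16,32,128,512] [5,7,124,1,8,16,32,128,512] [(0,[1,2,4]),(0,[1,2,4]),(0,[1,2,4]),(33,[1,2,7]),(33,[1,2,7]),(33,[1,2,7]),(1,[2,1,4]),(0,[1,2,4]),(33,[1,2,7])] [⟨0,0,[],0,0,false⟩,⟨0,0,[],0,2,false⟩,⟨3,0,[⟨6,0,0,1⟩,⟨4,0,0,0⟩,⟨0,4,7,0⟩],2,2,false⟩] [] = true := by decide +kernel
theorem c20017184 : chkFrat M20234 E20014546 [5,7,124] [121,123,7] [5,7,124,1,8,16,32,128,512] [5,7,124,1,8,16,32,128,512] [(0,[1,2,4]),(0,[1,2,4]),(0,[1,2,4]),(33,[1,2,7]),(33,[1,2,7]),(33,[1,2,7]),(1,[2,1,4]),(0,[1,2,4]),(33,[1,2,7])] [⟨0,0,[],0,0,false⟩,⟨0,0,[],0,2,false⟩,⟨3,0,[⟨6,0,0,1⟩,⟨4,0,0,0⟩,⟨0,4,7,0⟩],2,2,false⟩] [] = true := by decide +kernel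
theorem c20017264 : chkFrat M20234 E20014546 [5,7,124] [121,123,5] [5,7,124,1,8,16,32,128,512] [5,7,124,1,8,16,32,128,512] [(0,[1,2,4]),(0,[1,2,4]),(0,[1,2,4]),(33,[1,2,7]),(33,[1,2,7]),(33,[1,2,7]),(1,[2,1,4]),(0,[1,2,4]),(33,[1,2,7])] [⟨0,0,[],0,0,false⟩,⟨0,0,[],0,2,false⟩,⟨3,0,[⟨6,0,0,1⟩,⟨4,0,0,0⟩,⟨0,4,7,0⟩],2,2,false⟩] [] = true := by decide +kernel
theorem c20017334 : chkFrat M20234 E20014546 [5,7,124] [123,121,7] [5,7,124,1,8,16,32,128,512] [5,7,124,1,8,16,32,128,512] [(0,[1,2,4]),(0,[1,2,4]),(0,[1,2,4]),(33,[1,2,7]),(33,[1,2,7]),(33,[1,2,7]),(1,[2,1,4]),(0,[1,2,4]),(33,[1,2,7])] [⟨0,0,[],0,0,false⟩,⟨0,0,[],0,2,false⟩,⟨3,0,[⟨6,0,0,1⟩,⟨4,0,0,0⟩,⟨0,4,7,0⟩],2,2,false⟩] [] = true := by decide +kernel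
theorem c20017400 : chkFrat M20234 E20014546 [5,7,124] [123,121,5] [5,7,124,1,8,16,32,128,512] [5,7,124,1,8,16,32,128,512] [(0,[1,2,4]),(0,[1,2,4]),(0,[1,2,4]),(33,[1,2,7]),(33,[1,2,7]),(33,[1,2,7]),(1,[2,1,4]),(0,[1,2,4]),(33,[1,2,7])] [⟨0,0,[],0,0,false⟩,⟨0,0,[],0,2,false⟩,⟨3,0,[⟨6,0,0,1⟩,⟨4,0,0,0⟩,⟨0,4,7,0⟩],2,2,false⟩] [] = true := by decide +kernel
theorem c20017470 : chkFrat M20234 E20014546 [5,7,124] [123,121,7] [5,7,124,1,8,16,32,128,512] [5,7,124,1,8,16,32,128,512] [(0,[1,2,4]),(0,[1,2,4]),(0,[1,2,4]),(33,[1,2,7]),(33,[1,2,7]),(33,[1,2,7]),(1,[2,1,4]),(0,[1,2,4]),(33,[1,2,7])] [⟨0,0,[],0,0,false⟩,⟨0,0,[],0,2,false⟩,⟨3,0,[⟨6,0,0,1⟩,⟨4,0,0,0⟩,⟨0,4,7,0⟩],2,2,false⟩] [] = true := by decide +kernel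
theorem c20017546 : chkFrat M20234 E20014546 [5,7,124] [123,121,7] [5,7,124,1,8,16,32,128,512] [5,7,124,1,8,16,32,128,512] [(0,[1,2,4]),(0,[1,2,4]),(0,[1,2,4]),(33,[1,2,7]),(33,[1,2,7]),(33,[1,2,7]),(1,[2,1,4]),(0,[1,2,4]),(33,[1,2,7])] [⟨0,0,[],0,0,false⟩,⟨0,0,[],0,2,false⟩,⟨3,0,[⟨6,0,0,1⟩,⟨4,0,0,0⟩,⟨0,4,7,0⟩],2,2,false⟩] [] = true := by decide +kernel
theorem c20017616 : chkFrat M20234 E20014546 [5,7,124] [123,121,7] [5,7,124,1,8,16,32,128,512] [5,7,124,1,8,16,32,128,512] [(0,[1,2,4]),(0,[1,2,4]),(0,[1,2,4]),(33,[1,2,7]),(33,[1,2,7]),(33,[1,2,7]),(1,[2,1,4]),(0,[1,2,4]),(33,[1,2,7])] [⟨0,0,[],0,0,false⟩,⟨0,0,[],0,2,false⟩,⟨3,0,[⟨6,0,0,1⟩,⟨4,0,0,0⟩,⟨0,4,7,0⟩],2,2,false⟩] [] = true := by decide +kernel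
theorem c20017758 : chkFrat M20234 E20014546 [5,7,124] [123,121,5] [5,7,124,1,8,16,32,128,512] [5,7,124,1,8,16,32,128,512] [(0,[1,2,4]),(0,[1,2,4]),(0,[1,2,4]),(33,[1,2,7]),(33,[1,2,7]),(33,[1,2,7]),(1,[2,1,4]),(0,[1,2,4]),(33,[1,2,7])] [⟨0,0,[],0,0,false⟩,⟨0,0,[],0,2,false⟩,⟨3,0,[⟨6,0,0,1⟩,⟨4,0,0,0⟩,⟨0,4,7,0⟩],2,2,false⟩] [] = true := by decide +kernel
theorem c20017850 : chkFrat M20234 E20014546 [5,7,124] [121,123,7] [5,7,124,1,8,16,32,128,512] [5,7,124,1,8,16,32,128,512] [(0,[1,2,4]),(0,[1,2,4]),(0,[1,2,4]),(33,[1,2,7]),(33,[1,2,7]),(33,[1,2,7]),(1,[2,1,4]),(0,[1,2,4]),(33,[1,2,7])] [⟨0,0,[],0,0,false⟩,⟨0,0,[],0,2,false⟩,⟨3,0,[⟨6,0,0,1⟩,⟨4,0,0,0⟩,⟨0,4,7,0⟩],2,2,false⟩] [] = true := by decide +kernel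
theorem c20017920 : chkFrat M20234 E20014546 [5,7,124] [121,123,5] [5,7,124,1,8,16,32,128,512] [5,7,124,1,8,16,32,128,512] [(0,[1,2,4]),(0,[1,2,4]),(0,[1,2,4]),(33,[1,2,7]),(33,[1,2,7]),(33,[1,2,7]),(1,[2,1,4]),(0,[1,2,4]),(33,[1,2,7])] [⟨0,0,[],0,0,false⟩,⟨0,0,[],0,2,false⟩,⟨3,0,[⟨6,0,0,1⟩,⟨4,0,0,0⟩,⟨0,4,7,0⟩],2,2,false⟩] [] = true := by decide +kernel
theorem c20018004 : chkFrat M20234 E20014546 [5,7,124] [123,121,5] [5,7,124,1,8,16,32,128,512] [5,7,124,1,8,16,32,128,512] [(0,[1,2,4]),(0,[1,2,4]),(0,[1,2,4]),(33,[1,2,7]),(33,[1,2,7]),(33,[1,2,7]),(1,[2,1,4]),(0,[1,2,4]),(33,[1,2,7])] [⟨0,0,[],0,0,false⟩,⟨0,0,[],0,2,false⟩,⟨3,0,[⟨6,0,0,1⟩,⟨4,0,0,0⟩,⟨0,4,7,0⟩],2,2,false⟩] [] = true := by decide +kernel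
theorem c20018074 : chkFrat M20234 E20014546 [5,7,124] [121,123,5] [5,7,124,1,8,16,32,128,512] [5,7,124,1,8,16,32,128,512] [(0,[1,2,4]),(0,[1,2,4]),(0,[1,2,4]),(33,[1,2,7]),(33,[1,2,7]),(33,[1,2,7]),(1,[2,1,4]),(0,[1,2,4]),(33,[1,2,7])] [⟨0,0,[],0,0,false⟩,⟨0,0,[],0,2,false⟩,⟨3,0,[⟨6,0,0,1⟩,⟨4,0,0,0⟩,⟨0,4,7,0⟩],2,2,false⟩] [] = true := by decide +kernel
theorem c20018132 : chkFrat M20234 E20014546 [5,7,124] [121,123,7] [5,7,124,1,8,16,32,128,512] [5,7,124,1,8,16,32,128,512] [(0,[1,2,4]),(0,[1,2,4]),(0,[1,2,4]),(33,[1,2,7]),(33,[1,2,7]),(33,[1,2,7]),(1,[2,1,4]),(0,[1,2,4]),(33,[1,2,7])] [⟨0,0,[],0,0,false⟩,⟨0,0,[],0,2,false⟩,⟨3,0,[⟨6,0,0,1⟩,⟨4,0,0,0⟩,⟨0,4,7,0⟩],2,2,false⟩] [] = true := by decide +kernel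
theorem c20018190 : chkFrat M20234 E20014546 [5,7,124] [123,121,7] [5,7,124,1,8,16,32,128,512] [5,7,124,1,8,16,32,128,512] [(0,[1,2,4]),(0,[1,2,4]),(0,[1,2,4]),(33,[1,2,7]),(33,[1,2,7]),(33,[1,2,7]),(1,[2,1,4]),(0,[1,2,4]),(33,[1,2,7])] [⟨0,0,[],0,0,false⟩,⟨0,0,[],0,2,false⟩,⟨3,0,[⟨6,0,0,1⟩,⟨4,0,0,0⟩,⟨0,4,7,0⟩],2,2,false⟩] [] = true := by decide +kernel
theorem c20018214 : chkFrat M20234 E20014546 [5,7,124] [121,123,5] [5,7,124,1,8,16,32,128,512] [5,7,124,1,8,16,32,128,512] [(0,[1,2,4]),(0,[1,2,4]),(0,[1,2,4]),(33,[1,2,7]),(33,[1,2,7]),(33,[1,2,7]),(1,[2,1,4]),(0,[1,2,4]),(33,[1,2,7])] [⟨0,0,[],0,0,false⟩,⟨0,0,[],0,2,false⟩,⟨3,0,[⟨6,0,0,1⟩,⟨4,0,0,0⟩,⟨0,4,7,0⟩],2,2,false⟩] [] = true := by decide +kernel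
theorem c20018274 : chkFrat M20234 E20014546 [5,7,124] [123,121,7] [5,7,124,1,8,16,32,128,512] [5,7,124,1,8,16,32,128,512] [(0,[1,2,4]),(0,[1,2,4]),(0,[1,2,4]),(33,[1,2,7]),(33,[1,2,7]),(33,[1,2,7]),(1,[2,1,4]),(0,[1,2,4]),(33,[1,2,7])] [⟨0,0,[],0,0,false⟩,⟨0,0,[],0,2,false⟩,⟨3,0,[⟨6,0,0,1⟩,⟨4,0,0,0⟩,⟨0,4,7,0⟩],2,2,false⟩] [] = true := by decide +kernel
theorem c20018298 : chkFrat M20234 E20014546 [5,7,124] [121,123,7] [5,7,124,1,8,16,32,128,512] [5,7,124,1,8,16,32,128,512] [(0,[1,2,4]),(0,[1,2,4]),(0,[1,2,4]),(33,[1,2,7]),(33,[1,2,7]),(33,[1,2,7]),(1,[2,1,4]),(0,[1,2,4]),(33,[1,2,7])] [⟨0,0,[],0,0,false⟩,⟨0,0,[],0,2,false⟩,⟨3,0,[⟨6,0,0,1⟩,⟨4,0,0,0⟩,⟨0,4,7,0⟩],2,2,false⟩] [] = true := by decide +kernel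
theorem c20018356 : chkFrat M20234 E20014546 [5,7,124] [123,121,7] [5,7,124,1,8,16,32,128,512] [5,7,124,1,8,16,32,128,512] [(0,[1,2,4]),(0,[1,2,4]),(0,[1,2,4]),(33,[1,2,7]),(33,[1,2,7]),(33,[1,2,7]),(1,[2,1,4]),(0,[1,2,4]),(33,[1,2,7])] [⟨0,0,[],0,0,false⟩,⟨0,0,[],0,2,false⟩,⟨3,0,[⟨6,0,0,1⟩,⟨4,0,0,0⟩,⟨0,4,7,0⟩],2,2,false⟩] [] = true := by decide +kernel
theorem c20018424 : chkFrat M20234 E20014546 [5,7,124] [121,123,7] [5,7,124,1,8,16,32,128,512] [5,7,124,1,8,16,32,128,512] [(0,[1,2,4]),(0,[1,2,4]),(0,[1,2,4]),(33,[1,2,7]),(33,[1,2,7]),(33,[1,2,7]),(1,[2,1,4]),(0,[1,2,4]),(33,[1,2,7])] [⟨0,0,[],0,0,false⟩,⟨0,0,[],0,2,false⟩,⟨3,0,[⟨6,0,0,1⟩,⟨4,0,0,0⟩,⟨0,4,7,0⟩],2,2,false⟩] [] = true := by decide +kernel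
theorem c20018448 : chkFrat M20234 E20014546 [5,7,124] [123,121,7] [5,7,124,1,8,16,32,128,512] [5,7,124,1,8,16,32,128,512] [(0,[1,2,4]),(0,[1,2,4]),(0,[1,2,4]),(33,[1,2,7]),(33,[1,2,7]),(33,[1,2,7]),(1,[2,1,4]),(0,[1,2,4]),(33,[1,2,7])] [⟨0,0,[],0,0,false⟩,⟨0,0,[],0,2,false⟩,⟨3,0,[⟨6,0,0,1⟩,⟨4,0,0,0⟩,⟨0,4,7,0⟩],2,2,false⟩] [] = true := by decide +kernel
theorem c20018506 : chkFrat M20234 E20014546 [5,7,124] [123,121,5] [5,7,124,1,8,16,32,128,512] [5,7,124,1,8,16,32,128,512] [(0,[1,2,4]),(0,[1,2,4]),(0,[1,2,4]),(33,[1,2,7]),(33,[1,2,7]),(33,[1,2,7]),(1,[2,1,4]),(0,[1,2,4]),(33,[1,2,7])] [⟨0,0,[],0,0,false⟩,⟨0,0,[],0,2,false⟩,⟨3,0,[⟨6,0,0,1⟩,⟨4,0,0,0⟩,⟨0,4,7,0⟩],2,2,false⟩] [] = true := by decide +kernel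
theorem c20018572 : chkFrat M20234 E20014546 [5,7,124] [123,121,7] [5,7,124,1,8,16,32,128,512] [5,7,124,1,8,16,32,128,512] [(0,[1,2,4]),(0,[1,2,4]),(0,[1,2,4]),(33,[1,2,7]),(33,[1,2,7]),(33,[1,2,7]),(1,[2,1,4]),(0,[1,2,4]),(33,[1,2,7])] [⟨0,0,[],0,0,false⟩,⟨0,0,[],0,2,false⟩,⟨3,0,[⟨6,0,0,1⟩,⟨4,0,0,0⟩,⟨0,4,7,0⟩],2,2,false⟩] [] = true := by decide +kernel
theorem c20018596 : chkFrat M20234 E20014546 [5,7,124] [121,123,7] [5,7,124,1,8,16,32,128,512] [5,7,124,1,8,16,32,128,512] [(0,[1,2,4]),(0,[1,2,4]),(0,[1,2,4]),(33,[1,2,7]),(33,[1,2,7]),(33,[1,2,7]),(1,[2,1,4]),(0,[1,2,4]),(33,[1,2,7])] [⟨0,0,[],0,0,false⟩,⟨0,0,[],0,2,false⟩,⟨3,0,[⟨6,0,0,1⟩,⟨4,0,0,0⟩,⟨0,4,7,0⟩],2,2,false⟩] [] = true := by decide +kernel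
theorem c20018654 : chkFrat M20234 E20014546 [5,7,124] [121,123,7] [5,7,124,1,8,16,32,128,512] [5,7,124,1,8,16,32,128,512] [(0,[1,2,4]),(0,[1,2,4]),(0,[1,2,4]),(33,[1,2,7]),(33,[1,2,7]),(33,[1,2,7]),(1,[2,1,4]),(0,[1,2,4]),(33,[1,2,7])] [⟨0,0,[],0,0,false⟩,⟨0,0,[],0,2,false⟩,⟨3,0,[⟨6,0,0,1⟩,⟨4,0,0,0⟩,⟨0,4,7,0⟩],2,2,false⟩] [] = true := by decide +kernel
theorem c20018736 : chkFrat M20234 E20014546 [5,7,124] [123,121,5] [5,7,124,1,8,16,32,128,512] [5,7,124,1,8,16,32,128,512] [(0,[1,2,4]),(0,[1,2,4]),(0,[1,2,4]),(33,[1,2,7]),(33,[1,2,7]),(33,[1,2,7]),(1,[2,1,4]),(0,[1,2,4]),(33,[1,2,7])] [⟨0,0,[],0,0,false⟩,⟨0,0,[],0,2,false⟩,⟨3,0,[⟨6,0,0,1⟩,⟨4,0,0,0⟩,⟨0,4,7,0⟩],2,2,false⟩] [] = true := by decide +kernel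
theorem c20018806 : chkFrat M20234 E20014546 [5,7,124] [121,123,5] [5,7,124,1,8,16,32,128,512] [5,7,124,1,8,16,32,128,512] [(0,[1,2,4]),(0,[1,2,4]),(0,[1,2,4]),(33,[1,2,7]),(33,[1,2,7]),(33,[1,2,7]),(1,[2,1,4]),(0,[1,2,4]),(33,[1,2,7])] [⟨0,0,[],0,0,false⟩,⟨0,0,[],0,2,false⟩,⟨3,0,[⟨6,0,0,1⟩,⟨4,0,0,0⟩,⟨0,4,7,0⟩],2,2,false⟩] [] = true := by decide +kernel
theorem c20018922 : chkFrat M20234 E20014546 [5,7,124] [121,123,7] [5,7,124,1,8,16,32,128,512] [5,7,124,1,8,16,32,128,512] [(0,[1,2,4]),(0,[1,2,4]),(0,[1,2,4]),(33,[1,2,7]),(33,[1,2,7]),(33,[1,2,7]),(1,[2,1,4]),(0,[1,2,4]),(33,[1,2,7])] [⟨0,0,[],0,0,false⟩,⟨0,0,[],0,2,false⟩,⟨3,0,[⟨6,0,0,1⟩,⟨4,0,0,0⟩,⟨0,4,7,0⟩],2,2,false⟩] [] = true := by decide +kernel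
theorem c20019188 : chkFrat M20234 E20014546 [5,7,124] [121,123,5] [5,7,124,1,8,16,32,128,512] [5,7,124,1,8,16,32,128,512] [(0,[1,2,4]),(0,[1,2,4]),(0,[1,2,4]),(33,[1,2,7]),(33,[1,2,7]),(33,[1,2,7]),(1,[2,1,4]),(0,[1,2,4]),(33,[1,2,7])] [⟨0,0,[],0,0,false⟩,⟨0,0,[],0,2,false⟩,⟨3,0,[⟨6,0,0,1⟩,⟨4,0,0,0⟩,⟨0,4,7,0⟩],2,2,false⟩] [] = true := by decide +kernel
theorem c20019328 : chkFrat M20234 E20014546 [5,7,124] [123,121,5] [5,7,124,1,8,16,32,128,512] [5,7,124,1,8,16,32,128,512] [(0,[1,2,4]),(0,[1,2,4]),(0,[1,2,4]),(33,[1,2,7]),(33,[1,2,7]),(33,[1,2,7]),(1,[2,1,4]),(0,[1,2,4]),(33,[1,2,7])] [⟨0,0,[],0,0,false⟩,⟨0,0,[],0,2,false⟩,⟨3,0,[⟨6,0,0,1⟩,⟨4,0,0,0⟩,⟨0,4,7,0⟩],2,2,false⟩] [] = true := by decide +kernel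
theorem c20019398 : chkFrat M20234 E20014546 [5,7,124] [121,123,5] [5,7,124,1,8,16,32,128,512] [5,7,124,1,8,16,32,128,512] [(0,[1,2,4]),(0,[1,2,4]),(0,[1,2,4]),(33,[1,2,7]),(33,[1,2,7]),(33,[1,2,7]),(1,[2,1,4]),(0,[1,2,4]),(33,[1,2,7])] [⟨0,0,[],0,0,false⟩,⟨0,0,[],0,2,false⟩,⟨3,0,[⟨6,0,0,1⟩,⟨4,0,0,0⟩,⟨0,4,7,0⟩],2,2,false⟩] [] = true := by decide +kernel
theorem c20019514 : chkFrat M20234 E20014546 [5,7,124] [121,123,7] [5,7,124,1,8,16,32,128,512] [5,7,124,1,8,16,32,128,512] [(0,[1,2,4]),(0,[1,2,4]),(0,[1,2,4]),(33,[1,2,7]),(33,[1,2,7]),(33,[1,2,7]),(1,[2,1,4]),(0,[1,2,4]),(33,[1,2,7])] [⟨0,0,[],0,0,false⟩,⟨0,0,[],0,2,false⟩,⟨3,0,[⟨6,0,0,1⟩,⟨4,0,0,0⟩,⟨0,4,7,0⟩],2,2,false⟩] [] = true := by decide +kernel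
theorem c20019780 : chkFrat M20234 E20014546 [5,7,124] [121,123,5] [5,7,124,1,8,16,32,128,512] [5,7,124,1,8,16,32,128,512] [(0,[1,2,4]),(0,[1,2,4]),(0,[1,2,4]),(33,[1,2,7]),(33,[1,2,7]),(33,[1,2,7]),(1,[2,1,4]),(0,[1,2,4]),(33,[1,2,7])] [⟨0,0,[],0,0,false⟩,⟨0,0,[],0,2,false⟩,⟨3,0,[⟨6,0,0,1⟩,⟨4,0,0,0⟩,⟨0,4,7,0⟩],2,2,false⟩] [] = true := by decide +kernel
theorem c20016709 : chkFrat M20234 E20016357 [528,533,530,622,24,33,137,257] [317,359,319,284,71,64,851,464] [528,533,530,622,24,33,137,257,1] [528,533,530,622,24,33,137,257,1] [(317,[1,2,4,8,21,47,74,143]),(284,[1,2,4,8,21,42,74,128]),(317,[1,2,4,8,21,47,74,143]),(284,[1,2,4,8,21,42,74,128]),(60,[4,7,1,13,16,37,64,138]),(57,[14,8,11,2,21,32,79,128]),(808,[11,8,14,2,16,47,64,133]),(425,[14,2,11,8,26,32,69,128]),(25,[2,1,7,14,16,32,95,160])] [⟨0,0,[],0,0,false⟩,⟨0,0,[],0,0,false⟩,⟨0,0,[],0,0,false⟩,⟨0,0,[],0,0,false⟩,⟨0,0,[],0,0,false⟩,⟨0,0,[],0,0,false⟩,⟨0,0,[],0,0,false⟩,⟨2,0,[⟨6,0,0,1⟩,⟨4,0,0,0⟩,⟨4,3,0,1⟩,⟨0,1,2,0⟩,⟨0,32,32,0⟩,⟨7,0,16,0⟩],1,0,false⟩]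 [] = true := by decide +kernel
theorem c20017301 : chkFrat M20234 E20016357 [528,533,530,622,24,33,137,257] [319,284,317,359,62,66,808,466] [528,533,530,622,24,33,137,257,1] [528,533,530,622,24,33,137,257,1] [(317,[1,2,4,8,21,47,74,143]),(284,[1,2,4,8,21,42,74,128]),(317,[1,2,4,8,21,47,74,143]),(284,[1,2,4,8,21,42,74,128]),(60,[4,7,1,13,16,37,64,138]),(57,[14,8,11,2,21,32,79,128]),(808,[11,8,14,2,16,47,64,133]),(425,[14,2,11,8,26,32,69,128]),(61,[2,1,7,14,16,32,95,160])] [⟨0,0,[],0,0,false⟩,⟨0,0,[],0,0,false⟩,⟨0,0,[],0,0,false⟩,⟨0,0,[],0,0,false⟩,⟨0,0,[],0,0,false⟩,⟨0,0,[],0,0,false⟩,⟨0,0,[],0,0,false⟩,⟨2,0,[⟨6,0,0,1⟩,⟨4,0,0,0⟩,⟨4,3,0,1⟩,⟨0,1,2,0⟩,⟨0,32,32,0⟩,⟨7,0,16,0⟩],1,0,false⟩] [] = true := by decide +kernel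
theorem c20017885 : chkFrat M20234 E20016357 [528,533,530,622,24,33,137,257] [407,436,405,461,36,126,932,627] [528,533,530,622,24,33,137,257,1] [528,533,530,622,24,33,137,257,1] [(405,[1,2,4,8,21,47,74,143]),(436,[1,2,4,8,21,42,74,128]),(405,[1,2,4,8,21,47,74,143]),(436,[1,2,4,8,21,42,74,128]),(36,[4,7,1,13,16,37,64,138]),(5,[14,8,11,2,21,32,79,128]),(932,[11,8,14,2,16,47,64,133]),(520,[14,2,11,8,26,32,69,128]),(37,[2,1,7,14,16,32,95,160])] [⟨0,0,[],0,0,false⟩,⟨0,0,[],0,0,false⟩,⟨0,0,[],0,0,false⟩,⟨0,0,[],0,0,false⟩,⟨0,0,[],0,0,false⟩,⟨0,0,[],0,0,false⟩,⟨0,0,[],0,0,false⟩,⟨2,0,[⟨6,0,0,1⟩,⟨4,0,0,0⟩,⟨4,3,0,1⟩,⟨0,1,2,0⟩,⟨0,32,32,0⟩,⟨7,0,16,0⟩],1,0,false⟩] [] = true := by decide +kernel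
theorem c20018477 : chkFrat M20234 E20016357 [528,533,530,622,24,33,137,257] [324,286,326,357,69,64,808,466] [528,533,530,622,24,33,137,257,1] [528,533,530,622,24,33,137,257,1] [(317,[1,2,4,8,21,47,74,143]),(284,[1,2,4,8,21,42,74,128]),(317,[1,2,4,8,21,47,74,143]),(284,[1,2,4,8,21,42,74,128]),(60,[4,7,1,13,16,37,64,138]),(57,[14,8,11,2,21,32,79,128]),(808,[11,8,14,2,16,47,64,133]),(425,[14,2,11,8,26,32,69,128]),(25,[2,1,7,14,16,32,95,160])] [⟨0,0,[],0,0,false⟩,⟨0,0,[],0,0,false⟩,⟨0,0,[],0,0,false⟩,⟨0,0,[],0,0,false⟩,⟨0,0,[],0,0,false⟩,⟨0,0,[],0,0,false⟩,⟨0,0,[],0,0,false⟩,⟨2,0,[⟨6,0,0,1⟩,⟨4,0,0,0⟩,⟨4,3,0,1⟩,⟨0,1,2,0⟩,⟨0,32,32,0⟩,⟨7,0,16,0⟩],1,0,false⟩] [] = true := by decide +kernel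
theorem c20019098 : chkFrat M20234 E20016357 [528,533,530,622,24,33,137,257] [407,436,405,461,36,126,932,627] [528,533,530,622,24,33,137,257,1] [528,533,530,622,24,33,137,257,1] [(405,[1,2,4,8,21,47,74,143]),(436,[1,2,4,8,21,42,74,128]),(405,[1,2,4,8,21,47,74,143]),(436,[1,2,4,8,21,42,74,128]),(36,[4,7,1,13,16,37,64,138]),(5,[14,8,11,2,21,32,79,128]),(932,[11,8,14,2,16,47,64,133]),(520,[14,2,11,8,26,32,69,128]),(37,[2,1,7,14,16,32,95,160])] [⟨0,0,[],0,0,false⟩,⟨0,0,[],0,0,false⟩,⟨0,0,[],0,0,false⟩,⟨0,0,[],0,0,false⟩,⟨0,0,[],0,0,false⟩,⟨0,0,[],0,0,false⟩,⟨0,0,[],0,0,false⟩,⟨2,0,[⟨6,0,0,1⟩,⟨4,0,0,0⟩,⟨4,3,0,1⟩,⟨0,1,2,0⟩,⟨0,32,32,0⟩,⟨7,0,16,0⟩],1,0,false⟩] [] = true := by decide +kernel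
theorem c20019690 : chkFrat M20234 E20016357 [528,533,530,622,24,33,137,257] [407,436,405,461,36,126,932,627] [528,533,530,622,24,33,137,257,1] [528,533,530,622,24,33,137,257,1] [(405,[1,2,4,8,21,47,74,143]),(436,[1,2,4,8,21,42,74,128]),(405,[1,2,4,8,21,47,74,143]),(436,[1,2,4,8,21,42,74,128]),(36,[4,7,1,13,16,37,64,138]),(5,[14,8,11,2,21,32,79,128]),(932,[11,8,14,2,16,47,64,133]),(520,[14,2,11,8,26,32,69,128]),(37,[2,1,7,14,16,32,95,160])] [⟨0,0,[],0,0,false⟩,⟨0,0,[],0,0,false⟩,⟨0,0,[],0,0,false⟩,⟨0,0,[],0,0,false⟩,⟨0,0,[],0,0,false⟩,⟨0,0,[],0,0,false⟩,⟨0,0,[],0,0,false⟩,⟨2,0,[⟨6,0,0,1⟩,⟨4,0,0,0⟩,⟨4,3,0,1⟩,⟨0,1,2,0⟩,⟨0,32,32,0⟩,⟨7,0,16,0⟩],1,0,false⟩] [] = true := by decide +kernel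
theorem c20016325 : chkLift M20234 D20234 E20016323 [528,533,530,622,24,33,137,257] [530,535,528,620,24,35,137,378] [528,533,530,622,24,33,137,257,1,8] [(1,[2,1,7,14,16,32,95,160]),(0,[1,2,4,8,16,32,64,128]),(4,[2,1,7,14,16,37,95,170]),(8,[4,7,1,8,21,48,80,234]),(16,[1,2,4,13,21,53,80,229]),(32,[8,14,13,1,21,32,85,160]),(57,[11,13,14,7,21,37,79,138]),(128,[13,14,8,4,21,63,74,223]),(256,[2,14,7,1,26,32,80,160]),(512,[1,2,4,13,16,63,95,239])] 0 [4,7,1,13,16,37,64,143] [⟨0,0,[],0,0,false⟩,⟨0,0,[],0,0,false⟩,⟨0,0,[],0,0,false⟩,⟨0,0,[],0,0,false⟩,⟨0,0,[],0,0,false⟩,⟨0,0,[],0,0,false⟩,⟨0,0,[],0,0,false⟩,⟨1,2,[⟨4,0,0,0⟩,⟨0,8,14,0⟩,⟨0,32,32,0⟩],1,0,false⟩,⟨1,4,[⟨4,0,0,1⟩,⟨4,3,0,2⟩,⟨0,8,8,0⟩,⟨0,16,21,0⟩,⟨0,32,48,0⟩],0,0,false⟩] [] [256,5,259,512,533,288,63,842,416,532] [([530,535,528,620,24,35,137,378,1,8],[]),([530,535,528,620,24,35,137,378,1,10],[])]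 [] = true := by decide +kernel
theorem c20016921 : chkLift M20234 D20234 E20016323 [528,533,530,622,24,33,137,257] [528,533,530,622,24,33,137,259] [528,533,530,622,24,33,137,257,1,8] [(1,[2,1,7,14,16,32,95,160]),(0,[1,2,4,8,16,32,64,128]),(4,[2,1,7,14,16,37,95,170]),(8,[4,7,1,8,21,48,80,234]),(16,[1,2,4,13,21,53,80,229]),(32,[8,14,13,1,21,32,85,160]),(57,[11,13,14,7,21,37,79,138]),(128,[13,14,8,4,21,63,74,223]),(256,[2,14,7,1,26,32,80,160]),(512,[1,2,4,13,16,63,95,239])] 0 [1,2,4,8,16,32,64,133] [⟨0,0,[],0,0,false⟩,⟨0,0,[],0,0,false⟩,⟨0,0,[],0,0,false⟩,⟨0,0,[],0,0,false⟩,⟨0,0,[],0,0,false⟩,⟨0,0,[],0,0,false⟩,⟨0,0,[],0,0,false⟩,⟨1,2,[⟨4,0,0,0⟩,⟨0,8,14,0⟩,⟨0,32,32,0⟩],1,0,false⟩,⟨1,4,[⟨4,0,0,1⟩,⟨4,3,0,2⟩,⟨0,8,8,0⟩,⟨0,16,21,0⟩,⟨0,32,48,0⟩],0,0,false⟩] [] [256,5,259,512,533,288,63,842,416,532] [([528,533,530,622,24,33,137,259,1,8],[]),([528,533,530,622,24,33,137,259,1,10],[])]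 [] = true := by decide +kernel
theorem c20017540 : chkLift M20234 D20234 E20016323 [528,533,530,622,24,33,137,257] [528,533,530,622,24,33,137,259] [528,533,530,622,24,33,137,257,1,8] [(1,[2,1,7,14,16,32,95,160]),(0,[1,2,4,8,16,32,64,128]),(4,[2,1,7,14,16,37,95,170]),(8,[4,7,1,8,21,48,80,234]),(16,[1,2,4,13,21,53,80,229]),(32,[8,14,13,1,21,32,85,160]),(57,[11,13,14,7,21,37,79,138]),(128,[13,14,8,4,21,63,74,223]),(256,[2,14,7,1,26,32,80,160]),(512,[1,2,4,13,16,63,95,239])] 0 [1,2,4,8,16,32,64,133] [⟨0,0,[],0,0,false⟩,⟨0,0,[],0,0,false⟩,⟨0,0,[],0,0,false⟩,⟨0,0,[],0,0,false⟩,⟨0,0,[],0,0,false⟩,⟨0,0,[],0,0,false⟩,⟨0,0,[],0,0,false⟩,⟨1,2,[⟨4,0,0,0⟩,⟨0,8,14,0⟩,⟨0,32,32,0⟩],1,0,false⟩,⟨1,4,[⟨4,0,0,1⟩,⟨4,3,0,2⟩,⟨0,8,8,0⟩,⟨0,16,21,0⟩,⟨0,32,48,0⟩],0,0,false⟩] [] [256,5,259,512,533,288,63,842,416,532] [([528,533,530,622,24,33,137,259,1,8],[]),([528,533,530,622,24,33,137,259,1,10],[])]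 [] = true := by decide +kernel
theorem c20018256 : chkLift M20234 D20234 E20016323 [528,533,530,622,24,33,137,257] [530,535,528,620,24,35,137,378] [528,533,530,622,24,33,137,257,1,8] [(1,[2,1,7,14,16,32,95,160]),(0,[1,2,4,8,16,32,64,128]),(4,[2,1,7,14,16,37,95,170]),(8,[4,7,1,8,21,48,80,234]),(16,[1,2,4,13,21,53,80,229]),(32,[8,14,13,1,21,32,85,160]),(57,[11,13,14,7,21,37,79,138]),(128,[13,14,8,4,21,63,74,223]),(256,[2,14,7,1,26,32,80,160]),(512,[1,2,4,13,16,63,95,239])] 0 [4,7,1,13,16,37,64,143] [⟨0,0,[],0,0,false⟩,⟨0,0,[],0,0,false⟩,⟨0,0,[],0,0,false⟩,⟨0,0,[],0,0,false⟩,⟨0,0,[],0,0,false⟩,⟨0,0,[],0,0,false⟩,⟨0,0,[],0,0,false⟩,⟨1,2,[⟨4,0,0,0⟩,⟨0,8,14,0⟩,⟨0,32,32,0⟩],1,0,false⟩,⟨1,4,[⟨4,0,0,1⟩,⟨4,3,0,2⟩,⟨0,8,8,0⟩,⟨0,16,21,0⟩,⟨0,32,48,0⟩],0,0,false⟩] [] [256,5,259,512,533,288,63,842,416,532] [([530,535,528,620,24,35,137,378,1,8],[]),([530,535,528,620,24,35,137,378,1,10],[])]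 [] = true := by decide +kernel
theorem c20018848 : chkLift M20234 D20234 E20016323 [528,533,530,622,24,33,137,257] [528,533,530,622,24,33,137,259] [528,533,530,622,24,33,137,257,1,8] [(1,[2,1,7,14,16,32,95,160]),(0,[1,2,4,8,16,32,64,128]),(4,[2,1,7,14,16,37,95,170]),(8,[4,7,1,8,21,48,80,234]),(16,[1,2,4,13,21,53,80,229]),(32,[8,14,13,1,21,32,85,160]),(57,[11,13,14,7,21,37,79,138]),(128,[13,14,8,4,21,63,74,223]),(256,[2,14,7,1,26,32,80,160]),(512,[1,2,4,13,16,63,95,239])] 0 [1,2,4,8,16,32,64,133] [⟨0,0,[],0,0,false⟩,⟨0,0,[],0,0,false⟩,⟨0,0,[],0,0,false⟩,⟨0,0,[],0,0,false⟩,⟨0,0,[],0,0,false⟩,⟨0,0,[],0,0,false⟩,⟨0,0,[],0,0,false⟩,⟨1,2,[⟨4,0,0,0⟩,⟨0,8,14,0⟩,⟨0,32,32,0⟩],1,0,false⟩,⟨1,4,[⟨4,0,0,1⟩,⟨4,3,0,2⟩,⟨0,8,8,0⟩,⟨0,16,21,0⟩,⟨0,32,48,0⟩],0,0,false⟩] [] [256,5,259,512,533,288,63,842,416,532] [([528,533,530,622,24,33,137,259,1,8],[]),([528,533,530,622,24,33,137,259,1,10],[])]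 [] = true := by decide +kernel
theorem c20019596 : chkLift M20234 D20234 E20016323 [528,533,530,622,24,33,137,257] [530,535,528,620,24,35,137,378] [528,533,530,622,24,33,137,257,1,8] [(1,[2,1,7,14,16,32,95,160]),(0,[1,2,4,8,16,32,64,128]),(4,[2,1,7,14,16,37,95,170]),(8,[4,7,1,8,21,48,80,234]),(16,[1,2,4,13,21,53,80,229]),(32,[8,14,13,1,21,32,85,160]),(57,[11,13,14,7,21,37,79,138]),(128,[13,14,8,4,21,63,74,223]),(256,[2,14,7,1,26,32,80,160]),(512,[1,2,4,13,16,63,95,239])] 0 [4,7,1,13,16,37,64,143] [⟨0,0,[],0,0,false⟩,⟨0,0,[],0,0,false⟩,⟨0,0,[],0,0,false⟩,⟨0,0,[],0,0,false⟩,⟨0,0,[],0,0,false⟩,⟨0,0,[],0,0,false⟩,⟨0,0,[],0,0,false⟩,⟨1,2,[⟨4,0,0,0⟩,⟨0,8,14,0⟩,⟨0,32,32,0⟩],1,0,false⟩,⟨1,4,[⟨4,0,0,1⟩,⟨4,3,0,2⟩,⟨0,8,8,0⟩,⟨0,16,21,0⟩,⟨0,32,48,0⟩],0,0,false⟩] [] [256,5,259,512,533,288,63,842,416,532] [([530,535,528,620,24,35,137,378,1,8],[]),([530,535,528,620,24,35,137,378,1,10],[])]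 [] = true := by decide +kernel
theorem c20019883 : chkStab M20234 [104,2,109,123,9,128,33,257,513] [104] [1] [2,121] [([104,2,109,121,9,154,57,427,513],[1,2,4,10,16,57,91,242,256]),([104,2,109,123,9,128,35,378,513],[1,2,4,8,16,32,66,138,256]),([104,2,109,123,11,249,59,499,516],[1,2,4,8,18,42,89,171,261]),([104,2,109,123,9,128,33,257,515],[1,2,4,8,16,32,64,128,258]),([104,2,109,123,9,128,33,257,634],[1,2,4,8,16,32,64,128,266])] [[104,2,109,123,9,128,33,257,513],[104,2,109,121,9,154,57,427,513],[104,2,109,123,9,128,35,378,513],[104,2,109,123,11,249,59,499,516],[104,2,109,123,9,128,33,257,515],[104,2,109,123,9,128,33,257,634],[104,2,109,121,9,154,59,464,513],[104,2,109,121,11,227,35,345,516],[104,2,109,121,9,154,57,427,515],[104,2,109,121,9,154,57,427,632],[104,2,109,123,11,249,57,392,516],[104,2,109,1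23,9,128,35,378,515],[104,2,109,123,9,128,35,378,634],[104,2,109,123,11,249,59,499,518],[104,2,109,123,11,249,59,499,639],[104,2,109,123,9,128,33,257,632],[104,2,109,121,9,154,57,427,634],[104,2,109,121,11,227,33,290,516],[104,2,109,121,9,154,59,464,515],[104,2,109,121,9,154,59,464,632],[104,2,109,121,11,227,35,345,518],[104,2,109,121,11,227,35,345,637],[104,2,109,123,11,249,57,392,518],[104,2,109,123,11,249,57,392,639],[104,2,109,123,9,128,35,378,632],[104,2,109,121,9,154,59,464,634],[104,2,109,123,11,249,59,499,637],[104,2,109,121,11,227,35,345,639],[104,2,109,121,11,227,33,290,518],[104,2,109,121,11,227,33,290,637],[104,2,109,123,11,249,57,392,637],[104,2,109,121,11,227,33,290,639]] [(0,0),(0,1),(0,2),(0,3),(0,4),(1,1),(1,2),(1,3),(1,4),(2,2),(2,3),(2,4),(3,3),(3,4),(4,4),(5,0),(6,2),(6,3),(6,4),(7,3),(7,4),(10,3),(10,4),(11,4),(12,0),(13,4),(14,0),(17,3),(17,4),(22,4),(23,0)]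 5 64 = true := by decide +kernel
theorem c20016486 : chkLift M20234 D20234 E20014166 [520,525,522,630,8,16,33,129,257] [520,525,522,630,8,16,35,129,376] [520,525,522,630,8,16,33,129,257,1] [(1,[2,1,7,14,16,32,64,186,320]),(0,[1,2,4,8,16,32,64,128,256]),(4,[2,1,7,14,16,32,69,186,335]),(8,[1,2,4,13,16,37,112,181,495]),(16,[4,7,1,8,21,32,117,176,485]),(32,[8,14,13,1,32,16,64,128,320]),(64,[11,13,14,7,32,16,69,186,271]),(128,[13,14,8,4,37,21,122,186,431]),(377,[13,4,8,11,250,197,64,101,320]),(512,[1,2,4,13,16,32,122,186,490])] 0 [1,2,4,8,16,32,69,128,271] [⟨0,0,[],0,0,false⟩,⟨0,0,[],0,0,false⟩,⟨0,0,[],0,0,false⟩,⟨0,0,[],0,0,false⟩,⟨0,0,[],0,0,false⟩,⟨0,0,[],0,0,false⟩,⟨0,0,[],0,0,false⟩,⟨0,0,[],0,0,false⟩,⟨1,2,[⟨4,0,0,0⟩,⟨0,8,14,0⟩,⟨0,64,64,0⟩],0,0,false⟩] [] [512,5,515,16,32,576,122,698,832,17] [([520,525,522,630,8,16,35,129,376,3],[]),([520,525,522,630,8,16,35,129,376,1],[])]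 [] = true := by decide +kernel
theorem c20016790 : chkLift M20234 D20234 E20014166 [520,525,522,630,8,16,33,129,257] [520,525,522,630,8,16,35,129,376] [520,525,522,630,8,16,33,129,257,1] [(1,[2,1,7,14,16,32,64,186,320]),(0,[1,2,4,8,16,32,64,128,256]),(4,[2,1,7,14,16,32,69,186,335]),(8,[1,2,4,13,16,37,112,181,495]),(16,[4,7,1,8,21,32,117,176,485]),(32,[8,14,13,1,32,16,64,128,320]),(64,[11,13,14,7,32,16,69,186,271]),(128,[13,14,8,4,37,21,122,186,431]),(377,[13,4,8,11,250,197,64,101,320]),(512,[1,2,4,13,16,32,122,186,490])] 0 [1,2,4,8,16,32,69,128,271] [⟨0,0,[],0,0,false⟩,⟨0,0,[],0,0,false⟩,⟨0,0,[],0,0,false⟩,⟨0,0,[],0,0,false⟩,⟨0,0,[],0,0,false⟩,⟨0,0,[],0,0,false⟩,⟨0,0,[],0,0,false⟩,⟨0,0,[],0,0,false⟩,⟨1,2,[⟨4,0,0,0⟩,⟨0,8,14,0⟩,⟨0,64,64,0⟩],0,0,false⟩] [] [512,5,515,16,32,576,122,698,832,17] [([520,525,522,630,8,16,35,129,376,3],[]),([520,525,522,630,8,16,35,129,376,1],[])]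 [] = true := by decide +kernel
theorem c20017102 : chkLift M20234 D20234 E20014166 [520,525,522,630,8,16,33,129,257] [627,628,625,527,16,8,35,224,378] [520,525,522,630,8,16,33,129,257,1] [(1,[2,1,7,14,16,32,64,186,320]),(0,[1,2,4,8,16,32,64,128,256]),(4,[2,1,7,14,16,32,69,186,335]),(16,[1,2,4,13,16,37,112,181,495]),(8,[4,7,1,8,21,32,117,176,485]),(32,[8,14,13,1,32,16,64,128,320]),(64,[11,13,14,7,32,16,69,186,271]),(225,[13,14,8,4,37,21,122,186,431]),(377,[13,4,8,11,250,197,64,101,320]),(609,[1,2,4,13,16,32,122,186,490])] 0 [11,13,14,7,32,16,69,186,266] [⟨0,0,[],0,0,false⟩,⟨0,0,[],0,0,false⟩,⟨0,0,[],0,0,false⟩,⟨0,0,[],0,0,false⟩,⟨0,0,[],0,0,false⟩,⟨0,0,[],0,0,false⟩,⟨0,0,[],0,0,false⟩,⟨0,0,[],0,0,false⟩,⟨1,2,[⟨4,0,0,0⟩,⟨0,8,14,0⟩,⟨0,64,64,0⟩],0,0,false⟩] [] [512,5,515,16,32,576,122,698,832,17] [([627,628,625,527,16,8,35,224,378,3],[]),([627,628,625,527,16,8,35,224,378,1],[])]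 [] = true := by decide +kernel
theorem c20017403 : chkLift M20234 D20234 E20014166 [520,525,522,630,8,16,33,129,257] [625,630,627,525,16,8,35,224,376] [520,525,522,630,8,16,33,129,257,1] [(1,[2,1,7,14,16,32,64,186,320]),(0,[1,2,4,8,16,32,64,128,256]),(4,[2,1,7,14,16,32,69,186,335]),(16,[1,2,4,13,16,37,112,181,495]),(8,[4,7,1,8,21,32,117,176,485]),(32,[8,14,13,1,32,16,64,128,320]),(64,[11,13,14,7,32,16,69,186,271]),(225,[13,14,8,4,37,21,122,186,431]),(377,[13,4,8,11,250,197,64,101,320]),(609,[1,2,4,13,16,32,122,186,490])] 0 [14,8,11,2,32,16,69,186,271] [⟨0,0,[],0,0,false⟩,⟨0,0,[],0,0,false⟩,⟨0,0,[],0,0,false⟩,⟨0,0,[],0,0,false⟩,⟨0,0,[],0,0,false⟩,⟨0,0,[],0,0,false⟩,⟨0,0,[],0,0,false⟩,⟨0,0,[],0,0,false⟩,⟨1,2,[⟨4,0,0,0⟩,⟨0,8,14,0⟩,⟨0,64,64,0⟩],0,0,false⟩] [] [512,5,515,16,32,576,122,698,832,17] [([625,630,627,525,16,8,35,224,376,3],[]),([625,630,627,525,16,8,35,224,376,1],[])]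 [] = true := by decide +kernel
theorem c20017665 : chkLift M20234 D20234 E20014166 [520,525,522,630,8,16,33,129,257] [520,525,522,630,8,16,33,129,259] [520,525,522,630,8,16,33,129,257,1] [(1,[2,1,7,14,16,32,64,186,320]),(0,[1,2,4,8,16,32,64,128,256]),(4,[2,1,7,14,16,32,69,186,335]),(8,[1,2,4,13,16,37,112,181,495]),(16,[4,7,1,8,21,32,117,176,485]),(32,[8,14,13,1,32,16,64,128,320]),(64,[11,13,14,7,32,16,69,186,271]),(128,[13,14,8,4,37,21,122,186,431]),(256,[13,4,8,11,250,197,64,101,320]),(512,[1,2,4,13,16,32,122,186,490])] 0 [1,2,4,8,16,32,64,128,261] [⟨0,0,[],0,0,false⟩,⟨0,0,[],0,0,false⟩,⟨0,0,[],0,0,false⟩,⟨0,0,[],0,0,false⟩,⟨0,0,[],0,0,false⟩,⟨0,0,[],0,0,false⟩,⟨0,0,[],0,0,false⟩,⟨0,0,[],0,0,false⟩,⟨1,2,[⟨4,0,0,0⟩,⟨0,8,14,0⟩,⟨0,64,64,0⟩],0,0,false⟩] [] [512,5,515,16,32,576,122,698,832,17] [([520,525,522,630,8,16,33,129,259,3],[]),([520,525,522,630,8,16,33,129,259,1],[])]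 [] = true := by decide +kernel
theorem c20017974 : chkLift M20234 D20234 E20014166 [520,525,522,630,8,16,33,129,257] [520,525,522,630,8,16,35,129,376] [520,525,522,630,8,16,33,129,257,1] [(1,[2,1,7,14,16,32,64,186,320]),(0,[1,2,4,8,16,32,64,128,256]),(4,[2,1,7,14,16,32,69,186,335]),(8,[1,2,4,13,16,37,112,181,495]),(16,[4,7,1,8,21,32,117,176,485]),(32,[8,14,13,1,32,16,64,128,320]),(64,[11,13,14,7,32,16,69,186,271]),(128,[13,14,8,4,37,21,122,186,431]),(377,[13,4,8,11,250,197,64,101,320]),(512,[1,2,4,13,16,32,122,186,490])] 0 [1,2,4,8,16,32,69,128,271] [⟨0,0,[],0,0,false⟩,⟨0,0,[],0,0,false⟩,⟨0,0,[],0,0,false⟩,⟨0,0,[],0,0,false⟩,⟨0,0,[],0,0,false⟩,⟨0,0,[],0,0,false⟩,⟨0,0,[],0,0,false⟩,⟨0,0,[],0,0,false⟩,⟨1,2,[⟨4,0,0,0⟩,⟨0,8,14,0⟩,⟨0,64,64,0⟩],0,0,false⟩] [] [512,5,515,16,32,576,122,698,832,17] [([520,525,522,630,8,16,35,129,376,3],[]),([520,525,522,630,8,16,35,129,376,1],[])]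 [] = true := by decide +kernel
theorem c20018259 : chkLift M20234 D20234 E20014166 [520,525,522,630,8,16,33,129,257] [520,525,522,630,8,16,33,129,259] [520,525,522,630,8,16,33,129,257,1] [(1,[2,1,7,14,16,32,64,186,320]),(0,[1,2,4,8,16,32,64,128,256]),(4,[2,1,7,14,16,32,69,186,335]),(8,[1,2,4,13,16,37,112,181,495]),(16,[4,7,1,8,21,32,117,176,485]),(32,[8,14,13,1,32,16,64,128,320]),(64,[11,13,14,7,32,16,69,186,271]),(128,[13,14,8,4,37,21,122,186,431]),(256,[13,4,8,11,250,197,64,101,320]),(512,[1,2,4,13,16,32,122,186,490])] 0 [1,2,4,8,16,32,64,128,261] [⟨0,0,[],0,0,false⟩,⟨0,0,[],0,0,false⟩,⟨0,0,[],0,0,false⟩,⟨0,0,[],0,0,false⟩,⟨0,0,[],0,0,false⟩,⟨0,0,[],0,0,false⟩,⟨0,0,[],0,0,false⟩,⟨0,0,[],0,0,false⟩,⟨1,2,[⟨4,0,0,0⟩,⟨0,8,14,0⟩,⟨0,64,64,0⟩],0,0,false⟩] [] [512,5,515,16,32,576,122,698,832,17] [([520,525,522,630,8,16,33,129,259,3],[]),([520,525,522,630,8,16,33,129,259,1],[])]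 [] = true := by decide +kernel
theorem c20018563 : chkLift M20234 D20234 E20014166 [520,525,522,630,8,16,33,129,257] [520,525,522,630,8,16,33,129,259] [520,525,522,630,8,16,33,129,257,1] [(1,[2,1,7,14,16,32,64,186,320]),(0,[1,2,4,8,16,32,64,128,256]),(4,[2,1,7,14,16,32,69,186,335]),(8,[1,2,4,13,16,37,112,181,495]),(16,[4,7,1,8,21,32,117,176,485]),(32,[8,14,13,1,32,16,64,128,320]),(64,[11,13,14,7,32,16,69,186,271]),(128,[13,14,8,4,37,21,122,186,431]),(256,[13,4,8,11,250,197,64,101,320]),(512,[1,2,4,13,16,32,122,186,490])] 0 [1,2,4,8,16,32,64,128,261] [⟨0,0,[],0,0,false⟩,⟨0,0,[],0,0,false⟩,⟨0,0,[],0,0,false⟩,⟨0,0,[],0,0,false⟩,⟨0,0,[],0,0,false⟩,⟨0,0,[],0,0,false⟩,⟨0,0,[],0,0,false⟩,⟨0,0,[],0,0,false⟩,⟨1,2,[⟨4,0,0,0⟩,⟨0,8,14,0⟩,⟨0,64,64,0⟩],0,0,false⟩] [] [512,5,515,16,32,576,122,698,832,17] [([520,525,522,630,8,16,33,129,259,3],[]),([520,525,522,630,8,16,33,129,259,1],[])]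 [] = true := by decide +kernel
theorem c20018851 : chkLift M20234 D20234 E20014166 [520,525,522,630,8,16,33,129,257] [522,527,520,628,8,16,35,129,378] [520,525,522,630,8,16,33,129,257,1] [(1,[2,1,7,14,16,32,64,186,320]),(0,[1,2,4,8,16,32,64,128,256]),(4,[2,1,7,14,16,32,69,186,335]),(8,[1,2,4,13,16,37,112,181,495]),(16,[4,7,1,8,21,32,117,176,485]),(32,[8,14,13,1,32,16,64,128,320]),(64,[11,13,14,7,32,16,69,186,271]),(128,[13,14,8,4,37,21,122,186,431]),(377,[13,4,8,11,250,197,64,101,320]),(512,[1,2,4,13,16,32,122,186,490])] 0 [4,7,1,13,16,32,69,128,266] [⟨0,0,[],0,0,false⟩,⟨0,0,[],0,0,false⟩,⟨0,0,[],0,0,false⟩,⟨0,0,[],0,0,false⟩,⟨0,0,[],0,0,false⟩,⟨0,0,[],0,0,false⟩,⟨0,0,[],0,0,false⟩,⟨0,0,[],0,0,false⟩,⟨1,2,[⟨4,0,0,0⟩,⟨0,8,14,0⟩,⟨0,64,64,0⟩],0,0,false⟩] [] [512,5,515,16,32,576,122,698,832,17] [([522,527,520,628,8,16,35,129,378,3],[]),([522,527,520,628,8,16,35,129,378,1],[])]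 [] = true := by decide +kernel
theorem c20019153 : chkLift M20234 D20234 E20014166 [520,525,522,630,8,16,33,129,257] [520,525,522,630,8,16,33,129,259] [520,525,522,630,8,16,33,129,257,1] [(1,[2,1,7,14,16,32,64,186,320]),(0,[1,2,4,8,16,32,64,128,256]),(4,[2,1,7,14,16,32,69,186,335]),(8,[1,2,4,13,16,37,112,181,495]),(16,[4,7,1,8,21,32,117,176,485]),(32,[8,14,13,1,32,16,64,128,320]),(64,[11,13,14,7,32,16,69,186,271]),(128,[13,14,8,4,37,21,122,186,431]),(256,[13,4,8,11,250,197,64,101,320]),(512,[1,2,4,13,16,32,122,186,490])] 0 [1,2,4,8,16,32,64,128,261] [⟨0,0,[],0,0,false⟩,⟨0,0,[],0,0,false⟩,⟨0,0,[],0,0,false⟩,⟨0,0,[],0,0,false⟩,⟨0,0,[],0,0,false⟩,⟨0,0,[],0,0,false⟩,⟨0,0,[],0,0,false⟩,⟨0,0,[],0,0,false⟩,⟨1,2,[⟨4,0,0,0⟩,⟨0,8,14,0⟩,⟨0,64,64,0⟩],0,0,false⟩] [] [512,5,515,16,32,576,122,698,832,17] [([520,525,522,630,8,16,33,129,259,3],[]),([520,525,522,630,8,16,33,129,259,1],[])]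 [] = true := by decide +kernel
theorem c20019443 : chkLift M20234 D20234 E20014166 [520,525,522,630,8,16,33,129,257] [522,527,520,628,8,16,35,129,378] [520,525,522,630,8,16,33,129,257,1] [(1,[2,1,7,14,16,32,64,186,320]),(0,[1,2,4,8,16,32,64,128,256]),(4,[2,1,7,14,16,32,69,186,335]),(8,[1,2,4,13,16,37,112,181,495]),(16,[4,7,1,8,21,32,117,176,485]),(32,[8,14,13,1,32,16,64,128,320]),(64,[11,13,14,7,32,16,69,186,271]),(128,[13,14,8,4,37,21,122,186,431]),(377,[13,4,8,11,250,197,64,101,320]),(512,[1,2,4,13,16,32,122,186,490])] 0 [4,7,1,13,16,32,69,128,266] [⟨0,0,[],0,0,false⟩,⟨0,0,[],0,0,false⟩,⟨0,0,[],0,0,false⟩,⟨0,0,[],0,0,false⟩,⟨0,0,[],0,0,false⟩,⟨0,0,[],0,0,false⟩,⟨0,0,[],0,0,false⟩,⟨0,0,[],0,0,false⟩,⟨1,2,[⟨4,0,0,0⟩,⟨0,8,14,0⟩,⟨0,64,64,0⟩],0,0,false⟩] [] [512,5,515,16,32,576,122,698,832,17] [([522,527,520,628,8,16,35,129,378,3],[]),([522,527,520,628,8,16,35,129,378,1],[])]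 [] = true := by decide +kernel
theorem c20019745 : chkLift M20234 D20234 E20014166 [520,525,522,630,8,16,33,129,257] [520,525,522,630,8,16,33,129,259] [520,525,522,630,8,16,33,129,257,1] [(1,[2,1,7,14,16,32,64,186,320]),(0,[1,2,4,8,16,32,64,128,256]),(4,[2,1,7,14,16,32,69,186,335]),(8,[1,2,4,13,16,37,112,181,495]),(16,[4,7,1,8,21,32,117,176,485]),(32,[8,14,13,1,32,16,64,128,320]),(64,[11,13,14,7,32,16,69,186,271]),(128,[13,14,8,4,37,21,122,186,431]),(256,[13,4,8,11,250,197,64,101,320]),(512,[1,2,4,13,16,32,122,186,490])] 0 [1,2,4,8,16,32,64,128,261] [⟨0,0,[],0,0,false⟩,⟨0,0,[],0,0,false⟩,⟨0,0,[],0,0,false⟩,⟨0,0,[],0,0,false⟩,⟨0,0,[],0,0,false⟩,⟨0,0,[],0,0,false⟩,⟨0,0,[],0,0,false⟩,⟨0,0,[],0,0,false⟩,⟨1,2,[⟨4,0,0,0⟩,⟨0,8,14,0⟩,⟨0,64,64,0⟩],0,0,false⟩] [] [512,5,515,16,32,576,122,698,832,17] [([520,525,522,630,8,16,33,129,259,3],[]),([520,525,522,630,8,16,33,129,259,1],[])]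 [] = true := by decide +kernel
theorem c20016220 : chkCF M20234 (5,Z20016189) [1,2,9,121] = true := by decide +kernel
theorem c20016319 : chkDer M20234 [([528,533,530,622,24,33,137,257],[59,463,57,436,1020,530,352,214])] [(0,8,[]),(2,0,[32,147,37,153,200,4,255,124]),(0,543,[]),(1,0,[63,249,58,246,184,1,149,121]),(0,1,[]),(2,0,[246,53,243,63,189,1,39,125]),(0,541,[]),(1,0,[153,47,156,32,205,4,61,125]),(0,1,[]),(0,8,[]),(0,1,[]),(2,0,[153,47,156,37,200,201,255,75]),(0,543,[]),(1,0,[246,53,243,58,184,188,149,84]),(0,1,[]),(2,0,[63,249,58,243,189,185,39,232]),(0,541,[]),(1,0,[32,147,37,156,205,204,61,135])] ([528,533,530,622,24,33,137,257],[530,535,528,620,24,35,137,378]) = true := by decide +kernel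
theorem c20017581 : chkDer M20234 [([528,533,530,622,24,33,137,257],[319,90,317,33,777,436,489,741])] [(0,8,[]),(2,0,[201,53,204,63,148,156,181,71]),(0,543,[]),(1,0,[188,47,185,32,251,243,197,93]),(0,1,[]),(2,0,[32,182,37,188,254,246,49,161]),(0,541,[]),(1,0,[63,198,58,201,145,153,46,209]),(0,1,[]),(0,8,[]),(0,1,[]),(2,0,[63,198,58,204,148,13,181,102]),(0,543,[]),(1,0,[32,182,37,185,251,13,197,102]),(0,1,[]),(2,0,[188,47,185,37,254,13,49,107]),(0,541,[]),(1,0,[201,53,204,58,145,13,46,107])] ([528,533,530,622,24,33,137,257],[530,535,528,620,24,35,137,378]) = true := by decide +kernel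
theorem c20019002 : chkDer M20234 [([528,533,530,622,24,33,137,257],[326,90,324,33,880,436,491,741])] [(0,8,[]),(2,0,[195,63,198,53,145,153,191,66]),(0,543,[]),(1,0,[179,32,182,47,254,246,202,88]),(0,1,[]),(2,0,[47,185,42,179,251,243,59,161]),(0,541,[]),(1,0,[53,204,48,195,148,156,33,209]),(0,1,[]),(0,8,[]),(0,1,[]),(2,0,[53,204,48,198,145,13,191,108]),(0,543,[]),(1,0,[47,185,42,182,254,13,202,105]),(0,1,[]),(2,0,[179,32,182,42,251,13,59,100]),(0,541,[]),(1,0,[195,63,198,48,148,13,33,97])] ([528,533,530,622,24,33,137,257],[530,535,528,620,24,35,137,378]) = true := by decide +kernel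
theorem c20016919 : chkDer M20234 [([528,533,530,622,24,33,137,257],[326,33,324,90,777,461,491,670])] [(0,8,[]),(2,0,[198,58,195,48,148,150,181,72]),(0,543,[]),(1,0,[182,37,179,42,251,252,197,87]),(0,1,[]),(2,0,[37,182,32,188,251,252,62,171]),(0,541,[]),(1,0,[58,198,63,201,148,150,36,222]),(0,1,[]),(0,8,[]),(0,1,[]),(2,0,[63,195,58,201,145,2,186,102]),(0,543,[]),(1,0,[32,179,37,188,254,7,207,102]),(0,1,[]),(2,0,[179,32,182,42,254,7,49,100]),(0,541,[]),(1,0,[195,63,198,48,145,2,46,97])] ([528,533,530,622,24,33,137,257],[528,533,530,622,24,33,137,259]) = true := by decide +kernel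
theorem c20016406 : chkDer M20234 [([528,533,530,622,24,33,137,257],[57,438,59,461,903,528,281,173])] [(0,8,[]),(2,0,[37,156,32,150,199,1,245,118]),(0,543,[]),(1,0,[58,243,63,252,178,4,154,118]),(0,1,[]),(2,0,[252,48,249,58,183,4,34,119]),(0,541,[]),(1,0,[150,42,147,37,194,1,56,114]),(0,1,[]),(0,8,[]),(0,1,[]),(2,0,[150,42,147,32,199,195,245,68]),(0,543,[]),(1,0,[252,48,249,63,178,179,154,94]),(0,1,[]),(2,0,[58,243,63,249,183,182,34,237]),(0,541,[]),(1,0,[37,156,32,147,194,198,56,130])] ([528,533,530,622,24,33,137,257],[530,535,528,620,24,35,137,378]) = true := by decide +kernel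
theorem c20017538 : chkDer M20234 [([528,533,530,622,24,33,137,257],[317,33,319,90,882,436,402,668])] [(0,8,[]),(2,0,[195,58,198,48,148,150,176,66]),(0,543,[]),(1,0,[179,37,182,42,251,252,192,88]),(0,1,[]),(2,0,[37,179,32,185,251,252,59,164]),(0,541,[]),(1,0,[58,195,63,204,148,150,33,212]),(0,1,[]),(0,8,[]),(0,1,[]),(2,0,[63,198,58,204,145,2,191,105]),(0,543,[]),(1,0,[32,182,37,185,254,7,202,108]),(0,1,[]),(2,0,[182,32,179,42,254,7,52,110]),(0,541,[]),(1,0,[198,63,195,48,145,2,43,110])] ([528,533,530,622,24,33,137,257],[528,533,530,622,24,33,137,259]) = true := by decide +kernel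
theorem c20019526 : chkDer M20234 [([528,533,530,622,24,33,137,257],[625,710,627,701,211,993,896,670])] [(0,1,[]),(2,0,[18,107,23,97,101,141,146,65]),(2,0,[119,27,114,20,122,222,190,150]),(2,0,[8,4,13,14,21,63,64,223]),(0,1,[]),(1,0,[14,7,11,8,21,58,95,239]),(1,0,[20,125,17,119,122,219,196,66]),(1,0,[97,29,100,18,101,136,248,201])] ([528,533,530,622,24,33,137,257],[617,622,619,533,24,35,139,376]) = true := by decide +kernel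
theorem c20018112 : chkDer M20234 [([104,2,109,123,9,128,33,257,513],[106,123,111,121,225,9,319,206,634]),([520,525,522,630,8,16,33,129,257],[525,5,527,124,8,193,376,441,290])] [(0,257,[]),(1,0,[259,268,257,260,19,64,50,128]),(2,1,[220,219,211,209,373,466,415,55]),(1,0,[108,362,100,352,217,454,184,270]),(1,1,[325,466,335,471,309,311,115,55]),(1,0,[72,220,66,222,176,181,472,119])] ([528,533,530,622,24,33,137,257],[324,286,326,357,69,64,808,466]) = true := by decide +kernel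
theorem c20017097 : chkDer M20234 [([104,2,109,123,9,128,33,257,513],[106,123,111,121,225,9,319,206,634]),([520,525,522,630,8,16,33,129,257],[630,124,628,5,193,8,376,360,345])] [(0,64,[]),(1,0,[257,262,259,270,25,66,58,136]),(2,1,[217,222,214,212,378,466,405,50]),(1,0,[110,360,102,354,209,454,178,268]),(1,1,[330,477,320,472,319,311,118,56]),(1,0,[72,220,66,222,176,181,472,119])] ([528,533,530,622,24,33,137,257],[324,286,326,357,69,64,808,466]) = true := by decide +kernel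
theorem c20019390 : chkDer M20234 [([104,2,109,123,9,128,33,257,513],[106,123,111,121,225,9,319,206,634]),([520,525,522,630,8,16,33,129,257],[628,126,630,7,193,8,376,360,347])] [(0,64,[]),(1,0,[257,262,259,270,25,66,58,136]),(2,1,[217,219,214,209,383,466,400,55]),(1,0,[110,362,102,352,211,454,176,270]),(1,1,[330,466,320,471,304,311,121,55]),(1,0,[74,212,64,214,186,181,464,125])] ([528,533,530,622,24,33,137,257],[317,359,319,284,71,64,851,464]) = true := by decide +kernel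
theorem c20016481 : chkDer M20234 [([104,2,109,123,9,128,33,257,513],[106,123,111,121,225,9,319,206,634]),([520,525,522,630,8,16,33,129,257],[7,520,5,627,8,160,345,329,33])] [(0,257,[]),(1,0,[259,268,257,260,19,64,50,128]),(1,1,[62,56,49,50,159,374,170,236]),(1,0,[110,362,102,352,219,460,186,270]),(2,1,[64,380,74,377,405,409,484,236]),(1,0,[64,214,74,212,178,191,472,119])] ([528,533,530,622,24,33,137,257],[319,284,317,359,62,66,808,466]) = true := by decide +kernel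
theorem c20018174 : chkDer M20234 [([104,2,109,123,9,128,33,257,513],[106,123,111,121,225,9,319,206,634]),([520,525,522,630,8,16,33,129,257],[525,7,527,126,8,193,376,443,347])] [(0,257,[]),(1,0,[259,268,257,260,19,64,50,128]),(2,1,[220,222,211,212,383,472,400,50]),(1,0,[108,360,100,354,211,460,176,268]),(1,1,[325,477,335,472,304,306,121,56]),(1,0,[66,222,72,220,184,191,464,125])] ([528,533,530,622,24,33,137,257],[326,357,324,286,60,66,851,464]) = true := by decide +kernel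
theorem c20017738 : chkDer M20234 [([104,2,109,123,9,128,33,257,513],[106,123,111,121,225,9,319,206,634]),([520,525,522,630,8,16,33,129,257],[527,126,525,7,160,16,376,368,290])] [(1,0,[265,268,267,260,27,64,48,128]),(1,1,[59,56,52,50,149,374,165,236]),(1,0,[372,127,380,117,233,298,147,362]),(2,1,[473,117,467,112,314,6,322,158]),(1,0,[238,89,228,91,145,7,493,296])] ([528,533,530,622,24,33,137,257],[407,463,405,438,95,126,991,520]) = true := by decide +kernel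
theorem c20018629 : chkDer M20234 [([520,525,522,630,8,16,33,129,257],[630,124,628,5,193,8,376,362,288]),([104,2,109,123,9,128,33,257,513],[106,123,111,121,225,9,319,206,634])] [(0,704,[]),(2,0,[209,220,212,214,223,330,400,261]),(2,1,[423,163,429,171,166,110,233,242]),(1,0,[312,426,306,421,425,217,479,495]),(1,1,[183,89,189,81,344,267,219,169])] ([528,533,530,622,24,33,137,257],[59,463,57,436,1020,530,352,214]) = true := by decide +kernel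
theorem c20016404 : chkDer M20234 [([520,525,522,630,8,16,33,129,257],[628,126,630,7,193,8,376,362,290]),([104,2,109,123,9,128,33,257,513],[106,123,111,121,225,9,319,206,634])] [(0,704,[]),(2,0,[212,220,209,214,223,335,405,256]),(2,1,[429,163,423,171,166,100,227,248]),(1,0,[306,426,312,421,425,211,469,485]),(1,1,[189,91,183,83,346,257,211,161])] ([528,533,530,622,24,33,137,257],[57,438,59,461,903,528,281,173]) = true := by decide +kernel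
theorem c20018031 : chkDer M20234 [([104,2,109,123,9,128,33,257,513],[106,123,111,121,225,9,319,206,634]),([520,525,522,630,8,16,33,129,257],[124,522,126,625,193,16,345,507,88])] [(1,0,[265,268,267,260,27,64,48,128]),(1,1,[59,56,52,50,149,374,165,236]),(1,0,[110,354,102,360,219,452,178,270]),(2,1,[64,377,74,380,400,412,484,236]),(1,0,[64,212,74,214,176,189,472,119])] ([528,533,530,622,24,33,137,257],[319,359,317,284,69,57,808,466]) = true := by decide +kernel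
theorem c20019000 : chkDer M20234 [([520,525,522,630,8,16,33,129,257],[126,625,124,522,160,8,345,408,90]),([104,2,109,123,9,128,33,257,513],[106,123,111,121,225,9,319,206,634])] [(0,704,[]),(2,0,[230,237,227,231,224,271,314,79]),(2,1,[136,387,130,395,135,250,219,158]),(1,0,[271,414,261,401,262,480,368,307]),(1,1,[66,148,72,156,332,81,227,318])] ([528,533,530,622,24,33,137,257],[326,90,324,33,880,436,491,741]) = true := by decide +kernel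
theorem c20016777 : chkDer M20234 [([520,525,522,630,8,16,33,129,257],[7,520,5,627,8,160,345,331,88]),([104,2,109,123,9,128,33,257,513],[106,123,111,121,225,9,319,206,634])] [(0,704,[]),(2,0,[233,232,236,226,234,266,314,79]),(2,1,[138,393,128,385,143,240,219,158]),(1,0,[266,404,256,411,265,490,368,307]),(1,1,[66,156,72,148,324,83,227,316])] ([528,533,530,622,24,33,137,257],[326,33,324,90,777,461,491,670]) = true := by decide +kernel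
theorem c20014544 : chkDer M20234 [([5,643,2,741,538,121],[520,284,2,788,633,121]),([1,2,4,8,16,96,160,512],[104,2,109,123,10,11,160,619])] [(1,0,[1,5,33]),(0,1,[]),(2,1,[164,166,172]),(0,256,[]),(2,1,[235,233,138]),(2,0,[63,59,5]),(0,1,[]),(1,0,[62,58,5]),(0,32,[]),(2,1,[97,99,172]),(0,256,[]),(2,1,[59,57,138]),(2,0,[36,32,5])] ([5,7,124],[123,121,7]) = true := by decide +kernel
theorem c20015499 : chkDer M20234 [([5,643,2,741,538,121],[528,816,2,288,633,121]),([1,2,4,8,16,96,160,512],[104,2,109,123,10,11,160,619])] [(1,0,[1,5,33]),(0,1,[]),(2,1,[141,143,133]),(0,256,[]),(1,1,[138,136,235]),(2,0,[5,1,63]),(0,1,[]),(1,0,[5,1,62]),(0,32,[]),(1,1,[172,174,97]),(0,256,[]),(2,1,[169,171,59]),(2,0,[33,37,36])] ([5,7,124],[124,126,123]) = true := by decide +kernel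
theorem c20016328 : chkDer M20234 [([520,525,522,630,8,16,33,129,257],[630,124,628,5,193,8,376,362,290])] [(1,0,[1,2,4,8,16,32,64,128,256]),(0,1,[]),(2,0,[12,7,9,8,192,32,271,501,74]),(0,1,[]),(1,0,[9,4,12,14,255,32,330,437,79])] ([520,525,522,630,8,16,33,129,257],[627,628,625,527,16,8,33,224,257]) = true := by decide +kernel
theorem c20017474 : chkDer M20234 [([520,525,522,630,8,16,33,129,257],[630,124,628,5,193,8,376,360,347])] [(1,0,[1,2,4,8,16,32,64,128,256]),(0,1,[]),(2,0,[12,7,9,8,197,32,261,506,69]),(0,1,[]),(1,0,[9,4,12,14,250,32,325,447,69])] ([520,525,522,630,8,16,33,129,257],[627,628,625,527,16,8,35,224,378]) = true := by decide +kernel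
theorem c20019226 : chkDer M20234 [([520,525,522,630,8,16,33,129,257],[527,5,525,124,8,193,376,441,290])] [(1,0,[1,2,4,8,16,32,64,128,256]),(0,1,[]),(2,0,[3,2,6,13,16,255,271,298,74]),(0,1,[]),(1,0,[3,1,6,11,16,192,330,367,79])] ([520,525,522,630,8,16,33,129,257],[522,527,520,628,8,16,33,129,257]) = true := by decide +kernel
theorem c20018699 : chkDer M20234 [([520,525,522,630,8,16,33,129,257],[628,126,630,7,193,8,376,362,288])] [(1,0,[1,2,4,8,16,32,64,128,256]),(0,1,[]),(2,0,[9,7,12,8,192,32,266,496,79]),(0,1,[]),(1,0,[12,4,9,14,255,32,335,432,74])] ([520,525,522,630,8,16,33,129,257],[625,630,627,525,16,8,33,224,259]) = true := by decide +kernel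
theorem c20016782 : chkDer M20234 [([520,525,522,630,8,16,33,129,257],[7,520,5,627,8,160,345,331,90])] [(1,0,[1,2,4,8,16,32,64,128,256]),(0,1,[]),(2,0,[1,6,4,9,16,192,335,394,261]),(0,1,[]),(1,0,[2,6,7,12,16,255,266,463,325])] ([520,525,522,630,8,16,33,129,257],[520,525,522,630,8,16,33,129,259]) = true := by decide +kernel
theorem c20017966 : chkDer M20234 [([520,525,522,630,8,16,33,129,257],[126,522,124,625,193,16,345,507,90])] [(1,0,[1,2,4,8,16,32,64,128,256]),(0,1,[]),(2,0,[4,12,1,3,255,32,335,346,261]),(0,1,[]),(1,0,[7,9,2,3,192,32,266,287,325])] ([520,525,522,630,8,16,33,129,257],[520,525,522,630,8,16,33,129,259]) = true := by decide +kernel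
theorem c20019433 : chkDer M20234 [([520,525,522,630,8,16,33,129,257],[5,522,7,625,8,160,345,331,88])] [(1,0,[1,2,4,8,16,32,64,128,256]),(0,1,[]),(2,0,[1,3,4,12,16,192,330,399,261]),(0,1,[]),(1,0,[2,3,7,9,16,255,271,458,325])] ([520,525,522,630,8,16,33,129,257],[522,527,520,628,8,16,33,129,257]) = true := by decide +kernel
theorem c20018744 : chkDer M20234 [([1,2,4,8,16,96,160,512],[104,2,109,123,10,11,160,619]),([5,643,2,741,538,121,617],[672,33,2,665,716,121,533])] [(0,1,[]),(1,0,[141,136,143,177]),(1,1,[97,96,101,59]),(0,4,[]),(2,0,[85,128,87,194]),(2,1,[65,117,69,5]),(1,0,[172,13,174,7])] ([520,525,522,630],[628,126,630,7]) = true := by decide +kernel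
theorem c20018725 : chkDer M20234 [([520,525,522,630,8,16,33,129,257],[628,126,630,7,193,8,376,360,345])] [(1,0,[1,2,4,8,16,32,64,128,256]),(0,1,[]),(2,0,[9,7,12,8,197,32,256,511,64]),(0,1,[]),(1,0,[12,4,9,14,250,32,320,442,64])] ([520,525,522,630,8,16,33,129,257],[625,630,627,525,16,8,35,224,376]) = true := by decide +kernel
theorem c20019048 : chkDer M20234 [([1,2,4,8,16,96,160,512],[104,2,109,123,10,11,160,619]),([5,643,2,741,538,121,617],[672,33,2,665,108,121,181])] [(0,1,[]),(1,0,[141,136,143,177]),(1,1,[97,96,101,59]),(0,4,[]),(2,0,[128,85,130,23]),(2,1,[117,64,113,48]),(1,0,[13,169,15,163])] ([520,525,522,630],[126,625,124,522]) = true := by decide +kernel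
theorem c20018849 : chkDer M20234 [([520,525,522,630,8,16,33,129,257],[5,522,7,625,8,160,345,329,33])] [(1,0,[1,2,4,8,16,32,64,128,256]),(0,1,[]),(2,0,[1,3,4,12,16,197,325,389,256]),(0,1,[]),(1,0,[2,3,7,9,16,250,261,453,320])] ([520,525,522,630,8,16,33,129,257],[522,527,520,628,8,16,35,129,378]) = true := by decide +kernel
theorem c20015708 : chkDer M20234 [([5,643,2,741,538,121],[672,33,2,736,217,123]),([1,2,4,8,16,96,160,512],[104,2,109,123,10,11,160,619])] [(1,0,[1,5,33]),(0,256,[]),(1,1,[221,223,230]),(0,256,[]),(2,0,[1,5,53]),(0,1,[]),(1,0,[1,5,48]),(0,257,[]),(2,1,[251,249,59]),(2,0,[33,37,32])] ([5,7,124],[124,126,121]) = true := by decide +kernel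
theorem c20019521 : chkDer M20234 [([520,525,522,630,8,16,33,129,257],[126,520,124,627,193,16,345,505,33])] [(1,0,[1,2,4,8,16,32,64,128,256]),(0,1,[]),(2,0,[4,12,1,3,250,32,325,336,256]),(0,1,[]),(1,0,[7,9,2,3,197,32,261,272,320])] ([520,525,522,630,8,16,33,129,257],[522,527,520,628,8,16,35,129,378]) = true := by decide +kernel
theorem c20014249 : chkBig M20234 6 5 [1,2,4,8,16,96,128] = true := by decide +kernel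
theorem c20016858 : chkDer M20234 [([520,525,522,630,8,16,33,129,257],[7,520,5,627,8,160,345,329,35])] [(1,0,[1,2,4,8,16,32,64,128,256]),(0,1,[]),(2,0,[1,6,4,9,16,197,320,384,256]),(0,1,[]),(1,0,[2,6,7,12,16,250,256,448,320])] ([520,525,522,630,8,16,33,129,257],[520,525,522,630,8,16,35,129,376]) = true := by decide +kernel
theorem c20019196 : chkDer M20234 [([1,2,4,8,16,96,160,512],[104,2,109,123,10,11,160,619]),([5,643,2,741,538,121,617],[672,33,2,665,108,123,212])] [(2,0,[161,164,163,174]),(0,256,[]),(1,0,[205,243,207,144]),(2,1,[49,1,53,113]),(1,0,[166,5,164,15])] ([520,525,522,630],[527,5,525,124]) = true := by decide +kernel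
theorem c20016446 : chkDer M20234 [([1,2,4,8,16,96],[11,2,14,8,121,104]),([5,643,2,741,538,121,617],[520,284,2,877,636,121,206]),([1,2,4,8,16,96,160,512],[104,2,109,123,10,11,160,619])] [(0,256,[]),(1,0,[60,62,7]),(1,1,[94,90,5]),(0,64,[]),(1,2,[16,18,177]),(2,1,[90,94,91]),(1,0,[23,21,18])] ([5,7,124],[126,124,123]) = true := by decide +kernel
theorem c20018370 : chkDer M20234 [([1,2,4,8,16,96],[11,2,14,8,121,104]),([5,643,2,741,538,121,617],[528,816,2,345,724,123,126]),([1,2,4,8,16,96,160,512],[104,2,109,123,10,11,160,619])] [(0,256,[]),(1,0,[60,62,7]),(1,1,[94,90,5]),(0,64,[]),(2,2,[18,16,130]),(2,1,[90,94,91]),(1,0,[23,21,18])] ([5,7,124],[126,124,123]) = true := by decide +kernel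
theorem c20017790 : chkDer M20234 [([5,643,2,741,538,121,617],[528,288,2,841,108,121,533]),([1,2,4,8,16,96,160,512],[104,2,109,123,10,11,160,619]),([1,2,4,8,16,96],[11,2,14,8,121,104])] [(2,0,[65,69,97]),(2,1,[135,133,141]),(0,256,[]),(1,1,[233,235,138]),(2,0,[91,95,5]),(1,2,[18,16,7])] ([5,7,124],[123,121,7]) = true := by decide +kernel
theorem c20018734 : chkDer M20234 [([1,2,4,8,16,96],[11,2,14,8,121,104]),([5,643,2,741,538,121,617],[672,33,2,665,716,121,535]),([520,525,522,630,8,16,33,129,257],[628,126,630,7,693,517,376,950,290]),([1,2,4,8,16,96,160,512],[104,2,109,123,10,11,160,619])] [(0,256,[]),(1,0,[60,62,7]),(1,1,[94,90,5]),(1,2,[46,43,212]),(1,3,[8,10,172]),(1,2,[15,10,13])] ([5,7,124],[123,121,5]) = true := by decide +kernel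
theorem c20018696 : chkDer M20234 [([1,2,4,8,16,96,160],[104,2,109,123,10,11,160]),([520,525,522,630,8,16,33,129,257],[628,126,630,7,189,13,257,276,290]),([1,2,4,8,16,96,160,512],[104,2,109,123,10,11,160,619]),([5,643,2,741,538,121,617],[672,33,2,665,716,121,535])] [(2,0,[5,7,15]),(2,1,[13,8,37]),(2,2,[172,174,59]),(2,1,[219,222,15]),(2,3,[33,37,36])] ([5,7,124],[124,126,123]) = true := by decide +kernel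
theorem c20019288 : chkDer M20234 [([1,2,4,8,16,96,160],[104,2,109,123,10,11,160]),([520,525,522,630,8,16,33,129,257],[628,126,630,7,189,13,257,276,290]),([1,2,4,8,16,96,160,512],[104,2,109,123,10,11,160,619]),([5,643,2,741,538,121,617],[672,641,2,57,716,121,535])] [(2,0,[5,7,15]),(2,1,[13,8,37]),(2,2,[172,174,59]),(2,1,[219,222,15]),(2,3,[33,37,36])] ([5,7,124],[124,126,123]) = true := by decide +kernel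
theorem c20016412 : chkDer M20234 [([1,2,4,8,16,96],[11,2,14,8,121,104]),([520,525,522,630,8,16,33,129,257],[628,126,630,7,693,517,376,948,347]),([1,2,4,8,16,96,160,512],[104,2,109,123,10,11,160,619]),([1,2,4,8,16,96,160],[104,2,109,123,10,11,160])] [(0,256,[]),(1,0,[60,62,7]),(1,1,[35,38,6]),(2,2,[23,21,163]),(1,1,[38,35,43]),(1,3,[15,13,10])] ([5,7,124],[124,126,121]) = true := by decide +kernel
theorem c20017386 : chkDer M20234 [([1,2,4,8,16,96],[11,2,14,8,121,104]),([520,525,522,630,8,16,33,129,257],[628,126,630,7,693,517,376,948,347]),([1,2,4,8,16,96,160,512],[104,2,109,123,10,11,160,619]),([1,2,4,8,16,96,160],[104,2,109,123,10,11,160])] [(0,256,[]),(1,0,[60,62,7]),(1,1,[35,38,6]),(2,2,[23,21,163]),(1,1,[38,35,43]),(1,3,[15,13,10])] ([5,7,124],[124,126,121]) = true := by decide +kernel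
theorem c20018710 : chkDer M20234 [([1,2,4,8,16,96],[11,2,14,8,121,104]),([5,643,2,741,538,121,617],[672,33,2,665,716,121,535]),([520,525,522,630,8,16,33,129,257],[628,126,630,7,693,517,376,948,347]),([1,2,4,8,16,96,160,512],[104,2,109,123,10,11,160,619])] [(0,256,[]),(1,0,[60,62,7]),(1,1,[94,90,5]),(1,2,[46,43,212]),(1,3,[8,10,174]),(1,2,[15,10,8])] ([5,7,124],[123,121,7]) = true := by decide +kernel
theorem c20017634 : chkDer M20234 [([1,2,4,8,16,96,160],[104,2,109,123,10,11,160]),([5,643,2,741,538,121,617],[528,288,2,841,636,121,5]),([1,2,4,8,16,96,160,512],[104,2,109,123,10,11,160,619])] [(0,256,[]),(2,0,[15,13,7]),(1,1,[113,117,5]),(0,64,[]),(2,2,[16,18,130]),(2,1,[117,113,112]),(1,0,[13,15,10])] ([5,7,124],[126,124,121]) = true := by decide +kernel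
theorem c20019512 : chkDer M20234 [([1,2,4,8,16,96],[11,2,14,8,121,104]),([5,643,2,741,538,121,617],[672,641,2,57,716,123,628]),([1,2,4,8,16,96,160,512],[104,2,109,123,10,11,160,619]),([520,525,522,630,8,16,33,129,257],[126,520,124,627,189,21,345,389,35]),([1,2,4,8,16,96,160],[104,2,109,123,10,11,160])] [(1,0,[5,7,60]),(1,1,[1,5,94]),(2,2,[243,241,179]),(1,3,[203,206,11]),(1,4,[10,8,7])] ([5,7,124],[121,123,7]) = true := by decide +kernel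
theorem c20017106 : chkDer M20234 [([1,2,4,8,16,96],[11,2,14,8,121,104]),([520,525,522,630,8,16,33,129,257],[630,124,628,5,693,517,376,950,290]),([1,2,4,8,16,96,160,512],[104,2,109,123,10,11,160,619]),([1,2,4,8,16,96,160],[104,2,109,123,10,11,160])] [(0,256,[]),(1,0,[60,62,7]),(1,1,[35,38,6]),(2,2,[23,21,163]),(1,1,[38,35,43]),(1,3,[15,13,8])] ([5,7,124],[124,126,123]) = true := by decide +kernel
theorem c20018054 : chkDer M20234 [([5,643,2,741,538,121,617],[528,288,2,841,108,123,212]),([1,2,4,8,16,96,160,512],[104,2,109,123,10,11,160,619]),([520,525,522,630,8,16,33,129,257],[124,522,126,625,713,609,345,857,90]),([1,2,4,8,16,96],[11,2,14,8,121,104])] [(1,0,[1,5,33]),(0,1,[]),(1,1,[149,151,172]),(1,2,[45,40,13]),(1,0,[91,95,107]),(1,3,[16,18,7])] ([5,7,124],[121,123,7]) = true := by decide +kernel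
theorem c20019078 : chkDer M20234 [([1,2,4,8,16,96],[11,2,14,8,121,104]),([520,525,522,630,8,16,33,129,257],[126,625,124,522,220,13,288,413,90]),([1,2,4,8,16,96,160,512],[104,2,109,123,10,11,160,619]),([5,643,2,741,538,121,617],[672,33,2,665,108,121,181]),([1,2,4,8,16,96,160],[104,2,109,123,10,11,160])] [(1,0,[5,7,60]),(2,1,[14,11,197]),(1,2,[177,179,66]),(2,3,[113,117,112]),(1,4,[15,13,10])] ([5,7,124],[124,126,121]) = true := by decide +kernel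
theorem c20017547 : chkDer M20234 [([1,2,4,8,16,96],[11,2,14,8,121,104]),([520,525,522,630,8,16,33,129,257],[5,627,7,520,609,713,345,904,33]),([1,2,4,8,16,96,160,512],[104,2,109,123,10,11,160,619]),([1,2,4,8,16,96,160],[104,2,109,123,10,11,160])] [(0,256,[]),(1,0,[60,62,7]),(2,1,[22,19,4]),(2,2,[21,23,163]),(2,1,[22,19,21]),(1,3,[15,13,10])] ([5,7,124],[124,126,121]) = true := by decide +kernel
theorem c20018005 : chkDer M20234 [([5,643,2,741,538,121,617],[528,288,2,841,108,123,214]),([1,2,4,8,16,96,160,512],[104,2,109,123,10,11,160,619]),([520,525,522,630,8,16,33,129,257],[126,522,124,625,713,609,345,857,88]),([1,2,4,8,16,96],[11,2,14,8,121,104])] [(1,0,[1,5,33]),(0,1,[]),(1,1,[149,151,172]),(1,2,[45,40,13]),(1,0,[91,95,107]),(1,3,[18,16,5])] ([5,7,124],[123,121,5]) = true := by decide +kernel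
theorem c20019111 : chkDer M20234 [([1,2,4,8,16,96],[11,2,14,8,121,104]),([520,525,522,630,8,16,33,129,257],[126,625,124,522,721,512,288,824,33]),([1,2,4,8,16,96,160,512],[104,2,109,123,10,11,160,619]),([1,2,4,8,16,96,160],[104,2,109,123,10,11,160])] [(0,256,[]),(1,0,[60,62,7]),(1,1,[35,38,6]),(2,2,[23,21,166]),(1,1,[38,35,40]),(1,3,[15,13,10])] ([5,7,124],[124,126,121]) = true := by decide +kernel
theorem c20019703 : chkDer M20234 [([1,2,4,8,16,96],[11,2,14,8,121,104]),([520,525,522,630,8,16,33,129,257],[126,625,124,522,721,512,288,824,33]),([1,2,4,8,16,96,160,512],[104,2,109,123,10,11,160,619]),([1,2,4,8,16,96,160],[104,2,109,123,10,11,160])] [(0,256,[]),(1,0,[60,62,7]),(1,1,[35,38,6]),(2,2,[23,21,166]),(1,1,[38,35,40]),(1,3,[15,13,10])] ([5,7,124],[124,126,121]) = true := by decide +kernel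
theorem c20017771 : chkDer M20234 [([1,2,4,8,16,96],[11,2,14,8,121,104]),([5,643,2,741,538,121,617],[528,288,2,841,636,123,708]),([520,525,522,630,8,16,33,129,257],[527,126,525,7,685,612,376,981,345]),([1,2,4,8,16,96,160,512],[104,2,109,123,10,11,160,619])] [(1,0,[5,7,60]),(2,1,[106,110,49]),(2,2,[14,11,37]),(2,3,[169,171,59]),(2,1,[37,33,32])] ([5,7,124],[126,124,121]) = true := by decide +kernel
theorem c20019459 : chkDer M20234 [([1,2,4,8,16,96],[11,2,14,8,121,104]),([520,525,522,630,8,16,33,129,257],[5,522,7,625,13,220,288,311,88]),([1,2,4,8,16,96,160,512],[104,2,109,123,10,11,160,619]),([5,643,2,741,538,121,617],[672,641,2,57,716,123,630]),([1,2,4,8,16,96,160],[104,2,109,123,10,11,160])] [(1,0,[5,7,60]),(2,1,[1,4,250]),(2,2,[161,163,99]),(2,3,[117,113,112]),(1,4,[13,15,10])] ([5,7,124],[126,124,121])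 = true := by decide +kernel
theorem c20019691 : chkDer M20234 [([1,2,4,8,16,96],[11,2,14,8,121,104]),([520,525,522,630,8,16,33,129,257],[126,625,124,522,220,13,288,415,33]),([1,2,4,8,16,96,160,512],[104,2,109,123,10,11,160,619]),([5,643,2,741,538,121,617],[672,641,2,57,108,121,181]),([1,2,4,8,16,96,160],[104,2,109,123,10,11,160])] [(1,0,[5,7,60]),(2,1,[14,11,192]),(1,2,[177,179,64]),(2,3,[113,117,116]),(1,4,[15,13,8])] ([5,7,124],[124,126,123]) = true := by decide +kernel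
theorem c20019235 : chkDer M20234 [([1,2,4,8,16,96],[11,2,14,8,121,104]),([520,525,522,630,8,16,33,129,257],[527,5,525,124,512,713,376,864,345]),([1,2,4,8,16,96,160,512],[104,2,109,123,10,11,160,619]),([5,643,2,741,538,121,617],[672,33,2,665,108,123,212]),([1,2,4,8,16,96,160],[104,2,109,123,10,11,160])] [(1,0,[5,7,60]),(1,1,[3,6,35]),(2,2,[163,161,97]),(2,3,[117,113,112]),(1,4,[13,15,10])] ([5,7,124],[126,124,121]) = true := by decide +kernel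
theorem c20019827 : chkDer M20234 [([1,2,4,8,16,96],[11,2,14,8,121,104]),([520,525,522,630,8,16,33,129,257],[527,5,525,124,512,713,376,864,345]),([1,2,4,8,16,96,160,512],[104,2,109,123,10,11,160,619]),([5,643,2,741,538,121,617],[672,641,2,57,108,123,212]),([1,2,4,8,16,96,160],[104,2,109,123,10,11,160])] [(1,0,[5,7,60]),(1,1,[3,6,35]),(2,2,[163,161,97]),(2,3,[117,113,112]),(1,4,[13,15,10])] ([5,7,124],[126,124,121]) = true := by decide +kernel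
theorem c20018940 : chkDer M20234 [([1,2,4,8,16,96],[11,2,14,8,121,104]),([520,525,522,630,8,16,33,129,257],[126,520,124,627,693,612,288,862,35]),([1,2,4,8,16,96,160,512],[104,2,109,123,10,11,160,619]),([5,643,2,741,538,121,617],[672,33,2,665,716,123,628])] [(1,0,[5,7,60]),(1,1,[3,6,35]),(2,2,[172,174,57]),(2,3,[79,75,36]),(1,1,[4,1,15])] ([5,7,124],[124,126,123]) = true := by decide +kernel
theorem c20019450 : chkDer M20234 [([1,2,4,8,16,96,160],[104,2,109,123,10,11,160]),([520,525,522,630,8,16,33,129,257],[5,522,7,625,517,685,288,919,90]),([1,2,4,8,16,96,160,512],[104,2,109,123,10,11,160,619]),([5,643,2,741,538,121,617],[672,641,2,57,716,123,630])] [(2,0,[5,7,15]),(1,1,[3,6,22]),(1,2,[143,141,8]),(2,3,[107,111,32]),(1,1,[11,14,10])] ([5,7,124],[124,126,121]) = true := by decide +kernel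
theorem c20019836 : chkDer M20234 [([1,2,4,8,16,96,160],[104,2,109,123,10,11,160]),([520,525,522,630,8,16,33,129,257],[527,5,525,124,13,189,257,446,290]),([1,2,4,8,16,96,160,512],[104,2,109,123,10,11,160,619]),([5,643,2,741,538,121,617],[672,641,2,57,108,123,212])] [(2,0,[5,7,15]),(2,1,[2,7,21]),(1,2,[141,143,10]),(2,3,[106,110,36]),(1,1,[8,13,15])] ([5,7,124],[124,126,123]) = true := by decide +kernel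
theorem c20017860 : chkDer M20234 [([5,643,2,741,538,121,617],[528,288,2,841,108,121,7]),([1,2,4,8,16,96,160,512],[104,2,109,123,10,11,160,619]),([520,525,522,630,8,16,33,129,257],[527,126,525,7,685,612,376,981,347])] [(1,0,[1,5,33]),(0,1,[]),(1,1,[149,151,174]),(2,2,[32,37,14]),(2,1,[57,59,169]),(1,0,[32,36,64])] ([5,7,124],[121,123,7]) = true := by decide +kernel
theorem c20019038 : chkDer M20234 [([1,2,4,8,16,96],[11,2,14,8,121,104]),([520,525,522,630,8,16,33,129,257],[126,625,124,522,685,517,288,836,90]),([1,2,4,8,16,96,160,512],[104,2,109,123,10,11,160,619]),([5,643,2,741,538,121,617],[672,33,2,665,108,121,183])] [(1,0,[5,7,60]),(1,1,[3,6,35]),(1,2,[141,143,8]),(1,1,[50,55,15]),(2,3,[33,37,36])] ([5,7,124],[124,126,123]) = true := by decide +kernel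
theorem c20019480 : chkDer M20234 [([1,2,4,8,16,96],[11,2,14,8,121,104]),([5,643,2,741,538,121,617],[672,641,2,57,716,123,630]),([520,525,522,630,8,16,33,129,257],[5,522,7,625,512,721,288,912,90]),([1,2,4,8,16,96,160,512],[104,2,109,123,10,11,160,619])] [(1,0,[5,7,60]),(1,1,[1,5,94]),(2,2,[61,56,21]),(1,3,[174,172,10]),(2,2,[12,9,10])] ([5,7,124],[126,124,121]) = true := by decide +kernel
theorem c20019700 : chkDer M20234 [([1,2,4,8,16,96],[11,2,14,8,121,104]),([520,525,522,630,8,16,33,129,257],[126,625,124,522,685,517,288,836,90]),([1,2,4,8,16,96,160,512],[104,2,109,123,10,11,160,619]),([5,643,2,741,538,121,617],[672,641,2,57,108,121,181])] [(1,0,[5,7,60]),(1,1,[3,6,35]),(1,2,[141,143,8]),(1,1,[50,55,15]),(2,3,[33,37,36])] ([5,7,124],[124,126,123]) = true := by decide +kernel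
theorem c20016566 : chkDer M20234 [([1,2,4,8,16,96],[11,2,14,8,121,104]),([5,643,2,741,538,121,617],[520,284,2,877,636,123,525]),([520,525,522,630,8,16,33,129,257],[7,520,5,627,13,220,288,309,35])] [(0,256,[]),(1,0,[60,62,7]),(1,1,[94,90,5]),(1,2,[254,251,4]),(1,0,[18,16,5])] ([5,7,124],[123,121,5]) = true := by decide +kernel
theorem c20017010 : chkDer M20234 [([1,2,4,8,16,96],[11,2,14,8,121,104]),([5,643,2,741,538,121,617],[520,788,2,357,636,121,525]),([520,525,522,630,8,16,33,129,257],[7,520,5,627,13,220,288,309,35])] [(0,256,[]),(1,0,[60,62,7]),(1,1,[94,90,5]),(1,2,[254,251,4]),(1,0,[18,16,5])] ([5,7,124],[123,121,5]) = true := by decide +kernel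
theorem c20017253 : chkDer M20234 [([5,643,2,741,538,121,617],[520,788,2,357,116,121,7]),([1,2,4,8,16,96,160,512],[104,2,109,123,10,11,160,619]),([520,525,522,630,8,16,33,129,257],[7,520,5,627,512,721,288,912,88]),([1,2,4,8,16,96,160],[104,2,109,123,10,11,160])] [(2,0,[68,64,100]),(0,1,[]),(2,1,[135,133,143]),(1,2,[23,18,7]),(2,0,[112,116,5]),(1,3,[10,8,7])] ([5,7,124],[121,123,7]) = true := by decide +kernel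
theorem c20019177 : chkDer M20234 [([1,2,4,8,16,96],[11,2,14,8,121,104]),([520,525,522,630,8,16,33,129,257],[527,124,525,5,220,21,376,373,345]),([1,2,4,8,16,96,160,512],[104,2,109,123,10,11,160,619]),([5,643,2,741,538,121,617],[672,33,2,665,108,123,214])] [(1,0,[5,7,60]),(2,1,[8,13,32]),(2,2,[174,172,57]),(2,3,[78,74,36]),(1,1,[7,2,15])] ([5,7,124],[126,124,123]) = true := by decide +kernel
theorem c20019547 : chkDer M20234 [([1,2,4,8,16,96,160],[104,2,109,123,10,11,160]),([5,643,2,741,538,121,617],[672,641,2,57,716,123,628]),([520,525,522,630,8,16,33,129,257],[126,520,124,627,713,609,345,857,88]),([1,2,4,8,16,96,160,512],[104,2,109,123,10,11,160,619])] [(2,0,[5,7,15]),(1,1,[1,5,113]),(2,2,[55,50,32]),(2,3,[143,141,57]),(2,2,[9,12,10])] ([5,7,124],[124,126,121]) = true := by decide +kernel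
theorem c20019851 : chkDer M20234 [([1,2,4,8,16,96],[11,2,14,8,121,104]),([5,643,2,741,538,121,617],[672,641,2,57,108,123,212]),([520,525,522,630,8,16,33,129,257],[527,5,525,124,517,693,376,796,288]),([1,2,4,8,16,96,160,512],[104,2,109,123,10,11,160,619])] [(1,0,[5,7,60]),(1,1,[1,5,94]),(1,2,[209,212,17]),(1,3,[172,174,10]),(1,2,[13,8,10])] ([5,7,124],[126,124,121]) = true := by decide +kernel
theorem c20019189 : chkDer M20234 [([1,2,4,8,16,96],[11,2,14,8,121,104]),([5,643,2,741,538,121,617],[672,33,2,665,108,123,214]),([1,2,4,8,16,96,160,512],[104,2,109,123,10,11,160,619]),([520,525,522,630,8,16,33,129,257],[527,124,525,5,721,609,257,937,345]),([1,2,4,8,16,96,160],[104,2,109,123,10,11,160])] [(1,0,[5,7,60]),(1,1,[1,5,94]),(2,2,[243,241,177]),(2,3,[21,16,3]),(1,4,[10,8,5])] ([5,7,124],[121,123,5]) =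 true := by decide +kernel
theorem c20017864 : chkDer M20234 [([1,2,4,8,16,96,160,512],[104,2,109,123,10,11,160,619]),([5,643,2,741,538,121,617],[528,288,2,841,108,121,5])] [(0,1,[]),(1,0,[141,136,143,177]),(2,1,[65,1,69,113]),(1,0,[172,5,174,15])] ([520,525,522,630],[628,5,630,124]) = true := by decide +kernel
theorem c20017468 : chkDer M20234 [([1,2,4,8,16,96],[11,2,14,8,121,104]),([5,643,2,741,538,121,617],[520,788,2,357,116,123,204]),([520,525,522,630,8,16,33,129,257],[630,124,628,5,189,13,257,276,290]),([1,2,4,8,16,96,160],[104,2,109,123,10,11,160])] [(0,256,[]),(1,0,[60,62,7]),(1,1,[94,90,5]),(0,32,[]),(1,2,[40,45,13]),(1,3,[8,10,7])] ([5,7,124],[123,121,7]) = true := by decide +kernel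
theorem c20017022 : chkDer M20234 [([1,2,4,8,16,96,160],[104,2,109,123,10,11,160]),([5,643,2,741,538,121,617],[520,788,2,357,636,121,525]),([520,525,522,630,8,16,33,129,257],[7,520,5,627,512,721,288,912,90]),([1,2,4,8,16,96,160,512],[104,2,109,123,10,11,160,619])] [(2,0,[5,7,15]),(1,1,[1,5,113]),(2,2,[2,7,21]),(1,3,[141,143,10]),(1,1,[97,101,32])] ([5,7,124],[124,126,121]) = true := by decide +kernel
theorem c20016731 : chkDer M20234 [([1,2,4,8,16,96],[11,2,14,8,121,104]),([5,643,2,741,538,121,617],[520,284,2,877,116,121,204]),([520,525,522,630,8,16,33,129,257],[527,7,525,126,13,189,257,444,345]),([1,2,4,8,16,96,160],[104,2,109,123,10,11,160])] [(0,256,[]),(1,0,[60,62,7]),(1,1,[94,90,5]),(0,1,[]),(1,2,[18,23,7]),(1,3,[10,8,5])] ([5,7,124],[121,123,5]) = true := by decide +kernel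
theorem c20019118 : chkDer M20234 [([5,643,2,741,538,121,617],[672,33,2,665,108,123,630]),([1,2,4,8,16,96,160,512],[104,2,109,123,10,11,160,619]),([1,2,4,8,16,96],[11,2,14,8,121,104])] [(1,0,[1,5,33]),(0,1,[]),(1,1,[230,228,221]),(0,256,[]),(2,0,[95,91,1]),(1,2,[16,18,5])] ([5,7,124],[121,123,5]) = true := by decide +kernel
theorem c20018489 : chkDer M20234 [([1,2,4,8,16,96],[11,2,14,8,121,104]),([5,643,2,741,538,121,617],[528,816,2,345,196,121,173]),([520,525,522,630,8,16,33,129,257],[5,520,7,627,13,220,288,311,88]),([1,2,4,8,16,96,160],[104,2,109,123,10,11,160])] [(0,256,[]),(1,0,[60,62,7]),(2,1,[63,59,79]),(1,2,[17,20,4]),(1,3,[8,10,7])] ([5,7,124],[123,121,7]) = true := by decide +kernel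
theorem c20018814 : chkDer M20234 [([5,643,2,741,538,121,617],[672,33,2,665,716,121,183]),([1,2,4,8,16,96,160,512],[104,2,109,123,10,11,160,619]),([1,2,4,8,16,96,160],[104,2,109,123,10,11,160])] [(1,0,[1,5,33]),(0,1,[]),(1,1,[230,228,223]),(0,256,[]),(2,0,[116,112,5]),(1,2,[8,10,7])] ([5,7,124],[123,121,7]) = true := by decide +kernel
theorem c20016569 : chkDer M20234 [([1,2,4,8,16,96,160],[104,2,109,123,10,11,160]),([5,643,2,741,538,121,617],[520,284,2,877,636,123,525]),([520,525,522,630,8,16,33,129,257],[7,520,5,627,512,721,288,914,33]),([1,2,4,8,16,96,160,512],[104,2,109,123,10,11,160,619])] [(2,0,[5,7,15]),(1,1,[1,5,113]),(2,2,[2,7,16]),(1,3,[141,143,8]),(1,1,[97,101,36])] ([5,7,124],[126,124,121]) = true := by decide +kernel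
theorem c20017599 : chkDer M20234 [([1,2,4,8,16,96,160],[104,2,109,123,10,11,160]),([520,525,522,630,8,16,33,129,257],[5,625,7,522,612,693,288,1014,33]),([1,2,4,8,16,96,160,512],[104,2,109,123,10,11,160,619]),([5,643,2,741,538,121,617],[528,288,2,841,636,121,533])] [(0,256,[]),(2,0,[15,13,7]),(1,1,[22,19,6]),(2,2,[59,57,174]),(1,3,[36,32,69])] ([5,7,124],[123,121,7]) = true := by decide +kernel
theorem c20018419 : chkDer M20234 [([1,2,4,8,16,96],[11,2,14,8,121,104]),([5,643,2,741,538,121,617],[528,816,2,345,196,121,175]),([520,525,522,630,8,16,33,129,257],[7,520,5,627,13,220,288,311,88]),([1,2,4,8,16,96,160],[104,2,109,123,10,11,160])] [(0,256,[]),(1,0,[60,62,7]),(2,1,[63,59,75]),(1,2,[17,20,1]),(1,3,[10,8,7])] ([5,7,124],[121,123,7]) = true := by decide +kernel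
theorem c20018185 : chkDer M20234 [([1,2,4,8,16,96],[11,2,14,8,121,104]),([5,643,2,741,538,121,617],[528,816,2,345,724,121,701]),([520,525,522,630,8,16,33,129,257],[525,7,527,126,13,189,257,446,288]),([1,2,4,8,16,96,160],[104,2,109,123,10,11,160])] [(0,256,[]),(1,0,[60,62,7]),(2,1,[58,62,74]),(1,2,[23,18,2]),(1,3,[8,10,7])] ([5,7,124],[123,121,7]) = true := by decide +kernel
theorem c20017317 : chkDer M20234 [([5,643,2,741,538,121,617],[520,788,2,357,116,121,5]),([1,2,4,8,16,96,160,512],[104,2,109,123,10,11,160,619]),([520,525,522,630,8,16,33,129,257],[7,520,5,627,512,721,288,914,33]),([1,2,4,8,16,96,160],[104,2,109,123,10,11,160])] [(2,0,[64,68,96]),(0,1,[]),(2,1,[133,135,141]),(1,2,[18,23,2]),(2,0,[112,116,1]),(1,3,[10,8,5])] ([5,7,124],[121,123,5]) = true := by decide +kernel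
theorem c20018807 : chkDer M20234 [([1,2,4,8,16,96],[11,2,14,8,121,104]),([5,643,2,741,538,121,617],[672,33,2,665,716,121,533]),([1,2,4,8,16,96,160,512],[104,2,109,123,10,11,160,619]),([520,525,522,630,8,16,33,129,257],[628,126,630,7,713,512,376,945,288]),([1,2,4,8,16,96,160],[104,2,109,123,10,11,160])] [(1,0,[5,7,60]),(1,1,[1,5,94]),(1,2,[192,194,163]),(2,3,[21,16,6]),(1,4,[10,8,7])] ([5,7,124],[121,123,7]) = true := by decide +kernel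
theorem c20017161 : chkDer M20234 [([1,2,4,8,16,96,160],[104,2,109,123,10,11,160]),([5,643,2,741,538,121,617],[520,788,2,357,636,123,708]),([520,525,522,630,8,16,33,129,257],[628,126,630,7,189,13,257,278,345])] [(0,256,[]),(2,0,[15,13,7]),(2,1,[53,49,110]),(1,2,[45,40,13]),(1,0,[8,10,5])] ([5,7,124],[123,121,5]) = true := by decide +kernel
theorem c20016340 : chkDer M20234 [([1,2,4,8,16,96],[11,2,14,8,121,104]),([5,643,2,741,538,121,617],[520,284,2,877,636,121,710]),([520,525,522,630,8,16,33,129,257],[630,124,628,5,713,512,376,945,290])] [(0,256,[]),(1,0,[60,62,7]),(1,1,[94,90,5]),(2,2,[37,32,6]),(1,0,[18,16,7])] ([5,7,124],[123,121,7]) = true := by decide +kernel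
theorem c20016658 : chkDer M20234 [([1,2,4,8,16,96],[11,2,14,8,121,104]),([5,643,2,741,538,121,617],[520,284,2,877,116,121,206]),([520,525,522,630,8,16,33,129,257],[525,5,527,124,512,713,376,866,290]),([1,2,4,8,16,96,160],[104,2,109,123,10,11,160])] [(0,256,[]),(1,0,[60,62,7]),(1,1,[94,90,5]),(2,2,[21,16,6]),(1,3,[10,8,7])] ([5,7,124],[121,123,7]) = true := by decide +kernel
theorem c20017088 : chkDer M20234 [([1,2,4,8,16,96],[11,2,14,8,121,104]),([5,643,2,741,538,121,617],[520,788,2,357,636,123,710]),([520,525,522,630,8,16,33,129,257],[630,124,628,5,713,512,376,945,290])] [(0,256,[]),(1,0,[60,62,7]),(1,1,[94,90,5]),(2,2,[37,32,6]),(1,0,[18,16,7])] ([5,7,124],[123,121,7]) = true := by decide +kernel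
theorem c20017392 : chkDer M20234 [([1,2,4,8,16,96],[11,2,14,8,121,104]),([5,643,2,741,538,121,617],[520,788,2,357,116,123,206]),([520,525,522,630,8,16,33,129,257],[628,126,630,7,713,512,376,947,347])] [(0,256,[]),(1,0,[60,62,7]),(1,1,[94,90,5]),(2,2,[37,32,6]),(1,0,[18,16,7])] ([5,7,124],[123,121,7]) = true := by decide +kernel
theorem c20017686 : chkDer M20234 [([1,2,4,8,16,96],[11,2,14,8,121,104]),([5,643,2,741,538,121,617],[528,288,2,841,636,123,710]),([520,525,522,630,8,16,33,129,257],[527,124,525,5,220,21,376,375,290])] [(0,256,[]),(1,0,[60,62,7]),(2,1,[49,53,106]),(1,2,[40,45,8]),(1,0,[16,18,5])] ([5,7,124],[121,123,5]) = true := by decide +kernel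
theorem c20017827 : chkDer M20234 [([1,2,4,8,16,96],[11,2,14,8,121,104]),([520,525,522,630,8,16,33,129,257],[527,126,525,7,721,609,257,939,288]),([1,2,4,8,16,96,160,512],[104,2,109,123,10,11,160,619]),([5,643,2,741,538,121,617],[528,288,2,841,108,121,7])] [(1,0,[5,7,60]),(1,1,[3,6,35]),(2,2,[171,169,59]),(2,3,[37,33,36])] ([5,7,124],[126,124,123]) = true := by decide +kernel
theorem c20018713 : chkDer M20234 [([1,2,4,8,16,96],[11,2,14,8,121,104]),([5,643,2,741,538,121,617],[672,33,2,665,716,121,535]),([1,2,4,8,16,96,160,512],[104,2,109,123,10,11,160,619]),([520,525,522,630,8,16,33,129,257],[628,126,630,7,713,512,376,947,345]),([1,2,4,8,16,96,160],[104,2,109,123,10,11,160])] [(1,0,[5,7,60]),(1,1,[1,5,94]),(1,2,[192,194,161]),(2,3,[21,16,3]),(1,4,[10,8,5])] ([5,7,124],[121,123,5]) = true := by decide +kernel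
theorem c20016395 : chkDer M20234 [([1,2,4,8,16,96,160],[104,2,109,123,10,11,160]),([5,643,2,741,538,121,617],[520,284,2,877,636,121,708]),([520,525,522,630,8,16,33,129,257],[628,126,630,7,189,13,257,276,288])] [(0,256,[]),(2,0,[15,13,7]),(2,1,[49,53,106]),(1,2,[40,45,8]),(1,0,[10,8,7])] ([5,7,124],[121,123,7]) = true := by decide +kernel
theorem c20017695 : chkDer M20234 [([1,2,4,8,16,96],[11,2,14,8,121,104]),([520,525,522,630,8,16,33,129,257],[527,124,525,5,721,609,257,939,288]),([1,2,4,8,16,96,160,512],[104,2,109,123,10,11,160,619]),([5,643,2,741,538,121,617],[528,288,2,841,636,123,710])] [(1,0,[5,7,60]),(1,1,[3,6,35]),(2,2,[169,171,57]),(2,3,[37,33,36])] ([5,7,124],[126,124,123]) = true := by decide +kernel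
theorem c20017778 : chkDer M20234 [([1,2,4,8,16,96],[11,2,14,8,121,104]),([5,643,2,741,538,121,617],[528,288,2,841,636,123,214]),([1,2,4,8,16,96,160,512],[104,2,109,123,10,11,160,619])] [(1,0,[5,7,60]),(1,1,[1,5,94]),(2,2,[136,138,57]),(1,1,[75,79,32])] ([5,7,124],[126,124,123]) = true := by decide +kernel
theorem c20018066 : chkDer M20234 [([1,2,4,8,16,96],[11,2,14,8,121,104]),([520,525,522,630,8,16,33,129,257],[124,522,126,625,189,21,345,389,35]),([1,2,4,8,16,96,160,512],[104,2,109,123,10,11,160,619]),([5,643,2,741,538,121,617],[528,288,2,841,108,123,212])] [(1,0,[5,7,60]),(2,1,[11,14,32]),(2,2,[171,169,57]),(2,3,[33,37,36])] ([5,7,124],[124,126,123]) = true := by decide +kernel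
theorem c20018652 : chkDer M20234 [([5,643,2,741,538,121,617],[528,816,2,345,196,123,124]),([1,2,4,8,16,96,160,512],[104,2,109,123,10,11,160,619]),([520,525,522,630,8,16,33,129,257],[630,124,628,5,189,13,257,276,290]),([1,2,4,8,16,96,160],[104,2,109,123,10,11,160])] [(1,0,[1,5,33]),(0,1,[]),(1,1,[149,151,172]),(1,2,[45,40,13]),(1,3,[10,8,7])] ([5,7,124],[121,123,7]) = true := by decide +kernel
theorem c20018507 : chkDer M20234 [([5,643,2,741,538,121,617],[528,816,2,345,196,121,173]),([1,2,4,8,16,96,160,512],[104,2,109,123,10,11,160,619]),([520,525,522,630,8,16,33,129,257],[5,520,7,627,512,721,288,912,88])] [(1,0,[1,5,33]),(0,32,[]),(2,1,[133,135,141]),(1,2,[18,23,2]),(1,1,[8,10,136]),(2,0,[36,32,1])] ([5,7,124],[123,121,5]) = true := by decide +kernel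
theorem c20016517 : chkDer M20234 [([1,2,4,8,16,96,160],[104,2,109,123,10,11,160]),([520,525,522,630,8,16,33,129,257],[7,520,5,627,517,685,288,917,33]),([1,2,4,8,16,96,160,512],[104,2,109,123,10,11,160,619]),([5,643,2,741,538,121,617],[520,284,2,877,636,123,527])] [(2,0,[5,7,15]),(1,1,[3,6,22]),(1,2,[143,141,8]),(1,3,[101,97,36])] ([5,7,124],[126,124,121]) = true := by decide +kernel
theorem c20016961 : chkDer M20234 [([1,2,4,8,16,96,160],[104,2,109,123,10,11,160]),([520,525,522,630,8,16,33,129,257],[7,520,5,627,517,685,288,917,33]),([1,2,4,8,16,96,160,512],[104,2,109,123,10,11,160,619]),([5,643,2,741,538,121,617],[520,788,2,357,636,121,527])] [(2,0,[5,7,15]),(1,1,[3,6,22]),(1,2,[143,141,8]),(1,3,[101,97,36])] ([5,7,124],[124,126,123]) = true := by decide +kernel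
theorem c20017842 : chkDer M20234 [([5,643,2,741,538,121,617],[528,288,2,841,108,121,7]),([1,2,4,8,16,96,160,512],[104,2,109,123,10,11,160,619]),([520,525,522,630,8,16,33,129,257],[527,126,525,7,220,21,376,375,290]),([1,2,4,8,16,96],[11,2,14,8,121,104])] [(1,0,[1,5,33]),(0,1,[]),(1,1,[149,151,174]),(1,2,[45,40,8]),(1,3,[16,18,7])] ([5,7,124],[121,123,7]) = true := by decide +kernel
theorem c20018570 : chkDer M20234 [([5,643,2,741,538,121,617],[528,816,2,345,196,123,126]),([1,2,4,8,16,96,160,512],[104,2,109,123,10,11,160,619]),([520,525,522,630,8,16,33,129,257],[525,5,527,124,13,189,257,446,290]),([1,2,4,8,16,96,160],[104,2,109,123,10,11,160])] [(1,0,[1,5,33]),(0,32,[]),(2,1,[133,135,143]),(1,2,[18,23,7]),(1,3,[8,10,7])] ([5,7,124],[123,121,7]) = true := by decide +kernel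
theorem c20018336 : chkDer M20234 [([5,643,2,741,538,121,617],[528,816,2,345,724,123,620]),([1,2,4,8,16,96,160,512],[104,2,109,123,10,11,160,619]),([520,525,522,630,8,16,33,129,257],[527,7,525,126,517,693,376,798,347])] [(0,256,[]),(1,0,[33,37,5]),(2,1,[128,130,138]),(1,2,[17,20,4]),(1,1,[10,8,141]),(1,0,[32,36,97])] ([5,7,124],[123,121,7]) = true := by decide +kernel
theorem c20017978 : chkDer M20234 [([5,643,2,741,538,121,617],[528,288,2,841,108,123,214]),([1,2,4,8,16,96,160,512],[104,2,109,123,10,11,160,619]),([520,525,522,630,8,16,33,129,257],[126,522,124,625,693,612,288,862,35]),([1,2,4,8,16,96],[11,2,14,8,121,104])] [(1,0,[1,5,33]),(0,1,[]),(1,1,[149,151,172]),(2,2,[32,37,6]),(1,3,[16,18,7])] ([5,7,124],[121,123,7]) = true := by decide +kernel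
theorem c20016888 : chkDer M20234 [([5,643,2,741,538,121,617],[520,284,2,877,116,123,5]),([1,2,4,8,16,96,160,512],[104,2,109,123,10,11,160,619]),([520,525,522,630,8,16,33,129,257],[7,520,5,627,517,685,288,919,90]),([1,2,4,8,16,96,160],[104,2,109,123,10,11,160])] [(2,0,[64,68,100]),(0,1,[]),(2,1,[133,135,143]),(2,2,[16,21,3]),(1,3,[8,10,5])] ([5,7,124],[123,121,5]) = true := by decide +kernel
theorem c20018072 : chkDer M20234 [([5,643,2,741,538,121,617],[528,288,2,841,108,123,212]),([1,2,4,8,16,96,160,512],[104,2,109,123,10,11,160,619]),([520,525,522,630,8,16,33,129,257],[124,522,126,625,693,612,288,862,35]),([1,2,4,8,16,96],[11,2,14,8,121,104])] [(1,0,[1,5,33]),(0,1,[]),(1,1,[149,151,172]),(2,2,[32,37,3]),(1,3,[16,18,5])] ([5,7,124],[121,123,5]) = true := by decide +kernel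
theorem c20018278 : chkDer M20234 [([1,2,4,8,16,96,160],[104,2,109,123,10,11,160]),([520,525,522,630,8,16,33,129,257],[525,5,527,124,512,713,376,866,290]),([1,2,4,8,16,96,160,512],[104,2,109,123,10,11,160,619]),([5,643,2,741,538,121,617],[528,816,2,345,724,123,622])] [(0,256,[]),(2,0,[15,13,7]),(1,1,[22,19,6]),(1,2,[10,8,138]),(2,3,[36,32,5])] ([5,7,124],[123,121,7]) = true := by decide +kernel
theorem c20016818 : chkDer M20234 [([5,643,2,741,538,121,617],[520,284,2,877,116,123,7]),([1,2,4,8,16,96,160,512],[104,2,109,123,10,11,160,619]),([520,525,522,630,8,16,33,129,257],[7,520,5,627,517,685,288,919,90]),([1,2,4,8,16,96,160],[104,2,109,123,10,11,160])] [(2,0,[68,64,96]),(0,1,[]),(2,1,[135,133,141]),(2,2,[21,16,6]),(1,3,[10,8,7])] ([5,7,124],[121,123,7]) = true := by decide +kernel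
theorem c20017518 : chkDer M20234 [([1,2,4,8,16,96],[11,2,14,8,121,104]),([520,525,522,630,8,16,33,129,257],[5,627,7,520,21,189,345,342,90]),([1,2,4,8,16,96,160,512],[104,2,109,123,10,11,160,619]),([5,643,2,741,538,121,617],[528,288,2,841,636,121,535])] [(0,256,[]),(1,0,[60,62,7]),(2,1,[16,21,4]),(1,2,[8,10,138]),(2,3,[36,32,5])] ([5,7,124],[123,121,7]) = true := by decide +kernel
theorem c20017892 : chkDer M20234 [([5,643,2,741,538,121,617],[528,288,2,841,108,121,5]),([1,2,4,8,16,96,160,512],[104,2,109,123,10,11,160,619]),([520,525,522,630,8,16,33,129,257],[628,5,630,124,21,220,376,422,290]),([1,2,4,8,16,96],[11,2,14,8,121,104])] [(1,0,[1,5,33]),(0,32,[]),(2,1,[133,135,141]),(1,2,[18,23,2]),(1,3,[16,18,5])] ([5,7,124],[121,123,5]) = true := by decide +kernel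
theorem c20018446 : chkDer M20234 [([5,643,2,741,538,121,617],[528,816,2,345,196,121,175]),([1,2,4,8,16,96,160,512],[104,2,109,123,10,11,160,619]),([520,525,522,630,8,16,33,129,257],[7,520,5,627,517,685,288,919,90]),([1,2,4,8,16,96,160],[104,2,109,123,10,11,160])] [(1,0,[1,5,33]),(0,32,[]),(2,1,[133,135,141]),(2,2,[16,21,6]),(1,3,[8,10,7])] ([5,7,124],[123,121,7]) = true := by decide +kernel
theorem c20018516 : chkDer M20234 [([5,643,2,741,538,121,617],[528,816,2,345,196,121,173]),([1,2,4,8,16,96,160,512],[104,2,109,123,10,11,160,619]),([520,525,522,630,8,16,33,129,257],[5,520,7,627,517,685,288,919,90]),([1,2,4,8,16,96,160],[104,2,109,123,10,11,160])] [(1,0,[1,5,33]),(0,32,[]),(2,1,[133,135,141]),(2,2,[16,21,3]),(1,3,[8,10,5])] ([5,7,124],[123,121,5]) = true := by decide +kernel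
theorem c20017198 : chkDer M20234 [([5,643,2,741,538,121,617],[520,788,2,357,116,121,525]),([1,2,4,8,16,96,160,512],[104,2,109,123,10,11,160,619]),([1,2,4,8,16,96,160],[104,2,109,123,10,11,160])] [(2,0,[65,69,97]),(0,1,[]),(2,1,[128,130,136]),(2,0,[112,116,1]),(1,2,[10,8,5])] ([5,7,124],[121,123,5]) = true := by decide +kernel
theorem c20016870 : chkDer M20234 [([1,2,4,8,16,96,160],[104,2,109,123,10,11,160]),([520,525,522,630,8,16,33,129,257],[7,520,5,627,13,220,288,309,35]),([1,2,4,8,16,96,160,512],[104,2,109,123,10,11,160,619]),([5,643,2,741,538,121,617],[520,284,2,877,116,123,5])] [(2,0,[5,7,15]),(2,1,[4,1,21]),(1,2,[138,136,10]),(1,3,[100,96,32])] ([5,7,124],[124,126,123]) = true := by decide +kernel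
theorem c20017314 : chkDer M20234 [([1,2,4,8,16,96,160],[104,2,109,123,10,11,160]),([520,525,522,630,8,16,33,129,257],[7,520,5,627,13,220,288,309,35]),([1,2,4,8,16,96,160,512],[104,2,109,123,10,11,160,619]),([5,643,2,741,538,121,617],[520,788,2,357,116,121,5])] [(2,0,[5,7,15]),(2,1,[4,1,21]),(1,2,[138,136,10]),(1,3,[100,96,32])] ([5,7,124],[126,124,121]) = true := by decide +kernel
theorem c20016968 : chkDer M20234 [([5,643,2,741,538,121,617],[520,788,2,357,636,121,525])] [(0,1,[]),(2,0,[64,1,68,37]),(0,1,[]),(1,0,[69,1,65,33])] ([520,525,522,630],[7,520,5,627]) = true := by decide +kernel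
theorem c20014609 : chkDer M20234 [([5,643,2,741,538,121],[520,284,2,788,113,627])] [(0,256,[]),(1,0,[33,37,5]),(0,64,[]),(2,0,[33,37,36])] ([5,7,124],[124,126,123]) = true := by decide +kernel
theorem c20015223 : chkDer M20234 [([5,643,2,741,538,121],[528,288,2,816,105,619])] [(0,256,[]),(1,0,[33,37,5]),(0,64,[]),(2,0,[33,37,36])] ([5,7,124],[124,126,123]) = true := by decide +kernel
theorem c20015681 : chkDer M20234 [([5,643,2,741,538,121],[672,33,2,665,108,731])] [(0,256,[]),(1,0,[33,37,5]),(0,257,[]),(2,0,[33,37,36])] ([5,7,124],[124,126,123]) = true := by decide +kernel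
theorem c20014605 : chkDer M20234 [([5,643,2,741,538,121],[520,284,2,788,113,625])] [(0,256,[]),(1,0,[33,37,5]),(0,64,[]),(2,0,[33,37,32])] ([5,7,124],[124,126,121]) = true := by decide +kernel
theorem c20014933 : chkDer M20234 [([5,643,2,741,538,121],[520,788,2,357,116,625])] [(0,256,[]),(1,0,[33,37,5]),(0,64,[]),(2,0,[33,37,32])] ([5,7,124],[124,126,121]) = true := by decide +kernel
theorem c20015547 : chkDer M20234 [([5,643,2,741,538,121],[528,816,2,345,196,617])] [(0,256,[]),(1,0,[33,37,5]),(0,64,[]),(2,0,[33,37,32])] ([5,7,124],[124,126,121]) = true := by decide +kernel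
theorem c20016038 : chkDer M20234 [([5,643,2,741,538,121],[672,641,2,64,217,729])] [(0,256,[]),(1,0,[33,37,5]),(0,257,[]),(2,0,[33,37,32])] ([5,7,124],[124,126,121]) = true := by decide +kernel
theorem c20014225 : chkScM M20234 [1,2,4,8] [1,2,4,8,16,96] [1,2,4,8,16,96,160,512] [1,2,4,8] [1,2,4,8] = true := by decide +kernel
theorem c20014271 : chkDer M20234 [([104,2,109,123,9,128,33,257],[106,123,111,121,225,9,319,206]),([1,2,4,8,16,96,160],[104,2,109,123,10,11,160]),([1,2,6,16],[1,16,6,18])] [(1,0,[128]),(1,1,[110]),(0,256,[]),(1,2,[15])] ([257],[5]) = true := by decide +kernel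
theorem c20019902 : chkDer M20234 [] [(0,1,[])] ([1,2,4,8,16,96,160,512],[1,2,4,8,16,98,193,517]) = true := by decide +kernel
theorem c20014287 : chkDer M20234 [([104,2,109,123,9,128,33,257,513],[106,123,111,121,225,9,319,206,634])] [(0,8,[]),(1,0,[296])] ([641],[520]) = true := by decide +kernel
theorem c20014580 : chkDer M20234 [] [(0,941,[])] ([1],[92]) = true := by decide +kernel
theorem c20016246 : chkDer M20234 [] [(0,256,[])] ([5],[124]) = true := by decide +kernel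

end Cfsg.Lib.D8
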