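import Cfsg.Agent.D8.R1C10

set_option autoImplicit false
set_option maxRecDepth 100000
set_option linter.all false
set_option Elab.async false

namespace Cfsg.Lib.D8

theorem c20004522 : chkFrat M20071 E20004520 [96,98] [2,96] [96,98,1221,760,1080,1088,1624,701,1098,466] [96,98,1221,760,1080,1088,1624,701,1098,466] [(0,[1,2]),(0,[1,2]),(0,[1,2]),(0,[1,2]),(0,[1,2]),(0,[1,2]),(0,[1,2]),(0,[1,2]),(0,[1,2]),(0,[1,2])] [⟨0,0,[],0,0,false⟩,⟨3,0,[⟨1,0,1,0⟩],1,2,false⟩,⟨3,0,[⟨0,4,6,0⟩,⟨1,0,1,0⟩],2,3,false⟩,⟨5,0,[⟨4,12,0,0⟩],3,0,false⟩,⟨3,0,[⟨0,4,5,0⟩,⟨0,8,11,0⟩,⟨0,16,18,0⟩,⟨1,0,3,0⟩],3,0,false⟩] [] = true := by decide +kernel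
theorem c20004540 : chkFrat M20071 E20001753 [96,98] [2,96] [96,98,578,1568,63,666,1992,2034,1488,1034] [96,98,578,1568,63,666,1992,2034,1488,1034] [(0,[1,2]),(0,[1,2]),(0,[1,2]),(0,[1,2]),(0,[1,2]),(0,[1,2]),(0,[1,2]),(0,[1,2]),(0,[1,2]),(0,[1,2])] [⟨0,0,[],0,0,false⟩,⟨3,0,[⟨6,0,0,0⟩,⟨1,0,1,0⟩],1,2,false⟩,⟨4,0,[⟨6,0,0,1⟩,⟨1,0,2,0⟩],2,0,false⟩,⟨3,0,[⟨6,0,0,0⟩,⟨0,4,5,0⟩,⟨0,8,10,0⟩,⟨1,0,3,0⟩],2,0,false⟩] [] = true := by decide +kernel
theorem c20004537 : chkSyM M20071 [96,98] [96,98,578,1568,63,666,1992,2034,1488,1034] = true := by decide +kernel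
theorem c20004435 : chkCF M20071 (2,Z20004433) [1] = true := by decide +kernel
theorem c20004449 : chkCF M20071 (512,Z20004433) [1] = true := by decide +kernel
theorem c20004463 : chkCF M20071 (1288,Z20004433) [1] = true := by decide +kernel
theorem c20004527 : chkCF M20071 (5,Z20004433) [1] = true := by decide +kernel
theorem c20004471 : chkExtr M20071 E20004469 [1800,1290] [⟨3,0,[⟨4,0,0,0⟩,⟨4,1,0,1⟩],0,0,false⟩] [] = true := by decide +kernel
theorem c20004425 : chkBig M20071 6 2 [1,2,4,8,16,32,64] = true := by decide +kernel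
theorem c20004427 : chkBig M20071 6 5 [1,2,4,8,16,96,160] = true := by decide +kernel
theorem c20004431 : chkBig M20071 6 512 [2,5,8,16,96,160,256] = true := by decide +kernel
theorem c20004451 : chkDer M20071 [([1,2,4,8,96,256,512],[1,8,4,10,359,109,522])] [(0,32,[]),(1,0,[82]),(0,1056,[]),(2,0,[88]),(0,160,[]),(1,0,[72])] ([514],[512]) = true := by decide +kernel
theorem c20004493 : chkDer M20071 [([1,2,4,8,96,256,512],[1,8,4,10,359,109,522])] [(0,1,[]),(1,0,[111]),(0,32,[])] ([768],[512]) = true := by decide +kernel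
theorem c20004485 : chkDer M20071 [([1,2,4,8,96,256],[1,8,4,10,359,109]),([1,2,6,16],[1,16,6,18])] [(1,0,[37]),(0,128,[]),(2,1,[2])] ([261],[2]) = true := by decide +kernel
theorem c20004489 : chkDer M20071 [([1,2,4,8,96,256,512],[1,8,4,10,359,109,522])] [(1,0,[72])] ([520],[512]) = true := by decide +kernel
theorem c20004473 : chkDer M20071 [([1,2,4,8],[1,8,4,10])] [(2,0,[2])] ([8],[2]) = true := by decide +kernel
theorem c20004465 : chkDer M20071 [] [(0,1024,[])] ([1288],[1290]) = true := by decide +kernel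
theorem c20004529 : chkDer M20071 [] [(0,1056,[])] ([5],[101]) = true := by decide +kernel

end Cfsg.Lib.D8
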