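import Cfsg.Agent.D8.R1C10

set_option autoImplicit false
set_option maxRecDepth 100000
set_option linter.all false
set_option Elab.async false

namespace Cfsg.Lib.D8

theorem c20004518 : chkFrat M20071 E20004516 [96,98] [2,96] [96,98,1221,760,1080,1088,1624,701,1098,466] [96,98,1221,760,1080,1088,1624,701,1098,466] [(0,[1,2]),(0,[1,2]),(0,[1,2]),(0,[1,2]),(0,[1,2]),(0,[1,2]),(0,[1,2]),(0,[1,2]),(0,[1,2]),(0,[1,2])] [⟨0,0,[],0,0,false⟩,⟨3,0,[⟨1,0,1,0⟩],1,2,false⟩,⟨3,0,[⟨0,4,6,0⟩,⟨1,0,1,0⟩],2,3,false⟩,⟨5,0,[⟨4,12,0,0⟩],3,0,false⟩,⟨3,0,[⟨0,4,5,0⟩,⟨0,8,11,0⟩,⟨0,16,18,0⟩,⟨1,0,3,0⟩],3,0,false⟩] [] = true := by decide +kernel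
theorem c20004544 : chkFrat M20071 E20004542 [96,98] [2,96] [96,98,1946,711,101,218,458,1333,1925,1503] [96,98,1946,711,101,218,458,1333,1925,1503] [(0,[1,2]),(0,[1,2]),(0,[1,2]),(0,[1,2]),(0,[1,2]),(0,[1,2]),(0,[1,2]),(0,[1,2]),(0,[1,2]),(0,[1,2])] [⟨0,0,[],0,0,false⟩,⟨3,0,[⟨6,0,0,0⟩,⟨1,0,1,0⟩],1,0,false⟩,⟨3,0,[⟨6,0,0,1⟩,⟨0,4,5,0⟩,⟨1,0,1,0⟩],1,2,false⟩,⟨4,0,[⟨6,0,0,0⟩,⟨4,0,0,0⟩,⟨4,1,0,1⟩,⟨0,4,5,0⟩],2,3,false⟩] [] = true := by decide +kernel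
theorem c20004535 : chkFrat M20071 E20004533 [96,98] [2,96] [96,98,1946,711,101,218,458,1333,1925,1503] [96,98,1946,711,101,218,458,1333,1925,1503] [(0,[1,2]),(0,[1,2]),(0,[1,2]),(0,[1,2]),(0,[1,2]),(0,[1,2]),(0,[1,2]),(0,[1,2]),(0,[1,2]),(0,[1,2])] [⟨0,0,[],0,0,false⟩,⟨3,0,[⟨6,0,0,1⟩,⟨1,0,1,0⟩],1,0,false⟩,⟨3,0,[⟨6,0,0,1⟩,⟨0,4,5,0⟩,⟨1,0,1,0⟩],1,2,false⟩,⟨4,0,[⟨6,0,0,0⟩,⟨4,0,0,0⟩,⟨4,1,0,1⟩,⟨0,4,5,0⟩],2,3,false⟩] [] = true := by decide +kernel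
theorem c20004460 : chkExtr M20071 E20004458 [1288,2,96,512,189] [⟨3,0,[⟨4,0,0,0⟩],0,0,false⟩,⟨3,0,[⟨4,0,0,1⟩,⟨4,2,0,2⟩],0,0,false⟩,⟨3,0,[⟨4,0,0,3⟩,⟨4,2,0,4⟩,⟨0,4,4,0⟩,⟨2,4,0,0⟩,⟨2,6,0,0⟩],0,0,false⟩,⟨3,0,[⟨0,2,2,0⟩,⟨0,4,4,0⟩,⟨0,8,8,0⟩,⟨1,0,6,0⟩],0,0,false⟩] [] = true := by decide +kernel
theorem c20004508 : chkSyM M20071 [96,98] [96,98,1221,760,1080,1088,1624,701,1098,466] = true := by decide +kernel
theorem c20004524 : chkSyM M20071 [96,98] [96,98,1946,711,101,218,458,1333,1925,1503] = true := by decide +kernel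
theorem c20004504 : chkSyl M20071 D20071 E20001611 [1,2,4,8,16,32,64,128,256,512,1024] 0 [] [⟨3,0,[],0,0,false⟩,⟨3,0,[],1,2,false⟩,⟨4,0,[],2,0,false⟩,⟨4,0,[],2,0,false⟩,⟨3,0,[],2,0,false⟩,⟨1,3,[],2,0,false⟩,⟨1,121,[],0,0,false⟩,⟨1,11,[],0,0,false⟩,⟨1,4,[],0,0,false⟩,⟨1,33,[],0,0,false⟩] [] [1,2,4,8,16,32,64,128,256,512,1024] [] [] = true := by decide +kernel
theorem c20004442 : chkCF M20071 (96,Z20004433) [1] = true := by decide +kernel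
theorem c20004456 : chkCF M20071 (514,Z20004433) [1] = true := by decide +kernel
theorem c20004501 : chkCF M20071 (1,Z20001256) [2,5,8,13,32,96,256,261,512,514,520,768,773,1288,1800] = true := by decide +kernel
theorem c20004506 : chkX M20071 [([1,2,4,8],[1,8,4,10]),([1,2,6,16],[1,16,6,18]),([1,2,4,8,96,256],[1,8,4,10,359,109])] [(2,0,2),(2,0,8),(2,1,2),(2,2,16),(2,2,32),(1,256,32),(1,512,1),(1,1024,1)] [0,5,517,1029,1541] = true := by decide +kernel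
theorem c20004429 : chkBig M20071 6 32 [1,2,28,32,64,640,1024] = true := by decide +kernel
theorem c20004510 : chkDer M20071 [([1,2,4,8,96,256],[1,8,4,10,359,109])] [(0,1,[]),(1,0,[18,16]),(0,160,[]),(1,0,[63,39]),(0,1024,[]),(2,0,[24,39]),(0,160,[]),(2,0,[2,16])] ([96,98],[2,96]) = true := by decide +kernel
theorem c20004437 : chkDer M20071 [([1,2,4,8,96,256],[1,8,4,10,359,109]),([1,2,6,16],[1,16,6,18])] [(0,1,[]),(1,0,[18]),(0,1024,[]),(1,0,[47]),(0,128,[]),(1,1,[10])] ([96],[2]) = true := by decide +kernel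
theorem c20004497 : chkDer M20071 [([1,2,4,8,96,256,512],[1,8,4,10,359,109,522])] [(0,1056,[]),(1,0,[103]),(0,160,[]),(2,0,[64])] ([773],[512]) = true := by decide +kernel
theorem c20004477 : chkDer M20071 [([1,2,6,16],[1,16,6,18])] [(0,32,[]),(2,0,[7])] ([13],[5]) = true := by decide +kernel
theorem c20004481 : chkDer M20071 [([1,2,4,8,96,256],[1,8,4,10,359,109])] [(0,1025,[]),(1,0,[40]),(0,1024,[])] ([256],[5]) = true := by decide +kernel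
theorem c20004444 : chkDer M20071 [] [(0,1,[])] ([96],[98]) = true := by decide +kernel
theorem c20004512 : chkDer M20071 [] [(0,1,[])] ([514],[519]) = true := by decide +kernel

end Cfsg.Lib.D8
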