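import Cfsg.Agent.D8.R1C13

set_option autoImplicit false
set_option maxRecDepth 100000
set_option linter.all false
set_option Elab.async false

namespace Cfsg.Lib.D8

theorem c20004249 : chkFrat M20069 E20004247 [96,98] [2,96] [96,98,1221,760,1080,1088,1624,701,1098,466] [96,98,1221,760,1080,1088,1624,701,1098,466] [(0,[1,2]),(0,[1,2]),(0,[1,2]),(0,[1,2]),(0,[1,2]),(0,[1,2]),(0,[1,2]),(0,[1,2]),(0,[1,2]),(0,[1,2])] [⟨0,0,[],0,0,false⟩,⟨3,0,[⟨1,0,1,0⟩],1,2,false⟩,⟨3,0,[⟨0,4,5,0⟩,⟨1,0,1,0⟩],2,2,false⟩,⟨4,0,[⟨4,8,0,0⟩,⟨0,8,11,0⟩],3,0,false⟩,⟨5,0,[⟨4,28,0,1⟩,⟨0,4,5,0⟩,⟨0,16,18,0⟩],0,2,false⟩,⟨6,0,[⟨4,0,0,2⟩,⟨4,1,0,3⟩,⟨0,4,7,0⟩,⟨0,8,10,0⟩,⟨0,16,18,0⟩],0,0,false⟩,⟨5,0,[⟨4,32,0,4⟩,⟨4,33,0,5⟩,⟨0,4,5,0⟩,⟨0,16,17,0⟩],0,0,false⟩,⟨3,0,[⟨4,12,0,6⟩,⟨4,13,0,7⟩,⟨0,4,170,0⟩],0,0,false⟩] [] = true := by decide +kernel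
theorem c20004287 : chkFrat M20069 E20004285 [96,98] [2,96] [96,98,1946,711,101,218,458,1333,1925,1503] [96,98,1946,711,101,218,458,1333,1925,1503] [(0,[1,2]),(0,[1,2]),(0,[1,2]),(0,[1,2]),(0,[1,2]),(0,[1,2]),(0,[1,2]),(0,[1,2]),(0,[1,2]),(0,[1,2])] [⟨0,0,[],0,0,false⟩,⟨3,0,[⟨6,0,0,0⟩,⟨1,0,2,0⟩],1,0,false⟩,⟨3,0,[⟨6,0,0,1⟩,⟨0,4,6,0⟩,⟨1,0,1,0⟩],1,2,false⟩,⟨4,0,[⟨6,0,0,0⟩,⟨4,0,0,0⟩,⟨4,1,0,1⟩,⟨0,4,5,0⟩],0,3,false⟩] [] = true := by decide +kernel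
theorem c20004251 : chkSyM M20069 [96,98] [96,98,578,1568,63,666,1992,2034,1488,1034] = true := by decide +kernel
theorem c20004197 : chkSyl M20069 D20069 E20001611 [1,2,4,8,16,32,64,128,256,512,1024] 0 [] [⟨3,0,[],0,0,false⟩,⟨3,0,[],1,2,false⟩,⟨4,0,[],2,0,false⟩,⟨4,0,[],2,0,false⟩,⟨3,0,[],2,0,false⟩,⟨1,3,[],2,0,false⟩,⟨1,121,[],0,0,false⟩,⟨1,11,[],0,0,false⟩,⟨1,4,[],0,0,false⟩,⟨1,33,[],0,0,false⟩] [] [1,2,4,8,16,32,64,128,256,512,1024] [] [] = true := by decide +kernel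
theorem c20004148 : chkCF M20069 (1565,Z20004135) [1] = true := by decide +kernel
theorem c20004206 : chkCF M20069 (1536,Z20004135) [1] = true := by decide +kernel
theorem c20004258 : chkCF M20069 (261,Z20004135) [1] = true := by decide +kernel
theorem c20004199 : chkX M20069 [([1,2,4,8],[1,8,4,10]),([1,2,6,16],[1,16,6,18]),([1,2,4,8,96,256],[1,8,4,10,359,109])] [(2,0,2),(2,0,8),(2,1,2),(2,2,16),(2,2,32),(1,256,32),(1,512,1),(1,1024,1)] [0,5,517,1029,1541] = true := by decide +kernel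
theorem c20004156 : chkExtr M20069 E20004154 [1288,981] [⟨3,0,[⟨4,0,0,0⟩,⟨4,1,0,1⟩],0,2,false⟩] [] = true := by decide +kernel
theorem c20004129 : chkBig M20069 6 512 [2,5,8,16,96,160,256] = true := by decide +kernel
theorem c20004133 : chkBig M20069 6 1565 [2,56,88,128,272,541,1024] = true := by decide +kernel
theorem c20004166 : chkDer M20069 [([1,2,4,8,96,256],[1,8,4,10,359,109]),([1,2,6,16],[1,16,6,18])] [(0,1,[]),(1,0,[18]),(0,1024,[]),(1,0,[47]),(0,128,[]),(1,1,[10])] ([96],[2]) = true := by decide +kernel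
theorem c20004136 : chkDer M20069 [([1,2,4,8,96,256,512],[1,8,4,10,359,109,522])] [(0,1,[]),(1,0,[111]),(0,32,[])] ([768],[512]) = true := by decide +kernel
theorem c20004174 : chkDer M20069 [([1,2,4,8,96,256],[1,8,4,10,359,109]),([1,2,6,16],[1,16,6,18])] [(1,0,[37]),(0,128,[]),(2,1,[2])] ([261],[2]) = true := by decide +kernel
theorem c20004162 : chkDer M20069 [([1,2,6,16],[1,16,6,18])] [(0,32,[]),(2,0,[7])] ([13],[5]) = true := by decide +kernel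
theorem c20004178 : chkDer M20069 [([1,2,4,8,96,256,512],[1,8,4,10,359,109,522])] [(1,0,[72])] ([520],[512]) = true := by decide +kernel
theorem c20004143 : chkDer M20069 [] [(0,33,[])] ([768],[981]) = true := by decide +kernel
theorem c20004208 : chkDer M20069 [] [(0,256,[])] ([1536],[1730]) = true := by decide +kernel
theorem c20004216 : chkDer M20069 [] [(0,1,[])] ([1565],[1624]) = true := by decide +kernel
theorem c20004224 : chkDer M20069 [] [(0,12,[])] ([1536],[1789]) = true := by decide +kernel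
theorem c20004235 : chkDer M20069 [] [(0,33,[])] ([520],[631]) = true := by decide +kernel
theorem c20004253 : chkDer M20069 [] [(0,512,[])] ([1565],[1567]) = true := by decide +kernel
theorem c20004264 : chkDer M20069 [] [(0,1073,[])] ([261],[439]) = true := by decide +kernel

end Cfsg.Lib.D8
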