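import Cfsg.Agent.D8.R1C13

set_option autoImplicit false
set_option maxRecDepth 100000
set_option linter.all false
set_option Elab.async false

namespace Cfsg.Lib.D8

theorem c20004245 : chkFrat M20069 E20004243 [96,98] [2,96] [96,98,1221,760,1080,1088,1624,701,1098,466] [96,98,1221,760,1080,1088,1624,701,1098,466] [(0,[1,2]),(0,[1,2]),(0,[1,2]),(0,[1,2]),(0,[1,2]),(0,[1,2]),(0,[1,2]),(0,[1,2]),(0,[1,2]),(0,[1,2])] [⟨0,0,[],0,0,false⟩,⟨3,0,[⟨1,0,1,0⟩],1,2,false⟩,⟨3,0,[⟨0,4,5,0⟩,⟨1,0,1,0⟩],2,2,false⟩,⟨4,0,[⟨4,8,0,0⟩,⟨0,8,11,0⟩],3,0,false⟩,⟨5,0,[⟨4,28,0,1⟩,⟨0,4,5,0⟩,⟨0,16,18,0⟩],0,2,false⟩,⟨6,0,[⟨4,0,0,2⟩,⟨4,1,0,3⟩,⟨0,4,7,0⟩,⟨0,8,10,0⟩,⟨0,16,18,0⟩],0,0,false⟩,⟨5,0,[⟨4,32,0,4⟩,⟨4,33,0,5⟩,⟨0,4,5,0⟩,⟨0,16,17,0⟩],0,0,false⟩,⟨3,0,[⟨4,12,0,6⟩,⟨4,13,0,7⟩,⟨0,4,170,0⟩],0,0,false⟩] [] = true := by decide +kernel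
theorem c20004274 : chkFrat M20069 E20004272 [96,98] [2,96] [96,98,578,1568,63,666,1992,2034,1488,1034] [96,98,578,1568,63,666,1992,2034,1488,1034] [(0,[1,2]),(0,[1,2]),(0,[1,2]),(0,[1,2]),(0,[1,2]),(0,[1,2]),(0,[1,2]),(0,[1,2]),(0,[1,2]),(0,[1,2])] [⟨0,0,[],0,0,false⟩,⟨3,0,[⟨6,0,0,0⟩,⟨1,0,1,0⟩],1,0,false⟩,⟨3,0,[⟨6,0,0,1⟩,⟨0,4,7,0⟩,⟨1,0,1,0⟩],1,0,false⟩,⟨3,0,[⟨6,0,0,0⟩,⟨4,8,0,0⟩,⟨0,4,5,0⟩,⟨0,8,10,0⟩],1,0,false⟩,⟨3,0,[⟨6,0,0,0⟩,⟨0,4,6,0⟩,⟨0,8,9,0⟩,⟨0,16,19,0⟩],0,0,false⟩,⟨3,0,[⟨6,0,0,1⟩,⟨4,24,0,1⟩,⟨4,25,0,2⟩,⟨0,4,35,0⟩,⟨0,8,44,0⟩,⟨0,16,53,0⟩],1,2,false⟩] [] = true := by decide +kernel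
theorem c20004270 : chkFrat M20069 E20004268 [96,98] [2,96] [96,98,578,1568,63,666,1992,2034,1488,1034] [96,98,578,1568,63,666,1992,2034,1488,1034] [(0,[1,2]),(0,[1,2]),(0,[1,2]),(0,[1,2]),(0,[1,2]),(0,[1,2]),(0,[1,2]),(0,[1,2]),(0,[1,2]),(0,[1,2])] [⟨0,0,[],0,0,false⟩,⟨3,0,[⟨6,0,0,1⟩,⟨1,0,1,0⟩],1,0,false⟩,⟨3,0,[⟨6,0,0,1⟩,⟨0,4,7,0⟩,⟨1,0,1,0⟩],1,0,false⟩,⟨3,0,[⟨6,0,0,0⟩,⟨4,8,0,0⟩,⟨0,4,5,0⟩,⟨0,8,10,0⟩],1,0,false⟩,⟨3,0,[⟨6,0,0,1⟩,⟨0,4,6,0⟩,⟨0,8,9,0⟩,⟨0,16,19,0⟩,⟨1,0,1,0⟩],0,0,false⟩,⟨3,0,[⟨6,0,0,1⟩,⟨4,24,0,1⟩,⟨4,25,0,2⟩,⟨0,4,35,0⟩,⟨0,8,44,0⟩],1,2,false⟩] [] = true := by decide +kernel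
theorem c20004201 : chkSyM M20069 [96,98] [96,98,1221,760,1080,1088,1624,701,1098,466] = true := by decide +kernel
theorem c20004276 : chkSyM M20069 [96,98] [96,98,1946,711,101,218,458,1333,1925,1503] = true := by decide +kernel
theorem c20004141 : chkCF M20069 (768,Z20004135) [1] = true := by decide +kernel
theorem c20004194 : chkCF M20069 (1,Z20001256) [2,5,8,13,32,96,256,261,512,520,768,770,773,775,1288,1536,1565] = true := by decide +kernel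
theorem c20004233 : chkCF M20069 (520,Z20004135) [1] = true := by decide +kernel
theorem c20004279 : chkCF M20069 (5,Z20004135) [1] = true := by decide +kernel
theorem c20004123 : chkBig M20069 6 2 [1,2,4,8,16,32,64] = true := by decide +kernel
theorem c20004125 : chkBig M20069 6 5 [1,2,4,8,16,96,160] = true := by decide +kernel
theorem c20004127 : chkBig M20069 6 32 [1,2,28,32,64,640,1024] = true := by decide +kernel
theorem c20004131 : chkBig M20069 6 1536 [2,56,88,128,277,541,1053] = true := by decide +kernel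
theorem c20004203 : chkDer M20069 [([1,2,4,8,96,256],[1,8,4,10,359,109])] [(0,1,[]),(1,0,[18,16]),(0,160,[]),(1,0,[63,39]),(0,1024,[]),(2,0,[24,39]),(0,160,[]),(2,0,[2,16])] ([96,98],[2,96]) = true := by decide +kernel
theorem c20004182 : chkDer M20069 [([1,2,4,8,96,256,512],[1,8,4,10,359,109,522])] [(0,1,[]),(1,0,[109]),(0,160,[]),(1,0,[72])] ([770],[512]) = true := by decide +kernel
theorem c20004190 : chkDer M20069 [([1,2,4,8,96,256,512],[1,8,4,10,359,109,522])] [(1,0,[103]),(0,160,[]),(2,0,[64])] ([775],[512]) = true := by decide +kernel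
theorem c20004186 : chkDer M20069 [([1,2,4,8,96,256,512],[1,8,4,10,359,109,522])] [(1,0,[101]),(0,1056,[])] ([773],[512]) = true := by decide +kernel
theorem c20004170 : chkDer M20069 [([1,2,4,8,96,256],[1,8,4,10,359,109])] [(0,1025,[]),(1,0,[40]),(0,1024,[])] ([256],[5]) = true := by decide +kernel
theorem c20004158 : chkDer M20069 [([1,2,4,8],[1,8,4,10])] [(2,0,[2])] ([8],[2]) = true := by decide +kernel
theorem c20004150 : chkDer M20069 [] [(0,16,[])] ([1565],[1727]) = true := by decide +kernel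
theorem c20004212 : chkDer M20069 [] [(0,33,[])] ([1536],[1575]) = true := by decide +kernel
theorem c20004220 : chkDer M20069 [] [(0,4,[])] ([1565],[1592]) = true := by decide +kernel
theorem c20004228 : chkDer M20069 [] [(0,9,[])] ([1536],[1693]) = true := by decide +kernel
theorem c20004239 : chkDer M20069 [] [(0,129,[])] ([520],[535]) = true := by decide +kernel
theorem c20004260 : chkDer M20069 [] [(0,249,[])] ([261],[471]) = true := by decide +kernel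
theorem c20004281 : chkDer M20069 [] [(0,1056,[])] ([5],[101]) = true := by decide +kernel

end Cfsg.Lib.D8
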