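import Cfsg.Agent.D8.R1C16

set_option autoImplicit false
set_option maxRecDepth 100000
set_option linter.all false
set_option Elab.async false

namespace Cfsg.Lib.D8

theorem c20004085 : chkFrat M20068 E20004083 [96,98] [2,96] [96,98,1221,760,1080,1088,1624,701,1098,466] [96,98,1221,760,1080,1088,1624,701,1098,466] [(0,[1,2]),(0,[1,2]),(0,[1,2]),(0,[1,2]),(0,[1,2]),(0,[1,2]),(0,[1,2]),(0,[1,2]),(0,[1,2]),(0,[1,2])] [⟨0,0,[],0,0,false⟩,⟨3,0,[⟨1,0,2,0⟩],1,2,false⟩,⟨3,0,[⟨0,4,5,0⟩,⟨1,0,1,0⟩],2,2,false⟩,⟨4,0,[⟨4,12,0,0⟩,⟨0,8,11,0⟩],3,0,false⟩,⟨5,0,[⟨4,0,0,1⟩,⟨4,1,0,2⟩,⟨0,4,5,0⟩,⟨0,16,18,0⟩],0,2,false⟩,⟨6,0,[⟨4,8,0,3⟩,⟨4,9,0,4⟩,⟨0,4,7,0⟩,⟨0,8,10,0⟩,⟨0,16,18,0⟩],0,0,false⟩,⟨5,0,[⟨4,24,0,5⟩,⟨0,4,5,0⟩],0,0,false⟩,⟨3,0,[⟨4,12,0,6⟩,⟨4,13,0,7⟩,⟨0,4,170,0⟩],0,0,false⟩] [] = true := by decide +kernel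
theorem c20004108 : chkFrat M20068 E20004106 [96,98] [2,96] [96,98,578,1568,63,666,1992,2034,1488,1034] [96,98,578,1568,63,666,1992,2034,1488,1034] [(0,[1,2]),(0,[1,2]),(0,[1,2]),(0,[1,2]),(0,[1,2]),(0,[1,2]),(0,[1,2]),(0,[1,2]),(0,[1,2]),(0,[1,2])] [⟨0,0,[],0,0,false⟩,⟨3,0,[⟨6,0,0,0⟩,⟨1,0,1,0⟩],1,0,false⟩,⟨3,0,[⟨6,0,0,1⟩,⟨4,4,0,0⟩,⟨0,4,7,0⟩],1,0,false⟩,⟨3,0,[⟨6,0,0,0⟩,⟨4,12,0,1⟩,⟨0,4,5,0⟩,⟨0,8,10,0⟩],1,0,false⟩] [] = true := by decide +kernel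
theorem c20003985 : chkCF M20068 (773,Z20003972) [1] = true := by decide +kernel
theorem c20004043 : chkCF M20068 (512,Z20003972) [1] = true := by decide +kernel
theorem c20004069 : chkCF M20068 (520,Z20003972) [1] = true := by decide +kernel
theorem c20004036 : chkX M20068 [([1,2,4,8],[1,8,4,10]),([1,2,6,16],[1,16,6,18]),([1,2,4,8,96,256],[1,8,4,10,359,109])] [(2,0,2),(2,0,8),(2,1,2),(2,2,16),(2,2,32),(1,256,32),(1,512,1),(1,1024,1)] [0,5,517,1029,1541] = true := by decide +kernel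
theorem c20003993 : chkExtr M20068 E20003991 [1800,1026] [⟨3,0,[⟨4,0,0,0⟩,⟨4,1,0,1⟩],0,2,false⟩] [] = true := by decide +kernel
theorem c20003962 : chkBig M20068 6 5 [1,2,4,8,16,96,160] = true := by decide +kernel
theorem c20003966 : chkBig M20068 6 512 [2,5,8,16,96,160,256] = true := by decide +kernel
theorem c20003970 : chkBig M20068 6 1053 [2,32,64,152,272,541,1053] = true := by decide +kernel
theorem c20004023 : chkDer M20068 [([1,2,4,8,96,256,512],[1,8,4,10,359,109,522])] [(0,1,[]),(1,0,[109]),(0,160,[]),(1,0,[72])] ([770],[512]) = true := by decide +kernel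
theorem c20004027 : chkDer M20068 [([1,2,4,8,96,256,512],[1,8,4,10,359,109,522])] [(1,0,[103]),(0,160,[]),(2,0,[64])] ([775],[512]) = true := by decide +kernel
theorem c20003980 : chkDer M20068 [([1,2,4,8,96,256,512],[1,8,4,10,359,109,522])] [(1,0,[101]),(0,1056,[])] ([773],[512]) = true := by decide +kernel
theorem c20004007 : chkDer M20068 [([1,2,4,8,96,256],[1,8,4,10,359,109])] [(0,1025,[]),(1,0,[40]),(0,1024,[])] ([256],[5]) = true := by decide +kernel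
theorem c20003995 : chkDer M20068 [([1,2,4,8],[1,8,4,10])] [(2,0,[2])] ([8],[2]) = true := by decide +kernel
theorem c20003987 : chkDer M20068 [] [(0,1,[])] ([773],[778]) = true := by decide +kernel
theorem c20004049 : chkDer M20068 [] [(0,4,[])] ([1024],[1088]) = true := by decide +kernel
theorem c20004057 : chkDer M20068 [] [(0,256,[])] ([1024],[1218]) = true := by decide +kernel
theorem c20004071 : chkDer M20068 [] [(0,49,[])] ([520],[629]) = true := by decide +kernel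
theorem c20004092 : chkDer M20068 [] [(0,1056,[])] ([5],[101]) = true := by decide +kernel
theorem c20004110 : chkDer M20068 [] [(0,9,[])] ([1053],[1253]) = true := by decide +kernel

end Cfsg.Lib.D8
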