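import Cfsg.Agent.D8.R1C16

set_option autoImplicit false
set_option maxRecDepth 100000
set_option linter.all false
set_option Elab.async false

namespace Cfsg.Lib.D8

theorem c20004081 : chkFrat M20068 E20004079 [96,98] [2,96] [96,98,1221,760,1080,1088,1624,701,1098,466] [96,98,1221,760,1080,1088,1624,701,1098,466] [(0,[1,2]),(0,[1,2]),(0,[1,2]),(0,[1,2]),(0,[1,2]),(0,[1,2]),(0,[1,2]),(0,[1,2]),(0,[1,2]),(0,[1,2])] [⟨0,0,[],0,0,false⟩,⟨3,0,[⟨1,0,2,0⟩],1,2,false⟩,⟨3,0,[⟨0,4,5,0⟩,⟨1,0,1,0⟩],2,2,false⟩,⟨4,0,[⟨4,12,0,0⟩,⟨0,8,11,0⟩],3,0,false⟩,⟨5,0,[⟨4,0,0,1⟩,⟨4,1,0,2⟩,⟨0,4,5,0⟩,⟨0,16,18,0⟩],0,2,false⟩,⟨6,0,[⟨4,8,0,3⟩,⟨4,9,0,4⟩,⟨0,4,7,0⟩,⟨0,8,10,0⟩,⟨0,16,18,0⟩],0,0,false⟩,⟨5,0,[⟨4,24,0,5⟩,⟨0,4,5,0⟩],0,0,false⟩,⟨3,0,[⟨4,12,0,6⟩,⟨4,13,0,7⟩,⟨0,4,170,0⟩],0,0,false⟩] [] = true := by decide +kernel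
theorem c20004116 : chkFrat M20068 E20004114 [96,98] [2,96] [96,98,578,1568,63,666,1992,2034,1488,1034] [96,98,578,1568,63,666,1992,2034,1488,1034] [(0,[1,2]),(0,[1,2]),(0,[1,2]),(0,[1,2]),(0,[1,2]),(0,[1,2]),(0,[1,2]),(0,[1,2]),(0,[1,2]),(0,[1,2])] [⟨0,0,[],0,0,false⟩,⟨3,0,[⟨6,0,0,1⟩,⟨1,0,1,0⟩],1,0,false⟩,⟨3,0,[⟨6,0,0,0⟩,⟨4,4,0,0⟩,⟨0,4,7,0⟩],1,0,false⟩,⟨3,0,[⟨6,0,0,0⟩,⟨4,12,0,1⟩,⟨0,4,5,0⟩,⟨0,8,10,0⟩],1,0,false⟩,⟨3,0,[⟨6,0,0,1⟩,⟨4,24,0,2⟩,⟨0,4,6,0⟩,⟨0,8,9,0⟩],0,0,false⟩] [] = true := by decide +kernel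
theorem c20004098 : chkFrat M20068 E20004096 [96,98] [2,96] [96,98,1946,711,101,218,458,1333,1925,1503] [96,98,1946,711,101,218,458,1333,1925,1503] [(0,[1,2]),(0,[1,2]),(0,[1,2]),(0,[1,2]),(0,[1,2]),(0,[1,2]),(0,[1,2]),(0,[1,2]),(0,[1,2]),(0,[1,2])] [⟨0,0,[],0,0,false⟩,⟨3,0,[⟨6,0,0,1⟩,⟨1,0,1,0⟩],1,0,false⟩,⟨3,0,[⟨6,0,0,1⟩,⟨0,4,6,0⟩,⟨1,0,1,0⟩],1,2,false⟩,⟨4,0,[⟨6,0,0,0⟩,⟨4,0,0,0⟩,⟨4,1,0,1⟩,⟨0,4,5,0⟩],0,3,false⟩] [] = true := by decide +kernel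
theorem c20004038 : chkSyM M20068 [96,98] [96,98,1221,760,1080,1088,1624,701,1098,466] = true := by decide +kernel
theorem c20004087 : chkSyM M20068 [96,98] [96,98,1946,711,101,218,458,1333,1925,1503] = true := by decide +kernel
theorem c20004100 : chkSyM M20068 [96,98] [96,98,578,1568,63,666,1992,2034,1488,1034] = true := by decide +kernel
theorem c20004034 : chkSyl M20068 D20068 E20001611 [1,2,4,8,16,32,64,128,256,512,1024] 0 [] [⟨3,0,[],0,0,false⟩,⟨3,0,[],1,2,false⟩,⟨4,0,[],2,0,false⟩,⟨4,0,[],2,0,false⟩,⟨3,0,[],2,0,false⟩,⟨1,3,[],2,0,false⟩,⟨1,121,[],0,0,false⟩,⟨1,11,[],0,0,false⟩,⟨1,4,[],0,0,false⟩,⟨1,33,[],0,0,false⟩] [] [1,2,4,8,16,32,64,128,256,512,1024] [] [] = true := by decide +kernel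
theorem c20003974 : chkCF M20068 (1024,Z20003972) [1] = true := by decide +kernel
theorem c20004031 : chkCF M20068 (1,Z20001256) [2,5,8,13,32,96,256,261,512,520,768,770,773,775,1024,1053,1800] = true := by decide +kernel
theorem c20004066 : chkCF M20068 (1053,Z20003972) [1] = true := by decide +kernel
theorem c20004090 : chkCF M20068 (5,Z20003972) [1] = true := by decide +kernel
theorem c20003960 : chkBig M20068 6 2 [1,2,4,8,16,32,64] = true := by decide +kernel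
theorem c20003964 : chkBig M20068 6 32 [1,2,28,32,64,640,1024] = true := by decide +kernel
theorem c20003968 : chkBig M20068 6 1024 [2,32,64,152,277,541,1024] = true := by decide +kernel
theorem c20004040 : chkDer M20068 [([1,2,4,8,96,256],[1,8,4,10,359,109])] [(0,1,[]),(1,0,[18,16]),(0,160,[]),(1,0,[63,39]),(0,1024,[]),(2,0,[24,39]),(0,160,[]),(2,0,[2,16])] ([96,98],[2,96]) = true := by decide +kernel
theorem c20004003 : chkDer M20068 [([1,2,4,8,96,256],[1,8,4,10,359,109]),([1,2,6,16],[1,16,6,18])] [(0,1,[]),(1,0,[18]),(0,1024,[]),(1,0,[47]),(0,128,[]),(1,1,[10])] ([96],[2]) = true := by decide +kernel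
theorem c20004019 : chkDer M20068 [([1,2,4,8,96,256,512],[1,8,4,10,359,109,522])] [(0,1,[]),(1,0,[111]),(0,32,[])] ([768],[512]) = true := by decide +kernel
theorem c20004011 : chkDer M20068 [([1,2,4,8,96,256],[1,8,4,10,359,109]),([1,2,6,16],[1,16,6,18])] [(1,0,[37]),(0,128,[]),(2,1,[2])] ([261],[2]) = true := by decide +kernel
theorem c20003999 : chkDer M20068 [([1,2,6,16],[1,16,6,18])] [(0,32,[]),(2,0,[7])] ([13],[5]) = true := by decide +kernel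
theorem c20004015 : chkDer M20068 [([1,2,4,8,96,256,512],[1,8,4,10,359,109,522])] [(1,0,[72])] ([520],[512]) = true := by decide +kernel
theorem c20003976 : chkDer M20068 [] [(0,512,[])] ([1024],[1026]) = true := by decide +kernel
theorem c20004045 : chkDer M20068 [] [(0,1,[])] ([512],[517]) = true := by decide +kernel
theorem c20004053 : chkDer M20068 [] [(0,1,[])] ([1024],[1056]) = true := by decide +kernel
theorem c20004061 : chkDer M20068 [] [(0,528,[])] ([1024],[1186]) = true := by decide +kernel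
theorem c20004075 : chkDer M20068 [] [(0,249,[])] ([520],[533]) = true := by decide +kernel
theorem c20004102 : chkDer M20068 [] [(0,1,[])] ([1053],[1085]) = true := by decide +kernel

end Cfsg.Lib.D8
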