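import Cfsg.Agent.D8.BasC

/-!
# The certified climb: derived fusion and change of generators
-/

set_option autoImplicit false

namespace Cfsg.Lib.D8

variable {G : Type*} [Group G] {M : Md} {gs : List G} {X : Subgroup G} {s : ℕ} {D : Tw} {E : Env}

namespace Der

variable {g h : G} {xs ys zs : List G}

theorem cj_map (g : G) (xs : List G) : Cj g xs (xs.map fun x => g⁻¹ * x * g) := by
  induction xs with
  | nil => exact List.Forall₂.nil
  | cons a l ih => exact List.Forall₂.cons rfl ih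

theorem cj_iff : Cj g xs ys ↔ ys = xs.map fun x => g⁻¹ * x * g := by
  refine ⟨fun h => ?_, fun h => h ▸ cj_map g xs⟩
  induction h with
  | nil => rfl
  | cons a _ ih => rw [List.map_cons, a, ← ih]

theorem cj_refl (xs : List G) : Cj 1 xs xs := cj_iff.2 (by simp)

theorem cj_trans (a : Cj g xs ys) (b : Cj h ys zs) : Cj (g * h) xs zs := by
  rw [cj_iff] at *
  rw [b, a, List.map_map]
  exact List.map_congr_left fun x _ => by simp only [Function.comp]; group

theorem cj_symm (a : Cj g xs ys) : Cj g⁻¹ ys xs := by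
  rw [cj_iff] at *
  rw [a, List.map_map]
  exact (List.map_id xs).symm.trans (List.map_congr_left fun x _ => by
    simp only [Function.comp, id]; group)

theorem fus_refl (xs : List G) : Fus xs xs := ⟨1, cj_refl xs⟩

theorem fus_trans (a : Fus xs ys) (b : Fus ys zs) : Fus xs zs :=
  let ⟨_, a⟩ := a; let ⟨_, b⟩ := b; ⟨_, cj_trans a b⟩

theorem fus_symm (a : Fus xs ys) : Fus ys xs := let ⟨_, a⟩ := a; ⟨_, cj_symm a⟩

theorem cj_mem (a : Cj g xs ys) {x : G} (hx : x ∈ xs) : g⁻¹ * x * g ∈ ys := by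
  rw [cj_iff.1 a]; exact List.mem_map_of_mem hx

theorem cj_gen (a : Cj g xs ys) {x : G} (hx : x ∈ gen xs) : g⁻¹ * x * g ∈ gen ys := by
  induction hx using Subgroup.closure_induction with
  | mem x hx => exact Subgroup.subset_closure (cj_mem a hx)
  | one => simp
  | mul x y _ _ h1 h2 =>
    rw [show g⁻¹ * (x * y) * g = g⁻¹ * x * g * (g⁻¹ * y * g) by group]; exact mul_mem h1 h2
  | inv x _ h1 => rw [show g⁻¹ * x⁻¹ * g = (g⁻¹ * x * g)⁻¹ by group]; exact inv_mem h1

theorem fus_evL (a : Fus xs ys) (ms : List ℕ) : Fus (ms.map (evL xs)) (ms.map (evL ys)) := by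
  obtain ⟨g, a⟩ := a
  refine ⟨g, cj_iff.2 ?_⟩
  rw [List.map_map]
  exact List.map_congr_left fun m _ => (a.evL m).symm

theorem map_ev (C : Ch M gs) {bs : List ℕ} (hb : ∀ x ∈ bs, x < M.N) (ms : List ℕ) :
    (ms.map (M.ev bs)).map (evL gs) = ms.map (evL (bs.map (evL gs))) := by
  rw [List.map_map]
  exact List.map_congr_left fun m _ => C.ev_eq hb m

theorem by_iff {bs ms as : List ℕ} : M.by bs ms as = true ↔ as = ms.map (M.ev bs) := by
  rw [Md.by, all2_iff]
  constructor
  · intro h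
    induction h with
    | nil => rfl
    | cons a _ ih => rw [List.map_cons, Nat.eq_of_beq_eq_true a, ← ih]
  · rintro rfl
    exact List.forall₂_map_right_iff.2 (List.forall₂_same.2 fun _ _ => Nat.beq_refl _)

theorem ev_bnd (C : Ch M gs) {bs : List ℕ} (hb : ∀ x ∈ bs, x < M.N) (ms : List ℕ) :
    ∀ x ∈ ms.map (M.ev bs), x < M.N := fun x hx => by
  obtain ⟨m, -, rfl⟩ := List.mem_map.1 hx
  exact C.ev_lt hb m

theorem getD_ok {Fs : List Pr} {P : Pr → Prop} (h0 : P ([], [])) (h : ∀ F ∈ Fs, P F) (i : ℕ) :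
    P (Fs.getD i ([], [])) := by
  by_cases hi : i < Fs.length
  · rw [List.getD_eq_getElem _ _ hi]; exact h _ (List.getElem_mem hi)
  · rw [List.getD_eq_default _ _ (not_lt.1 hi)]; exact h0

theorem ev_kid (C : Ch M gs) {σ : List ℕ} (hb : ∀ x ∈ σ, x < M.N) (ks : List G) {x : ℕ}
    (hx : x < 2 ^ σ.length) : evL (σ.map (evL gs) ++ ks) x = evL gs (M.ev σ x) := by
  rw [evL_append_lt _ _ (by rwa [List.length_map]), C.ev_eq hb]

end Der

open Der

theorem der (C : Ch M gs) {Fs : List Pr} (hF : AllL Fs (FusC gs)) {steps : List (ℕ × ℕ × List ℕ)}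
    {F : Pr} (h : chkDer M Fs steps F = true) : FusC gs F := by
  simp only [chkDer, Bool.and_eq_true, allL_iff, bnd_iff, mapK_eq] at h
  obtain ⟨⟨h1, h2⟩, h3⟩ := h
  have hP := getD_ok (P := fun F => FusC gs F ∧ (∀ x ∈ F.1, x < M.N) ∧ ∀ x ∈ F.2, x < M.N)
    ⟨fus_refl _, by simp, by simp⟩ fun F h => ⟨AllL_iff.1 hF F h, h2 F h⟩
  obtain ⟨A, hA⟩ : ∃ A, A = F.1.map (evL gs) := ⟨_, rfl⟩
  have hc : Fus A (F.1.map (evL gs)) := hA ▸ fus_refl _
  unfold FusC
  rw [← hA]
  clear hA
  revert hc h3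
  revert h1
  generalize F.1 = cur
  induction steps generalizing cur with
  | nil => intro _ h3 hc; exact eqL_iff.1 h3 ▸ hc
  | cons st steps ih =>
    intro h1 h3 hc
    obtain ⟨a, b, c⟩ := hP st.2.1
    cases e0 : Nat.beq st.1 0
    · cases e1 : Nat.beq st.1 1
      · simp only [e0, e1, cond_false, Bool.and_eq_true, by_iff] at h3
        refine ih _ (ev_bnd C b _) h3.2 (fus_trans hc ?_)
        rw [h3.1, map_ev C b, map_ev C c]
        exact fus_evL (fus_symm a) _
      · simp only [e0, e1, cond_false, cond_true, Bool.and_eq_true, by_iff] at h3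
        refine ih _ (ev_bnd C c _) h3.2 (fus_trans hc ?_)
        rw [h3.1, map_ev C b, map_ev C c]
        exact fus_evL a _
    · simp only [e0, cond_true, Bool.and_eq_true, Nat.blt_eq] at h3
      refine ih _ (fun x hx => ?_) h3.2 (fus_trans hc ⟨evL gs st.2.1, cj_iff.2 ?_⟩)
      · obtain ⟨y, hy, rfl⟩ := List.mem_map.1 hx
        exact C.cj_lt (h1 y hy) h3.1
      · rw [List.map_map, List.map_map]
        exact List.map_congr_left fun y hy => C.cj_eq (h1 y hy) h3.1

theorem FusC.kid (C : Ch M gs) {σ : List ℕ} {F' F : Pr} (hF : FusC gs F) (ks : List G)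
    (h : chkTr M σ F' F = true) : FusC (σ.map (evL gs) ++ ks) F' := by
  simp only [chkTr, Bool.and_eq_true, allL_iff, bnd_iff, by_iff, Nat.blt_eq, pw_eq,
    List.mem_append] at h
  obtain ⟨⟨⟨h1, h2⟩, h3⟩, h4⟩ := h
  unfold FusC at *
  rw [h3, h4, List.map_map, List.map_map] at hF
  rwa [List.map_congr_left fun x hx => ev_kid C h1 ks (h2 x (Or.inl hx)),
    List.map_congr_left fun x hx => ev_kid C h1 ks (h2 x (Or.inr hx))]

theorem St.kid (S : St X s D gs) (C : Ch M gs) {σ : List ℕ} {D' : Tw} {ks : List G} {tb : ℕ}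
    {F1 F2 : Pr} (h' : Sat D' (σ.map (evL gs) ++ ks)) (h1 : FusC gs F1) (h2 : FusC gs F2)
    (h : chkStK M s σ tb F1 F2 = true) :
    St X s D' (σ.map (evL gs) ++ ks) ∧ evL (σ.map (evL gs) ++ ks) 1 = evL gs 1 := by
  simp only [chkStK, Bool.and_eq_true, allN_iff, frc_eq, Nat.blt_eq, Nat.ble_eq, Nat.beq_eq,
    pw_eq] at h
  obtain ⟨⟨⟨⟨a, b⟩, c⟩, d⟩, e⟩ := h
  have hb : ∀ x ∈ σ, x < M.N := by
    simp only [chkTr, Bool.and_eq_true, bnd_iff] at d
    exact d.1.1.1
  have t : evL (σ.map (evL gs) ++ ks) 1 = evL gs 1 := by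
    cases σ with
    | nil => exact absurd b (by decide)
    | cons y σ =>
      have : y = 1 := b
      simp [evL_cons, evL_zero, this]
  have k : ∀ x < 2 ^ s, evL (σ.map (evL gs) ++ ks) x = evL gs (M.ev σ x) := fun x hx =>
    ev_kid C hb ks (hx.trans_le (Nat.pow_le_pow_right two_pos a))
  refine ⟨⟨t ▸ S.amb, h', S.s5, by simp; omega, t ▸ S.t2, fun x hx => ?_, t ▸ S.big,
    fun u hu x y hx hy e => ?_, h1.kid C ks d, h2.kid C ks e⟩, t⟩
  · rw [t, k x hx]; exact S.cen _ (c x hx).1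
  · rw [t] at hu
    rw [k x hx, k y hy] at e
    rw [(c x hx).2, (c y hy).2, S.kap u hu _ _ (c x hx).1 (c y hy).1 e]

theorem rb_sat (C : Ch M gs) {σ : List ℕ} {D' : Tw} (h : chkRb M σ D' = true) :
    Sat D' (σ.map (evL gs)) := by
  simp only [chkRb, Bool.and_eq_true, all2_iff, mapK_eq, List.map_id, Nat.beq_eq] at h
  obtain ⟨h1, h2⟩ := h
  obtain ⟨hb, hi⟩ := C.low h2
  have hl : D'.length = σ.length := by simpa using h1.length_eq.symm
  have key : ∀ k ≤ σ.length, Sat (D'.take k) ((σ.take k).map (evL gs)) := by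
    intro k hk
    induction k with
    | zero => exact Sat.nil
    | succ k ih =>
      have hk' : k < σ.length := hk
      have := h1.get (i := k) (by simpa using hk') (by omega)
      simp only [List.get_eq_getElem, List.getElem_zip, List.getElem_range] at this
      have hx := hb _ (List.getElem_mem hk')
      have hp : ∀ y ∈ σ.take k, y < M.N := fun y hy => hb y (List.mem_of_mem_take hy)
      rw [List.take_succ_eq_append_getElem hk', List.take_succ_eq_append_getElem (by omega),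
        List.map_append, List.map_singleton]
      refine Sat.snoc (ih hk'.le) (List.forall₂_map_left_iff.2 ?_) ?_ fun m e => ?_
      · obtain ⟨l1, l2⟩ := List.forall₂_iff_zip.1 this.2
        refine List.forall₂_iff_zip.2 ⟨l1, fun {y b} hyb => ?_⟩
        have e := l2 hyb
        have hy := hp y (List.of_mem_zip hyb).1
        rw [mul_inv_eq_iff_eq_mul, ← C.mul _ _ hx hy, e, C.mul _ _ (C.ev_lt hp _) hx, C.ev_eq hp]
      · rw [← C.mul _ _ hx hx, this.1, C.ev_eq hp]; rfl
      · have hA : σ.map (evL gs) = ((σ.take k).map (evL gs) ++ [evL gs σ[k]]) ++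
            (σ.drop (k + 1)).map (evL gs) := by
          rw [← List.map_singleton, ← List.map_append, ← List.take_succ_eq_append_getElem hk',
            ← List.map_append, List.take_append_drop]
        have hlen : ((σ.take k).map (evL gs)).length = k := by simp; omega
        have hm : m % 2 ^ k < 2 ^ k := Nat.mod_lt _ (by positivity)
        have hk2 : 2 ^ k < 2 ^ σ.length := Nat.pow_lt_pow_right one_lt_two hk'
        refine hm.ne (hi _ (hm.trans hk2) _ hk2 ?_)
        have e1 := evL_snoc_add ((σ.take k).map (evL gs)) (evL gs σ[k]) (x := 0) (by positivity)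
        have e2 := evL_mod ((σ.take k).map (evL gs)) m
        rw [hlen] at e1 e2
        rw [zero_add, evL_zero, one_mul] at e1
        rw [hA, evL_append_lt _ _ (x := 2 ^ k) (by
          rw [List.length_append, hlen]; exact Nat.pow_lt_pow_right one_lt_two (by simp)), e1,
          List.append_assoc, evL_append_lt _ _ (by rwa [hlen]), e2, e]
  have := key _ le_rfl
  rwa [List.take_length, ← hl, List.take_length] at this

theorem rb (C : Ch M gs) {σ : List ℕ} {D' : Tw} (h : chkRb M σ D' = true) :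
    Sat D' (σ.map (evL gs) ++ []) := by
  rw [List.append_nil]; exact rb_sat C h

theorem FusC.conj {x y : ℕ} (h : FusC gs ([x], [y])) : IsConj (evL gs x) (evL gs y) := by
  obtain ⟨g, h⟩ := h
  exact isConj_iff.2 ⟨g⁻¹, by rw [inv_inv]; exact (List.forall₂_cons.1 h).1⟩

theorem FusC.of_conj {x y : ℕ} (h : IsConj (evL gs x) (evL gs y)) : FusC gs ([x], [y]) := by
  obtain ⟨g, h⟩ := isConj_iff.1 h
  exact ⟨g⁻¹, List.Forall₂.cons (by rwa [inv_inv]) List.Forall₂.nil⟩

theorem nc_tr {u t r : G} (h : ¬ IsConj u t) (h' : IsConj r t) : ¬ IsConj r u :=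
  fun e => h (e.symm.trans h')

theorem nc_tr' {u t r : G} (h : ¬ IsConj u t) (h' : IsConj r u) : ¬ IsConj r t :=
  fun e => h (h'.symm.trans e)

theorem SC.fus {xs ys : List ℕ} (h : SC (xs.map (evL gs))) (hF : FusC gs (xs, ys)) :
    SC (ys.map (evL gs)) := by
  obtain ⟨g, hg⟩ := hF
  rintro u ⟨k, hk⟩ hc
  have := cj_gen hg (h (g * u * g⁻¹) ⟨k, by rw [conj_pow, hk, mul_one, mul_inv_cancel]⟩
    fun x hx => by
      have e := (hc _ (cj_mem hg hx)).eq
      rw [Commute, SemiconjBy, show g * u * g⁻¹ * x = g * (u * (g⁻¹ * x * g)) * g⁻¹ by group, e]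
      group)
  rwa [show g⁻¹ * (g * u * g⁻¹) * g = u by group] at this

theorem NB.fus {x y : ℕ} {xs ys : List ℕ} {m : ℕ} (h : NB ([x].map (evL gs)) (xs.map (evL gs)) m)
    (hF : FusC gs (x :: xs, y :: ys)) : NB ([y].map (evL gs)) (ys.map (evL gs)) m := by
  obtain ⟨g, hg⟩ := hF
  obtain ⟨e, hg'⟩ := List.forall₂_cons.1 hg
  intro U hU hc hn
  have := h (U.map (MulAut.conj g).toMonoidHom) (hU.map _) ?_ ?_
  · rwa [Subgroup.card_map_of_injective (MulAut.conj g).injective] at this
  · rintro _ ⟨u, hu, rfl⟩ a ha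
    obtain rfl : a = evL gs x := by simpa using ha
    have e' := (hc u hu (evL gs y) (by simp)).eq
    change g * u * g⁻¹ * _ = _ * (g * u * g⁻¹)
    rw [show g * u * g⁻¹ * evL gs x = g * (u * (g⁻¹ * evL gs x * g)) * g⁻¹ by group, e, e', ← e]
    group
  · rintro _ ⟨u, hu, rfl⟩ a ha
    have := cj_gen (cj_symm hg') (hn u hu _ (cj_mem hg' ha))
    change (g * u * g⁻¹)⁻¹ * a * (g * u * g⁻¹) ∈ _
    rwa [show (g * u * g⁻¹)⁻¹ * a * (g * u * g⁻¹) = g⁻¹⁻¹ * (u⁻¹ * (g⁻¹ * a * g) * u) * g⁻¹ by group]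

theorem St.nb0 (S : St X s D gs) (xs : List G) : NB ([1].map (evL gs)) xs (2 ^ s) :=
  fun U hU hc _ => S.big U hU hc (by simp)

end Cfsg.Lib.D8
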