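import Cfsg.Agent.Known.PSLAutOut
import Cfsg.Prelude.Def_EvenType

/-! An outer automorphism of `L₅(2)` fixes no element of order seven. -/

set_option autoImplicit false

namespace Cfsg.Lib.D8.End

open Subgroup Matrix Cfsg.Lib.Known

namespace K1

variable {F : Type*} [Field F] [Fintype F]

theorem eq_one (hF : Fintype.card F = 2) {c : F} (hc : c ≠ 0) : c = 1 := by
  have := FiniteField.pow_card_sub_one_eq_one c hc
  rwa [hF, pow_one] at this

theorem mat (hF : Fintype.card F = 2) {M : Matrix (Fin 5) (Fin 5) F} (h7 : M ^ 7 = 1)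
    (ht : trace M = trace (M ^ 6)) : M = 1 := by
  classical
  have two : (2 : F) = 0 := by
    have := FiniteField.cast_card_eq_zero F
    rwa [hF] at this
  have sq : ∀ N : Matrix (Fin 5) (Fin 5) F, trace (N ^ 2) = trace N := fun N => by
    have := FiniteField.trace_pow_card N
    rwa [FiniteField.pow_card, hF] at this
  set E := 1 + M + M ^ 2 + M ^ 3 + M ^ 4 + M ^ 5 + M ^ 6 with hE
  have hME : (M - 1) * E = 0 := by
    have : (M - 1) * E = M ^ 7 - 1 := by rw [hE]; noncomm_ring
    rw [this, h7, sub_self]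
  have t2 := sq M
  have t4 : trace (M ^ 4) = trace M := by rw [← t2, ← sq (M ^ 2), ← pow_mul]
  have t3 : trace (M ^ 3) = trace M := by rw [ht, ← sq (M ^ 3), ← pow_mul]
  have t5 : trace (M ^ 5) = trace M := by
    rw [ht, ← sq (M ^ 6), ← pow_mul, show 6 * 2 = 7 + 5 from rfl, pow_add, h7, one_mul]
  have tE : trace E = 1 := by
    simp only [hE, trace_add, t2, t3, t4, t5, ← ht, trace_one, Fintype.card_fin]
    linear_combination (2 + 3 * trace M) * two
  let W : Submodule F (Fin 5 → F) := LinearMap.ker (toLin' (M - 1))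
  have hW : ∀ v, v ∈ W ↔ M *ᵥ v = v := fun v => by
    simp only [W, LinearMap.mem_ker, toLin'_apply, sub_mulVec, one_mulVec, sub_eq_zero]
  have hP : LinearMap.IsProj W (toLin' E) := by
    refine ⟨fun x => ?_, fun x hx => ?_⟩
    · simp only [W, LinearMap.mem_ker, toLin'_apply, mulVec_mulVec, hME, zero_mulVec]
    · have h1 := (hW x).1 hx
      have hn : ∀ n : ℕ, (M ^ n) *ᵥ x = x := fun n => by
        induction n with
        | zero => rw [pow_zero, one_mulVec]
        | succ n ih => rw [pow_succ, ← mulVec_mulVec, h1, ih]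
      simp only [toLin'_apply, hE, add_mulVec, hn, h1, one_mulVec]
      ext i
      simp only [Pi.add_apply]
      linear_combination (3 * x i) * two
  have htr := hP.trace
  rw [trace_toLin'_eq, tE] at htr
  let f : Function.End (Fin 5 → F) := fun v => M *ᵥ v
  have hf : ∀ n : ℕ, f ^ n = fun v => (M ^ n) *ᵥ v := fun n => by
    induction n with
    | zero => funext v; rw [pow_zero, pow_zero, one_mulVec]; rfl
    | succ n ih => funext v; rw [pow_succ, pow_succ, ← mulVec_mulVec, ih]; rfl
  have : Fact (Nat.Prime 7) := ⟨by norm_num⟩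
  have hc := Equiv.Perm.card_fixedPoints_modEq (f := f) (p := 7) (n := 1)
    (by rw [pow_one, hf, h7]; funext v; rw [one_mulVec]; rfl)
  have hc2 : Fintype.card f.fixedPoints = 2 ^ Module.finrank F W := by
    rw [← hF, ← Nat.card_eq_fintype_card, ← Nat.card_eq_fintype_card,
      ← Module.natCard_eq_pow_finrank]
    exact Nat.card_congr (Equiv.subtypeEquivRight fun v => (hW v).symm)
  rw [hc2, Fintype.card_fun, hF, Fintype.card_fin] at hc
  have hle : Module.finrank F W ≤ 5 := by simpa using W.finrank_le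
  have h5 : Module.finrank F W = 5 := by
    generalize Module.finrank F W = k at htr hc hle
    interval_cases k
    · exact absurd hc (by decide)
    · exact absurd hc (by decide)
    · exact absurd (htr.trans (by exact_mod_cast two)) one_ne_zero
    · exact absurd hc (by decide)
    · exact absurd hc (by decide)
    · rfl
  have hT : W = ⊤ := Submodule.eq_top_of_finrank_eq (by simpa using h5)
  exact sub_eq_zero.1 (toLin'.map_eq_zero_iff.1 (LinearMap.ker_eq_top.1 hT))

theorem mk_inj (hF : Fintype.card F = 2) {s t : SpecialLinearGroup (Fin 5) F}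
    (h : (QuotientGroup.mk s : ProjectiveSpecialLinearGroup (Fin 5) F) = QuotientGroup.mk t) :
    s = t := by
  obtain ⟨c, hc⟩ := PSL_mk_eq_mk_iff.1 h
  have h0 : c ≠ 0 := by
    rintro rfl
    have := t.det_coe
    rw [hc, zero_smul, det_zero] at this
    exact zero_ne_one this
  rw [eq_one hF h0, one_smul] at hc
  exact Subtype.ext hc.symm

end K1

theorem l5_fix {F : Type*} [Field F] [Fintype F] (hF : Fintype.card F = 2)
    (α : MulAut (Matrix.ProjectiveSpecialLinearGroup (Fin 5) F))
    (hα : α ∉ Cfsg.Inn (Matrix.ProjectiveSpecialLinearGroup (Fin 5) F)) :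
    ¬ 7 ∣ Nat.card (Cfsg.fixedSubgroup α) := by
  intro h7
  obtain ⟨g, σ, h⟩ := PSL_aut_eq (by norm_num) α
  have hσ : σ = 1 := RingEquiv.ext fun x => by
    by_cases hx : x = 0
    · simp [hx]
    · rw [K1.eq_one hF hx]; simp
  rw [hσ, map_one, mul_one] at h
  rcases h with h | h
  · refine hα ?_
    rw [inn_eq_map_innD]
    exact ⟨g, Units.ext (K1.eq_one hF (Units.ne_zero _)), h.symm⟩
  have : Fact (Nat.Prime 7) := ⟨by norm_num⟩
  obtain ⟨⟨x, hx⟩, ho⟩ := exists_prime_orderOf_dvd_card' 7 h7
  rw [← orderOf_coe] at ho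
  obtain ⟨s, rfl⟩ := QuotientGroup.mk_surjective x
  have hx' : α (QuotientGroup.mk s) = QuotientGroup.mk s := hx
  rw [h, MulAut.mul_apply, graphAut_mk, innD_mk] at hx'
  have e := congrArg (fun t : SpecialLinearGroup (Fin 5) F => trace (t : Matrix (Fin 5) (Fin 5) F))
    (K1.mk_inj hF hx')
  have s7 : s ^ 7 = 1 := K1.mk_inj hF (by
    have := pow_orderOf_eq_one (QuotientGroup.mk s : ProjectiveSpecialLinearGroup (Fin 5) F)
    rw [show orderOf (QuotientGroup.mk s : ProjectiveSpecialLinearGroup (Fin 5) F) = 7 from ho]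
      at this
    exact this)
  have s6 : s⁻¹ = s ^ 6 := inv_eq_of_mul_eq_one_right (by rw [← pow_succ', s7])
  simp only [coe_conjSL, coe_graphSL] at e
  rw [trace_mul_cycle, Units.inv_mul, one_mul, trace_transpose, s6] at e
  have m7 := Matrix.SpecialLinearGroup.coe_pow s 7
  rw [s7, Matrix.SpecialLinearGroup.coe_one] at m7
  rw [Matrix.SpecialLinearGroup.coe_pow] at e
  have s1 : s = 1 := Subtype.ext (K1.mat hF m7.symm e.symm)
  subst s1
  simp at ho

end Cfsg.Lib.D8.End
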