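import Cfsg.Agent.HSyl.Emb

/-! The two classes of involutions of the Higman-Sims group. -/

set_option autoImplicit false
set_option maxRecDepth 100000

namespace Cfsg.Lib.D8.End

open Subgroup

namespace K3

open Cfsg.Lib.Spor Cfsg.Lib.Spor.Bulk Cfsg.Lib.Spor.PK Cfsg.Lib.Spor.WF Cfsg.Lib.HST

/-- permutation model with a Sylow 2-subgroup and a subgroup of order 64 -/
@[reducible] def MH : PM where
  w := 12
  n := 100
  cs := MG.cs
  SW := [([[3], [11], [12]],
    [⟨0, [3008, 4289, 897, 3392, 1920, 5889, 5633], [[0, 1, 0, 0, 1], [2], [1, 0, 2, 0, 1, 0]]⟩,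
     ⟨1, [4736, 3201, 258, 768, 1857, 2944, 1794, 6080, 5057, 1024, 1473, 4546, 1408, 3330, 1216,
      2689, 448, 3521, 2880, 706, 3969, 512, 1089, 2305, 5185, 1728, 6018, 128, 2562, 3648, 2114],
      [[0, 0, 0, 2]]⟩,
     ⟨2, [2560], []⟩]),
   ([[1], [11], [12, 5], [5, 5, 3, 3]],
    [⟨0, [3008, 4289, 5634, 897, 5890, 1921, 3393], [[0, 2, 3, 2], [0, 1, 2, 1]]⟩,
     ⟨1, [2560, 1025, 6080, 3521, 3648, 128, 257], []⟩])]

instance : NeZero MH.n := ⟨by decide⟩

theorem MH_ok : MH.ok = true := by decide +kernel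

theorem MH_subs : MH.subsOK = true := by decide +kernel

/-- the letter `a` is conjugate to the letter `b` -/
def cjF (a b : ℕ) (c : List ℕ) : Fm := .eq (a :: c) (c ++ [b])

/-- new letters conjugate to old ones; finally every involution of subgroup 0 is a letter -/
def ch : List (ℕ × List ℕ × ℕ × List ℕ) → List ℕ → Fm
  | [], acc => .all 0 21 <| .imp (.eq [21, 21] []) <| .or (.eq [21] []) <|
      orL acc fun v => .eq [21] [v]
  | a :: L, acc => .bind a.1 a.2.1 <| .and (cjF a.2.2.1 a.1 a.2.2.2) (ch L (a.1 :: acc))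

/-- side conditions -/
def okL : List (ℕ × List ℕ × ℕ × List ℕ) → List ℕ → Bool
  | [], acc => decide (21 ∉ acc)
  | a :: L, acc => decide (a.2.2.1 ∈ acc ∧ a.2.2.1 ≠ a.1) && okL L (a.1 :: acc)

/-- the involutions -/
def invs : List (ℕ × List ℕ × ℕ × List ℕ) :=
  [(33, [11], 31, [7, 13, 7, 10]), (34, [2, 33, 1], 33, [1]), (35, [4, 33, 3], 33, [3]), (36, [3,
    33, 4], 33, [4]), (37, [12, 33, 12], 33, [12]), (38, [4, 34, 3], 34, [3]), (39, [3, 34, 4],
    34, [4]), (40, [12, 34, 12], 34, [12]), (41, [4, 35, 3], 35, [3]), (42, [12, 35, 12], 35,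
    [12]), (43, [12, 36, 12], 36, [12]), (44, [4, 37, 3], 37, [3]), (45, [3, 37, 4], 37, [4]),
    (46, [4, 38, 3], 38, [3]), (47, [12, 41, 12], 41, [12]), (48, [4, 42, 3], 42, [3]), (49, [12],
    31, [7, 13]), (50, [4, 49, 3], 49, [3]), (51, [3, 49, 4], 49, [4]), (52, [6, 49, 5], 49, [5]),
    (53, [11, 49, 11], 49, [11]), (54, [4, 50, 3], 50, [3]), (55, [6, 50, 5], 50, [5]), (56, [11,
    50, 11], 50, [11]), (57, [6, 51, 5], 51, [5]), (58, [11, 51, 11], 51, [11]), (59, [11, 52,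
    11], 52, [11]), (60, [6, 54, 5], 54, [5]), (61, [11, 54, 11], 54, [11]), (62, [11, 55, 11],
    55, [11]), (63, [11, 57, 11], 57, [11]), (64, [12, 59, 12], 59, [12]), (65, [11, 1], 32, [3,
    7, 12, 7]), (66, [2, 65, 1], 65, [1]), (67, [4, 65, 3], 65, [3]), (68, [3, 65, 4], 65, [4]),
    (69, [12, 65, 12], 65, [12]), (70, [4, 66, 3], 66, [3]), (71, [3, 66, 4], 66, [4]), (72, [12,
    66, 12], 66, [12]), (73, [4, 67, 3], 67, [3]), (74, [12, 67, 12], 67, [12]), (75, [12, 68,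
    12], 68, [12]), (76, [4, 69, 3], 69, [3]), (77, [3, 69, 4], 69, [4]), (78, [4, 70, 3], 70,
    [3]), (79, [12, 73, 12], 73, [12]), (80, [4, 74, 3], 74, [3]), (81, [3, 3], 31, [7]), (82,
    [11, 81, 11], 81, [11]), (83, [12, 81, 12], 81, [12]), (84, [11, 83, 11], 83, [11]), (85, [12,
    5], 32, [3, 6, 10]), (86, [4, 85, 3], 85, [3]), (87, [3, 85, 4], 85, [4]), (88, [6, 85, 5],
    85, [5]), (89, [11, 85, 11], 85, [11]), (90, [4, 86, 3], 86, [3]), (91, [6, 86, 5], 86, [5]),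
    (92, [11, 86, 11], 86, [11]), (93, [12, 86, 12], 86, [12]), (94, [11, 87, 11], 87, [11]), (95,
    [11, 88, 11], 88, [11]), (96, [6, 90, 5], 90, [5]), (97, [11, 90, 11], 90, [11]), (98, [11,
    91, 11], 91, [11]), (99, [11, 93, 11], 93, [11]), (100, [11, 96, 11], 96, [11]), (101, [5, 5,
    3, 3], 31, [7, 10]), (102, [12, 101, 12], 101, [12]), (103, [12, 11, 12, 11], 31, [7, 10,
    13]), (104, [4, 103, 3], 103, [3]), (105, [3, 103, 4], 103, [4]), (106, [6, 103, 5], 103,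
    [5]), (107, [5, 103, 6], 103, [6]), (108, [4, 104, 3], 104, [3]), (109, [6, 104, 5], 104,
    [5]), (110, [5, 104, 6], 104, [6]), (111, [4, 32, 3], 32, [3]), (112, [3, 32, 4], 32, [4]),
    (113, [6, 32, 5], 32, [5]), (114, [5, 32, 6], 32, [6]), (115, [4, 111, 3], 111, [3]), (116,
    [6, 111, 5], 111, [5]), (117, [5, 111, 6], 111, [6])]

/-- the non-central class -/
def sw : List ℕ := [12, 11, 12, 11, 5, 3]

theorem full_ok : MH.dec (.bind 31 [1, 1] <| .bind 32 sw <| ch invs [31, 32]) = true := by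
  decide +kernel

theorem cen_ok : MH.dec (.and (andL (MH.W 0) fun L => .eq ([1, 1] ++ L) (L ++ [1, 1]))
    (andL (MH.W 1) fun L => .eq (sw ++ L) (L ++ sw))) = true := by decide +kernel

variable {G : Type*} [Group G]

theorem conj_of {a b c : G} (h : c * a = b * c) : IsConj a b :=
  isConj_iff.2 ⟨c, by rw [h, mul_inv_cancel_right]⟩

theorem sem_cjF {S : ℕ → Subgroup G} {e : ℕ → G} {a b : ℕ} {c : List ℕ}
    (h : (cjF a b c).sem S e) : IsConj (e a) (e b) := by
  simp only [cjF, Fm.sem, wv_cons, wv_append, wv_nil, one_mul] at h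
  exact conj_of h

theorem card_conj {a b : G} (h : IsConj a b) :
    Nat.card (centralizer ({b} : Set G)) = Nat.card (centralizer ({a} : Set G)) := by
  obtain ⟨c, rfl⟩ := isConj_iff.1 h
  refine Nat.card_congr ((MulAut.conj c⁻¹).toEquiv.subtypeEquiv fun x => ?_)
  simp only [mem_centralizer_singleton_iff, MulEquiv.toEquiv_eq_coe, EquivLike.coe_coe,
    MulAut.conj_apply, inv_inv]
  exact ⟨fun h => by rw [show c⁻¹ * x * c * a = c⁻¹ * (x * (c * a * c⁻¹)) * c by group, h]; group,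
    fun h => by rw [show x * (c * a * c⁻¹) = c * (c⁻¹ * x * c * a) * c⁻¹ by group, h]; group⟩

theorem of_ch {S : ℕ → Subgroup G} {z s : G} (L : List (ℕ × List ℕ × ℕ × List ℕ)) :
    ∀ (acc : List ℕ) (e : ℕ → G), okL L acc = true → (ch L acc).sem S e →
      (∀ v ∈ acc, IsConj z (e v) ∨ IsConj s (e v)) →
      ∀ y ∈ S 0, y * y = 1 → y = 1 ∨ IsConj z y ∨ IsConj s y := by
  induction L with
  | nil =>
    intro acc e ho h hg y hy hyy
    have ho' : 21 ∉ acc := of_decide_eq_true ho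
    have := h y hy
    simp only [Fm.sem, sem_orL, wv_cons, wv_nil, one_mul, upd_apply, ↓reduceIte] at this
    refine (this hyy).imp_right ?_
    rintro ⟨v, hv, h⟩
    rw [if_neg (by rintro rfl; exact ho' hv)] at h
    exact h ▸ hg v hv
  | cons a L ih =>
    intro acc e ho h hg
    simp only [okL, Bool.and_eq_true, decide_eq_true_eq] at ho
    refine ih _ _ ho.2 h.2 fun v hv => ?_
    by_cases hva : v = a.1
    · have c := sem_cjF h.1
      rw [upd_apply, if_neg ho.1.2] at c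
      rw [hva]
      exact (hg _ ho.1.1).imp (·.trans c) (·.trans c)
    · rw [upd_apply, if_neg hva]
      exact hg v ((List.mem_cons.1 hv).resolve_left hva)

theorem gen_inv [Finite G] {g : ℕ → G} (he : Emb MH.m g) (c0 : Nat.card G = 44352000) :
    ∃ s : G, 64 ∣ Nat.card (centralizer ({s} : Set G)) ∧
      ∀ t : G, orderOf t = 2 → 512 ∣ Nat.card (centralizer ({t} : Set G)) ∨ IsConj s t := by
  have hb := PM.holds MH_ok MH_subs he full_ok
  have hc := PM.holds MH_ok MH_subs he cen_ok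
  simp only [Fm.sem, sem_andL, wv_append] at hb hc
  have h1 : sub g (MH.W 0) ≤ centralizer {wv g [1, 1]} :=
    sub_le fun L hL => mem_centralizer_singleton_iff.2 (hc.1 L hL)
  have h2 : sub g (MH.W 1) ≤ centralizer {wv g sw} :=
    sub_le fun L hL => mem_centralizer_singleton_iff.2 (hc.2 L hL)
  have h3 := of_ch (z := wv g [1, 1]) (s := wv g sw) invs _ _ (by decide +kernel) hb
    (by simp [upd_apply, sw, -isConj_iff, IsConj.refl])
  have c1 : Nat.card (sub g (MH.W 0)) = 512 := (he.card _).trans (PM.card_sub MH_ok MH_subs 0)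
  have c2 : Nat.card (sub g (MH.W 1)) = 64 := (he.card _).trans (PM.card_sub MH_ok MH_subs 1)
  refine ⟨_, by rw [← c2]; exact card_dvd_of_le h2, fun t ht => ?_⟩
  obtain ⟨P, hP⟩ := (IsPGroup.of_card (p := 2) (n := 1)
    ((Nat.card_zpowers t).trans ht)).exists_le_sylow
  have c3 : Nat.card P = 512 :=
    Known.SC.sylow_card_eq_pow P (k := 9) (m := 86625) (c0.trans (by norm_num)) (by norm_num)
  obtain ⟨c, hc⟩ := exists_conj_sylow P (Q := sub g (MH.W 0))
    (by rw [← P.card_eq_multiplicity, c1, c3])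
  obtain ⟨y, hy, rfl⟩ := hc.ge (hP (mem_zpowers t))
  have hyt : IsConj y ((MulAut.conj c).toMonoidHom y) := isConj_iff.2 ⟨c, rfl⟩
  have ho : orderOf y = 2 := (orderOf_injective _ (MulAut.conj c).injective y).symm.trans ht
  rcases h3 y hy (by rw [← pow_two, ← ho, pow_orderOf_eq_one]) with h | h | h
  · rw [h, orderOf_one] at ho; exact absurd ho (by decide)
  · exact Or.inl (by rw [card_conj (h.trans hyt), ← c1]; exact card_dvd_of_le h1)
  · exact Or.inr (h.trans hyt)

theorem exists_emb : ∃ g : ℕ → Cfsg.Spor.HS, Emb MH.m g := by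
  obtain ⟨q⟩ := equiv_MG
  have hm : ∀ l, MG.m l ∈ sub MG.m (MG.W 0) :=
    lf_mem_sub _ (k := 15) (Ls := LG) (by rw [List.length_map]; decide)
      (PM.sat MG_ok MG_sat).zero (by decide)
  exact ⟨_, _, hm, (q.trans CK.sHSEquiv).toMonoidHom, (q.trans CK.sHSEquiv).injective,
    fun _ => rfl⟩

end K3

theorem hs_inv : ∃ s : Cfsg.Spor.HS, 64 ∣ Nat.card (centralizer ({s} : Set Cfsg.Spor.HS)) ∧
    ∀ t : Cfsg.Spor.HS, orderOf t = 2 →
      512 ∣ Nat.card (centralizer ({t} : Set Cfsg.Spor.HS)) ∨ IsConj s t := by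
  obtain ⟨g, he⟩ := K3.exists_emb
  have c0 : Nat.card Cfsg.Spor.HS = 44352000 :=
    (Nat.card_congr Spor.CK.sHSEquiv.toEquiv).symm.trans Spor.CK.card_sHS
  have : Finite Cfsg.Spor.HS := Nat.finite_of_card_ne_zero (by rw [c0]; decide)
  exact K3.gen_inv he c0

end Cfsg.Lib.D8.End
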