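import Cfsg.Agent.D8.EndNum
import Cfsg.Agent.D8.EndK1
import Cfsg.Agent.D8.EndK3
import Cfsg.Agent.D8.EndK4
import Cfsg.Agent.S2064
import Cfsg.Agent.S2072
import Cfsg.Agent.Spor.Co0Simple

/-! The endgame: from the type of the generalized Fitting subgroup to the conclusion. -/

set_option autoImplicit false

namespace Cfsg.Lib.D8.End

open Subgroup Function

theorem card_cent_aut {Y : Type*} [Group Y] (α : MulAut Y) (y : Y) :
    Nat.card (centralizer ({α y} : Set Y)) = Nat.card (centralizer ({y} : Set Y)) := by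
  rw [← card_map_of_injective (K := centralizer ({y} : Set Y)) (f := α.toMonoidHom) α.injective]
  congr 3
  ext x
  obtain ⟨x, rfl⟩ := α.surjective x
  rw [mem_centralizer_singleton_iff, ← map_mul, ← map_mul, α.apply_eq_iff_eq]
  exact mem_centralizer_singleton_iff.symm.trans (mem_map_iff_mem (f := α.toMonoidHom) α.injective).symm

theorem hs_case {G : Type*} [Group G] [Finite G] (R : Rep G Cfsg.Spor.HS) {t : G}
    (ht : orderOf t = 2) (h : t ∈ generalizedFittingSubgroup G) :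
    64 ∣ Nat.card (centralizer ({t} : Set G)) ∧ (generalizedFittingSubgroup G = ⊤ ∨
      128 ∣ Nat.card (centralizer ({t} : Set G))) := by
  obtain ⟨y, rfl⟩ := R.rg.ge h
  rw [orderOf_injective _ R.ιi] at ht
  obtain ⟨s, h64, hs⟩ := hs_inv
  have c := R.card_cent (R.ι y)
  rw [R.fix_ι] at c
  rcases hs y ht with a | a
  · have b := a.trans (c ▸ dvd_mul_right _ _)
    exact ⟨Dvd.dvd.trans (by norm_num) b, .inr (Dvd.dvd.trans (by norm_num) b)⟩
  have b : 64 ∣ Nat.card (centralizer ({y} : Set Cfsg.Spor.HS)) := by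
    obtain ⟨g, rfl⟩ := isConj_iff.1 a
    exact (card_cent_aut (MulAut.conj g) s).symm ▸ h64
  refine ⟨b.trans (c ▸ dvd_mul_right _ _), or_iff_not_imp_left.2 fun n => ?_⟩
  obtain ⟨g, -, hg⟩ := SetLike.exists_of_lt (lt_top_iff_ne_top.2 n)
  rcases hs (R.ψ g y) (by rw [MulEquiv.orderOf_eq, ht]) with d | d
  · rw [card_cent_aut] at d
    exact Dvd.dvd.trans (by norm_num) (d.trans (c ▸ dvd_mul_right _ _))
  obtain ⟨k, hk⟩ := isConj_iff.1 (d.symm.trans a)
  have m : R.ι k * g ∈ centralizer ({R.ι y} : Set G) := by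
    have := congrArg R.ι hk
    rw [map_mul, map_mul, map_inv, R.cj] at this
    rw [mem_centralizer_singleton_iff, ← mul_inv_eq_iff_eq_mul]
    exact Eq.trans (by group) this
  have r := R.rel_dvd (centralizer ({R.ι y} : Set G))
  rw [Agent.S2072.result, Nat.dvd_prime Nat.prime_two] at r
  rw [c, r.resolve_left fun e => hg ((mul_mem_cancel_left (R.rg.le ⟨k, rfl⟩)).1
    (relIndex_eq_one.1 e m))]
  exact Nat.mul_dvd_mul_right b 2

theorem Rep.tri {G Y : Type*} [Group G] [Group Y] [Finite G] (R : Rep G Y) {t : G} {p : ℕ}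
    (hp : p.Prime) (h : ∃ x y, R.ψ t x = x ∧ R.ψ t y = y ∧ x ≠ 1 ∧ x ^ 2 = 1 ∧ y ^ 3 = 1 ∧
      (x * y) ^ p = 1) :
    p ∣ Nat.card (centralizer ({t} : Set G) ⧸ oddCore (centralizer ({t} : Set G))) := by
  obtain ⟨x, y, hx, hy, h1, h2, h3, h⟩ := h
  have m : ∀ x, R.ψ t x = x → R.ι x ∈ centralizer ({t} : Set G) := fun x hx =>
    ((R.map_fix t).le (mem_map_of_mem _ hx)).1
  refine dvd_of_tri hp (x := ⟨_, m x hx⟩) (y := ⟨_, m y hy⟩) (fun e => h1 (R.ιi ?_))
    (Subtype.ext ?_) (Subtype.ext ?_) (Subtype.ext ?_)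
  · rw [map_one]; exact congrArg Subtype.val e
  · change R.ι x ^ 2 = 1
    rw [← map_pow, h2, map_one]
  · change R.ι y ^ 3 = 1
    rw [← map_pow, h3, map_one]
  · change (R.ι x * R.ι y) ^ p = 1
    rw [← map_mul, ← map_pow, h, map_one]

theorem main {G : Type*} [Group G] [Finite G]
    (hF : IsSimpleGroup ↥(Cfsg.generalizedFittingSubgroup G)) (hF' : ¬ IsMulCommutative ↥(Cfsg.generalizedFittingSubgroup G))
    (t : G) (ht : orderOf t = 2) (tc : ↥(Subgroup.centralizer ({t} : Set G))) (htc : (tc : G) = t)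
    (hL : (∃ (F : Type) (_ : Field F) (_ : Fintype F), (Fintype.card F % 16 = 7 ∨ Fintype.card F % 16 = 9) ∧
        Nonempty (↥(Cfsg.layer (↥(Subgroup.centralizer ({t} : Set G)) ⧸ Cfsg.oddCore ↥(Subgroup.centralizer ({t} : Set G)))) ≃* Matrix.ProjectiveSpecialLinearGroup (Fin 2) F)) ∨
      Nonempty (↥(Cfsg.layer (↥(Subgroup.centralizer ({t} : Set G)) ⧸ Cfsg.oddCore ↥(Subgroup.centralizer ({t} : Set G)))) ≃* ↥(alternatingGroup (Fin 7))))
    (hCL : Subgroup.centralizer ((Cfsg.layer (↥(Subgroup.centralizer ({t} : Set G)) ⧸ Cfsg.oddCore ↥(Subgroup.centralizer ({t} : Set G))) : Subgroup (↥(Subgroup.centralizer ({t} : Set G)) ⧸ Cfsg.oddCore ↥(Subgroup.centralizer ({t} : Set G)))) : Set (↥(Subgroup.centralizer ({t} : Set G)) ⧸ Cfsg.oddCore ↥(Subgroup.centralizer ({t} : Set G)))) =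
      Subgroup.zpowers (QuotientGroup.mk tc : (↥(Subgroup.centralizer ({t} : Set G)) ⧸ Cfsg.oddCore ↥(Subgroup.centralizer ({t} : Set G)))))
    (h : (t ∈ Cfsg.generalizedFittingSubgroup G ∧ Cfsg.Spor.IsoHS ↥(Cfsg.generalizedFittingSubgroup G)) ∨
      (t ∉ Cfsg.generalizedFittingSubgroup G ∧
        ((∃ (F : Type) (_ : Field F) (_ : Fintype F), Fintype.card F = 4 ∧
            (Nonempty (↥(Cfsg.generalizedFittingSubgroup G) ≃* Cfsg.PSp 2 F) ∨ Nonempty (↥(Cfsg.generalizedFittingSubgroup G) ≃* Cfsg.PSU 5 F 2))) ∨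
          (∃ (F : Type) (_ : Field F) (_ : Fintype F), Fintype.card F = 2 ∧
            Nonempty (↥(Cfsg.generalizedFittingSubgroup G) ≃* Matrix.ProjectiveSpecialLinearGroup (Fin 5) F)) ∨
          Cfsg.Spor.IsoM24 ↥(Cfsg.generalizedFittingSubgroup G) ∨ Cfsg.Spor.IsoHe ↥(Cfsg.generalizedFittingSubgroup G)))) :
    ((∃ (F : Type) (_ : Field F) (_ : Fintype F), Fintype.card F = 9 ∧ Nonempty (↥(Cfsg.layer (↥(Subgroup.centralizer ({t} : Set G)) ⧸ Cfsg.oddCore ↥(Subgroup.centralizer ({t} : Set G)))) ≃* Matrix.ProjectiveSpecialLinearGroup (Fin 2) F)) ∧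
        Cfsg.generalizedFittingSubgroup G = ⊤ ∧ Cfsg.Spor.IsoHS G) ∨
      ((∃ (F : Type) (_ : Field F) (_ : Fintype F), Fintype.card F = 9 ∧ Nonempty (↥(Cfsg.layer (↥(Subgroup.centralizer ({t} : Set G)) ⧸ Cfsg.oddCore ↥(Subgroup.centralizer ({t} : Set G)))) ≃* Matrix.ProjectiveSpecialLinearGroup (Fin 2) F)) ∧
        t ∉ Cfsg.generalizedFittingSubgroup G ∧
        ((∃ (F : Type) (_ : Field F) (_ : Fintype F), Fintype.card F = 4 ∧
            (Nonempty (↥(Cfsg.generalizedFittingSubgroup G) ≃* Cfsg.PSp 2 F) ∨ Nonempty (↥(Cfsg.generalizedFittingSubgroup G) ≃* Cfsg.PSU 5 F 2))) ∨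
          (∃ (F : Type) (_ : Field F) (_ : Fintype F), Fintype.card F = 2 ∧
            Nonempty (↥(Cfsg.generalizedFittingSubgroup G) ≃* Matrix.ProjectiveSpecialLinearGroup (Fin 5) F)))) ∨
      (Nonempty (↥(Cfsg.layer (↥(Subgroup.centralizer ({t} : Set G)) ⧸ Cfsg.oddCore ↥(Subgroup.centralizer ({t} : Set G)))) ≃* ↥(alternatingGroup (Fin 7))) ∧
        t ∉ Cfsg.generalizedFittingSubgroup G ∧ Cfsg.generalizedFittingSubgroup G ⊔ Subgroup.zpowers t = ⊤ ∧
        Cfsg.Spor.IsoHe ↥(Cfsg.generalizedFittingSubgroup G)) := by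
  have q1 := card_quotient_dvd_card (oddCore (centralizer ({t} : Set G)))
  have q2 := q1.trans (card_subgroup_dvd_card _)
  have lt := fun hd => ltype (s := QuotientGroup.mk tc) (by
    rw [← QuotientGroup.mk_pow, show tc ^ 2 = 1 from Subtype.ext (by
      rw [SubgroupClass.coe_pow, htc, ← ht, pow_orderOf_eq_one]; rfl), QuotientGroup.mk_one])
    hL hCL (q2.trans hd)
  rcases h with ⟨h, ⟨e⟩⟩ | ⟨h, ⟨F, _, _, hc, ⟨⟨e⟩⟩ | ⟨⟨e⟩⟩⟩ | ⟨F, _, _, hc, ⟨e⟩⟩ | ⟨⟨e⟩⟩ | ⟨⟨e⟩⟩⟩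
  all_goals
    obtain ⟨R⟩ := exists_rep hF hF' e
    have c := R.card_dvd
  · rw [Agent.S2072.result, Spor.CK.card_HS] at c
    obtain ⟨a, b⟩ := hs_case R ht h
    have a := two_pow_dvd (k := 6) a
    rcases lt (c.trans (by norm_num)) with ⟨-, d⟩ | ⟨d, d'⟩ | ⟨-, -, d⟩
    · exact absurd (a.trans d) (by norm_num)
    · have b := b.resolve_right fun b => absurd ((two_pow_dvd (k := 7) b).trans d') (by norm_num)
      exact .inl ⟨d, b, ⟨(topEquiv.symm.trans (MulEquiv.subgroupCongr b.symm)).trans e⟩⟩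
    · exact absurd (a.trans d) (by norm_num)
  · rw [(data_sp hc).2.2] at c
    replace c := c.trans (Nat.mul_dvd_mul_right (data_sp hc).1 4)
    rcases lt (c.trans (by norm_num)) with ⟨d, -⟩ | ⟨d, -⟩ | ⟨-, d, -⟩
    · exact absurd (d.trans (q2.trans c)) (by norm_num)
    · exact .inr (.inl ⟨d, h, .inl ⟨F, _, _, hc, .inl ⟨e⟩⟩⟩)
    · exact absurd (d.trans (q2.trans c)) (by norm_num)
  · rw [(data_u hc).2, (data_u hc).1] at c
    rcases lt (c.trans (by norm_num)) with ⟨d, -⟩ | ⟨d, -⟩ | ⟨-, d, -⟩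
    · exact absurd (d.trans (q2.trans c)) (by norm_num)
    · exact .inr (.inl ⟨d, h, .inl ⟨F, _, _, hc, .inr ⟨e⟩⟩⟩)
    · exact absurd (d.trans (q2.trans c)) (by norm_num)
  · rw [(data_l hc).2, (data_l hc).1] at c
    have n : ¬ 7 ∣ Nat.card (centralizer ({t} : Set G) ⧸ oddCore (centralizer ({t} : Set G))) :=
      fun d => by
        have a := d.trans (q1.trans (R.cent_dvd t))
        rw [(data_l hc).2] at a
        exact l5_fix hc _ (mt R.mem_iff.1 h) ((by norm_num : Nat.Coprime 7 2).dvd_of_dvd_mul_right a)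
    rcases lt (c.trans (by norm_num)) with ⟨d, -⟩ | ⟨d, -⟩ | ⟨-, d, -⟩
    · exact absurd d n
    · exact .inr (.inl ⟨d, h, .inr ⟨F, _, _, hc, ⟨e⟩⟩⟩)
    · exact absurd d n
  · exact absurd ((R.eq_top Agent.S2064.result).ge (mem_top t)) h
  · rw [Spor.HeP.card_out, Spor.HeP.card] at c
    obtain ⟨a, b, -⟩ := he_fix _ (R.sq ht) (mt R.mem_iff.1 h)
    rcases lt (c.trans (by norm_num)) with ⟨-, d⟩ | ⟨-, d⟩ | ⟨d, -⟩
    · exact absurd ((R.tri Nat.prime_five a).trans d) (by norm_num)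
    · exact absurd ((R.tri (by norm_num) b).trans d) (by norm_num)
    · exact .inr (.inr ⟨d, h, R.sup_top Spor.HeP.card_out h, ⟨e⟩⟩)

end Cfsg.Lib.D8.End
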