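import Cfsg.Agent.D8.EndRep
import Cfsg.Agent.Class.PGL2Sub
import Cfsg.Agent.Trans.Component
import Cfsg.Agent.S0813
import Cfsg.Agent.S2119
import Cfsg.Agent.S0243
import Cfsg.Agent.S0245
import Cfsg.Agent.S0280
import Cfsg.Agent.S2600
import Cfsg.Agent.S2601
import Cfsg.Agent.S2603

/-! Orders. -/

set_option autoImplicit false

namespace Cfsg.Lib.D8.End

open Subgroup Function

section Fields

variable {F : Type*} [Field F] [Fintype F]

theorem q_cases (h : Fintype.card F % 16 = 7 ∨ Fintype.card F % 16 = 9)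
    (hd : Nat.card (Matrix.ProjectiveSpecialLinearGroup (Fin 2) F) ∣
      2 ^ 11 * 3 ^ 5 * 5 ^ 3 * 7 ^ 3 * 11 * 17 * 31) :
    Fintype.card F = 7 ∨ Fintype.card F = 9 := by
  have h1 := Class.gcd_mul_card_PSL2 (F := F)
  rw [Nat.card_eq_fintype_card (α := F)] at h1
  obtain ⟨p, -, n, hp, hq⟩ := FiniteField.card' F
  generalize Fintype.card F = q at h hd h1 hq
  have h2 : q * (q - 1) * (q + 1) ∣ 2 * (2 ^ 11 * 3 ^ 5 * 5 ^ 3 * 7 ^ 3 * 11 * 17 * 31) :=
    h1 ▸ Nat.mul_dvd_mul (Nat.gcd_dvd_left _ _) hd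
  have h3 : q ∣ 3 ^ 5 * 5 ^ 3 * 7 ^ 3 * 11 * 17 * 31 := by
    have a : q ∣ 2 ^ 12 * (3 ^ 5 * 5 ^ 3 * 7 ^ 3 * 11 * 17 * 31) :=
      ((dvd_mul_right _ _).trans ((dvd_mul_right _ _).trans h2)).trans (by norm_num)
    exact ((Nat.coprime_two_right.2 (Nat.odd_iff.2 (by omega))).pow_right 12).dvd_of_dvd_mul_left a
  have h4 : p ∈ [3, 5, 7, 11, 17, 31] := by
    have a : p ∣ [3, 3, 3, 3, 3, 5, 5, 5, 7, 7, 7, 11, 17, 31].prod :=
      ((hq ▸ dvd_pow_self p n.ne_zero).trans h3).trans (by norm_num)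
    obtain ⟨x, hx, b⟩ := hp.prime.dvd_prod_iff.1 a
    have c : x.Prime ∧ x ∈ [3, 5, 7, 11, 17, 31] := by
      simp only [List.mem_cons, List.not_mem_nil, or_false] at hx
      rcases hx with rfl | rfl | rfl | rfl | rfl | rfl | rfl | rfl | rfl | rfl | rfl | rfl | rfl |
        rfl <;> norm_num
    exact (Nat.prime_dvd_prime_iff_eq hp c.1).1 b ▸ c.2
  have h5 : (n : ℕ) < 6 := by
    by_contra a
    exact (by decide +kernel : ∀ p ∈ [3, 5, 7, 11, 17, 31],
      ¬ p ^ 6 ∣ 3 ^ 5 * 5 ^ 3 * 7 ^ 3 * 11 * 17 * 31) p h4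
        ((pow_dvd_pow p (not_lt.1 a)).trans (hq ▸ h3))
  subst hq
  exact (by decide +kernel : ∀ p ∈ [3, 5, 7, 11, 17, 31], ∀ n < 6,
    (p ^ n % 16 = 7 ∨ p ^ n % 16 = 9) → p ^ n * (p ^ n - 1) * (p ^ n + 1) ∣
      2 * (2 ^ 11 * 3 ^ 5 * 5 ^ 3 * 7 ^ 3 * 11 * 17 * 31) → p ^ n = 7 ∨ p ^ n = 9) p h4 n h5 h h2

theorem card_L7 (h : Fintype.card F = 7) :
    Nat.card (Matrix.ProjectiveSpecialLinearGroup (Fin 2) F) = 168 ∧
      Nat.card (MulAut (Matrix.ProjectiveSpecialLinearGroup (Fin 2) F)) = 336 := by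
  have := Fact.mk (by norm_num : Nat.Prime 7)
  have h1 := Class.gcd_mul_card_PSL2 (F := F)
  have h2 := Agent.S0813.result (F := F) 7 1 le_rfl h 2 le_rfl (by norm_num)
  rw [Class.card_PGL2] at h2
  rw [Nat.card_eq_fintype_card (α := F), h] at h1 h2
  norm_num at h1 h2
  exact ⟨by simpa using (by omega), by simpa using h2⟩

theorem card_L9 (h : Fintype.card F = 9) :
    Nat.card (Matrix.ProjectiveSpecialLinearGroup (Fin 2) F) = 360 ∧
      Nat.card (MulAut (Matrix.ProjectiveSpecialLinearGroup (Fin 2) F)) = 1440 := by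
  have := Fact.mk Nat.prime_three
  have h1 := Class.gcd_mul_card_PSL2 (F := F)
  have h2 := Agent.S0813.result (F := F) 3 2 one_le_two h 2 le_rfl (by norm_num)
  rw [Class.card_PGL2] at h2
  rw [Nat.card_eq_fintype_card (α := F), h] at h1 h2
  norm_num at h1 h2
  exact ⟨by simpa using (by omega), by simpa using h2⟩

theorem card_A7 : Nat.card (alternatingGroup (Fin 7)) = 2520 ∧
    Nat.card (MulAut (alternatingGroup (Fin 7))) = 5040 := by
  have h1 := two_mul_nat_card_alternatingGroup (α := Fin 7)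
  have h2 : Nat.card (Equiv.Perm (Fin 7)) = 5040 := by
    rw [Nat.card_perm, Nat.card_eq_fintype_card, Fintype.card_fin]; rfl
  exact ⟨by omega, (Nat.card_congr (Equiv.ofBijective _
    (Agent.S2119.result 7 (by norm_num) (by norm_num)))).symm.trans h2⟩

theorem card_A6 : Nat.card (alternatingGroup (Fin 6)) = 360 := by
  have h1 := two_mul_nat_card_alternatingGroup (α := Fin 6)
  have h2 : Nat.card (Equiv.Perm (Fin 6)) = 720 := by
    rw [Nat.card_perm, Nat.card_eq_fintype_card, Fintype.card_fin]; rfl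
  omega

theorem data_sp (h : Fintype.card F = 4) : Nat.card (PSp 2 F) ∣ 979200 ∧
    IsCyclic (Out (PSp 2 F)) ∧ Nat.card (Out (PSp 2 F)) = 4 := by
  refine ⟨(card_quotient_dvd_card _).trans (dvd_of_eq ?_),
    Agent.S2600.result (f := 2) one_le_two h⟩
  rw [Agent.S0245.result h 2]; decide +kernel

theorem data_u (h : Fintype.card F = 4) : Nat.card (PSU 5 F 2) = 13685760 ∧
    Nat.card (Out (PSU 5 F 2)) = 2 := by
  have := Fact.mk Nat.prime_two
  have h1 := Agent.S0280.result (F := F) (q := 2) h 5 (by norm_num)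
  obtain ⟨φ, a, -, b⟩ := Agent.S2603.result (K := F) (p := 2) (f := 1) (q := 2) (n := 5) le_rfl rfl h
    (by norm_num) (by norm_num)
  refine ⟨?_, ?_⟩
  · rw [show (2 ^ (5 * (5 - 1) / 2) * ∏ i ∈ Finset.range 5,
      if Even i then 2 ^ (i + 1) + 1 else 2 ^ (i + 1) - 1) = 41057280 by decide +kernel] at h1
    norm_num at h1
    simpa using (by omega)
  · rw [← card_mul_index φ.ker, b, index_ker, MonoidHom.range_eq_top.2 a, card_top,
      Nat.card_congr Multiplicative.toAdd, Nat.card_zmod]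
    rfl

theorem data_l (h : Fintype.card F = 2) :
    Nat.card (Matrix.ProjectiveSpecialLinearGroup (Fin 5) F) = 9999360 ∧
    Nat.card (Out (Matrix.ProjectiveSpecialLinearGroup (Fin 5) F)) = 2 := by
  have := Fact.mk Nat.prime_two
  have h1 := Agent.S0243.result (F := F) (q := 2) h 5 (by norm_num)
  obtain ⟨φ, a, -, b⟩ := Agent.S2601.result (F := F) (p := 2) (f := 1) (n := 5) le_rfl h
    (by norm_num)
  refine ⟨?_, ?_⟩
  · rw [show (∏ i : Fin 5, (2 ^ 5 - 2 ^ (i : ℕ))) = 9999360 by decide +kernel] at h1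
    simpa using h1
  · rw [← card_mul_index φ.ker, b, index_ker, MonoidHom.range_eq_top.2 a, card_top,
      Nat.card_congr Multiplicative.toAdd, Nat.card_prod, Nat.card_zmod, Nat.card_zmod]
    rfl

end Fields

variable {Q : Type*} [Group Q] [Finite Q]

theorem card_dvd_aut {L : Subgroup Q} [L.Normal] {s : Q} (hs : s ^ 2 = 1)
    (h : centralizer (L : Set Q) = zpowers s) : Nat.card Q ∣ 2 * Nat.card (MulAut L) := by
  have k : (MulAut.conjNormal : Q →* MulAut L).ker ≤ zpowers s := fun g hg => h.le fun x hx => by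
    have := congrArg Subtype.val (DFunLike.congr_fun (MonoidHom.mem_ker.1 hg) ⟨x, hx⟩)
    exact (mul_inv_eq_iff_eq_mul.1 this).symm
  rw [← card_mul_index (MulAut.conjNormal : Q →* MulAut L).ker, index_ker]
  refine Nat.mul_dvd_mul ((card_dvd_of_le k).trans ?_) (card_subgroup_dvd_card _)
  rw [Nat.card_zpowers]
  exact orderOf_dvd_of_pow_eq_one hs

theorem two_pow_dvd {k : ℕ} (h : 2 ^ k ∣ Nat.card Q) : 2 ^ k ∣ Nat.card (Q ⧸ oddCore Q) := by
  rw [card_eq_card_quotient_mul_card_subgroup (oddCore Q)] at h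
  exact ((Nat.coprime_two_left.2 (Solv.odd_card_oddCore Q)).pow_left k).dvd_of_dvd_mul_right h

theorem dvd_of_tri {p : ℕ} (hp : p.Prime) {x y : Q} (h1 : x ≠ 1) (h2 : x ^ 2 = 1) (h3 : y ^ 3 = 1)
    (h : (x * y) ^ p = 1) : p ∣ Nat.card (Q ⧸ oddCore Q) := by
  have := Fact.mk hp
  have := Fact.mk Nat.prime_two
  let π := QuotientGroup.mk' (oddCore Q)
  have a : π (x * y) ≠ 1 := fun e => by
    have b : π y = π x := by
      rw [map_mul] at e
      rw [eq_inv_of_mul_eq_one_right e, inv_eq_of_mul_eq_one_right (show π x * π x = 1 by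
        rw [← map_mul, ← pow_two, h2, map_one])]
    have c : π x = 1 := by
      have := congrArg π h3
      rwa [map_pow, b, pow_succ, ← map_pow, h2, map_one, one_mul] at this
    have d := orderOf_dvd_natCard (⟨x, (QuotientGroup.eq_one_iff x).1 c⟩ : oddCore Q)
    rw [orderOf_mk, orderOf_eq_prime h2 h1] at d
    exact (Nat.not_even_iff_odd.2 (Solv.odd_card_oddCore Q)) (even_iff_two_dvd.2 d)
  rw [← orderOf_eq_prime (show π (x * y) ^ p = 1 by rw [← map_pow, h, map_one]) a]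
  exact orderOf_dvd_natCard _

theorem ltype {s : Q} (hs : s ^ 2 = 1)
    (hL : (∃ (F : Type) (_ : Field F) (_ : Fintype F),
      (Fintype.card F % 16 = 7 ∨ Fintype.card F % 16 = 9) ∧
        Nonempty (layer Q ≃* Matrix.ProjectiveSpecialLinearGroup (Fin 2) F)) ∨
      Nonempty (layer Q ≃* alternatingGroup (Fin 7)))
    (hCL : centralizer (layer Q : Set Q) = zpowers s)
    (hd : Nat.card Q ∣ 2 ^ 11 * 3 ^ 5 * 5 ^ 3 * 7 ^ 3 * 11 * 17 * 31) :
    (7 ∣ Nat.card Q ∧ Nat.card Q ∣ 672) ∨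
    ((∃ (F : Type) (_ : Field F) (_ : Fintype F), Fintype.card F = 9 ∧
      Nonempty (layer Q ≃* Matrix.ProjectiveSpecialLinearGroup (Fin 2) F)) ∧ Nat.card Q ∣ 2880) ∨
    (Nonempty (layer Q ≃* alternatingGroup (Fin 7)) ∧ 7 ∣ Nat.card Q ∧ Nat.card Q ∣ 10080) := by
  have := Trans.layer_normal Q
  have a := card_dvd_aut hs hCL
  have b := card_subgroup_dvd_card (layer Q)
  rcases hL with ⟨F, _, _, h, ⟨e⟩⟩ | ⟨⟨e⟩⟩
  all_goals rw [Nat.card_congr (MulAut.congr e).toEquiv] at a; rw [Nat.card_congr e.toEquiv] at b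
  · rcases q_cases h (b.trans hd) with h | h
    · rw [(card_L7 h).1] at b
      rw [(card_L7 h).2] at a
      exact .inl ⟨Dvd.dvd.trans (by norm_num) b, a⟩
    · rw [(card_L9 h).2] at a
      exact .inr (.inl ⟨⟨F, _, _, h, ⟨e⟩⟩, a⟩)
  · rw [card_A7.1] at b
    rw [card_A7.2] at a
    exact .inr (.inr ⟨⟨e⟩, Dvd.dvd.trans (by norm_num) b, a⟩)

end Cfsg.Lib.D8.End
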