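import Cfsg.Agent.D8.Chk
import Cfsg.Agent.GHM.Tool
import Cfsg.Agent.Trans.SylowIn

/-!
# Abstract Frattini and lifting lemmas
-/

set_option autoImplicit false

namespace Cfsg.Lib.D8

open Subgroup Cfsg.Lib.Trans Cfsg.Lib.Gold

variable {G : Type*} [Group G] {gs : List G}

theorem Up.mul {g w : G} (h : Up gs g) (hw : w ∈ gen gs) : Up gs (g * w) := by
  obtain ⟨h1, h2, h3⟩ := h
  refine ⟨fun x hx => ?_, fun k => h2 ?_, ?_⟩
  · have := mul_mem (mul_mem (inv_mem hw) (h1 x hx)) hw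
    rwa [show w⁻¹ * (g⁻¹ * x * g) * w = (g * w)⁻¹ * x * (g * w) by group] at this
  · simpa using mul_mem k (inv_mem hw)
  · have := mul_mem (mul_mem h3 (h1 w hw)) hw
    rwa [show g * g * (g⁻¹ * w * g) * w = g * w * (g * w) by group] at this

theorem fra_ns [Finite G] {S : Set G} {K : Subgroup G} {g : G} (hK : K = closure S)
    (h : ∀ b ∈ S, g⁻¹ * b * g ∈ K) : g ∈ Ns K := by
  have : g⁻¹ ∈ Ns K := by
    refine mem_normalizer_fintype fun n hn => ?_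
    rw [inv_inv]
    have hn' : n ∈ closure S := hK ▸ hn
    clear hn
    induction hn' using closure_induction with
    | mem x hx => exact h x hx
    | one => simp
    | mul x y _ _ hx hy =>
      have := mul_mem hx hy
      rwa [show g⁻¹ * x * g * (g⁻¹ * y * g) = g⁻¹ * (x * y) * g by group] at this
    | inv x _ hx =>
      have := inv_mem hx
      rwa [show (g⁻¹ * x * g)⁻¹ = g⁻¹ * x⁻¹ * g by group] at this
  simpa using inv_mem this

theorem fra_cj_mem {bs as : List G} {g b : G} (hg : Cj g bs as) (hb : b ∈ bs) :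
    g⁻¹ * b * g ∈ as := by
  induction hg with
  | nil => exact absurd hb (by simp)
  | cons e _ ih =>
    rcases List.mem_cons.1 hb with rfl | hb
    · exact e ▸ List.mem_cons_self
    · exact List.mem_cons_of_mem _ (ih hb)

theorem fra_cj_congr {bs as : List G} {g k : G} (hg : Cj g bs as)
    (h : ∀ b ∈ bs, k⁻¹ * b * k = g⁻¹ * b * g) : Cj k bs as := by
  induction hg with
  | nil => exact List.Forall₂.nil
  | cons e _ ih =>
    exact List.Forall₂.cons ((h _ List.mem_cons_self).trans e)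
      (ih fun b hb => h b (List.mem_cons_of_mem _ hb))

theorem fra_cs (bs : List G) : Cs (gen bs) = centralizer {x | x ∈ bs} := centralizer_closure _

theorem fra_cj_mul {bs as : List G} {g c : G} (hg : Cj g bs as) (ha : ∀ a ∈ as, a ∈ gen bs)
    (hc : c ∈ Cs (gen bs)) : Cj (g * c) bs as := by
  refine fra_cj_congr hg fun b hb => ?_
  have := mem_centralizer_iff.1 hc _ (ha _ (fra_cj_mem hg hb))
  calc (g * c)⁻¹ * b * (g * c) = c⁻¹ * (g⁻¹ * b * g * c) := by group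
    _ = c⁻¹ * (c * (g⁻¹ * b * g)) := by rw [this]
    _ = g⁻¹ * b * g := by group

theorem fra_setup [Finite G] {bs as qs : List G} {g : G} (hQ : IsPGroup 2 (gen qs))
    (hm : MaxC bs qs) (hg : Cj g bs as) (ha : ∀ a ∈ as, a ∈ gen bs)
    (hn : ∀ q ∈ qs, (∀ b ∈ bs, q⁻¹ * b * q ∈ gen bs) ∧ ∃ q' ∈ gen qs,
      ∀ b ∈ bs, g⁻¹ * (q⁻¹ * b * q) * g = q'⁻¹ * (g⁻¹ * b * g) * q') :
    gen qs ≤ Ns (Cs (gen bs)) ∧ g ∈ Ns (Cs (gen bs) ⊔ gen qs) ∧
      IsSylowIn 2 (gen qs) (Cs (gen bs) ⊔ gen qs) := by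
  have : Fact (Nat.Prime 2) := ⟨Nat.prime_two⟩
  have gB : g ∈ Ns (gen bs) := fra_ns rfl fun b hb => ha _ (fra_cj_mem hg hb)
  have gC : g ∈ Ns (Cs (gen bs)) := Trans.normalizer_le_normalizer_centralizer _ gB
  have QB : gen qs ≤ Ns (gen bs) := (closure_le _).2 fun q hq => fra_ns rfl (hn q hq).1
  have QC : gen qs ≤ Ns (Cs (gen bs)) := QB.trans (Trans.normalizer_le_normalizer_centralizer _)
  refine ⟨QC, ?_, ?_⟩
  · refine fra_ns (S := (Cs (gen bs) : Set G) ∪ {x | x ∈ qs})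
      (by rw [Subgroup.closure_union, Subgroup.closure_eq]) ?_
    rintro x (hx | hx)
    · exact mem_sup_left (mem_normalizer_conj' gC hx)
    · obtain ⟨q', hq', e⟩ := (hn x hx).2
      have k : g * (g⁻¹ * x * g * q'⁻¹) * g⁻¹ ∈ Cs (gen bs) := by
        rw [fra_cs]
        refine mem_centralizer_iff.2 fun b hb => ?_
        have e' := e b hb
        calc b * (g * (g⁻¹ * x * g * q'⁻¹) * g⁻¹)
            = x * g * (g⁻¹ * (x⁻¹ * b * x) * g) * q'⁻¹ * g⁻¹ := by group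
          _ = x * g * (q'⁻¹ * (g⁻¹ * b * g) * q') * q'⁻¹ * g⁻¹ := by rw [e']
          _ = g * (g⁻¹ * x * g * q'⁻¹) * g⁻¹ * b := by group
      have k2 := mem_normalizer_conj' gC k
      have := mul_mem (mem_sup_left k2 : _ ∈ Cs (gen bs) ⊔ gen qs) (mem_sup_right hq')
      rwa [show g⁻¹ * (g * (g⁻¹ * x * g * q'⁻¹) * g⁻¹) * g * q' = g⁻¹ * x * g by group] at this
  · refine isSylowIn_of_maximal le_sup_right hQ fun V hV h1 h2 v hv => ?_
    obtain ⟨c, hc, q, hq, rfl⟩ := (Solv.Coprime.mem_sup_iff QC).1 (h2 hv)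
    have hcV : c ∈ V := by simpa using mul_mem hv (inv_mem (h1 hq))
    have := hm (V ⊓ Cs (gen bs)) (hV.to_le inf_le_left) (fra_cs bs ▸ inf_le_right)
      (le_inf (inf_le_right.trans h1) (fra_cs bs ▸ inf_le_left))
    exact mul_mem (this ⟨hcV, hc⟩) hq

theorem frat_abs [Finite G] {bs as qs : List G} {g : G} (hQ : IsPGroup 2 (gen qs))
    (hm : MaxC bs qs) (hg : Cj g bs as) (ha : ∀ a ∈ as, a ∈ gen bs)
    (hn : ∀ q ∈ qs, (∀ b ∈ bs, q⁻¹ * b * q ∈ gen bs) ∧ ∃ q' ∈ gen qs,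
      ∀ b ∈ bs, g⁻¹ * (q⁻¹ * b * q) * g = q'⁻¹ * (g⁻¹ * b * g) * q') :
    ∃ k, Cj k bs as ∧ ∀ x ∈ gen qs, k⁻¹ * x * k ∈ gen qs := by
  have : Fact (Nat.Prime 2) := ⟨Nat.prime_two⟩
  obtain ⟨QC, gK, hS⟩ := fra_setup hQ hm hg ha hn
  obtain ⟨n, hnN, k, hk, e⟩ := hS.frattini' gK
  obtain ⟨q, hq, c, hc, rfl⟩ := (Solv.Coprime.mem_sup_iff' QC).1 hk
  refine ⟨g * c⁻¹, fra_cj_mul hg ha (inv_mem hc), fun x hx => ?_⟩
  have : g * c⁻¹ = n * q := by rw [e]; group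
  rw [this]
  exact mem_normalizer_conj' (mul_mem hnN (le_normalizer hq)) hx

theorem lift_abs [Finite G] {bs as qs : List G} {g : G} (hQ : IsPGroup 2 (gen qs))
    (hm : MaxC bs qs) (hg : Cj g bs as) (ha : ∀ a ∈ as, a ∈ gen bs)
    (hn : ∀ q ∈ qs, (∀ b ∈ bs, q⁻¹ * b * q ∈ gen bs) ∧ ∃ q' ∈ gen qs,
      ∀ b ∈ bs, g⁻¹ * (q⁻¹ * b * q) * g = q'⁻¹ * (g⁻¹ * b * g) * q')
    (h1 : ∀ w ∈ gen qs, ¬ Cj w bs as)
    (h2 : ∃ w ∈ gen qs, ∀ b ∈ bs, g⁻¹ * (g⁻¹ * b * g) * g = w⁻¹ * b * w) :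
    ∃ k, Cj k bs as ∧ Up qs k := by
  have : Fact (Nat.Prime 2) := ⟨Nat.prime_two⟩
  obtain ⟨QC, gK, hS⟩ := fra_setup hQ hm hg ha hn
  set K := Cs (gen bs) ⊔ gen qs with hK
  have g1 : ∀ b ∈ K, g * b * g⁻¹ ∈ K := fun b hb => mem_normalizer_conj gK hb
  have g2 : g * g ∈ K := by
    obtain ⟨w, hw, e⟩ := h2
    have k : g * g * w⁻¹ ∈ Cs (gen bs) := by
      rw [fra_cs]
      refine mem_centralizer_iff.2 fun b hb => ?_
      calc b * (g * g * w⁻¹) = g * g * (g⁻¹ * (g⁻¹ * b * g) * g) * w⁻¹ := by group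
        _ = g * g * (w⁻¹ * b * w) * w⁻¹ := by rw [e b hb]
        _ = g * g * w⁻¹ * b := by group
    have := mul_mem (mem_sup_left k : _ ∈ K) (mem_sup_right hw)
    rwa [inv_mul_cancel_right] at this
  have g3 : g ∉ K := fun h => by
    obtain ⟨q, hq, c, hc, e⟩ := (Solv.Coprime.mem_sup_iff' QC).1 h
    have := fra_cj_mul hg ha (inv_mem hc)
    rw [← e, mul_inv_cancel_right] at this
    exact h1 q hq this
  obtain ⟨T, hT, hQT⟩ := exists_isSylowIn_ge (H := K ⊔ zpowers g) hQ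
    (le_sup_right.trans le_sup_left)
  have nT : ¬ T ≤ gen qs := fun h => by
    refine hT.not_dvd_relIndex_of_le (h.trans (le_sup_right : gen qs ≤ K)) ?_
    have e1 := card_mul_relIndex (le_sup_left : K ≤ K ⊔ zpowers g)
    rw [GHB.card_adj g1 g2 g3, mul_comm 2] at e1
    rw [Nat.eq_of_mul_eq_mul_left Nat.card_pos e1]
  obtain ⟨x, hxT, hxN, hxQ, hxx⟩ := GHM.grow2 hT.isPGroup hQT nT
  have hxK : x ∉ K := fun h => hxQ (hS.eq_inf hT.isPGroup hQT ▸ (⟨hxT, h⟩ : x ∈ T ⊓ K))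
  obtain ⟨c, hc, q, hq, e⟩ := (Solv.Coprime.mem_sup_iff QC).1
    (((GHB.mem_adj g1 g2).1 (hT.le hxT)).resolve_left hxK)
  have up : Up qs x := ⟨fun y hy => mem_normalizer_conj' hxN hy, hxQ, hxx⟩
  refine ⟨g * c, fra_cj_mul hg ha hc, ?_⟩
  have : g * c = x * q⁻¹ := by
    rw [← mul_inv_cancel_left g x, ← e]; group
  rw [this]
  exact up.mul (inv_mem hq)

theorem syl_or_up [Finite G] (hP : IsPGroup 2 (gen gs)) : Syl gs ∨ ∃ k, Up gs k := by
  have : Fact (Nat.Prime 2) := ⟨Nat.prime_two⟩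
  obtain ⟨T, hT⟩ := hP.exists_le_sylow
  by_cases h : (T : Subgroup G) ≤ gen gs
  · exact Or.inl ⟨T, le_antisymm h hT⟩
  · obtain ⟨x, -, hxN, hxQ, hxx⟩ := GHM.grow2 T.isPGroup' hT h
    exact Or.inr ⟨x, fun y hy => mem_normalizer_conj' hxN hy, hxQ, hxx⟩

end Cfsg.Lib.D8
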