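import Cfsg.Agent.D8.Chk3
import Cfsg.Agent.Solv.FrattiniP

/-!
# Words lying in every subgroup of index at most four of a 2-group
-/

set_option autoImplicit false

namespace Cfsg.Lib.D8

open Subgroup

theorem sq_mem {C : Type*} [Group C] [Finite C] {H : Subgroup C} (h : H.index ≤ 2) (x : C) :
    x * x ∈ H := by
  have h0 : H.index ≠ 0 := index_ne_zero_of_finite
  by_cases h1 : H.index = 1
  · rw [index_eq_one.1 h1]
    exact mem_top _
  · exact mul_self_mem_of_index_two (by omega) x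

theorem exists_idx2 {C : Type*} [Group C] [Finite C] (hC : IsPGroup 2 C) {H : Subgroup C}
    (h : H ≠ ⊤) : ∃ K : Subgroup C, H ≤ K ∧ K.index = 2 := by
  have : Fact (Nat.Prime 2) := ⟨Nat.prime_two⟩
  obtain ⟨K, hK, hle⟩ := (eq_top_or_exists_le_coatom H).resolve_left h
  exact ⟨K, hle, Solv.index_eq_of_isCoatom_of_isPGroup hC hK⟩

theorem mul_iff_of_relIndex {C : Type*} [Group C] [Finite C] {H K : Subgroup C}
    (h : H.relIndex K ≤ 2) {a b : C} (ha : a ∈ K) (hb : b ∈ K) : a * b ∈ H ↔ (a ∈ H ↔ b ∈ H) := by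
  have h0 : H.relIndex K ≠ 0 := index_ne_zero_of_finite
  by_cases h1 : H.relIndex K = 1
  · have hle := relIndex_eq_one.1 h1
    exact iff_of_true (hle (K.mul_mem ha hb)) (iff_of_true (hle ha) (hle hb))
  · exact mul_mem_iff_of_index_two (H := H.subgroupOf K) (by change H.relIndex K = 2; omega)
      (a := ⟨a, ha⟩) (b := ⟨b, hb⟩)

theorem law_mem {C : Type*} [Group C] [Finite C] (hC : IsPGroup 2 C) {H : Subgroup C}
    (h : H.index ≤ 4) (x y : C) : x ^ 4 ∈ H ∧ (x * x)⁻¹ * (y⁻¹ * (x * x) * y) ∈ H := by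
  by_cases ht : H = ⊤
  · rw [ht]
    exact ⟨mem_top _, mem_top _⟩
  obtain ⟨K, hle, hK⟩ := exists_idx2 hC ht
  have hn : K.Normal := normal_of_index_eq_two hK
  have hr : H.relIndex K ≤ 2 := by
    have := relIndex_mul_index hle
    rw [hK] at this
    omega
  have hx2 : x * x ∈ K := mul_self_mem_of_index_two hK x
  have key : ∀ k ∈ K, (x * x)⁻¹ * (k⁻¹ * (x * x) * k) ∈ H := fun k hk => by
    rw [mul_iff_of_relIndex hr (K.inv_mem hx2) (hn.conj_mem' _ hx2 k),
      mul_iff_of_relIndex hr (K.mul_mem (K.inv_mem hk) hx2) hk,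
      mul_iff_of_relIndex hr (K.inv_mem hk) hx2, inv_mem_iff, inv_mem_iff]
    tauto
  refine ⟨?_, ?_⟩
  · rw [show x ^ 4 = x * x * (x * x) by simp only [pow_succ, pow_zero, one_mul, mul_assoc], mul_iff_of_relIndex hr hx2 hx2]
  · by_cases hx : x ∈ K
    · have h1 := hn.conj_mem' _ hx y
      refine H.mul_mem (H.inv_mem ((mul_iff_of_relIndex hr hx hx).2 Iff.rfl)) ?_
      rw [show y⁻¹ * (x * x) * y = y⁻¹ * x * y * (y⁻¹ * x * y) by group]
      exact (mul_iff_of_relIndex hr h1 h1).2 Iff.rfl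
    · by_cases hy : y ∈ K
      · exact key y hy
      · have h1 : x⁻¹ * y ∈ K := (mul_mem_iff_of_index_two hK).2
          (iff_of_false (fun h => hx (inv_mem_iff.1 h)) hy)
        have := key _ h1
        rwa [show (x⁻¹ * y)⁻¹ * (x * x) * (x⁻¹ * y) = y⁻¹ * (x * x) * y by group] at this

end Cfsg.Lib.D8
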