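import Cfsg.Agent.D8.R0D

set_option autoImplicit false
set_option maxRecDepth 100000
set_option linter.all false
set_option Elab.async false

namespace Cfsg.Lib.D8

noncomputable def M10001 : Md := ⟨5, 32, 2, 3,
(.n (.n (.l 0x1f01e01d01c01b01a01901801701601501401301201101000f00e00d00c00b00a009008007006005004003002001000) (.l 0x1d01c01f01e01901801b01a01501401701601101001301200d00c00f00e00900800b00a005004007006001000003002)) (.n (.l 0x1e01f01c01d01a01b01801901601701401501201301001100e00f00c00d00a00b008009006007004005002003000001) (.l 0x1c01d01e01f01801901a01b01401501601701001101201300c00d00e00f00800900a00b004005006007000001002003))),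
(.n (.n (.n (.l 0x1f01e01d01c01b01a01901801701601501401301201101000f00e00d00c00b00a009008007006005004003002001000) (.l 0xf00e00d00c00b00a00900800700600500400300200100001f01e01d01c01b01a019018017016015014013012011010)) (.n (.l 0x1501401701601101001301201d01c01f01e01901801b01a00700600500400300200100000f00e00d00c00b00a009008) (.l 0x500400700600100000300200d00c00f00e00900800b00a01701601501401301201101001f01e01d01c01b01a019018))) (.n (.n (.l 0x1b01a01901801f01e01d01c01301201101001701601501400b00a00900800f00e00d00c003002001000007006005004) (.l 0xb00a00900800f00e00d00c00300200100000700600500401b01a01901801f01e01d01c013012011010017016015014)) (.n (.l 0x1101001301201501401701601901801b01a01d01c01f01e00300200100000700600500400b00a00900800f00e00d00c) (.l 0x100000300200500400700600900800b00a00d00c00f00e01301201101001701601501401b01a01901801f01e01d01c)))),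
0x1d01c01f01e01901801b01a01701601501401301201101000f00e00d00c00b00a009008007006005004003002001000,
0xf00e00f00e00d00c00d00c00b00a00b00a009008009008007006005004003002001000,
0x8008000000008008000000010010000000010010000000000000000000000000000000⟩
theorem ok10001 : chkMd M10001 D10001 = true := by decide +kernel


end Cfsg.Lib.D8
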