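import Cfsg.Agent.D8.R0C1

set_option autoImplicit false
set_option maxRecDepth 100000
set_option linter.all false
set_option Elab.async false

namespace Cfsg.Lib.D8

theorem c10002517 : chkSyl M10001 D10001 E10002515 [1,2,4,8,16] 0 [3,4,5,6,7,9,12,13,17,20,21] [⟨3,0,[⟨4,0,0,1⟩,⟨2,1,0,0⟩],0,0,false⟩,⟨3,0,[⟨0,2,2,0⟩,⟨1,0,0,0⟩,⟨2,0,0,0⟩,⟨2,1,0,0⟩,⟨2,2,0,0⟩,⟨2,3,0,0⟩],0,0,false⟩,⟨3,0,[⟨4,0,0,2⟩,⟨4,2,0,3⟩,⟨0,4,4,0⟩,⟨2,1,0,0⟩,⟨2,3,0,0⟩,⟨2,4,0,0⟩,⟨2,5,0,0⟩,⟨2,6,0,0⟩,⟨2,7,0,0⟩],1,0,false⟩,⟨3,0,[⟨4,0,0,4⟩,⟨4,2,0,5⟩,⟨0,4,4,0⟩,⟨0,8,10,0⟩],1,0,true⟩] [([1,2,4,8,16],[3,2,7,8,21]),([1,2,4,8,16],[3,2,7,8,20]),([1,2,4,8,16],[3,2,7,8,17]),([1,2,4,8,16],[3,2,7,8,16]),([1,2,4,8,16],[3,2,7,9,21]),([1,2,4,8,16],[3,2,7,9,20]),([1,2,4,8,16],[3,2,7,9,17]),(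[1,2,4,8,16],[3,2,7,9,16]),([1,2,4,8,16],[3,2,7,12,21]),([1,2,4,8,16],[3,2,7,12,20]),([1,2,4,8,16],[3,2,7,12,17]),([1,2,4,8,16],[3,2,7,12,16]),([1,2,4,8,16],[3,2,7,13,21]),([1,2,4,8,16],[3,2,7,13,20]),([1,2,4,8,16],[3,2,7,13,17]),([1,2,4,8,16],[3,2,7,13,16]),([1,2,4,8,16],[3,2,7,16,13]),([1,2,4,8,16],[3,2,7,16,12]),([1,2,4,8,16],[3,2,7,16,9]),([1,2,4,8,16],[3,2,7,16,8]),([1,2,4,8,16],[3,2,7,17,13]),([1,2,4,8,16],[3,2,7,17,12]),([1,2,4,8,16],[3,2,7,17,9]),([1,2,4,8,16],[3,2,7,17,8]),([1,2,4,8,16],[3,2,7,20,13]),([1,2,4,8,16],[3,2,7,20,12]),([1,2,4,8,16],[3,2,7,20,9]),([1,2,4,8,16],[3,2,7,20,8]),([1,2,4,8,16],[3,2,7,21,13]),([1,2,4,8,16],[3,2,7,21,12]),([1,2,4,8,16],[3,2,7,21,9]),([1,2,4,8,16],[3,2,7,21,8]),([1,2,4,8,16],[3,2,6,8,20]),(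[1,2,4,8,16],[3,2,6,8,17]),([1,2,4,8,16],[3,2,6,9,21]),([1,2,4,8,16],[3,2,6,9,20]),([1,2,4,8,16],[3,2,6,9,17]),([1,2,4,8,16],[3,2,6,9,16]),([1,2,4,8,16],[3,2,6,12,21]),([1,2,4,8,16],[3,2,6,12,20]),([1,2,4,8,16],[3,2,6,12,17]),([1,2,4,8,16],[3,2,6,12,16]),([1,2,4,8,16],[3,2,6,13,20]),([1,2,4,8,16],[3,2,6,13,17]),([1,2,4,8,16],[3,2,6,16,13]),([1,2,4,8,16],[3,2,6,16,12]),([1,2,4,8,16],[3,2,6,16,9]),([1,2,4,8,16],[3,2,6,17,13]),([1,2,4,8,16],[3,2,6,17,12]),([1,2,4,8,16],[3,2,6,17,9]),([1,2,4,8,16],[3,2,6,17,8]),([1,2,4,8,16],[3,2,6,20,13]),([1,2,4,8,16],[3,2,6,20,9]),([1,2,4,8,16],[3,2,6,20,8]),([1,2,4,8,16],[3,2,6,21,13]),([1,2,4,8,16],[3,2,6,21,12]),([1,2,4,8,16],[3,2,6,21,9]),([1,2,4,8,16],[3,2,6,21,8]),([1,2,4,8,16],[3,2,5,8,21]),([1,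2,4,8,16],[3,2,5,8,20]),([1,2,4,8,16],[3,2,5,8,17]),([1,2,4,8,16],[3,2,5,8,16]),([1,2,4,8,16],[3,2,5,9,21]),([1,2,4,8,16],[3,2,5,9,20]),([1,2,4,8,16],[3,2,5,9,17]),([1,2,4,8,16],[3,2,5,9,16]),([1,2,4,8,16],[3,2,5,12,21]),([1,2,4,8,16],[3,2,5,12,20]),([1,2,4,8,16],[3,2,5,12,17]),([1,2,4,8,16],[3,2,5,12,16]),([1,2,4,8,16],[3,2,5,13,21]),([1,2,4,8,16],[3,2,5,13,20]),([1,2,4,8,16],[3,2,5,13,17]),([1,2,4,8,16],[3,2,5,13,16]),([1,2,4,8,16],[3,2,5,16,13]),([1,2,4,8,16],[3,2,5,16,12]),([1,2,4,8,16],[3,2,5,16,9]),([1,2,4,8,16],[3,2,5,16,8]),([1,2,4,8,16],[3,2,5,17,13]),([1,2,4,8,16],[3,2,5,17,12]),([1,2,4,8,16],[3,2,5,17,9]),([1,2,4,8,16],[3,2,5,17,8]),([1,2,4,8,16],[3,2,5,20,13]),([1,2,4,8,16],[3,2,5,20,12]),([1,2,4,8,16],[3,2,5,20,9]),([1,2,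4,8,16],[3,2,5,20,8]),([1,2,4,8,16],[3,2,5,21,13]),([1,2,4,8,16],[3,2,5,21,12]),([1,2,4,8,16],[3,2,5,21,9]),([1,2,4,8,16],[3,2,5,21,8]),([1,2,4,8,16],[3,2,4,8,21]),([1,2,4,8,16],[3,2,4,8,17]),([1,2,4,8,16],[3,2,4,9,21]),([1,2,4,8,16],[3,2,4,9,20]),([1,2,4,8,16],[3,2,4,9,17]),([1,2,4,8,16],[3,2,4,9,16]),([1,2,4,8,16],[3,2,4,12,21]),([1,2,4,8,16],[3,2,4,12,17]),([1,2,4,8,16],[3,2,4,13,21]),([1,2,4,8,16],[3,2,4,13,20]),([1,2,4,8,16],[3,2,4,13,17]),([1,2,4,8,16],[3,2,4,13,16]),([1,2,4,8,16],[3,2,4,16,13]),([1,2,4,8,16],[3,2,4,16,12]),([1,2,4,8,16],[3,2,4,16,9]),([1,2,4,8,16],[3,2,4,17,13]),([1,2,4,8,16],[3,2,4,17,12]),([1,2,4,8,16],[3,2,4,17,9]),([1,2,4,8,16],[3,2,4,17,8]),([1,2,4,8,16],[3,2,4,20,13]),([1,2,4,8,16],[3,2,4,20,12]),([1,2,4,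8,16],[3,2,4,20,9]),([1,2,4,8,16],[3,2,4,20,8]),([1,2,4,8,16],[3,2,4,21,12]),([1,2,4,8,16],[3,2,4,21,9]),([1,2,4,8,16],[3,2,4,21,8]),([1,2,4,8,16],[4,2,7,8,21]),([1,2,4,8,16],[4,2,7,8,20]),([1,2,4,8,16],[4,2,7,8,17]),([1,2,4,8,16],[4,2,7,8,16]),([1,2,4,8,16],[4,2,7,9,21]),([1,2,4,8,16],[4,2,7,9,20]),([1,2,4,8,16],[4,2,7,9,17]),([1,2,4,8,16],[4,2,7,9,16]),([1,2,4,8,16],[4,2,7,12,21]),([1,2,4,8,16],[4,2,7,12,20]),([1,2,4,8,16],[4,2,7,12,17]),([1,2,4,8,16],[4,2,7,12,16]),([1,2,4,8,16],[4,2,7,13,21]),([1,2,4,8,16],[4,2,7,13,20]),([1,2,4,8,16],[4,2,7,13,17]),([1,2,4,8,16],[4,2,7,13,16]),([1,2,4,8,16],[4,2,7,16,13]),([1,2,4,8,16],[4,2,7,16,12]),([1,2,4,8,16],[4,2,7,16,9]),([1,2,4,8,16],[4,2,7,16,8]),([1,2,4,8,16],[4,2,7,17,13]),([1,2,4,8,16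],[4,2,7,17,12]),([1,2,4,8,16],[4,2,7,17,9]),([1,2,4,8,16],[4,2,7,17,8]),([1,2,4,8,16],[4,2,7,20,13]),([1,2,4,8,16],[4,2,7,20,12]),([1,2,4,8,16],[4,2,7,20,9]),([1,2,4,8,16],[4,2,7,20,8]),([1,2,4,8,16],[4,2,7,21,13]),([1,2,4,8,16],[4,2,7,21,12]),([1,2,4,8,16],[4,2,7,21,9]),([1,2,4,8,16],[4,2,7,21,8]),([1,2,4,8,16],[4,2,5,8,21]),([1,2,4,8,16],[4,2,5,8,20]),([1,2,4,8,16],[4,2,5,8,17]),([1,2,4,8,16],[4,2,5,8,16]),([1,2,4,8,16],[4,2,5,9,21]),([1,2,4,8,16],[4,2,5,9,20]),([1,2,4,8,16],[4,2,5,9,17]),([1,2,4,8,16],[4,2,5,9,16]),([1,2,4,8,16],[4,2,5,12,21]),([1,2,4,8,16],[4,2,5,12,20]),([1,2,4,8,16],[4,2,5,12,17]),([1,2,4,8,16],[4,2,5,12,16]),([1,2,4,8,16],[4,2,5,13,21]),([1,2,4,8,16],[4,2,5,13,20]),([1,2,4,8,16],[4,2,5,13,17]),([1,2,4,8,16],[4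,2,5,13,16]),([1,2,4,8,16],[4,2,5,16,13]),([1,2,4,8,16],[4,2,5,16,12]),([1,2,4,8,16],[4,2,5,16,9]),([1,2,4,8,16],[4,2,5,16,8]),([1,2,4,8,16],[4,2,5,17,13]),([1,2,4,8,16],[4,2,5,17,12]),([1,2,4,8,16],[4,2,5,17,9]),([1,2,4,8,16],[4,2,5,17,8]),([1,2,4,8,16],[4,2,5,20,13]),([1,2,4,8,16],[4,2,5,20,12]),([1,2,4,8,16],[4,2,5,20,9]),([1,2,4,8,16],[4,2,5,20,8]),([1,2,4,8,16],[4,2,5,21,13]),([1,2,4,8,16],[4,2,5,21,12]),([1,2,4,8,16],[4,2,5,21,9]),([1,2,4,8,16],[4,2,5,21,8]),([1,2,4,8,16],[4,2,3,8,21]),([1,2,4,8,16],[4,2,3,8,20]),([1,2,4,8,16],[4,2,3,8,17]),([1,2,4,8,16],[4,2,3,8,16]),([1,2,4,8,16],[4,2,3,9,21]),([1,2,4,8,16],[4,2,3,9,20]),([1,2,4,8,16],[4,2,3,9,17]),([1,2,4,8,16],[4,2,3,9,16]),([1,2,4,8,16],[4,2,3,12,21]),([1,2,4,8,16],[4,2,3,1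2,20]),([1,2,4,8,16],[4,2,3,12,17]),([1,2,4,8,16],[4,2,3,12,16]),([1,2,4,8,16],[4,2,3,13,21]),([1,2,4,8,16],[4,2,3,13,20]),([1,2,4,8,16],[4,2,3,13,17]),([1,2,4,8,16],[4,2,3,13,16]),([1,2,4,8,16],[4,2,3,16,13]),([1,2,4,8,16],[4,2,3,16,12]),([1,2,4,8,16],[4,2,3,16,9]),([1,2,4,8,16],[4,2,3,17,13]),([1,2,4,8,16],[4,2,3,17,12]),([1,2,4,8,16],[4,2,3,17,9]),([1,2,4,8,16],[4,2,3,17,8]),([1,2,4,8,16],[4,2,3,20,13]),([1,2,4,8,16],[4,2,3,20,12]),([1,2,4,8,16],[4,2,3,20,9]),([1,2,4,8,16],[4,2,3,20,8]),([1,2,4,8,16],[4,2,3,21,13]),([1,2,4,8,16],[4,2,3,21,12]),([1,2,4,8,16],[4,2,3,21,9]),([1,2,4,8,16],[4,2,1,8,20]),([1,2,4,8,16],[4,2,1,8,17]),([1,2,4,8,16],[4,2,1,9,21]),([1,2,4,8,16],[4,2,1,9,20]),([1,2,4,8,16],[4,2,1,9,17]),([1,2,4,8,16],[4,2,1,9,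16]),([1,2,4,8,16],[4,2,1,12,21]),([1,2,4,8,16],[4,2,1,12,20]),([1,2,4,8,16],[4,2,1,12,17]),([1,2,4,8,16],[4,2,1,12,16]),([1,2,4,8,16],[4,2,1,13,21]),([1,2,4,8,16],[4,2,1,13,20]),([1,2,4,8,16],[4,2,1,13,17]),([1,2,4,8,16],[4,2,1,13,16]),([1,2,4,8,16],[4,2,1,16,13]),([1,2,4,8,16],[4,2,1,16,12]),([1,2,4,8,16],[4,2,1,16,9]),([1,2,4,8,16],[4,2,1,16,8]),([1,2,4,8,16],[4,2,1,17,13]),([1,2,4,8,16],[4,2,1,17,12]),([1,2,4,8,16],[4,2,1,17,9]),([1,2,4,8,16],[4,2,1,17,8]),([1,2,4,8,16],[4,2,1,20,13]),([1,2,4,8,16],[4,2,1,20,12]),([1,2,4,8,16],[4,2,1,20,9]),([1,2,4,8,16],[4,2,1,20,8]),([1,2,4,8,16],[4,2,1,21,13]),([1,2,4,8,16],[4,2,1,21,12]),([1,2,4,8,16],[4,2,1,21,9]),([1,2,4,8,16],[4,2,1,21,8]),([1,2,4,8,16],[5,2,6,8,21]),([1,2,4,8,16],[5,2,6,8,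20]),([1,2,4,8,16],[5,2,6,8,17]),([1,2,4,8,16],[5,2,6,8,16]),([1,2,4,8,16],[5,2,6,9,21]),([1,2,4,8,16],[5,2,6,9,20]),([1,2,4,8,16],[5,2,6,9,17]),([1,2,4,8,16],[5,2,6,9,16]),([1,2,4,8,16],[5,2,6,12,21]),([1,2,4,8,16],[5,2,6,12,20]),([1,2,4,8,16],[5,2,6,12,17]),([1,2,4,8,16],[5,2,6,12,16]),([1,2,4,8,16],[5,2,6,13,21]),([1,2,4,8,16],[5,2,6,13,20]),([1,2,4,8,16],[5,2,6,13,17]),([1,2,4,8,16],[5,2,6,13,16]),([1,2,4,8,16],[5,2,6,16,13]),([1,2,4,8,16],[5,2,6,16,12]),([1,2,4,8,16],[5,2,6,16,9]),([1,2,4,8,16],[5,2,6,17,13]),([1,2,4,8,16],[5,2,6,17,12]),([1,2,4,8,16],[5,2,6,17,9]),([1,2,4,8,16],[5,2,6,17,8]),([1,2,4,8,16],[5,2,6,20,13]),([1,2,4,8,16],[5,2,6,20,12]),([1,2,4,8,16],[5,2,6,20,9]),([1,2,4,8,16],[5,2,6,21,13]),([1,2,4,8,16],[5,2,6,21,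12]),([1,2,4,8,16],[5,2,6,21,9]),([1,2,4,8,16],[5,2,6,21,8]),([1,2,4,8,16],[5,2,4,8,21]),([1,2,4,8,16],[5,2,4,8,17]),([1,2,4,8,16],[5,2,4,9,21]),([1,2,4,8,16],[5,2,4,9,20]),([1,2,4,8,16],[5,2,4,9,17]),([1,2,4,8,16],[5,2,4,9,16]),([1,2,4,8,16],[5,2,4,12,21]),([1,2,4,8,16],[5,2,4,12,20]),([1,2,4,8,16],[5,2,4,12,17]),([1,2,4,8,16],[5,2,4,12,16]),([1,2,4,8,16],[5,2,4,13,21]),([1,2,4,8,16],[5,2,4,13,20]),([1,2,4,8,16],[5,2,4,13,17]),([1,2,4,8,16],[5,2,4,13,16]),([1,2,4,8,16],[5,2,4,16,13]),([1,2,4,8,16],[5,2,4,16,12]),([1,2,4,8,16],[5,2,4,16,9]),([1,2,4,8,16],[5,2,4,16,8]),([1,2,4,8,16],[5,2,4,17,13]),([1,2,4,8,16],[5,2,4,17,12]),([1,2,4,8,16],[5,2,4,17,9]),([1,2,4,8,16],[5,2,4,17,8]),([1,2,4,8,16],[5,2,4,20,13]),([1,2,4,8,16],[5,2,4,20,12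]),([1,2,4,8,16],[5,2,4,20,9]),([1,2,4,8,16],[5,2,4,20,8]),([1,2,4,8,16],[5,2,4,21,13]),([1,2,4,8,16],[5,2,4,21,12]),([1,2,4,8,16],[5,2,4,21,9]),([1,2,4,8,16],[5,2,4,21,8]),([1,2,4,8,16],[5,2,3,8,21]),([1,2,4,8,16],[5,2,3,8,20]),([1,2,4,8,16],[5,2,3,8,17]),([1,2,4,8,16],[5,2,3,8,16]),([1,2,4,8,16],[5,2,3,9,21]),([1,2,4,8,16],[5,2,3,9,20]),([1,2,4,8,16],[5,2,3,9,17]),([1,2,4,8,16],[5,2,3,9,16]),([1,2,4,8,16],[5,2,3,12,21]),([1,2,4,8,16],[5,2,3,12,20]),([1,2,4,8,16],[5,2,3,12,17]),([1,2,4,8,16],[5,2,3,12,16]),([1,2,4,8,16],[5,2,3,13,21]),([1,2,4,8,16],[5,2,3,13,20]),([1,2,4,8,16],[5,2,3,13,17]),([1,2,4,8,16],[5,2,3,13,16]),([1,2,4,8,16],[5,2,3,16,13]),([1,2,4,8,16],[5,2,3,16,12]),([1,2,4,8,16],[5,2,3,16,9]),([1,2,4,8,16],[5,2,3,16,8]),(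[1,2,4,8,16],[5,2,3,17,13]),([1,2,4,8,16],[5,2,3,17,12]),([1,2,4,8,16],[5,2,3,17,9]),([1,2,4,8,16],[5,2,3,17,8]),([1,2,4,8,16],[5,2,3,20,13]),([1,2,4,8,16],[5,2,3,20,12]),([1,2,4,8,16],[5,2,3,20,9]),([1,2,4,8,16],[5,2,3,20,8]),([1,2,4,8,16],[5,2,3,21,13]),([1,2,4,8,16],[5,2,3,21,12]),([1,2,4,8,16],[5,2,3,21,9]),([1,2,4,8,16],[5,2,3,21,8]),([1,2,4,8,16],[5,2,1,8,21]),([1,2,4,8,16],[5,2,1,8,20]),([1,2,4,8,16],[5,2,1,8,17]),([1,2,4,8,16],[5,2,1,8,16]),([1,2,4,8,16],[5,2,1,9,21]),([1,2,4,8,16],[5,2,1,9,20]),([1,2,4,8,16],[5,2,1,9,17]),([1,2,4,8,16],[5,2,1,9,16]),([1,2,4,8,16],[5,2,1,12,21]),([1,2,4,8,16],[5,2,1,12,20]),([1,2,4,8,16],[5,2,1,12,17]),([1,2,4,8,16],[5,2,1,12,16]),([1,2,4,8,16],[5,2,1,13,21]),([1,2,4,8,16],[5,2,1,13,20]),([1,2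,4,8,16],[5,2,1,13,17]),([1,2,4,8,16],[5,2,1,13,16]),([1,2,4,8,16],[5,2,1,16,13]),([1,2,4,8,16],[5,2,1,16,12]),([1,2,4,8,16],[5,2,1,16,9]),([1,2,4,8,16],[5,2,1,16,8]),([1,2,4,8,16],[5,2,1,17,13]),([1,2,4,8,16],[5,2,1,17,12]),([1,2,4,8,16],[5,2,1,17,9]),([1,2,4,8,16],[5,2,1,17,8]),([1,2,4,8,16],[5,2,1,20,13]),([1,2,4,8,16],[5,2,1,20,12]),([1,2,4,8,16],[5,2,1,20,9]),([1,2,4,8,16],[5,2,1,20,8]),([1,2,4,8,16],[5,2,1,21,13]),([1,2,4,8,16],[5,2,1,21,12]),([1,2,4,8,16],[5,2,1,21,9]),([1,2,4,8,16],[5,2,1,21,8]),([1,2,4,8,16],[6,2,7,8,21]),([1,2,4,8,16],[6,2,7,8,20]),([1,2,4,8,16],[6,2,7,8,17]),([1,2,4,8,16],[6,2,7,8,16]),([1,2,4,8,16],[6,2,7,9,21]),([1,2,4,8,16],[6,2,7,9,20]),([1,2,4,8,16],[6,2,7,9,17]),([1,2,4,8,16],[6,2,7,9,16]),([1,2,4,8,1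6],[6,2,7,12,21]),([1,2,4,8,16],[6,2,7,12,20]),([1,2,4,8,16],[6,2,7,12,17]),([1,2,4,8,16],[6,2,7,12,16]),([1,2,4,8,16],[6,2,7,13,21]),([1,2,4,8,16],[6,2,7,13,20]),([1,2,4,8,16],[6,2,7,13,17]),([1,2,4,8,16],[6,2,7,13,16]),([1,2,4,8,16],[6,2,7,16,13]),([1,2,4,8,16],[6,2,7,16,12]),([1,2,4,8,16],[6,2,7,16,9]),([1,2,4,8,16],[6,2,7,16,8]),([1,2,4,8,16],[6,2,7,17,13]),([1,2,4,8,16],[6,2,7,17,12]),([1,2,4,8,16],[6,2,7,17,9]),([1,2,4,8,16],[6,2,7,17,8]),([1,2,4,8,16],[6,2,7,20,13]),([1,2,4,8,16],[6,2,7,20,12]),([1,2,4,8,16],[6,2,7,20,9]),([1,2,4,8,16],[6,2,7,20,8]),([1,2,4,8,16],[6,2,7,21,13]),([1,2,4,8,16],[6,2,7,21,12]),([1,2,4,8,16],[6,2,7,21,9]),([1,2,4,8,16],[6,2,7,21,8]),([1,2,4,8,16],[6,2,5,8,21]),([1,2,4,8,16],[6,2,5,8,20]),([1,2,4,8,1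6],[6,2,5,8,17]),([1,2,4,8,16],[6,2,5,8,16]),([1,2,4,8,16],[6,2,5,9,21]),([1,2,4,8,16],[6,2,5,9,20]),([1,2,4,8,16],[6,2,5,9,17]),([1,2,4,8,16],[6,2,5,9,16]),([1,2,4,8,16],[6,2,5,12,21]),([1,2,4,8,16],[6,2,5,12,20]),([1,2,4,8,16],[6,2,5,12,17]),([1,2,4,8,16],[6,2,5,12,16]),([1,2,4,8,16],[6,2,5,13,21]),([1,2,4,8,16],[6,2,5,13,20]),([1,2,4,8,16],[6,2,5,13,17]),([1,2,4,8,16],[6,2,5,13,16]),([1,2,4,8,16],[6,2,5,16,13]),([1,2,4,8,16],[6,2,5,16,12]),([1,2,4,8,16],[6,2,5,16,9]),([1,2,4,8,16],[6,2,5,16,8]),([1,2,4,8,16],[6,2,5,17,13]),([1,2,4,8,16],[6,2,5,17,12]),([1,2,4,8,16],[6,2,5,17,9]),([1,2,4,8,16],[6,2,5,17,8]),([1,2,4,8,16],[6,2,5,20,13]),([1,2,4,8,16],[6,2,5,20,12]),([1,2,4,8,16],[6,2,5,20,9]),([1,2,4,8,16],[6,2,5,20,8]),([1,2,4,8,16]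,[6,2,5,21,13]),([1,2,4,8,16],[6,2,5,21,12]),([1,2,4,8,16],[6,2,5,21,9]),([1,2,4,8,16],[6,2,5,21,8]),([1,2,4,8,16],[6,2,3,8,21]),([1,2,4,8,16],[6,2,3,8,20]),([1,2,4,8,16],[6,2,3,8,17]),([1,2,4,8,16],[6,2,3,9,21]),([1,2,4,8,16],[6,2,3,9,20]),([1,2,4,8,16],[6,2,3,9,17]),([1,2,4,8,16],[6,2,3,9,16]),([1,2,4,8,16],[6,2,3,12,21]),([1,2,4,8,16],[6,2,3,12,20]),([1,2,4,8,16],[6,2,3,12,17]),([1,2,4,8,16],[6,2,3,12,16]),([1,2,4,8,16],[6,2,3,13,21]),([1,2,4,8,16],[6,2,3,13,20]),([1,2,4,8,16],[6,2,3,13,17]),([1,2,4,8,16],[6,2,3,16,13]),([1,2,4,8,16],[6,2,3,16,12]),([1,2,4,8,16],[6,2,3,16,9]),([1,2,4,8,16],[6,2,3,16,8]),([1,2,4,8,16],[6,2,3,17,13]),([1,2,4,8,16],[6,2,3,17,12]),([1,2,4,8,16],[6,2,3,17,9]),([1,2,4,8,16],[6,2,3,17,8]),([1,2,4,8,16],[6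,2,3,20,13]),([1,2,4,8,16],[6,2,3,20,12]),([1,2,4,8,16],[6,2,3,20,9]),([1,2,4,8,16],[6,2,3,20,8]),([1,2,4,8,16],[6,2,3,21,13]),([1,2,4,8,16],[6,2,3,21,12]),([1,2,4,8,16],[6,2,3,21,9]),([1,2,4,8,16],[6,2,3,21,8]),([1,2,4,8,16],[6,2,1,8,21]),([1,2,4,8,16],[6,2,1,8,20]),([1,2,4,8,16],[6,2,1,8,17]),([1,2,4,8,16],[6,2,1,8,16]),([1,2,4,8,16],[6,2,1,9,21]),([1,2,4,8,16],[6,2,1,9,20]),([1,2,4,8,16],[6,2,1,9,17]),([1,2,4,8,16],[6,2,1,9,16]),([1,2,4,8,16],[6,2,1,12,21]),([1,2,4,8,16],[6,2,1,12,20]),([1,2,4,8,16],[6,2,1,12,17]),([1,2,4,8,16],[6,2,1,12,16]),([1,2,4,8,16],[6,2,1,13,21]),([1,2,4,8,16],[6,2,1,13,20]),([1,2,4,8,16],[6,2,1,13,17]),([1,2,4,8,16],[6,2,1,13,16]),([1,2,4,8,16],[6,2,1,16,12]),([1,2,4,8,16],[6,2,1,16,9]),([1,2,4,8,16],[6,2,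1,17,13]),([1,2,4,8,16],[6,2,1,17,12]),([1,2,4,8,16],[6,2,1,17,9]),([1,2,4,8,16],[6,2,1,17,8]),([1,2,4,8,16],[6,2,1,20,13]),([1,2,4,8,16],[6,2,1,20,12]),([1,2,4,8,16],[6,2,1,20,9]),([1,2,4,8,16],[6,2,1,20,8]),([1,2,4,8,16],[6,2,1,21,13]),([1,2,4,8,16],[6,2,1,21,12]),([1,2,4,8,16],[6,2,1,21,9]),([1,2,4,8,16],[6,2,1,21,8]),([1,2,4,8,16],[7,2,6,8,21]),([1,2,4,8,16],[7,2,6,8,20]),([1,2,4,8,16],[7,2,6,8,17]),([1,2,4,8,16],[7,2,6,8,16]),([1,2,4,8,16],[7,2,6,9,21]),([1,2,4,8,16],[7,2,6,9,20]),([1,2,4,8,16],[7,2,6,9,17]),([1,2,4,8,16],[7,2,6,9,16]),([1,2,4,8,16],[7,2,6,12,21]),([1,2,4,8,16],[7,2,6,12,20]),([1,2,4,8,16],[7,2,6,12,17]),([1,2,4,8,16],[7,2,6,12,16]),([1,2,4,8,16],[7,2,6,13,21]),([1,2,4,8,16],[7,2,6,13,20]),([1,2,4,8,16],[7,2,6,13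,17]),([1,2,4,8,16],[7,2,6,13,16]),([1,2,4,8,16],[7,2,6,16,13]),([1,2,4,8,16],[7,2,6,16,9]),([1,2,4,8,16],[7,2,6,17,13]),([1,2,4,8,16],[7,2,6,17,12]),([1,2,4,8,16],[7,2,6,17,9]),([1,2,4,8,16],[7,2,6,17,8]),([1,2,4,8,16],[7,2,6,20,13]),([1,2,4,8,16],[7,2,6,20,12]),([1,2,4,8,16],[7,2,6,20,9]),([1,2,4,8,16],[7,2,6,20,8]),([1,2,4,8,16],[7,2,6,21,13]),([1,2,4,8,16],[7,2,6,21,12]),([1,2,4,8,16],[7,2,6,21,9]),([1,2,4,8,16],[7,2,6,21,8]),([1,2,4,8,16],[7,2,4,8,21]),([1,2,4,8,16],[7,2,4,8,20]),([1,2,4,8,16],[7,2,4,8,17]),([1,2,4,8,16],[7,2,4,9,21]),([1,2,4,8,16],[7,2,4,9,20]),([1,2,4,8,16],[7,2,4,9,17]),([1,2,4,8,16],[7,2,4,9,16]),([1,2,4,8,16],[7,2,4,12,21]),([1,2,4,8,16],[7,2,4,12,20]),([1,2,4,8,16],[7,2,4,12,17]),([1,2,4,8,16],[7,2,4,13,21]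),([1,2,4,8,16],[7,2,4,13,20]),([1,2,4,8,16],[7,2,4,13,17]),([1,2,4,8,16],[7,2,4,13,16]),([1,2,4,8,16],[7,2,4,16,13]),([1,2,4,8,16],[7,2,4,16,12]),([1,2,4,8,16],[7,2,4,16,9]),([1,2,4,8,16],[7,2,4,16,8]),([1,2,4,8,16],[7,2,4,17,13]),([1,2,4,8,16],[7,2,4,17,12]),([1,2,4,8,16],[7,2,4,17,9]),([1,2,4,8,16],[7,2,4,17,8]),([1,2,4,8,16],[7,2,4,20,13]),([1,2,4,8,16],[7,2,4,20,12]),([1,2,4,8,16],[7,2,4,20,9]),([1,2,4,8,16],[7,2,4,20,8]),([1,2,4,8,16],[7,2,4,21,13]),([1,2,4,8,16],[7,2,4,21,12]),([1,2,4,8,16],[7,2,4,21,9]),([1,2,4,8,16],[7,2,4,21,8]),([1,2,4,8,16],[7,2,3,8,21]),([1,2,4,8,16],[7,2,3,8,20]),([1,2,4,8,16],[7,2,3,8,17]),([1,2,4,8,16],[7,2,3,8,16]),([1,2,4,8,16],[7,2,3,9,21]),([1,2,4,8,16],[7,2,3,9,20]),([1,2,4,8,16],[7,2,3,9,17]),([1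,2,4,8,16],[7,2,3,9,16]),([1,2,4,8,16],[7,2,3,12,21]),([1,2,4,8,16],[7,2,3,12,20]),([1,2,4,8,16],[7,2,3,12,17]),([1,2,4,8,16],[7,2,3,12,16]),([1,2,4,8,16],[7,2,3,13,21]),([1,2,4,8,16],[7,2,3,13,20]),([1,2,4,8,16],[7,2,3,13,17]),([1,2,4,8,16],[7,2,3,13,16]),([1,2,4,8,16],[7,2,3,16,13]),([1,2,4,8,16],[7,2,3,16,12]),([1,2,4,8,16],[7,2,3,16,9]),([1,2,4,8,16],[7,2,3,16,8]),([1,2,4,8,16],[7,2,3,17,13]),([1,2,4,8,16],[7,2,3,17,12]),([1,2,4,8,16],[7,2,3,17,9]),([1,2,4,8,16],[7,2,3,17,8]),([1,2,4,8,16],[7,2,3,20,13]),([1,2,4,8,16],[7,2,3,20,12]),([1,2,4,8,16],[7,2,3,20,9]),([1,2,4,8,16],[7,2,3,20,8]),([1,2,4,8,16],[7,2,3,21,13]),([1,2,4,8,16],[7,2,3,21,12]),([1,2,4,8,16],[7,2,3,21,9]),([1,2,4,8,16],[7,2,3,21,8]),([1,2,4,8,16],[7,2,1,8,21]),([1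,2,4,8,16],[7,2,1,8,20]),([1,2,4,8,16],[7,2,1,8,17]),([1,2,4,8,16],[7,2,1,8,16]),([1,2,4,8,16],[7,2,1,9,21]),([1,2,4,8,16],[7,2,1,9,20]),([1,2,4,8,16],[7,2,1,9,17]),([1,2,4,8,16],[7,2,1,9,16]),([1,2,4,8,16],[7,2,1,12,21]),([1,2,4,8,16],[7,2,1,12,20]),([1,2,4,8,16],[7,2,1,12,17]),([1,2,4,8,16],[7,2,1,12,16]),([1,2,4,8,16],[7,2,1,13,21]),([1,2,4,8,16],[7,2,1,13,20]),([1,2,4,8,16],[7,2,1,13,17]),([1,2,4,8,16],[7,2,1,13,16]),([1,2,4,8,16],[7,2,1,16,13]),([1,2,4,8,16],[7,2,1,16,12]),([1,2,4,8,16],[7,2,1,16,9]),([1,2,4,8,16],[7,2,1,16,8]),([1,2,4,8,16],[7,2,1,17,13]),([1,2,4,8,16],[7,2,1,17,12]),([1,2,4,8,16],[7,2,1,17,9]),([1,2,4,8,16],[7,2,1,17,8]),([1,2,4,8,16],[7,2,1,20,13]),([1,2,4,8,16],[7,2,1,20,12]),([1,2,4,8,16],[7,2,1,20,9]),([1,2,4,8,16],[7,2,1,20,8]),([1,2,4,8,16],[7,2,1,21,13]),([1,2,4,8,16],[7,2,1,21,12]),([1,2,4,8,16],[7,2,1,21,9]),([1,2,4,8,16],[7,2,1,21,8])]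 [1,2,4,8,16] [([3,2,6,8,21],[(0,0,0),(2,1,0),(5,0,1),(7,1,1)]),([3,2,6,8,16],[(0,0,2),(2,1,2),(5,0,3),(7,1,3)]),([3,2,6,13,21],[(0,0,4),(2,1,4),(5,0,5),(7,1,5)]),([3,2,6,13,16],[(0,16,6),(2,17,6),(5,17,7),(7,16,7)]),([3,2,6,16,8],[(0,0,8),(2,1,8),(5,0,9),(7,1,9)]),([3,2,6,20,12],[(27,0,10),(25,1,10),(30,0,11),(28,1,11)]),([3,2,4,8,20],[(0,0,12),(2,1,12),(4,0,13),(6,1,13)]),([3,2,4,8,16],[(0,0,14),(2,1,14),(4,0,15),(6,1,15)]),([3,2,4,12,20],[(0,0,16),(2,1,16),(4,0,17),(6,1,17)]),([3,2,4,12,16],[(0,16,18),(2,17,18),(4,17,19),(6,16,19)]),([3,2,4,16,8],[(0,0,20),(2,1,20),(4,0,21),(6,1,21)]),([3,2,4,21,13],[(27,0,22),(25,1,22),(31,0,23),(29,1,23)]),([4,2,3,16,8],[]),([4,2,3,21,8],[]),([4,2,1,8,21],[(0,0,24),(2,0,25),(5,1,24),(7,1,25)]),([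4,2,1,8,16],[(0,0,26),(2,0,27),(5,1,26),(7,1,27)]),([5,2,6,16,8],[]),([5,2,6,20,8],[]),([5,2,4,8,20],[(0,0,28),(2,0,29),(4,1,28),(6,1,29)]),([5,2,4,8,16],[(0,0,30),(2,0,31),(4,1,30),(6,1,31)]),([6,2,3,8,16],[(0,0,32),(2,0,33),(5,1,33),(7,1,32)]),([6,2,3,13,16],[(0,16,34),(2,16,35),(5,17,35),(7,17,34)]),([6,2,1,16,13],[]),([6,2,1,16,8],[]),([7,2,6,16,12],[]),([7,2,6,16,8],[]),([7,2,4,8,16],[(0,0,36),(2,0,37),(4,1,37),(6,1,36)]),([7,2,4,12,16],[(0,16,38),(2,16,39),(4,17,39),(6,17,38)])] [([1,2,4,8,16],[3,2,6,8,21],0),([1,2,4,8,16],[3,2,6,8,21],5),([1,2,4,8,16],[3,2,6,8,16],0),([1,2,4,8,16],[3,2,6,8,16],5),([1,2,4,8,16],[3,2,6,13,21],0),([1,2,4,8,16],[3,2,6,13,21],5),([1,2,6,16,8],[3,2,6,8,21],0),([1,2,6,16,8],[3,2,6,8,21],5),([1,2,4,8,1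6],[3,2,6,16,8],0),([1,2,4,8,16],[3,2,6,16,8],5),([1,2,4,8,16],[3,2,6,20,12],27),([1,2,4,8,16],[3,2,6,20,12],30),([1,2,5,8,16],[3,2,6,8,21],0),([1,2,5,8,16],[3,2,6,8,21],5),([1,2,5,8,16],[3,2,6,8,16],0),([1,2,5,8,16],[3,2,6,8,16],5),([1,2,5,8,16],[3,2,6,13,21],0),([1,2,5,8,16],[3,2,6,13,21],5),([1,2,7,16,8],[3,2,6,8,21],0),([1,2,7,16,8],[3,2,6,8,21],5),([1,2,5,8,16],[3,2,6,16,8],0),([1,2,5,8,16],[3,2,6,16,8],5),([1,2,5,8,16],[3,2,6,20,12],27),([1,2,5,8,16],[3,2,6,20,12],30),([1,2,4,8,16],[4,2,1,8,21],0),([1,2,4,8,16],[4,2,1,8,21],2),([1,2,4,8,16],[4,2,1,8,16],0),([1,2,4,8,16],[4,2,1,8,16],2),([1,2,5,8,16],[4,2,1,8,21],0),([1,2,5,8,16],[4,2,1,8,21],2),([1,2,5,8,16],[4,2,1,8,16],0),([1,2,5,8,16],[4,2,1,8,16],2),([1,2,6,16,8],[4,2,1,8,16],0),([1,2,6,16,8],[4,2,1,8,16],2),([1,2,6,16,8],[4,2,1,8,21],0),([1,2,6,16,8],[4,2,1,8,21],2),([1,2,7,16,8],[4,2,1,8,16],0),([1,2,7,16,8],[4,2,1,8,16],2),([1,2,7,16,8],[4,2,1,8,21],0),([1,2,7,16,8],[4,2,1,8,21],2)]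 = true := by decide +kernel

end Cfsg.Lib.D8
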