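import Cfsg.Agent.D8.R0C1

set_option autoImplicit false
set_option maxRecDepth 100000
set_option linter.all false
set_option Elab.async false

namespace Cfsg.Lib.D8

theorem loc0_0 : chkLoc M10001 ⟨5,0,[],[]⟩ [1,2,4,8] [⟨3,0,[⟨1,0,0,0⟩,⟨2,0,0,0⟩,⟨2,1,0,0⟩,⟨5,0,1,0⟩],0,0,false⟩,⟨3,0,[⟨0,2,2,0⟩,⟨1,0,0,0⟩,⟨2,0,0,0⟩,⟨2,1,0,0⟩,⟨2,2,0,0⟩,⟨2,3,0,0⟩,⟨5,0,1,4⟩],0,0,false⟩,⟨3,0,[⟨0,2,2,0⟩,⟨0,4,4,0⟩,⟨1,0,0,0⟩,⟨2,0,0,0⟩,⟨2,1,0,0⟩,⟨2,2,0,0⟩,⟨2,3,0,0⟩,⟨2,4,0,0⟩,⟨2,5,0,0⟩,⟨2,6,0,0⟩,⟨2,7,0,0⟩,⟨5,0,1,0⟩],1,0,false⟩] [[1,2,23,16],[1,2,23,17],[1,2,23,18],[1,2,23,19],[1,2,22,16],[1,2,22,17],[1,2,22,18],[1,2,22,19],[1,2,21,16],[1,2,21,17],[1,2,21,18],[1,2,21,19],[1,2,20,16],[1,2,20,17],[1,2,20,18],[1,2,20,19],[1,2,15,8],[1,2,15,9],[1,2,15,10],[1,2,15,11],[1,2,14,8],[1,2,14,9],[1,2,14,10],[1,2,14,11],[1,2,13,8],[1,2,13,9],[1,2,13,10],[1,2,13,11],[1,2,12,8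],[1,2,12,9],[1,2,12,10],[1,2,12,11],[1,2,7,8],[1,2,7,9],[1,2,7,16],[1,2,7,17],[1,2,6,8],[1,2,6,9],[1,2,6,16],[1,2,6,17],[1,2,5,8],[1,2,5,9],[1,2,5,16],[1,2,5,17],[1,2,4,8],[1,2,4,9],[1,2,4,16],[1,2,4,17],[1,3,23,16],[1,3,23,17],[1,3,23,18],[1,3,23,19],[1,3,22,16],[1,3,22,17],[1,3,22,18],[1,3,22,19],[1,3,21,16],[1,3,21,17],[1,3,21,18],[1,3,21,19],[1,3,20,16],[1,3,20,17],[1,3,20,18],[1,3,20,19],[1,3,15,8],[1,3,15,9],[1,3,15,10],[1,3,15,11],[1,3,14,8],[1,3,14,9],[1,3,14,10],[1,3,14,11],[1,3,13,8],[1,3,13,9],[1,3,13,10],[1,3,13,11],[1,3,12,8],[1,3,12,9],[1,3,12,10],[1,3,12,11],[1,3,7,8],[1,3,7,9],[1,3,7,16],[1,3,7,17],[1,3,6,8],[1,3,6,9],[1,3,6,16],[1,3,6,17],[1,3,5,8],[1,3,5,9],[1,3,5,16],[1,3,5,17],[1,3,4,8],[1,3,4,9],[1,3,4,16],[1,3,4,17],[1,8,15,2],[1,8,15,3],[1,8,15,10],[1,8,15,11],[1,8,14,2],[1,8,14,3],[1,8,14,10],[1,8,14,11],[1,8,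13,2],[1,8,13,3],[1,8,13,10],[1,8,13,11],[1,8,12,2],[1,8,12,3],[1,8,12,10],[1,8,12,11],[1,8,7,2],[1,8,7,3],[1,8,7,10],[1,8,7,11],[1,8,6,2],[1,8,6,3],[1,8,6,10],[1,8,6,11],[1,8,5,2],[1,8,5,3],[1,8,5,10],[1,8,5,11],[1,8,4,2],[1,8,4,3],[1,8,4,10],[1,8,4,11],[1,9,15,2],[1,9,15,3],[1,9,15,10],[1,9,15,11],[1,9,14,2],[1,9,14,3],[1,9,14,10],[1,9,14,11],[1,9,13,2],[1,9,13,3],[1,9,13,10],[1,9,13,11],[1,9,12,2],[1,9,12,3],[1,9,12,10],[1,9,12,11],[1,9,7,2],[1,9,7,3],[1,9,7,10],[1,9,7,11],[1,9,6,2],[1,9,6,3],[1,9,6,10],[1,9,6,11],[1,9,5,2],[1,9,5,3],[1,9,5,10],[1,9,5,11],[1,9,4,2],[1,9,4,3],[1,9,4,10],[1,9,4,11],[1,10,15,2],[1,10,15,3],[1,10,15,8],[1,10,15,9],[1,10,14,2],[1,10,14,3],[1,10,14,8],[1,10,14,9],[1,10,13,2],[1,10,13,3],[1,10,13,8],[1,10,13,9],[1,10,12,2],[1,10,12,3],[1,10,12,8],[1,10,12,9],[1,10,7,2],[1,10,7,3],[1,10,7,8],[1,10,7,9],[1,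10,6,2],[1,10,6,3],[1,10,6,8],[1,10,6,9],[1,10,5,2],[1,10,5,3],[1,10,5,8],[1,10,5,9],[1,10,4,2],[1,10,4,3],[1,10,4,8],[1,10,4,9],[1,11,15,2],[1,11,15,3],[1,11,15,8],[1,11,15,9],[1,11,14,2],[1,11,14,3],[1,11,14,8],[1,11,14,9],[1,11,13,2],[1,11,13,3],[1,11,13,8],[1,11,13,9],[1,11,12,2],[1,11,12,3],[1,11,12,8],[1,11,12,9],[1,11,7,2],[1,11,7,3],[1,11,7,8],[1,11,7,9],[1,11,6,2],[1,11,6,3],[1,11,6,8],[1,11,6,9],[1,11,5,2],[1,11,5,3],[1,11,5,8],[1,11,5,9],[1,11,4,2],[1,11,4,3],[1,11,4,8],[1,11,4,9],[1,16,23,2],[1,16,23,3],[1,16,23,18],[1,16,23,19],[1,16,22,2],[1,16,22,3],[1,16,22,18],[1,16,22,19],[1,16,21,2],[1,16,21,3],[1,16,21,18],[1,16,21,19],[1,16,20,2],[1,16,20,3],[1,16,20,18],[1,16,20,19],[1,16,7,2],[1,16,7,3],[1,16,7,18],[1,16,7,19],[1,16,6,2],[1,16,6,3],[1,16,6,18],[1,16,6,19],[1,16,5,2],[1,16,5,3],[1,16,5,18],[1,16,5,19],[1,16,4,2],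[1,16,4,3],[1,16,4,18],[1,16,4,19],[1,17,23,2],[1,17,23,3],[1,17,23,18],[1,17,23,19],[1,17,22,2],[1,17,22,3],[1,17,22,18],[1,17,22,19],[1,17,21,2],[1,17,21,3],[1,17,21,18],[1,17,21,19],[1,17,20,2],[1,17,20,3],[1,17,20,18],[1,17,20,19],[1,17,7,2],[1,17,7,3],[1,17,7,18],[1,17,7,19],[1,17,6,2],[1,17,6,3],[1,17,6,18],[1,17,6,19],[1,17,5,2],[1,17,5,3],[1,17,5,18],[1,17,5,19],[1,17,4,2],[1,17,4,3],[1,17,4,18],[1,17,4,19],[1,18,23,2],[1,18,23,3],[1,18,23,16],[1,18,23,17],[1,18,22,2],[1,18,22,3],[1,18,22,16],[1,18,22,17],[1,18,21,2],[1,18,21,3],[1,18,21,16],[1,18,21,17],[1,18,20,2],[1,18,20,3],[1,18,20,16],[1,18,20,17],[1,18,7,2],[1,18,7,3],[1,18,7,16],[1,18,7,17],[1,18,6,2],[1,18,6,3],[1,18,6,16],[1,18,6,17],[1,18,5,2],[1,18,5,3],[1,18,5,16],[1,18,5,17],[1,18,4,2],[1,18,4,3],[1,18,4,16],[1,18,4,17],[1,19,23,2],[1,19,23,3],[1,19,23,16],[1,19,23,17],[1,19,22,2],[1,19,22,3],[1,19,22,16],[1,19,22,17],[1,19,21,2],[1,19,21,3],[1,19,21,16],[1,19,21,17],[1,19,20,2],[1,19,20,3],[1,19,20,16],[1,19,20,17],[1,19,7,2],[1,19,7,3],[1,19,7,16],[1,19,7,17],[1,19,6,2],[1,19,6,3],[1,19,6,16],[1,19,6,17],[1,19,5,2],[1,19,5,3],[1,19,5,16],[1,19,5,17],[1,19,4,2],[1,19,4,3],[1,19,4,16],[1,19,4,17]]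 32 = true := by decide +kernel
theorem c10000004 : chkExtr M10001 E10000002 [2,20,23,12] [⟨3,0,[⟨1,0,0,0⟩,⟨2,0,0,0⟩,⟨2,1,0,0⟩],1,2,false⟩,⟨4,0,[⟨1,0,0,0⟩,⟨2,0,0,0⟩,⟨2,1,0,0⟩,⟨2,2,0,0⟩,⟨2,3,0,0⟩],0,0,false⟩,⟨3,0,[⟨0,2,3,0⟩],2,3,false⟩] [] = true := by decide +kernel
theorem c10015405 : chkStK M10001 5 [1,2,7,16,8] 0x4000000000000 ([1,2,7,16],[1,16,7,18]) ([1,2,5,8],[1,8,5,10]) = true := by decide +kernel
theorem c10015411 : chkStK M10001 5 [1,2,5,8,16] 0x4000000000000 ([1,2,5,8],[1,8,5,10]) ([1,2,7,16],[1,16,7,18]) = true := by decide +kernel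
theorem c10015417 : chkStK M10001 5 [1,2,5,8,16] 0x4000000000000 ([1,2,5,8],[1,8,5,10]) ([1,2,7,16],[1,16,7,18]) = true := by decide +kernel
theorem c10018172 : chkStK M10001 5 [1,2,4,8,16] 0x4000000000000 ([1,2,4,8],[1,8,4,10]) ([1,2,6,16],[1,16,6,18]) = true := by decide +kernel
theorem c10021855 : chkStK M10001 5 [1,2,4,8,16] 0x4000000000000 ([1,2,4,8],[1,8,4,10]) ([1,2,6,16],[1,16,6,18]) = true := by decide +kernel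
theorem c10021867 : chkStK M10001 5 [1,2,5,8,16] 0x4000000000000 ([1,2,5,8],[1,8,5,10]) ([1,2,7,16],[1,16,7,18]) = true := by decide +kernel
theorem c10021873 : chkStK M10001 5 [1,2,5,8,16] 0x4000000000000 ([1,2,5,8],[1,8,5,10]) ([1,2,7,16],[1,16,7,18]) = true := by decide +kernel
theorem c10021879 : chkStK M10001 5 [1,2,6,16,8] 0x4000000000000 ([1,2,6,16],[1,16,6,18]) ([1,2,4,8],[1,8,4,10]) = true := by decide +kernel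
theorem c10021885 : chkStK M10001 5 [1,2,6,16,8] 0x4000000000000 ([1,2,6,16],[1,16,6,18]) ([1,2,4,8],[1,8,4,10]) = true := by decide +kernel
theorem c10021891 : chkStK M10001 5 [1,2,7,16,8] 0x4000000000000 ([1,2,7,16],[1,16,7,18]) ([1,2,5,8],[1,8,5,10]) = true := by decide +kernel
theorem c10021897 : chkStK M10001 5 [1,2,7,16,8] 0x4000000000000 ([1,2,7,16],[1,16,7,18]) ([1,2,5,8],[1,8,5,10]) = true := by decide +kernel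
theorem c10000377 : chkDer M10001 [([1,2,6,16],[1,16,6,18]),([1,2,4,8,16],[3,2,4,8,21])] [(1,0,[1,2,6,8]),(1,1,[1,16,22,18]),(1,0,[3,15,11,13]),(1,1,[17,5,3,21]),(1,0,[12,5,1,10]),(1,1,[20,7,1,2]),(2,0,[3,15,11,10]),(1,1,[3,21,19,18]),(1,0,[1,10,14,13])] ([1,2,4,16],[1,2,4,21]) = true := by decide +kernel
theorem c10001913 : chkDer M10001 [([1,2,4,8],[1,8,4,10]),([1,2,4,8,16],[6,2,1,13,21])] [(1,0,[1,2,4,8]),(1,1,[1,8,4,10]),(1,0,[6,13,1,15]),(1,1,[12,15,1,7]),(1,0,[12,8,6,5]),(2,1,[14,13,12,7]),(1,0,[14,13,12,7]),(2,1,[1,10,14,8]),(1,0,[1,10,14,8])] ([1,2,4,8],[1,2,6,10]) = true := by decide +kernel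
theorem c10000791 : chkDer M10001 [([1,2,4,8],[1,8,4,10]),([1,2,4,8,16],[4,2,3,13,21])] [(1,0,[1,2,4,8]),(1,1,[1,8,4,10]),(1,0,[4,13,3,15]),(1,1,[4,15,9,7]),(1,1,[3,8,9,5]),(1,0,[6,13,9,7]),(2,1,[14,10,11,8]),(1,0,[14,10,11,8]),(1,1,[6,2,3,10])] ([1,2,4,8],[1,2,6,15]) = true := by decide +kernel
theorem c10002023 : chkDer M10001 [([1,2,4,8],[1,8,4,10]),([1,2,4,8,16],[7,2,6,12,20])] [(1,0,[1,2,4,8]),(1,1,[1,8,4,10]),(1,0,[7,12,6,14]),(1,1,[13,14,12,6]),(1,0,[13,8,10,4]),(2,1,[15,12,2,6]),(1,0,[15,12,2,6]),(2,1,[1,10,14,8]),(1,0,[1,10,14,8])] ([1,2,4,8],[1,2,6,10]) = true := by decide +kernel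
theorem c10000140 : chkDer M10001 [([1,2,6,16],[1,16,6,18]),([1,2,4,8,16],[3,2,6,8,20])] [(1,0,[1,2,6,8]),(1,1,[1,16,22,18]),(1,0,[3,14,8,12]),(1,1,[17,4,18,20]),(1,0,[13,4,12,10]),(1,1,[21,6,20,2]),(2,0,[3,14,8,10]),(1,1,[3,20,16,18]),(1,0,[1,10,14,12])] ([1,2,4,16],[1,2,4,20]) = true := by decide +kernel
theorem c10000177 : chkDer M10001 [([1,2,4,8],[1,8,4,10]),([1,2,4,8,16],[3,2,6,12,16])] [(1,0,[1,2,4,8]),(1,1,[1,8,4,10]),(2,0,[11,6,14,12]),(1,1,[11,6,14,12]),(1,0,[13,4,8,10]),(1,1,[15,4,10,2]),(1,0,[11,6,14,2]),(1,1,[3,12,6,8]),(1,0,[1,10,4,12])] ([1,2,4,8],[1,2,4,14]) = true := by decide +kernel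
theorem c10001031 : chkDer M10001 [([1,2,4,8],[1,8,4,10]),([1,2,4,8,16],[5,2,6,12,16])] [(1,0,[1,2,4,8]),(1,1,[1,8,4,10]),(1,0,[5,12,6,14]),(1,1,[5,14,12,6]),(1,1,[3,8,10,4]),(1,0,[7,12,14,6]),(2,1,[15,10,4,8]),(1,0,[15,10,4,8]),(1,1,[7,2,4,10])] ([1,2,4,8],[1,2,6,14]) = true := by decide +kernel
theorem c10000425 : chkDer M10001 [([1,2,4,8],[1,8,4,10]),([1,2,4,8,16],[3,2,4,13,16])] [(1,0,[1,2,4,8]),(1,1,[1,8,4,10]),(2,0,[11,7,4,13]),(1,1,[11,7,4,13]),(1,0,[12,5,4,10]),(1,1,[14,5,4,2]),(1,0,[11,7,4,2]),(1,1,[3,13,4,8]),(1,0,[1,10,4,13])] ([1,2,4,8],[1,2,4,15]) = true := by decide +kernel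
theorem c10001203 : chkDer M10001 [([1,2,4,8],[1,8,4,10]),([1,2,4,8,16],[5,2,4,20,12]),([1,2,6,16],[1,16,6,18])] [(1,0,[1,2,4,8]),(1,1,[1,8,4,10]),(1,2,[7,14,6,12]),(1,1,[23,4,22,20]),(2,0,[13,4,8,2]),(1,1,[13,4,8,2]),(1,2,[15,6,14,2]),(1,1,[5,22,4,16]),(1,0,[1,10,4,12])] ([1,2,4,8],[1,2,4,14]) = true := by decide +kernel
theorem c10000971 : chkDer M10001 [([1,2,4,8],[1,8,4,10]),([1,2,4,8,16],[4,2,1,21,13]),([1,2,6,16],[1,16,6,18])] [(1,0,[1,2,4,8]),(1,1,[1,8,4,10]),(1,2,[6,15,1,13]),(1,1,[22,5,1,21]),(2,0,[12,5,4,2]),(1,1,[12,5,4,2]),(1,2,[14,7,1,2]),(1,1,[4,23,1,16]),(1,0,[1,10,4,13])] ([1,2,4,8],[1,2,4,15]) = true := by decide +kernel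
theorem c10000087 : chkStab M10001 [1,2,4,8] [1] [1] [1,2,4,8] [([1,2,4,10],[1,2,4,10]),([1,2,6,8],[1,2,6,8])] [[1,2,4,8],[1,2,4,10],[1,2,6,8],[1,2,6,10]] [(0,0),(0,1),(1,1)] 2 32 = true := by decide +kernel
theorem c10000171 : chkStab M10001 [1,2,4,8] [1] [1] [1,2,4,8] [([1,2,4,10],[1,2,4,10]),([1,2,4,14],[1,2,4,14])] [[1,2,4,8],[1,2,4,10],[1,2,4,14],[1,2,4,12]] [(0,0),(0,1),(1,1)] 2 32 = true := by decide +kernel
theorem c10000193 : chkStab M10001 [1,2,4,8] [1] [1] [1,2,4,8] [([1,2,4,10],[1,2,4,10]),([1,2,4,13],[1,2,4,13])] [[1,2,4,8],[1,2,4,10],[1,2,4,13],[1,2,4,15]] [(0,0),(0,1),(1,1)] 2 32 = true := by decide +kernel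
theorem c10000231 : chkStab M10001 [1,2,4,8] [1] [1] [1,2,4,8] [([1,2,4,10],[1,2,4,10]),([1,2,4,14],[1,2,4,14])] [[1,2,4,8],[1,2,4,10],[1,2,4,14],[1,2,4,12]] [(0,0),(0,1),(1,1)] 2 32 = true := by decide +kernel
theorem c10000247 : chkStab M10001 [1,2,4,8] [1] [1] [1,2,4,8] [([1,2,4,10],[1,2,4,10]),([1,2,4,13],[1,2,4,13])] [[1,2,4,8],[1,2,4,10],[1,2,4,13],[1,2,4,15]] [(0,0),(0,1),(1,1)] 2 32 = true := by decide +kernel
theorem c10000327 : chkStab M10001 [1,2,4,8] [1] [1] [1,2,4,8] [([1,2,4,10],[1,2,4,10]),([1,2,6,8],[1,2,6,8])] [[1,2,4,8],[1,2,4,10],[1,2,6,8],[1,2,6,10]] [(0,0),(0,1),(1,1)] 2 32 = true := by decide +kernel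
theorem c10000415 : chkStab M10001 [1,2,4,8] [1] [1] [1,2,4,8] [([1,2,4,10],[1,2,4,10]),([1,2,4,15],[1,2,4,15])] [[1,2,4,8],[1,2,4,10],[1,2,4,15],[1,2,4,13]] [(0,0),(0,1),(1,1)] 2 32 = true := by decide +kernel
theorem c10000431 : chkStab M10001 [1,2,4,8] [1] [1] [1,2,4,8] [([1,2,4,10],[1,2,4,10]),([1,2,4,13],[1,2,4,13])] [[1,2,4,8],[1,2,4,10],[1,2,4,13],[1,2,4,15]] [(0,0),(0,1),(1,1)] 2 32 = true := by decide +kernel
theorem c10000464 : chkStab M10001 [1,2,4,8] [1] [1] [1,2,4,8] [([1,2,4,10],[1,2,4,10]),([1,2,4,14],[1,2,4,14])] [[1,2,4,8],[1,2,4,10],[1,2,4,14],[1,2,4,12]] [(0,0),(0,1),(1,1)] 2 32 = true := by decide +kernel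
theorem c10000485 : chkStab M10001 [1,2,4,8] [1] [1] [1,2,4,8] [([1,2,4,10],[1,2,4,10]),([1,2,4,15],[1,2,4,15])] [[1,2,4,8],[1,2,4,10],[1,2,4,15],[1,2,4,13]] [(0,0),(0,1),(1,1)] 2 32 = true := by decide +kernel
theorem c10000529 : chkStab M10001 [1,2,4,8] [1] [1] [1,2,4,8] [([1,2,4,10],[1,2,4,10]),([1,2,7,9],[1,2,7,9])] [[1,2,4,8],[1,2,4,10],[1,2,7,9],[1,2,7,11]] [(0,0),(0,1),(1,1)] 2 32 = true := by decide +kernel
theorem c10000613 : chkStab M10001 [1,2,4,8] [1] [1] [1,2,4,8] [([1,2,4,10],[1,2,4,10]),([1,2,7,9],[1,2,7,9])] [[1,2,4,8],[1,2,4,10],[1,2,7,9],[1,2,7,11]] [(0,0),(0,1),(1,1)] 2 32 = true := by decide +kernel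
theorem c10000693 : chkStab M10001 [1,2,4,8] [1] [1] [1,2,4,8] [([1,2,4,10],[1,2,4,10]),([1,2,6,8],[1,2,6,8])] [[1,2,4,8],[1,2,4,10],[1,2,6,8],[1,2,6,10]] [(0,0),(0,1),(1,1)] 2 32 = true := by decide +kernel
theorem c10000757 : chkStab M10001 [1,2,4,8] [1] [1] [1,2,4,8] [([1,2,4,10],[1,2,4,10]),([1,2,6,8],[1,2,6,8])] [[1,2,4,8],[1,2,4,10],[1,2,6,8],[1,2,6,10]] [(0,0),(0,1),(1,1)] 2 32 = true := by decide +kernel
theorem c10000805 : chkStab M10001 [1,2,4,8] [1] [1] [1,2,4,8] [([1,2,4,10],[1,2,4,10]),([1,2,6,15],[1,2,6,15])] [[1,2,4,8],[1,2,4,10],[1,2,6,15],[1,2,6,13]] [(0,0),(0,1),(1,1)] 2 32 = true := by decide +kernel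
theorem c10000854 : chkStab M10001 [1,2,4,8] [1] [1] [1,2,4,8] [([1,2,4,10],[1,2,4,10]),([1,2,4,13],[1,2,4,13])] [[1,2,4,8],[1,2,4,10],[1,2,4,13],[1,2,4,15]] [(0,0),(0,1),(1,1)] 2 32 = true := by decide +kernel
theorem c10000893 : chkStab M10001 [1,2,4,8] [1] [1] [1,2,4,8] [([1,2,4,10],[1,2,4,10]),([1,2,4,13],[1,2,4,13])] [[1,2,4,8],[1,2,4,10],[1,2,4,13],[1,2,4,15]] [(0,0),(0,1),(1,1)] 2 32 = true := by decide +kernel
theorem c10000921 : chkStab M10001 [1,2,4,8] [1] [1] [1,2,4,8] [([1,2,4,10],[1,2,4,10]),([1,2,4,13],[1,2,4,13])] [[1,2,4,8],[1,2,4,10],[1,2,4,13],[1,2,4,15]] [(0,0),(0,1),(1,1)] 2 32 = true := by decide +kernel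
theorem c10000937 : chkStab M10001 [1,2,4,16] [1] [1] [1,2,4,16] [([1,2,4,18],[1,2,4,10]),([1,2,6,16],[1,2,6,8])] [[1,2,4,16],[1,2,4,18],[1,2,6,16],[1,2,6,18]] [(0,0),(0,1),(1,1)] 2 32 = true := by decide +kernel
theorem c10000973 : chkStab M10001 [1,2,4,8] [1] [1] [1,2,4,8] [([1,2,4,10],[1,2,4,10]),([1,2,4,15],[1,2,4,15])] [[1,2,4,8],[1,2,4,10],[1,2,4,15],[1,2,4,13]] [(0,0),(0,1),(1,1)] 2 32 = true := by decide +kernel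
theorem c10000993 : chkStab M10001 [1,2,4,8] [1] [1] [1,2,4,8] [([1,2,4,10],[1,2,4,10]),([1,2,6,8],[1,2,6,8])] [[1,2,4,8],[1,2,4,10],[1,2,6,8],[1,2,6,10]] [(0,0),(0,1),(1,1)] 2 32 = true := by decide +kernel
theorem c10001025 : chkStab M10001 [1,2,4,8] [1] [1] [1,2,4,8] [([1,2,4,10],[1,2,4,10]),([1,2,6,14],[1,2,6,14])] [[1,2,4,8],[1,2,4,10],[1,2,6,14],[1,2,6,12]] [(0,0),(0,1),(1,1)] 2 32 = true := by decide +kernel
theorem c10001057 : chkStab M10001 [1,2,4,8] [1] [1] [1,2,4,8] [([1,2,4,10],[1,2,4,10]),([1,2,4,12],[1,2,4,12])] [[1,2,4,8],[1,2,4,10],[1,2,4,12],[1,2,4,14]] [(0,0),(0,1),(1,1)] 2 32 = true := by decide +kernel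
theorem c10001125 : chkStab M10001 [1,2,4,8] [1] [1] [1,2,4,8] [([1,2,4,10],[1,2,4,10]),([1,2,4,12],[1,2,4,12])] [[1,2,4,8],[1,2,4,10],[1,2,4,12],[1,2,4,14]] [(0,0),(0,1),(1,1)] 2 32 = true := by decide +kernel
theorem c10001149 : chkStab M10001 [1,2,4,8] [1] [1] [1,2,4,8] [([1,2,4,10],[1,2,4,10]),([1,2,4,12],[1,2,4,12])] [[1,2,4,8],[1,2,4,10],[1,2,4,12],[1,2,4,14]] [(0,0),(0,1),(1,1)] 2 32 = true := by decide +kernel
theorem c10001173 : chkStab M10001 [1,2,4,8] [1] [1] [1,2,4,8] [([1,2,4,10],[1,2,4,10]),([1,2,4,12],[1,2,4,12])] [[1,2,4,8],[1,2,4,10],[1,2,4,12],[1,2,4,14]] [(0,0),(0,1),(1,1)] 2 32 = true := by decide +kernel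
theorem c10001185 : chkStab M10001 [1,2,4,16] [1] [1] [1,2,4,16] [([1,2,4,18],[1,2,4,10]),([1,2,7,17],[1,2,7,9])] [[1,2,4,16],[1,2,4,18],[1,2,7,17],[1,2,7,19]] [(0,0),(0,1),(1,1)] 2 32 = true := by decide +kernel
theorem c10001213 : chkStab M10001 [1,2,4,8] [1] [1] [1,2,4,8] [([1,2,4,10],[1,2,4,10]),([1,2,4,12],[1,2,4,12])] [[1,2,4,8],[1,2,4,10],[1,2,4,12],[1,2,4,14]] [(0,0),(0,1),(1,1)] 2 32 = true := by decide +kernel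
theorem c10001289 : chkStab M10001 [1,2,4,8] [1] [1] [1,2,4,8] [([1,2,4,10],[1,2,4,10]),([1,2,7,9],[1,2,7,9])] [[1,2,4,8],[1,2,4,10],[1,2,7,9],[1,2,7,11]] [(0,0),(0,1),(1,1)] 2 32 = true := by decide +kernel
theorem c10001341 : chkStab M10001 [1,2,4,8] [1] [1] [1,2,4,8] [([1,2,4,10],[1,2,4,10]),([1,2,7,9],[1,2,7,9])] [[1,2,4,8],[1,2,4,10],[1,2,7,9],[1,2,7,11]] [(0,0),(0,1),(1,1)] 2 32 = true := by decide +kernel
theorem c10001437 : chkStab M10001 [1,2,4,8] [1] [1] [1,2,4,8] [([1,2,4,10],[1,2,4,10]),([1,2,6,8],[1,2,6,8])] [[1,2,4,8],[1,2,4,10],[1,2,6,8],[1,2,6,10]] [(0,0),(0,1),(1,1)] 2 32 = true := by decide +kernel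
theorem c10001509 : chkStab M10001 [1,2,4,8] [1] [1] [1,2,4,8] [([1,2,4,10],[1,2,4,10]),([1,2,7,9],[1,2,7,9])] [[1,2,4,8],[1,2,4,10],[1,2,7,9],[1,2,7,11]] [(0,0),(0,1),(1,1)] 2 32 = true := by decide +kernel
theorem c10001565 : chkStab M10001 [1,2,4,8] [1] [1] [1,2,4,8] [([1,2,4,10],[1,2,4,10]),([1,2,6,8],[1,2,6,8])] [[1,2,4,8],[1,2,4,10],[1,2,6,8],[1,2,6,10]] [(0,0),(0,1),(1,1)] 2 32 = true := by decide +kernel
theorem c10001693 : chkStab M10001 [1,2,4,8] [1] [1] [1,2,4,8] [([1,2,4,10],[1,2,4,10]),([1,2,6,8],[1,2,6,8])] [[1,2,4,8],[1,2,4,10],[1,2,6,8],[1,2,6,10]] [(0,0),(0,1),(1,1)] 2 32 = true := by decide +kernel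
theorem c10001790 : chkStab M10001 [1,2,4,16] [1] [1] [1,2,4,16] [([1,2,4,18],[1,2,4,10]),([1,2,4,23],[1,2,4,15])] [[1,2,4,16],[1,2,4,18],[1,2,4,23],[1,2,4,21]] [(0,0),(0,1),(1,1)] 2 32 = true := by decide +kernel
theorem c10001798 : chkStab M10001 [1,2,4,16] [1] [1] [1,2,4,16] [([1,2,4,18],[1,2,4,10]),([1,2,4,23],[1,2,4,15])] [[1,2,4,16],[1,2,4,18],[1,2,4,23],[1,2,4,21]] [(0,0),(0,1),(1,1)] 2 32 = true := by decide +kernel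
theorem c10001815 : chkStab M10001 [1,2,4,8] [1] [1] [1,2,4,8] [([1,2,4,10],[1,2,4,10]),([1,2,6,8],[1,2,6,8])] [[1,2,4,8],[1,2,4,10],[1,2,6,8],[1,2,6,10]] [(0,0),(0,1),(1,1)] 2 32 = true := by decide +kernel
theorem c10001851 : chkStab M10001 [1,2,4,8] [1] [1] [1,2,4,8] [([1,2,4,10],[1,2,4,10]),([1,2,4,15],[1,2,4,15])] [[1,2,4,8],[1,2,4,10],[1,2,4,15],[1,2,4,13]] [(0,0),(0,1),(1,1)] 2 32 = true := by decide +kernel
theorem c10001867 : chkStab M10001 [1,2,4,8] [1] [1] [1,2,4,8] [([1,2,4,10],[1,2,4,10]),([1,2,6,8],[1,2,6,8])] [[1,2,4,8],[1,2,4,10],[1,2,6,8],[1,2,6,10]] [(0,0),(0,1),(1,1)] 2 32 = true := by decide +kernel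
theorem c10001915 : chkStab M10001 [1,2,4,8] [1] [1] [1,2,4,8] [([1,2,4,10],[1,2,4,10]),([1,2,6,10],[1,2,6,10])] [[1,2,4,8],[1,2,4,10],[1,2,6,10],[1,2,6,8]] [(0,0),(0,1),(1,1)] 2 32 = true := by decide +kernel
theorem c10001973 : chkStab M10001 [1,2,4,8] [1] [1] [1,2,4,8] [([1,2,4,10],[1,2,4,10]),([1,2,4,13],[1,2,4,13])] [[1,2,4,8],[1,2,4,10],[1,2,4,13],[1,2,4,15]] [(0,0),(0,1),(1,1)] 2 32 = true := by decide +kernel
theorem c10001993 : chkStab M10001 [1,2,4,8] [1] [1] [1,2,4,8] [([1,2,4,10],[1,2,4,10]),([1,2,6,8],[1,2,6,8])] [[1,2,4,8],[1,2,4,10],[1,2,6,8],[1,2,6,10]] [(0,0),(0,1),(1,1)] 2 32 = true := by decide +kernel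
theorem c10002025 : chkStab M10001 [1,2,4,8] [1] [1] [1,2,4,8] [([1,2,4,10],[1,2,4,10]),([1,2,6,10],[1,2,6,10])] [[1,2,4,8],[1,2,4,10],[1,2,6,10],[1,2,6,8]] [(0,0),(0,1),(1,1)] 2 32 = true := by decide +kernel
theorem c10002083 : chkStab M10001 [1,2,4,8] [1] [1] [1,2,4,8] [([1,2,4,10],[1,2,4,10]),([1,2,4,12],[1,2,4,12])] [[1,2,4,8],[1,2,4,10],[1,2,4,12],[1,2,4,14]] [(0,0),(0,1),(1,1)] 2 32 = true := by decide +kernel
theorem c10002115 : chkStab M10001 [1,2,4,16] [1] [1] [1,2,4,16] [([1,2,4,18],[1,2,4,10]),([1,2,4,22],[1,2,4,14])] [[1,2,4,16],[1,2,4,18],[1,2,4,22],[1,2,4,20]] [(0,0),(0,1),(1,1)] 2 32 = true := by decide +kernel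
theorem c10002144 : chkStab M10001 [1,2,4,16] [1] [1] [1,2,4,16] [([1,2,4,18],[1,2,4,10]),([1,2,4,22],[1,2,4,14])] [[1,2,4,16],[1,2,4,18],[1,2,4,22],[1,2,4,20]] [(0,0),(0,1),(1,1)] 2 32 = true := by decide +kernel
theorem c10002173 : chkStab M10001 [1,2,4,8] [1] [1] [1,2,4,8] [([1,2,4,10],[1,2,4,10]),([1,2,4,12],[1,2,4,12])] [[1,2,4,8],[1,2,4,10],[1,2,4,12],[1,2,4,14]] [(0,0),(0,1),(1,1)] 2 32 = true := by decide +kernel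
theorem c10002205 : chkStab M10001 [1,2,4,8] [1] [1] [1,2,4,8] [([1,2,4,10],[1,2,4,10]),([1,2,4,14],[1,2,4,14])] [[1,2,4,8],[1,2,4,10],[1,2,4,14],[1,2,4,12]] [(0,0),(0,1),(1,1)] 2 32 = true := by decide +kernel
theorem c10002225 : chkStab M10001 [1,2,4,8] [1] [1] [1,2,4,8] [([1,2,4,10],[1,2,4,10]),([1,2,7,11],[1,2,7,11])] [[1,2,4,8],[1,2,4,10],[1,2,7,11],[1,2,7,9]] [(0,0),(0,1),(1,1)] 2 32 = true := by decide +kernel
theorem c10002309 : chkStab M10001 [1,2,4,8] [1] [1] [1,2,4,8] [([1,2,4,10],[1,2,4,10]),([1,2,6,8],[1,2,6,8])] [[1,2,4,8],[1,2,4,10],[1,2,6,8],[1,2,6,10]] [(0,0),(0,1),(1,1)] 2 32 = true := by decide +kernel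
theorem c10002377 : chkStab M10001 [1,2,4,8] [1] [1] [1,2,4,8] [([1,2,4,10],[1,2,4,10]),([1,2,7,9],[1,2,7,9])] [[1,2,4,8],[1,2,4,10],[1,2,7,9],[1,2,7,11]] [(0,0),(0,1),(1,1)] 2 32 = true := by decide +kernel
theorem c10002437 : chkStab M10001 [1,2,4,8] [1] [1] [1,2,4,8] [([1,2,4,10],[1,2,4,10]),([1,2,6,8],[1,2,6,8])] [[1,2,4,8],[1,2,4,10],[1,2,6,8],[1,2,6,10]] [(0,0),(0,1),(1,1)] 2 32 = true := by decide +kernel
theorem c10002203 : chkDer M10001 [([1,2,4,8],[1,8,4,10]),([1,2,4,8,16],[7,2,4,20,12]),([1,2,6,16],[1,16,6,18])] [(1,0,[1,2,4,8]),(1,1,[1,8,4,10]),(1,2,[5,14,6,12]),(1,1,[7,4,22,20]),(2,0,[1,4,8,2]),(1,1,[1,4,8,2]),(1,2,[5,6,14,2]),(1,1,[7,22,4,16]),(1,0,[1,10,4,12])] ([1,2,4,8],[1,2,4,14]) = true := by decide +kernel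
theorem c10001435 : chkDer M10001 [([1,2,4,8],[1,8,4,10]),([1,2,4,8,16],[5,2,1,16,8]),([1,2,6,16],[1,16,6,18])] [(1,0,[1,2,4,8]),(1,1,[1,8,4,10]),(1,2,[7,8,1,10]),(2,1,[11,10,4,2]),(2,1,[22,18,5,2]),(2,2,[6,8,15,10]),(1,1,[4,16,21,18]),(2,0,[1,2,6,8])] ([1,2,4,8],[1,2,6,8]) = true := by decide +kernel
theorem c10001551 : chkDer M10001 [([1,2,4,8],[1,8,4,10]),([1,2,4,8,16],[6,2,7,16,13]),([1,2,6,16],[1,16,6,18])] [(1,0,[1,2,4,8]),(1,1,[1,8,4,10]),(1,1,[6,16,7,18]),(1,0,[5,13,3,15]),(2,1,[6,18,19,4]),(1,2,[4,10,11,6]),(2,1,[1,2,7,9])] ([1,2,4,8],[1,2,7,9]) = true := by decide +kernel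
theorem c10000611 : chkDer M10001 [([1,2,4,8],[1,8,4,10]),([1,2,4,8,16],[4,2,7,21,8]),([1,2,6,16],[1,16,6,18])] [(1,0,[1,2,4,8]),(1,1,[1,8,4,10]),(2,2,[14,13,5,7]),(2,1,[15,10,4,6]),(1,0,[15,10,4,6]),(2,1,[4,2,1,17]),(2,1,[1,2,7,9])] ([1,2,4,8],[1,2,7,9]) = true := by decide +kernel
theorem c10000563 : chkDer M10001 [([1,2,4,8],[1,8,4,10]),([1,2,4,8,16],[4,2,7,16,8]),([1,2,6,16],[1,16,6,18])] [(1,0,[1,2,4,8]),(2,1,[7,16,1,18]),(2,1,[4,8,7,10]),(1,0,[4,8,7,10]),(1,1,[4,10,13,2]),(1,2,[5,10,11,2]),(1,1,[7,2,3,16])] ([1,2,4,8],[1,2,6,8]) = true := by decide +kernel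
theorem c10001627 : chkDer M10001 [([1,2,4,8],[1,8,4,10]),([1,2,4,8,16],[6,2,5,8,16])] [(1,0,[1,2,4,8]),(1,1,[1,8,4,10]),(1,0,[6,8,5,10]),(1,1,[12,10,5,2]),(2,0,[7,8,11,10]),(1,1,[7,8,11,10]),(2,0,[1,2,6,8])] ([1,2,4,8],[1,2,6,8]) = true := by decide +kernel
theorem c10002243 : chkDer M10001 [([1,2,4,8],[1,8,4,10]),([1,2,4,8,16],[7,2,3,8,16])] [(1,0,[1,2,4,8]),(1,1,[1,8,4,10]),(1,0,[7,8,3,10]),(1,1,[13,10,9,2]),(2,0,[6,8,13,10]),(1,1,[6,8,13,10]),(2,0,[1,2,6,8])] ([1,2,4,8],[1,2,6,8]) = true := by decide +kernel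
theorem c10001507 : chkDer M10001 [([1,2,4,8],[1,8,4,10]),([1,2,4,8,16],[6,2,7,9,20])] [(1,0,[1,2,4,8]),(2,1,[5,13,3,15]),(1,0,[5,13,3,15]),(1,1,[5,15,9,7]),(1,0,[1,10,15,3])] ([1,2,4,8],[1,2,7,9]) = true := by decide +kernel
theorem c10001183 : chkDer M10001 [([1,2,6,16],[1,16,6,18]),([1,2,4,8,16],[5,2,4,17,13]),([1,2,4,8],[1,8,4,10])] [(1,0,[1,2,6,8]),(1,1,[1,16,22,18]),(1,2,[5,13,11,15]),(1,1,[5,15,3,7]),(1,0,[1,10,5,3])] ([1,2,4,16],[1,2,7,17]) = true := by decide +kernel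
theorem c10002519 : chkRc M10001 0 [(29,2),(5,1),(16,1),(17,1)] = true := by decide +kernel
theorem c10002375 : chkDer M10001 [([1,2,4,8],[1,8,4,10]),([1,2,4,8,16],[7,2,1,9,21])] [(1,0,[1,2,4,8]),(2,1,[4,12,7,14]),(1,0,[4,12,7,14]),(1,1,[4,14,13,6]),(1,0,[1,10,15,3])] ([1,2,4,8],[1,2,7,9]) = true := by decide +kernel
theorem c10000852 : chkDer M10001 [([1,2,4,8],[1,8,4,10]),([1,2,4,8,16],[4,2,3,21,13]),([1,2,6,16],[1,16,6,18])] [(1,0,[1,2,4,8]),(2,1,[6,23,1,21]),(1,2,[4,13,1,15]),(1,1,[6,21,1,5]),(1,0,[1,10,4,7])] ([1,2,4,8],[1,2,4,13]) = true := by decide +kernel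
theorem c10001287 : chkDer M10001 [([1,2,4,8],[1,8,4,10]),([1,2,4,8,16],[5,2,3,13,17])] [(1,0,[1,2,4,8]),(1,1,[1,8,4,10]),(1,0,[5,13,3,15]),(2,1,[1,10,15,3]),(1,0,[1,10,15,3])] ([1,2,4,8],[1,2,7,9]) = true := by decide +kernel
theorem c10001055 : chkDer M10001 [([1,2,4,8],[1,8,4,10]),([1,2,4,8,16],[5,2,6,16,12]),([1,2,6,16],[1,16,6,18])] [(1,0,[1,2,4,8]),(2,1,[7,22,6,20]),(1,2,[5,12,4,14]),(1,1,[7,20,6,4]),(1,0,[1,10,4,6])] ([1,2,4,8],[1,2,4,12]) = true := by decide +kernel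
theorem c10002113 : chkDer M10001 [([1,2,6,16],[1,16,6,18]),([1,2,4,8,16],[7,2,4,8,20])] [(1,0,[1,2,6,8]),(1,1,[1,16,22,18]),(2,0,[5,12,8,6]),(1,1,[7,22,16,4]),(1,0,[1,10,14,6])] ([1,2,4,16],[1,2,4,22]) = true := by decide +kernel
theorem c10002142 : chkDer M10001 [([1,2,6,16],[1,16,6,18]),([1,2,4,8,16],[7,2,4,12,20])] [(1,0,[1,2,6,8]),(1,1,[1,16,22,18]),(2,0,[5,12,8,6]),(1,1,[7,22,16,4]),(1,0,[1,10,14,6])] ([1,2,4,16],[1,2,4,22]) = true := by decide +kernel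
theorem c10001841 : chkDer M10001 [([1,2,4,8],[1,8,4,10]),([1,2,4,8,16],[6,2,3,20,9]),([1,2,6,16],[1,16,6,18])] [(1,0,[1,2,4,8]),(1,1,[1,8,4,10]),(2,2,[4,12,11,6]),(1,1,[6,22,19,4]),(2,0,[1,2,7,11])] ([1,2,4,8],[1,2,7,11]) = true := by decide +kernel
theorem c10002499 : chkCF M10001 (2,Z10002497) [1] = true := by decide +kernel
theorem c10002509 : chkCF M10001 (16,Z10002497) [1] = true := by decide +kernel
theorem c10001499 : chkDer M10001 [([1,2,4,8],[1,8,4,10]),([1,2,4,8,16],[6,2,7,8,16])] [(1,0,[1,2,4,8]),(2,1,[5,8,3,10]),(1,0,[5,8,3,10]),(1,1,[5,10,9,2]),(1,0,[1,10,14,2])] ([1,2,4,8],[1,2,6,8]) = true := by decide +kernel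
theorem c10001999 : chkDer M10001 [([1,2,4,8],[1,8,4,10]),([1,2,4,8,16],[7,2,6,8,16])] [(1,0,[1,2,4,8]),(2,1,[5,8,6,10]),(1,0,[5,8,6,10]),(1,1,[5,10,12,2]),(1,0,[1,10,14,2])] ([1,2,4,8],[1,2,6,8]) = true := by decide +kernel
theorem c10002371 : chkDer M10001 [([1,2,4,8],[1,8,4,10]),([1,2,4,8,16],[7,2,1,8,16])] [(1,0,[1,2,4,8]),(2,1,[4,8,7,10]),(1,0,[4,8,7,10]),(1,1,[4,10,13,2]),(1,0,[1,10,14,2])] ([1,2,4,8],[1,2,6,8]) = true := by decide +kernel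
theorem c10001147 : chkDer M10001 [([1,2,4,8],[1,8,4,10]),([1,2,4,8,16],[5,2,4,12,16])] [(1,0,[1,2,4,8]),(1,1,[1,8,4,10]),(1,0,[5,12,4,14]),(1,1,[5,14,4,6]),(1,0,[1,10,4,6])] ([1,2,4,8],[1,2,4,12]) = true := by decide +kernel
theorem c10001983 : chkDer M10001 [([1,2,4,8],[1,8,4,10]),([1,2,4,8,16],[6,2,1,21,8]),([1,2,6,16],[1,16,6,18])] [(1,0,[1,2,4,8]),(1,1,[1,8,4,10]),(2,2,[4,13,1,7]),(2,1,[1,10,4,7]),(1,0,[1,10,4,7])] ([1,2,4,8],[1,2,4,13]) = true := by decide +kernel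
theorem c10000935 : chkDer M10001 [([1,2,6,16],[1,16,6,18]),([1,2,4,8,16],[4,2,1,16,8]),([1,2,4,8],[1,8,4,10])] [(1,0,[1,2,6,8]),(1,1,[1,16,22,18]),(1,2,[4,8,11,10]),(1,1,[4,10,3,2]),(1,0,[1,10,4,2])] ([1,2,4,16],[1,2,6,16]) = true := by decide +kernel
theorem c10000999 : chkDer M10001 [([1,2,4,8],[1,8,4,10]),([1,2,4,8,16],[5,2,6,8,16])] [(1,0,[1,2,4,8]),(1,1,[1,8,4,10]),(1,0,[5,8,6,10]),(2,1,[1,10,14,2]),(1,0,[1,10,14,2])] ([1,2,4,8],[1,2,6,8]) = true := by decide +kernel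
theorem c10001691 : chkDer M10001 [([1,2,4,8],[1,8,4,10]),([1,2,4,8,16],[6,2,5,16,8]),([1,2,6,16],[1,16,6,18])] [(1,0,[1,2,4,8]),(1,1,[1,8,4,10]),(1,2,[4,8,7,10]),(2,1,[1,10,14,2]),(1,0,[1,10,14,2])] ([1,2,4,8],[1,2,6,8]) = true := by decide +kernel
theorem c10000743 : chkDer M10001 [([1,2,4,8],[1,8,4,10]),([1,2,4,8,16],[4,2,3,8,21])] [(1,0,[1,2,4,8]),(1,1,[1,8,4,10]),(1,0,[4,8,3,10]),(2,1,[1,10,14,2]),(1,0,[1,10,14,2])] ([1,2,4,8],[1,2,6,8]) = true := by decide +kernel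
theorem c10000755 : chkDer M10001 [([1,2,4,8],[1,8,4,10]),([1,2,4,8,16],[4,2,3,8,16])] [(1,0,[1,2,4,8]),(1,1,[1,8,4,10]),(1,0,[4,8,3,10]),(2,1,[1,10,14,2]),(1,0,[1,10,14,2])] ([1,2,4,8],[1,2,6,8]) = true := by decide +kernel
theorem c10001865 : chkDer M10001 [([1,2,4,8],[1,8,4,10]),([1,2,4,8,16],[6,2,1,8,21])] [(1,0,[1,2,4,8]),(2,1,[4,8,3,10]),(1,0,[4,8,3,10]),(1,1,[4,10,9,2]),(1,0,[1,10,14,2])] ([1,2,4,8],[1,2,6,8]) = true := by decide +kernel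
theorem c10002081 : chkDer M10001 [([1,2,4,8],[1,8,4,10]),([1,2,4,8,16],[7,2,6,20,12]),([1,2,6,16],[1,16,6,18])] [(1,0,[1,2,4,8]),(1,1,[1,8,4,10]),(2,2,[5,12,4,6]),(2,1,[1,10,4,6]),(1,0,[1,10,4,6])] ([1,2,4,8],[1,2,4,12]) = true := by decide +kernel
theorem c10000073 : chkDer M10001 [([1,2,4,8],[1,8,4,10]),([1,2,4,8,16],[3,2,7,16,13]),([1,2,6,16],[1,16,6,18])] [(1,0,[2]),(2,1,[22]),(2,2,[6]),(2,1,[5]),(1,2,[7]),(1,1,[23]),(1,0,[11]),(1,1,[3])] ([2],[1]) = true := by decide +kernel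
theorem c10000317 : chkDer M10001 [([1,2,4,8],[1,8,4,10]),([1,2,4,8,16],[3,2,5,16,12]),([1,2,6,16],[1,16,6,18])] [(1,0,[2]),(2,1,[23]),(2,2,[7]),(2,1,[4]),(1,2,[6]),(1,1,[22]),(1,0,[11]),(1,1,[3])] ([2],[1]) = true := by decide +kernel
theorem c10000417 : chkDer M10001 [([1,2,4,8],[1,8,4,10]),([1,2,4,8,16],[3,2,4,13,20]),([1,2,6,16],[1,16,6,18])] [(1,0,[2]),(1,1,[8]),(2,0,[7]),(1,1,[7]),(1,2,[7]),(1,1,[23]),(2,2,[3]),(1,1,[3])] ([2],[1]) = true := by decide +kernel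
theorem c10002109 : chkDer M10001 [([1,2,6,16],[1,16,6,18]),([1,2,4,8,16],[7,2,4,8,21]),([1,2,4,8],[1,8,4,10])] [(1,0,[2]),(2,1,[19]),(1,0,[11]),(1,2,[3]),(1,1,[9]),(1,2,[15]),(1,1,[7])] ([2],[1]) = true := by decide +kernel
theorem c10000125 : chkDer M10001 [([1,2,4,8],[1,8,4,10]),([1,2,4,8,16],[3,2,7,21,12]),([1,2,6,16],[1,16,6,18])] [(1,0,[2]),(1,1,[8]),(1,2,[15]),(1,1,[5]),(1,2,[6]),(1,1,[22]),(2,0,[3]),(1,1,[3])] ([2],[1]) = true := by decide +kernel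
theorem c10000345 : chkDer M10001 [([1,2,4,8],[1,8,4,10]),([1,2,4,8,16],[3,2,5,20,13]),([1,2,6,16],[1,16,6,18])] [(1,0,[2]),(1,1,[8]),(1,2,[14]),(1,1,[4]),(1,2,[7]),(1,1,[23]),(2,0,[3]),(1,1,[3])] ([2],[1]) = true := by decide +kernel
theorem c10000495 : chkDer M10001 [([1,2,6,16],[1,16,6,18]),([1,2,4,8,16],[4,2,7,8,17]),([1,2,4,8],[1,8,4,10])] [(1,0,[2]),(1,1,[16]),(2,0,[3]),(1,2,[3]),(2,1,[15]),(1,2,[15]),(1,1,[7])] ([2],[1]) = true := by decide +kernel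
theorem c10000117 : chkDer M10001 [([1,2,4,8],[1,8,4,10]),([1,2,4,8,16],[3,2,7,20,8]),([1,2,6,16],[1,16,6,18])] [(1,0,[2]),(1,1,[8]),(1,2,[14]),(2,1,[5]),(1,2,[7]),(2,1,[9]),(2,0,[3]),(1,1,[3])] ([2],[1]) = true := by decide +kernel
theorem c10000675 : chkDer M10001 [([1,2,4,8],[1,8,4,10]),([1,2,4,8,16],[4,2,5,13,16]),([1,2,6,16],[1,16,6,18])] [(1,0,[2]),(1,1,[8]),(2,0,[7]),(1,1,[7]),(1,2,[3]),(1,1,[17]),(1,2,[14]),(2,1,[1])] ([2],[1]) = true := by decide +kernel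
theorem c10001747 : chkDer M10001 [([1,2,6,16],[1,16,6,18]),([1,2,4,8,16],[6,2,3,8,20]),([1,2,4,8],[1,8,4,10])] [(1,0,[2]),(2,1,[19]),(1,0,[11]),(1,2,[3]),(1,1,[9]),(1,2,[14]),(1,1,[6])] ([2],[1]) = true := by decide +kernel
theorem c10002231 : chkDer M10001 [([1,2,6,16],[1,16,6,18]),([1,2,4,8,16],[7,2,3,8,21]),([1,2,4,8],[1,8,4,10])] [(1,0,[2]),(2,1,[19]),(1,0,[11]),(1,2,[3]),(1,1,[9]),(1,2,[15]),(2,1,[1])] ([2],[1]) = true := by decide +kernel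
theorem c10000165 : chkDer M10001 [([1,2,4,8],[1,8,4,10]),([1,2,4,8,16],[3,2,6,12,21]),([1,2,6,16],[1,16,6,18])] [(1,0,[2]),(1,1,[8]),(2,0,[6]),(1,1,[6]),(1,2,[6]),(1,1,[22]),(2,2,[3]),(1,1,[3])] ([2],[1]) = true := by decide +kernel
theorem c10000357 : chkDer M10001 [([1,2,4,8],[1,8,4,10]),([1,2,4,8,16],[3,2,5,20,8]),([1,2,6,16],[1,16,6,18])] [(1,0,[2]),(1,1,[8]),(1,2,[14]),(1,1,[4]),(1,2,[7]),(2,1,[9]),(2,0,[3]),(1,1,[3])] ([2],[1]) = true := by decide +kernel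
theorem c10001403 : chkDer M10001 [([1,2,4,8],[1,8,4,10]),([1,2,4,8,16],[5,2,1,12,16]),([1,2,6,16],[1,16,6,18])] [(1,0,[2]),(1,1,[8]),(2,0,[6]),(1,1,[6]),(1,2,[3]),(1,1,[17]),(1,2,[15]),(2,1,[1])] ([2],[1]) = true := by decide +kernel
theorem c10001163 : chkDer M10001 [([1,2,4,8],[1,8,4,10]),([1,2,4,8,16],[5,2,4,13,16]),([1,2,6,16],[1,16,6,18])] [(1,0,[2]),(2,1,[9]),(2,0,[3]),(1,2,[3]),(1,1,[17]),(1,2,[15]),(1,1,[5])] ([2],[1]) = true := by decide +kernel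
theorem c10001195 : chkDer M10001 [([1,2,4,8],[1,8,4,10]),([1,2,4,8,16],[5,2,4,17,8]),([1,2,6,16],[1,16,6,18])] [(1,0,[2]),(1,1,[8]),(2,2,[3]),(1,0,[3]),(2,1,[21]),(1,2,[15]),(1,1,[5])] ([2],[1]) = true := by decide +kernel
theorem c10001515 : chkDer M10001 [([1,2,4,8],[1,8,4,10]),([1,2,4,8,16],[6,2,7,9,16]),([1,2,6,16],[1,16,6,18])] [(1,0,[2]),(1,1,[8]),(2,0,[3]),(1,2,[3]),(2,1,[21]),(1,2,[15]),(1,1,[5])] ([2],[1]) = true := by decide +kernel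
theorem c10002117 : chkDer M10001 [([1,2,6,16],[1,16,6,18]),([1,2,4,8,16],[7,2,4,8,17]),([1,2,4,8],[1,8,4,10])] [(1,0,[2]),(1,1,[16]),(2,0,[3]),(1,2,[3]),(1,1,[9]),(1,2,[15]),(1,1,[7])] ([2],[1]) = true := by decide +kernel
theorem c10001291 : chkDer M10001 [([1,2,4,8],[1,8,4,10]),([1,2,4,8,16],[5,2,3,13,16]),([1,2,6,16],[1,16,6,18])] [(1,0,[2]),(2,1,[9]),(2,0,[3]),(1,2,[3]),(1,1,[17]),(1,2,[15]),(2,1,[1])] ([2],[1]) = true := by decide +kernel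
theorem c10001809 : chkDer M10001 [([1,2,6,16],[1,16,6,18]),([1,2,4,8,16],[6,2,3,16,9]),([1,2,4,8],[1,8,4,10])] [(1,0,[2]),(1,1,[16]),(2,2,[3]),(1,0,[3]),(2,1,[14]),(1,2,[14]),(1,1,[6])] ([2],[1]) = true := by decide +kernel
theorem c10000531 : chkDer M10001 [([1,2,4,8],[1,8,4,10]),([1,2,4,8,16],[4,2,7,12,16]),([1,2,6,16],[1,16,6,18])] [(1,0,[2]),(2,1,[9]),(2,0,[3]),(1,2,[3]),(1,1,[17]),(1,2,[14]),(2,1,[1])] ([2],[1]) = true := by decide +kernel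
theorem c10000903 : chkDer M10001 [([1,2,4,8],[1,8,4,10]),([1,2,4,8,16],[4,2,1,12,16]),([1,2,6,16],[1,16,6,18])] [(1,0,[2]),(2,1,[9]),(2,0,[3]),(1,2,[3]),(1,1,[17]),(1,2,[14]),(1,1,[4])] ([2],[1]) = true := by decide +kernel
theorem c10001387 : chkDer M10001 [([1,2,4,8],[1,8,4,10]),([1,2,4,8,16],[5,2,1,9,16]),([1,2,6,16],[1,16,6,18])] [(1,0,[2]),(1,1,[8]),(2,0,[3]),(1,2,[3]),(1,1,[17]),(1,2,[15]),(2,1,[1])] ([2],[1]) = true := by decide +kernel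
theorem c10002239 : chkDer M10001 [([1,2,6,16],[1,16,6,18]),([1,2,4,8,16],[7,2,3,8,17]),([1,2,4,8],[1,8,4,10])] [(1,0,[2]),(1,1,[16]),(2,0,[3]),(1,2,[3]),(1,1,[9]),(1,2,[15]),(2,1,[1])] ([2],[1]) = true := by decide +kernel
theorem c10001595 : chkDer M10001 [([1,2,6,16],[1,16,6,18]),([1,2,4,8,16],[6,2,7,20,8])] [(1,0,[2]),(2,1,[11]),(2,1,[23]),(2,0,[7]),(1,1,[5])] ([2],[1]) = true := by decide +kernel
theorem c10000245 : chkDer M10001 [([1,2,4,8,16],[3,2,6,21,8])] [(1,0,[1,2,4,8]),(1,0,[3,2,6,21])] ([1,2,4,8],[1,2,4,13]) = true := by decide +kernel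
theorem c10002138 : chkDer M10001 [([1,2,4,8,16],[7,2,4,12,21])] [(1,0,[1,2,4,16]),(1,0,[7,2,4,21])] ([1,2,4,16],[1,2,4,22]) = true := by decide +kernel
theorem c10000887 : chkDer M10001 [([1,2,4,8],[1,8,4,10]),([1,2,4,8,16],[4,2,1,9,16]),([1,2,6,16],[1,16,6,18])] [(1,0,[2]),(1,1,[8]),(2,0,[3]),(1,2,[3]),(1,1,[17]),(1,2,[14]),(1,1,[4])] ([2],[1]) = true := by decide +kernel
theorem c10001623 : chkDer M10001 [([1,2,6,16],[1,16,6,18]),([1,2,4,8,16],[6,2,5,8,17]),([1,2,4,8],[1,8,4,10])] [(1,0,[2]),(1,1,[16]),(2,0,[3]),(1,2,[3]),(1,1,[9]),(1,2,[14]),(2,1,[1])] ([2],[1]) = true := by decide +kernel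
theorem c10000603 : chkDer M10001 [([1,2,4,8],[1,8,4,10]),([1,2,4,8,16],[4,2,7,21,12])] [(1,0,[2]),(1,1,[8]),(1,1,[21]),(1,0,[15]),(1,1,[7])] ([2],[1]) = true := by decide +kernel
theorem c10001687 : chkDer M10001 [([1,2,4,8],[1,8,4,10]),([1,2,4,8,16],[6,2,5,16,9])] [(1,0,[2]),(2,1,[23]),(2,1,[14]),(1,0,[14]),(2,1,[1])] ([2],[1]) = true := by decide +kernel
theorem c10002443 : chkDer M10001 [([1,2,4,8],[1,8,4,10]),([1,2,4,8,16],[7,2,1,17,12])] [(1,0,[2]),(2,1,[23]),(2,1,[13]),(2,0,[7]),(2,1,[1])] ([2],[1]) = true := by decide +kernel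
theorem c10000085 : chkDer M10001 [([1,2,4,8,16],[3,2,7,16,8])] [(1,0,[1,2,4,8]),(1,0,[3,2,7,16])] ([1,2,4,8],[1,2,6,8]) = true := by decide +kernel
theorem c10000483 : chkDer M10001 [([1,2,4,8,16],[3,2,4,21,8])] [(1,0,[1,2,4,8]),(1,0,[3,2,4,21])] ([1,2,4,8],[1,2,4,15]) = true := by decide +kernel
theorem c10001792 : chkDer M10001 [([1,2,4,8,16],[6,2,3,13,20])] [(1,0,[1,2,4,16]),(1,0,[6,2,3,20])] ([1,2,4,16],[1,2,4,23]) = true := by decide +kernel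
theorem c10002146 : chkDer M10001 [([1,2,4,8,16],[7,2,4,12,17])] [(1,0,[1,2,4,16]),(1,0,[7,2,4,17])] ([1,2,4,16],[1,2,4,22]) = true := by decide +kernel
theorem c10000503 : chkDer M10001 [([1,2,4,8],[1,8,4,10]),([1,2,4,8,16],[4,2,7,9,21])] [(1,0,[2]),(2,1,[15]),(1,0,[15]),(1,1,[7])] ([2],[1]) = true := by decide +kernel
theorem c10000511 : chkDer M10001 [([1,2,4,8],[1,8,4,10]),([1,2,4,8,16],[4,2,7,9,17])] [(1,0,[2]),(2,1,[15]),(1,0,[15]),(1,1,[7])] ([2],[1]) = true := by decide +kernel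
theorem c10000571 : chkDer M10001 [([1,2,6,16],[1,16,6,18]),([1,2,4,8,16],[4,2,7,17,12]),([1,2,4,8],[1,8,4,10])] [(1,0,[2]),(2,1,[15]),(1,2,[15]),(1,1,[7])] ([2],[1]) = true := by decide +kernel
theorem c10000579 : chkDer M10001 [([1,2,6,16],[1,16,6,18]),([1,2,4,8,16],[4,2,7,17,8]),([1,2,4,8],[1,8,4,10])] [(1,0,[2]),(2,1,[15]),(1,2,[15]),(1,1,[7])] ([2],[1]) = true := by decide +kernel
theorem c10001007 : chkDer M10001 [([1,2,4,8],[1,8,4,10]),([1,2,4,8,16],[5,2,6,9,20])] [(1,0,[2]),(2,1,[15]),(1,0,[15]),(1,1,[7])] ([2],[1]) = true := by decide +kernel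
theorem c10001015 : chkDer M10001 [([1,2,4,8],[1,8,4,10]),([1,2,4,8,16],[5,2,6,9,16])] [(1,0,[2]),(2,1,[15]),(1,0,[15]),(1,1,[7])] ([2],[1]) = true := by decide +kernel
theorem c10001076 : chkDer M10001 [([1,2,6,16],[1,16,6,18]),([1,2,4,8,16],[5,2,6,17,8]),([1,2,4,8],[1,8,4,10])] [(1,0,[2]),(2,1,[15]),(1,2,[15]),(1,1,[7])] ([2],[1]) = true := by decide +kernel
theorem c10001635 : chkDer M10001 [([1,2,4,8],[1,8,4,10]),([1,2,4,8,16],[6,2,5,9,20])] [(1,0,[2]),(2,1,[15]),(1,0,[15]),(1,1,[7])] ([2],[1]) = true := by decide +kernel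
theorem c10001643 : chkDer M10001 [([1,2,4,8],[1,8,4,10]),([1,2,4,8,16],[6,2,5,9,16])] [(1,0,[2]),(2,1,[15]),(1,0,[15]),(1,1,[7])] ([2],[1]) = true := by decide +kernel
theorem c10001707 : chkDer M10001 [([1,2,6,16],[1,16,6,18]),([1,2,4,8,16],[6,2,5,17,8]),([1,2,4,8],[1,8,4,10])] [(1,0,[2]),(2,1,[15]),(1,2,[15]),(1,1,[7])] ([2],[1]) = true := by decide +kernel
theorem c10002126 : chkDer M10001 [([1,2,4,8],[1,8,4,10]),([1,2,4,8,16],[7,2,4,9,20])] [(1,0,[2]),(2,1,[15]),(1,0,[15]),(1,1,[7])] ([2],[1]) = true := by decide +kernel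
theorem c10002134 : chkDer M10001 [([1,2,4,8],[1,8,4,10]),([1,2,4,8,16],[7,2,4,9,16])] [(1,0,[2]),(2,1,[15]),(1,0,[15]),(1,1,[7])] ([2],[1]) = true := by decide +kernel
theorem c10002191 : chkDer M10001 [([1,2,6,16],[1,16,6,18]),([1,2,4,8,16],[7,2,4,17,9]),([1,2,4,8],[1,8,4,10])] [(1,0,[2]),(2,1,[15]),(1,2,[15]),(1,1,[7])] ([2],[1]) = true := by decide +kernel
theorem c10001199 : chkDer M10001 [([1,2,6,16],[1,16,6,18]),([1,2,4,8,16],[5,2,4,20,13])] [(1,0,[2]),(1,1,[16]),(1,1,[13]),(1,0,[15]),(1,1,[5])] ([2],[1]) = true := by decide +kernel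
theorem c10001451 : chkDer M10001 [([1,2,6,16],[1,16,6,18]),([1,2,4,8,16],[5,2,1,17,8])] [(1,0,[2]),(2,1,[12]),(2,1,[21]),(1,0,[15]),(2,1,[1])] ([2],[1]) = true := by decide +kernel
theorem c10000191 : chkDer M10001 [([1,2,4,8,16],[3,2,6,16,13])] [(1,0,[1,2,4,8]),(1,0,[3,2,6,16])] ([1,2,4,8],[1,2,4,13]) = true := by decide +kernel
theorem c10000261 : chkDer M10001 [([1,2,4,8,16],[3,2,5,8,16])] [(1,0,[1,2,4,8]),(1,0,[3,2,5,8])] ([1,2,4,8],[1,2,6,8]) = true := by decide +kernel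
theorem c10000470 : chkDer M10001 [([1,2,4,8,16],[3,2,4,20,8])] [(1,0,[1,2,4,8]),(1,0,[3,2,4,20])] ([1,2,4,8],[1,2,4,12]) = true := by decide +kernel
theorem c10001123 : chkDer M10001 [([1,2,4,8,16],[5,2,4,9,20])] [(1,0,[1,2,4,8]),(1,0,[5,2,4,9])] ([1,2,4,8],[1,2,4,12]) = true := by decide +kernel
theorem c10001801 : chkDer M10001 [([1,2,4,8,16],[6,2,3,16,13])] [(1,0,[1,2,4,8]),(1,0,[6,2,3,16])] ([1,2,4,8],[1,2,4,13]) = true := by decide +kernel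
theorem c10000249 : chkDer M10001 [([1,2,6,16],[1,16,6,18]),([1,2,4,8,16],[3,2,5,8,21])] [(1,0,[2]),(1,1,[16]),(1,1,[21]),(1,0,[11]),(1,1,[3])] ([2],[1]) = true := by decide +kernel
theorem c10000301 : chkDer M10001 [([1,2,4,8],[1,8,4,10]),([1,2,4,8,16],[3,2,5,13,20])] [(1,0,[2]),(1,1,[8]),(1,1,[13]),(1,0,[11]),(1,1,[3])] ([2],[1]) = true := by decide +kernel
theorem c10000361 : chkDer M10001 [([1,2,4,8],[1,8,4,10]),([1,2,4,8,16],[3,2,5,21,13])] [(1,0,[2]),(1,1,[8]),(1,1,[21]),(1,0,[11]),(1,1,[3])] ([2],[1]) = true := by decide +kernel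
theorem c10000607 : chkDer M10001 [([1,2,6,16],[1,16,6,18]),([1,2,4,8,16],[4,2,7,21,9])] [(1,0,[2]),(2,1,[14]),(2,1,[20]),(1,0,[14]),(2,1,[1])] ([2],[1]) = true := by decide +kernel
theorem c10000707 : chkDer M10001 [([1,2,6,16],[1,16,6,18]),([1,2,4,8,16],[4,2,5,17,8])] [(1,0,[2]),(2,1,[13]),(2,1,[20]),(1,0,[14]),(2,1,[1])] ([2],[1]) = true := by decide +kernel
theorem c10001439 : chkDer M10001 [([1,2,6,16],[1,16,6,18]),([1,2,4,8,16],[5,2,1,17,13])] [(1,0,[2]),(1,1,[16]),(1,1,[13]),(1,0,[15]),(2,1,[1])] ([2],[1]) = true := by decide +kernel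
theorem c10002207 : chkDer M10001 [([1,2,4,8],[1,8,4,10]),([1,2,4,8,16],[7,2,4,20,9])] [(1,0,[2]),(1,1,[8]),(1,1,[20]),(2,0,[7]),(1,1,[7])] ([2],[1]) = true := by decide +kernel
theorem c10000429 : chkDer M10001 [([1,2,4,8,16],[3,2,4,16,13])] [(1,0,[1,2,4,8]),(1,0,[3,2,4,16])] ([1,2,4,8],[1,2,4,13]) = true := by decide +kernel
theorem c10000875 : chkDer M10001 [([1,2,4,8,16],[4,2,1,9,21])] [(1,0,[1,2,4,8]),(1,0,[4,2,1,9])] ([1,2,4,8],[1,2,4,13]) = true := by decide +kernel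
theorem c10001171 : chkDer M10001 [([1,2,4,8,16],[5,2,4,16,12])] [(1,0,[1,2,4,8]),(1,0,[5,2,4,16])] ([1,2,4,8],[1,2,4,12]) = true := by decide +kernel
theorem c10000655 : chkDer M10001 [([1,2,6,16],[1,16,6,18]),([1,2,4,8,16],[4,2,5,12,17])] [(1,0,[2]),(2,1,[21]),(1,0,[15]),(1,1,[5])] ([2],[1]) = true := by decide +kernel
theorem c10000687 : chkDer M10001 [([1,2,4,8],[1,8,4,10]),([1,2,4,8,16],[4,2,5,16,9]),([1,2,6,16],[1,16,6,18])] [(1,0,[2]),(2,1,[21]),(1,2,[15]),(1,1,[5])] ([2],[1]) = true := by decide +kernel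
theorem c10001114 : chkDer M10001 [([1,2,6,16],[1,16,6,18]),([1,2,4,8,16],[5,2,4,8,17])] [(1,0,[2]),(2,1,[21]),(1,0,[15]),(1,1,[5])] ([2],[1]) = true := by decide +kernel
theorem c10001143 : chkDer M10001 [([1,2,6,16],[1,16,6,18]),([1,2,4,8,16],[5,2,4,12,17])] [(1,0,[2]),(2,1,[21]),(1,0,[15]),(1,1,[5])] ([2],[1]) = true := by decide +kernel
theorem c10001175 : chkDer M10001 [([1,2,4,8],[1,8,4,10]),([1,2,4,8,16],[5,2,4,16,9]),([1,2,6,16],[1,16,6,18])] [(1,0,[2]),(2,1,[21]),(1,2,[15]),(1,1,[5])] ([2],[1]) = true := by decide +kernel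
theorem c10001207 : chkDer M10001 [([1,2,4,8],[1,8,4,10]),([1,2,4,8,16],[5,2,4,20,9]),([1,2,6,16],[1,16,6,18])] [(1,0,[2]),(2,1,[21]),(1,2,[15]),(1,1,[5])] ([2],[1]) = true := by decide +kernel
theorem c10001511 : chkDer M10001 [([1,2,6,16],[1,16,6,18]),([1,2,4,8,16],[6,2,7,9,17])] [(1,0,[2]),(2,1,[21]),(1,0,[15]),(1,1,[5])] ([2],[1]) = true := by decide +kernel
theorem c10001575 : chkDer M10001 [([1,2,4,8],[1,8,4,10]),([1,2,4,8,16],[6,2,7,17,9]),([1,2,6,16],[1,16,6,18])] [(1,0,[2]),(2,1,[21]),(1,2,[15]),(1,1,[5])] ([2],[1]) = true := by decide +kernel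
theorem c10001995 : chkDer M10001 [([1,2,6,16],[1,16,6,18]),([1,2,4,8,16],[7,2,6,8,17])] [(1,0,[2]),(2,1,[21]),(1,0,[15]),(1,1,[5])] ([2],[1]) = true := by decide +kernel
theorem c10002056 : chkDer M10001 [([1,2,4,8],[1,8,4,10]),([1,2,4,8,16],[7,2,6,16,9]),([1,2,6,16],[1,16,6,18])] [(1,0,[2]),(2,1,[21]),(1,2,[15]),(1,1,[5])] ([2],[1]) = true := by decide +kernel
theorem c10002085 : chkDer M10001 [([1,2,4,8],[1,8,4,10]),([1,2,4,8,16],[7,2,6,20,9]),([1,2,6,16],[1,16,6,18])] [(1,0,[2]),(2,1,[21]),(1,2,[15]),(1,1,[5])] ([2],[1]) = true := by decide +kernel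
theorem c10002395 : chkDer M10001 [([1,2,4,8],[1,8,4,10]),([1,2,4,8,16],[7,2,1,12,20])] [(1,0,[2]),(2,1,[15]),(1,0,[15]),(2,1,[1])] ([2],[1]) = true := by decide +kernel
theorem c10002403 : chkDer M10001 [([1,2,4,8],[1,8,4,10]),([1,2,4,8,16],[7,2,1,12,16])] [(1,0,[2]),(2,1,[15]),(1,0,[15]),(2,1,[1])] ([2],[1]) = true := by decide +kernel
theorem c10000011 : chkDer M10001 [([1,2,6,16],[1,16,6,18]),([1,2,4,8,16],[3,2,7,8,20])] [(1,0,[2]),(1,1,[16]),(1,1,[20]),(1,0,[11]),(1,1,[3])] ([2],[1]) = true := by decide +kernel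
theorem c10000045 : chkDer M10001 [([1,2,4,8],[1,8,4,10]),([1,2,4,8,16],[3,2,7,12,20])] [(1,0,[2]),(1,1,[8]),(1,1,[12]),(1,0,[11]),(1,1,[3])] ([2],[1]) = true := by decide +kernel
theorem c10000057 : chkDer M10001 [([1,2,4,8],[1,8,4,10]),([1,2,4,8,16],[3,2,7,13,21])] [(1,0,[2]),(1,1,[8]),(1,1,[13]),(2,0,[3]),(1,1,[3])] ([2],[1]) = true := by decide +kernel
theorem c10000069 : chkDer M10001 [([1,2,4,8],[1,8,4,10]),([1,2,4,8,16],[3,2,7,13,16])] [(1,0,[2]),(1,1,[8]),(1,1,[13]),(2,0,[3]),(1,1,[3])] ([2],[1]) = true := by decide +kernel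
theorem c10000121 : chkDer M10001 [([1,2,4,8],[1,8,4,10]),([1,2,4,8,16],[3,2,7,21,13])] [(1,0,[2]),(1,1,[8]),(1,1,[21]),(2,0,[3]),(1,1,[3])] ([2],[1]) = true := by decide +kernel
theorem c10000237 : chkDer M10001 [([1,2,4,8],[1,8,4,10]),([1,2,4,8,16],[3,2,6,21,12])] [(1,0,[2]),(1,1,[8]),(1,1,[21]),(2,0,[3]),(1,1,[3])] ([2],[1]) = true := by decide +kernel
theorem c10001303 : chkDer M10001 [([1,2,6,16],[1,16,6,18]),([1,2,4,8,16],[5,2,3,16,9])] [(1,0,[2]),(1,1,[16]),(1,1,[9]),(1,0,[15]),(2,1,[1])] ([2],[1]) = true := by decide +kernel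
theorem c10001423 : chkDer M10001 [([1,2,6,16],[1,16,6,18]),([1,2,4,8,16],[5,2,1,16,13])] [(1,0,[2]),(1,1,[16]),(1,1,[13]),(1,0,[14]),(1,1,[4])] ([2],[1]) = true := by decide +kernel
theorem c10001833 : chkDer M10001 [([1,2,4,8],[1,8,4,10]),([1,2,4,8,16],[6,2,3,20,13])] [(1,0,[2]),(1,1,[8]),(1,1,[20]),(1,0,[14]),(1,1,[6])] ([2],[1]) = true := by decide +kernel
theorem c10002351 : chkDer M10001 [([1,2,4,8],[1,8,4,10]),([1,2,4,8,16],[7,2,3,21,9])] [(1,0,[2]),(1,1,[8]),(1,1,[21]),(2,0,[7]),(2,1,[1])] ([2],[1]) = true := by decide +kernel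
theorem c10002451 : chkDer M10001 [([1,2,4,8],[1,8,4,10]),([1,2,4,8,16],[7,2,1,17,8])] [(1,0,[2]),(1,1,[8]),(1,1,[17]),(1,0,[15]),(2,1,[1])] ([2],[1]) = true := by decide +kernel
theorem c10000081 : chkDer M10001 [([1,2,4,8],[1,8,4,10]),([1,2,4,8,16],[3,2,7,16,9]),([1,2,6,16],[1,16,6,18])] [(1,0,[2]),(2,1,[19]),(1,2,[11]),(1,1,[3])] ([2],[1]) = true := by decide +kernel
theorem c10000113 : chkDer M10001 [([1,2,4,8],[1,8,4,10]),([1,2,4,8,16],[3,2,7,20,9]),([1,2,6,16],[1,16,6,18])] [(1,0,[2]),(2,1,[19]),(1,2,[11]),(1,1,[3])] ([2],[1]) = true := by decide +kernel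
theorem c10000199 : chkDer M10001 [([1,2,4,8],[1,8,4,10]),([1,2,4,8,16],[3,2,6,16,9]),([1,2,6,16],[1,16,6,18])] [(1,0,[2]),(2,1,[19]),(1,2,[11]),(1,1,[3])] ([2],[1]) = true := by decide +kernel
theorem c10000241 : chkDer M10001 [([1,2,4,8],[1,8,4,10]),([1,2,4,8,16],[3,2,6,21,9]),([1,2,6,16],[1,16,6,18])] [(1,0,[2]),(2,1,[19]),(1,2,[11]),(1,1,[3])] ([2],[1]) = true := by decide +kernel
theorem c10000353 : chkDer M10001 [([1,2,4,8],[1,8,4,10]),([1,2,4,8,16],[3,2,5,20,9]),([1,2,6,16],[1,16,6,18])] [(1,0,[2]),(2,1,[19]),(1,2,[11]),(1,1,[3])] ([2],[1]) = true := by decide +kernel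
theorem c10000437 : chkDer M10001 [([1,2,4,8],[1,8,4,10]),([1,2,4,8,16],[3,2,4,16,9]),([1,2,6,16],[1,16,6,18])] [(1,0,[2]),(2,1,[19]),(1,2,[11]),(1,1,[3])] ([2],[1]) = true := by decide +kernel
theorem c10000479 : chkDer M10001 [([1,2,4,8],[1,8,4,10]),([1,2,4,8,16],[3,2,4,21,9]),([1,2,6,16],[1,16,6,18])] [(1,0,[2]),(2,1,[19]),(1,2,[11]),(1,1,[3])] ([2],[1]) = true := by decide +kernel
theorem c10000763 : chkDer M10001 [([1,2,4,8],[1,8,4,10]),([1,2,4,8,16],[4,2,3,9,20])] [(1,0,[2]),(2,1,[14]),(1,0,[14]),(1,1,[6])] ([2],[1]) = true := by decide +kernel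
theorem c10000771 : chkDer M10001 [([1,2,4,8],[1,8,4,10]),([1,2,4,8,16],[4,2,3,9,16])] [(1,0,[2]),(2,1,[14]),(1,0,[14]),(1,1,[6])] ([2],[1]) = true := by decide +kernel
theorem c10000832 : chkDer M10001 [([1,2,6,16],[1,16,6,18]),([1,2,4,8,16],[4,2,3,17,8]),([1,2,4,8],[1,8,4,10])] [(1,0,[2]),(2,1,[14]),(1,2,[14]),(1,1,[6])] ([2],[1]) = true := by decide +kernel
theorem c10001027 : chkDer M10001 [([1,2,6,16],[1,16,6,18]),([1,2,4,8,16],[5,2,6,12,17])] [(1,0,[2]),(2,1,[23]),(2,0,[7]),(2,1,[1])] ([2],[1]) = true := by decide +kernel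
theorem c10001072 : chkDer M10001 [([1,2,4,8],[1,8,4,10]),([1,2,4,8,16],[5,2,6,17,9]),([1,2,6,16],[1,16,6,18])] [(1,0,[2]),(2,1,[23]),(2,2,[7]),(2,1,[1])] ([2],[1]) = true := by decide +kernel
theorem c10001235 : chkDer M10001 [([1,2,6,16],[1,16,6,18]),([1,2,4,8,16],[5,2,3,8,20])] [(1,0,[2]),(2,1,[23]),(2,0,[7]),(2,1,[1])] ([2],[1]) = true := by decide +kernel
theorem c10001251 : chkDer M10001 [([1,2,4,8],[1,8,4,10]),([1,2,4,8,16],[5,2,3,9,20])] [(1,0,[2]),(2,1,[14]),(1,0,[14]),(1,1,[6])] ([2],[1]) = true := by decide +kernel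
theorem c10001259 : chkDer M10001 [([1,2,4,8],[1,8,4,10]),([1,2,4,8,16],[5,2,3,9,16])] [(1,0,[2]),(2,1,[14]),(1,0,[14]),(1,1,[6])] ([2],[1]) = true := by decide +kernel
theorem c10001299 : chkDer M10001 [([1,2,4,8],[1,8,4,10]),([1,2,4,8,16],[5,2,3,16,12]),([1,2,6,16],[1,16,6,18])] [(1,0,[2]),(2,1,[23]),(2,2,[7]),(2,1,[1])] ([2],[1]) = true := by decide +kernel
theorem c10001315 : chkDer M10001 [([1,2,4,8],[1,8,4,10]),([1,2,4,8,16],[5,2,3,17,12]),([1,2,6,16],[1,16,6,18])] [(1,0,[2]),(2,1,[23]),(2,2,[7]),(2,1,[1])] ([2],[1]) = true := by decide +kernel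
theorem c10001323 : chkDer M10001 [([1,2,6,16],[1,16,6,18]),([1,2,4,8,16],[5,2,3,17,8]),([1,2,4,8],[1,8,4,10])] [(1,0,[2]),(2,1,[14]),(1,2,[14]),(1,1,[6])] ([2],[1]) = true := by decide +kernel
theorem c10001427 : chkDer M10001 [([1,2,4,8],[1,8,4,10]),([1,2,4,8,16],[5,2,1,16,12]),([1,2,6,16],[1,16,6,18])] [(1,0,[2]),(2,1,[21]),(1,2,[15]),(2,1,[1])] ([2],[1]) = true := by decide +kernel
theorem c10001756 : chkDer M10001 [([1,2,4,8],[1,8,4,10]),([1,2,4,8,16],[6,2,3,9,21])] [(1,0,[2]),(2,1,[14]),(1,0,[14]),(1,1,[6])] ([2],[1]) = true := by decide +kernel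
theorem c10001764 : chkDer M10001 [([1,2,4,8],[1,8,4,10]),([1,2,4,8,16],[6,2,3,9,17])] [(1,0,[2]),(2,1,[14]),(1,0,[14]),(1,1,[6])] ([2],[1]) = true := by decide +kernel
theorem c10001817 : chkDer M10001 [([1,2,6,16],[1,16,6,18]),([1,2,4,8,16],[6,2,3,17,13]),([1,2,4,8],[1,8,4,10])] [(1,0,[2]),(2,1,[14]),(1,2,[14]),(1,1,[6])] ([2],[1]) = true := by decide +kernel
theorem c10001829 : chkDer M10001 [([1,2,6,16],[1,16,6,18]),([1,2,4,8,16],[6,2,3,17,8]),([1,2,4,8],[1,8,4,10])] [(1,0,[2]),(2,1,[14]),(1,2,[14]),(1,1,[6])] ([2],[1]) = true := by decide +kernel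
theorem c10002251 : chkDer M10001 [([1,2,4,8],[1,8,4,10]),([1,2,4,8,16],[7,2,3,9,20])] [(1,0,[2]),(2,1,[14]),(1,0,[14]),(1,1,[6])] ([2],[1]) = true := by decide +kernel
theorem c10002259 : chkDer M10001 [([1,2,4,8],[1,8,4,10]),([1,2,4,8,16],[7,2,3,9,16])] [(1,0,[2]),(2,1,[14]),(1,0,[14]),(1,1,[6])] ([2],[1]) = true := by decide +kernel
theorem c10002323 : chkDer M10001 [([1,2,6,16],[1,16,6,18]),([1,2,4,8,16],[7,2,3,17,8]),([1,2,4,8],[1,8,4,10])] [(1,0,[2]),(2,1,[14]),(1,2,[14]),(1,1,[6])] ([2],[1]) = true := by decide +kernel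
theorem c10000285 : chkDer M10001 [([1,2,4,8],[1,8,4,10]),([1,2,4,8,16],[3,2,5,12,20])] [(1,0,[2]),(1,1,[8]),(1,1,[12]),(2,0,[3]),(1,1,[3])] ([2],[1]) = true := by decide +kernel
theorem c10000349 : chkDer M10001 [([1,2,4,8],[1,8,4,10]),([1,2,4,8,16],[3,2,5,20,12])] [(1,0,[2]),(1,1,[8]),(1,1,[20]),(2,0,[3]),(1,1,[3])] ([2],[1]) = true := by decide +kernel
theorem c10000559 : chkDer M10001 [([1,2,6,16],[1,16,6,18]),([1,2,4,8,16],[4,2,7,16,9])] [(1,0,[2]),(1,1,[16]),(1,1,[9]),(1,0,[14]),(2,1,[1])] ([2],[1]) = true := by decide +kernel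
theorem c10000975 : chkDer M10001 [([1,2,6,16],[1,16,6,18]),([1,2,4,8,16],[4,2,1,21,12])] [(1,0,[2]),(1,1,[16]),(1,1,[12]),(1,0,[14]),(1,1,[4])] ([2],[1]) = true := by decide +kernel
theorem c10002475 : chkDer M10001 [([1,2,6,16],[1,16,6,18]),([1,2,4,8,16],[7,2,1,21,12])] [(1,0,[2]),(1,1,[16]),(1,1,[12]),(1,0,[14]),(1,1,[4])] ([2],[1]) = true := by decide +kernel
theorem c10000539 : chkDer M10001 [([1,2,4,8],[1,8,4,10]),([1,2,4,8,16],[4,2,7,13,20])] [(1,0,[2]),(1,1,[8]),(2,0,[7]),(1,1,[7])] ([2],[1]) = true := by decide +kernel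
theorem c10000547 : chkDer M10001 [([1,2,4,8],[1,8,4,10]),([1,2,4,8,16],[4,2,7,13,16])] [(1,0,[2]),(1,1,[8]),(2,0,[7]),(1,1,[7])] ([2],[1]) = true := by decide +kernel
theorem c10000631 : chkDer M10001 [([1,2,6,16],[1,16,6,18]),([1,2,4,8,16],[4,2,5,9,21])] [(1,0,[2]),(1,1,[16]),(1,0,[15]),(1,1,[5])] ([2],[1]) = true := by decide +kernel
theorem c10000663 : chkDer M10001 [([1,2,6,16],[1,16,6,18]),([1,2,4,8,16],[4,2,5,13,21])] [(1,0,[2]),(1,1,[16]),(1,0,[15]),(1,1,[5])] ([2],[1]) = true := by decide +kernel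
theorem c10000731 : chkDer M10001 [([1,2,4,8],[1,8,4,10]),([1,2,4,8,16],[4,2,5,21,12]),([1,2,6,16],[1,16,6,18])] [(1,0,[2]),(1,1,[8]),(1,2,[15]),(1,1,[5])] ([2],[1]) = true := by decide +kernel
theorem c10000739 : chkDer M10001 [([1,2,4,8],[1,8,4,10]),([1,2,4,8,16],[4,2,5,21,8]),([1,2,6,16],[1,16,6,18])] [(1,0,[2]),(1,1,[8]),(1,2,[15]),(1,1,[5])] ([2],[1]) = true := by decide +kernel
theorem c10001039 : chkDer M10001 [([1,2,4,8],[1,8,4,10]),([1,2,4,8,16],[5,2,6,13,20])] [(1,0,[2]),(1,1,[8]),(2,0,[7]),(1,1,[7])] ([2],[1]) = true := by decide +kernel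
theorem c10001047 : chkDer M10001 [([1,2,4,8],[1,8,4,10]),([1,2,4,8,16],[5,2,6,13,16])] [(1,0,[2]),(1,1,[8]),(2,0,[7]),(1,1,[7])] ([2],[1]) = true := by decide +kernel
theorem c10001064 : chkDer M10001 [([1,2,6,16],[1,16,6,18]),([1,2,4,8,16],[5,2,6,17,13]),([1,2,4,8],[1,8,4,10])] [(1,0,[2]),(1,1,[16]),(2,2,[7]),(1,1,[7])] ([2],[1]) = true := by decide +kernel
theorem c10001109 : chkDer M10001 [([1,2,6,16],[1,16,6,18]),([1,2,4,8,16],[5,2,4,8,21])] [(1,0,[2]),(1,1,[16]),(1,0,[15]),(1,1,[5])] ([2],[1]) = true := by decide +kernel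
theorem c10001135 : chkDer M10001 [([1,2,6,16],[1,16,6,18]),([1,2,4,8,16],[5,2,4,12,21])] [(1,0,[2]),(1,1,[16]),(1,0,[15]),(1,1,[5])] ([2],[1]) = true := by decide +kernel
theorem c10001215 : chkDer M10001 [([1,2,4,8],[1,8,4,10]),([1,2,4,8,16],[5,2,4,21,13]),([1,2,6,16],[1,16,6,18])] [(1,0,[2]),(1,1,[8]),(1,2,[15]),(1,1,[5])] ([2],[1]) = true := by decide +kernel
theorem c10001223 : chkDer M10001 [([1,2,4,8],[1,8,4,10]),([1,2,4,8,16],[5,2,4,21,9]),([1,2,6,16],[1,16,6,18])] [(1,0,[2]),(1,1,[8]),(1,2,[15]),(1,1,[5])] ([2],[1]) = true := by decide +kernel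
theorem c10001487 : chkDer M10001 [([1,2,6,16],[1,16,6,18]),([1,2,4,8,16],[6,2,7,8,21])] [(1,0,[2]),(1,1,[16]),(1,0,[15]),(1,1,[5])] ([2],[1]) = true := by decide +kernel
theorem c10001535 : chkDer M10001 [([1,2,4,8],[1,8,4,10]),([1,2,4,8,16],[6,2,7,13,21])] [(1,0,[2]),(2,1,[14]),(1,0,[14]),(2,1,[1])] ([2],[1]) = true := by decide +kernel
theorem c10001543 : chkDer M10001 [([1,2,4,8],[1,8,4,10]),([1,2,4,8,16],[6,2,7,13,17])] [(1,0,[2]),(2,1,[14]),(1,0,[14]),(2,1,[1])] ([2],[1]) = true := by decide +kernel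
theorem c10001599 : chkDer M10001 [([1,2,4,8],[1,8,4,10]),([1,2,4,8,16],[6,2,7,21,13]),([1,2,6,16],[1,16,6,18])] [(1,0,[2]),(1,1,[8]),(1,2,[15]),(1,1,[5])] ([2],[1]) = true := by decide +kernel
theorem c10001607 : chkDer M10001 [([1,2,4,8],[1,8,4,10]),([1,2,4,8,16],[6,2,7,21,9]),([1,2,6,16],[1,16,6,18])] [(1,0,[2]),(1,1,[8]),(1,2,[15]),(1,1,[5])] ([2],[1]) = true := by decide +kernel
theorem c10001663 : chkDer M10001 [([1,2,4,8],[1,8,4,10]),([1,2,4,8,16],[6,2,5,13,21])] [(1,0,[2]),(1,1,[8]),(2,0,[7]),(1,1,[7])] ([2],[1]) = true := by decide +kernel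
theorem c10001671 : chkDer M10001 [([1,2,4,8],[1,8,4,10]),([1,2,4,8,16],[6,2,5,13,17])] [(1,0,[2]),(1,1,[8]),(2,0,[7]),(1,1,[7])] ([2],[1]) = true := by decide +kernel
theorem c10001679 : chkDer M10001 [([1,2,6,16],[1,16,6,18]),([1,2,4,8,16],[6,2,5,16,13]),([1,2,4,8],[1,8,4,10])] [(1,0,[2]),(1,1,[16]),(2,2,[7]),(1,1,[7])] ([2],[1]) = true := by decide +kernel
theorem c10001711 : chkDer M10001 [([1,2,6,16],[1,16,6,18]),([1,2,4,8,16],[6,2,5,20,13]),([1,2,4,8],[1,8,4,10])] [(1,0,[2]),(1,1,[16]),(2,2,[7]),(1,1,[7])] ([2],[1]) = true := by decide +kernel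
theorem c10001987 : chkDer M10001 [([1,2,6,16],[1,16,6,18]),([1,2,4,8,16],[7,2,6,8,21])] [(1,0,[2]),(1,1,[16]),(1,0,[15]),(1,1,[5])] ([2],[1]) = true := by decide +kernel
theorem c10002007 : chkDer M10001 [([1,2,4,8],[1,8,4,10]),([1,2,4,8,16],[7,2,6,9,20])] [(1,0,[2]),(2,1,[13]),(2,0,[7]),(2,1,[1])] ([2],[1]) = true := by decide +kernel
theorem c10002015 : chkDer M10001 [([1,2,4,8],[1,8,4,10]),([1,2,4,8,16],[7,2,6,9,16])] [(1,0,[2]),(2,1,[13]),(2,0,[7]),(2,1,[1])] ([2],[1]) = true := by decide +kernel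
theorem c10002065 : chkDer M10001 [([1,2,6,16],[1,16,6,18]),([1,2,4,8,16],[7,2,6,17,12]),([1,2,4,8],[1,8,4,10])] [(1,0,[2]),(2,1,[13]),(2,2,[7]),(2,1,[1])] ([2],[1]) = true := by decide +kernel
theorem c10002093 : chkDer M10001 [([1,2,4,8],[1,8,4,10]),([1,2,4,8,16],[7,2,6,21,13]),([1,2,6,16],[1,16,6,18])] [(1,0,[2]),(1,1,[8]),(1,2,[15]),(1,1,[5])] ([2],[1]) = true := by decide +kernel
theorem c10002101 : chkDer M10001 [([1,2,4,8],[1,8,4,10]),([1,2,4,8,16],[7,2,6,21,9]),([1,2,6,16],[1,16,6,18])] [(1,0,[2]),(1,1,[8]),(1,2,[15]),(1,1,[5])] ([2],[1]) = true := by decide +kernel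
theorem c10002151 : chkDer M10001 [([1,2,4,8],[1,8,4,10]),([1,2,4,8,16],[7,2,4,13,21])] [(1,0,[2]),(1,1,[8]),(2,0,[7]),(1,1,[7])] ([2],[1]) = true := by decide +kernel
theorem c10002159 : chkDer M10001 [([1,2,4,8],[1,8,4,10]),([1,2,4,8,16],[7,2,4,13,17])] [(1,0,[2]),(1,1,[8]),(2,0,[7]),(1,1,[7])] ([2],[1]) = true := by decide +kernel
theorem c10002167 : chkDer M10001 [([1,2,6,16],[1,16,6,18]),([1,2,4,8,16],[7,2,4,16,13]),([1,2,4,8],[1,8,4,10])] [(1,0,[2]),(1,1,[16]),(2,2,[7]),(1,1,[7])] ([2],[1]) = true := by decide +kernel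
theorem c10002199 : chkDer M10001 [([1,2,6,16],[1,16,6,18]),([1,2,4,8,16],[7,2,4,20,13]),([1,2,4,8],[1,8,4,10])] [(1,0,[2]),(1,1,[16]),(2,2,[7]),(1,1,[7])] ([2],[1]) = true := by decide +kernel
theorem c10002335 : chkDer M10001 [([1,2,6,16],[1,16,6,18]),([1,2,4,8,16],[7,2,3,20,9]),([1,2,4,8],[1,8,4,10])] [(1,0,[2]),(2,1,[13]),(2,2,[7]),(2,1,[1])] ([2],[1]) = true := by decide +kernel
theorem c10001719 : chkDer M10001 [([1,2,4,8],[1,8,4,10]),([1,2,4,8,16],[6,2,5,20,9])] [(1,0,[2]),(1,1,[8]),(1,1,[20]),(2,0,[6]),(2,1,[1])] ([2],[1]) = true := by decide +kernel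
theorem c10000487 : chkDer M10001 [([1,2,6,16],[1,16,6,18]),([1,2,4,8,16],[4,2,7,8,21])] [(1,0,[2]),(2,1,[22]),(2,0,[6]),(2,1,[1])] ([2],[1]) = true := by decide +kernel
theorem c10000551 : chkDer M10001 [([1,2,4,8],[1,8,4,10]),([1,2,4,8,16],[4,2,7,16,13]),([1,2,6,16],[1,16,6,18])] [(1,0,[2]),(2,1,[22]),(2,2,[6]),(2,1,[1])] ([2],[1]) = true := by decide +kernel
theorem c10000599 : chkDer M10001 [([1,2,4,8],[1,8,4,10]),([1,2,4,8,16],[4,2,7,21,13]),([1,2,6,16],[1,16,6,18])] [(1,0,[2]),(2,1,[22]),(2,2,[6]),(2,1,[1])] ([2],[1]) = true := by decide +kernel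
theorem c10000695 : chkDer M10001 [([1,2,4,8],[1,8,4,10]),([1,2,4,8,16],[4,2,5,17,13]),([1,2,6,16],[1,16,6,18])] [(1,0,[2]),(2,1,[20]),(1,2,[14]),(2,1,[1])] ([2],[1]) = true := by decide +kernel
theorem c10000799 : chkDer M10001 [([1,2,6,16],[1,16,6,18]),([1,2,4,8,16],[4,2,3,13,17])] [(1,0,[2]),(2,1,[22]),(2,0,[6]),(2,1,[1])] ([2],[1]) = true := by decide +kernel
theorem c10000828 : chkDer M10001 [([1,2,4,8],[1,8,4,10]),([1,2,4,8,16],[4,2,3,17,9]),([1,2,6,16],[1,16,6,18])] [(1,0,[2]),(2,1,[22]),(2,2,[6]),(2,1,[1])] ([2],[1]) = true := by decide +kernel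
theorem c10000870 : chkDer M10001 [([1,2,6,16],[1,16,6,18]),([1,2,4,8,16],[4,2,1,8,17])] [(1,0,[2]),(2,1,[20]),(1,0,[14]),(1,1,[4])] ([2],[1]) = true := by decide +kernel
theorem c10000899 : chkDer M10001 [([1,2,6,16],[1,16,6,18]),([1,2,4,8,16],[4,2,1,12,17])] [(1,0,[2]),(2,1,[20]),(1,0,[14]),(1,1,[4])] ([2],[1]) = true := by decide +kernel
theorem c10000931 : chkDer M10001 [([1,2,4,8],[1,8,4,10]),([1,2,4,8,16],[4,2,1,16,9]),([1,2,6,16],[1,16,6,18])] [(1,0,[2]),(2,1,[20]),(1,2,[14]),(1,1,[4])] ([2],[1]) = true := by decide +kernel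
theorem c10000979 : chkDer M10001 [([1,2,4,8],[1,8,4,10]),([1,2,4,8,16],[4,2,1,21,9]),([1,2,6,16],[1,16,6,18])] [(1,0,[2]),(2,1,[20]),(1,2,[14]),(1,1,[4])] ([2],[1]) = true := by decide +kernel
theorem c10001019 : chkDer M10001 [([1,2,6,16],[1,16,6,18]),([1,2,4,8,16],[5,2,6,12,21])] [(1,0,[2]),(1,1,[16]),(1,0,[15]),(2,1,[1])] ([2],[1]) = true := by decide +kernel
theorem c10001097 : chkDer M10001 [([1,2,4,8],[1,8,4,10]),([1,2,4,8,16],[5,2,6,21,12]),([1,2,6,16],[1,16,6,18])] [(1,0,[2]),(1,1,[8]),(1,2,[15]),(2,1,[1])] ([2],[1]) = true := by decide +kernel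
theorem c10001105 : chkDer M10001 [([1,2,4,8],[1,8,4,10]),([1,2,4,8,16],[5,2,6,21,8]),([1,2,6,16],[1,16,6,18])] [(1,0,[2]),(1,1,[8]),(1,2,[15]),(2,1,[1])] ([2],[1]) = true := by decide +kernel
theorem c10001279 : chkDer M10001 [([1,2,6,16],[1,16,6,18]),([1,2,4,8,16],[5,2,3,13,21])] [(1,0,[2]),(1,1,[16]),(1,0,[15]),(2,1,[1])] ([2],[1]) = true := by decide +kernel
theorem c10001347 : chkDer M10001 [([1,2,4,8],[1,8,4,10]),([1,2,4,8,16],[5,2,3,21,12]),([1,2,6,16],[1,16,6,18])] [(1,0,[2]),(1,1,[8]),(1,2,[15]),(2,1,[1])] ([2],[1]) = true := by decide +kernel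
theorem c10001355 : chkDer M10001 [([1,2,4,8],[1,8,4,10]),([1,2,4,8,16],[5,2,3,21,8]),([1,2,6,16],[1,16,6,18])] [(1,0,[2]),(1,1,[8]),(1,2,[15]),(2,1,[1])] ([2],[1]) = true := by decide +kernel
theorem c10001367 : chkDer M10001 [([1,2,6,16],[1,16,6,18]),([1,2,4,8,16],[5,2,1,8,17])] [(1,0,[2]),(2,1,[20]),(1,0,[14]),(1,1,[4])] ([2],[1]) = true := by decide +kernel
theorem c10001383 : chkDer M10001 [([1,2,6,16],[1,16,6,18]),([1,2,4,8,16],[5,2,1,9,17])] [(1,0,[2]),(2,1,[20]),(1,0,[14]),(1,1,[4])] ([2],[1]) = true := by decide +kernel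
theorem c10001399 : chkDer M10001 [([1,2,6,16],[1,16,6,18]),([1,2,4,8,16],[5,2,1,12,17])] [(1,0,[2]),(2,1,[20]),(1,0,[14]),(1,1,[4])] ([2],[1]) = true := by decide +kernel
theorem c10001415 : chkDer M10001 [([1,2,6,16],[1,16,6,18]),([1,2,4,8,16],[5,2,1,13,17])] [(1,0,[2]),(2,1,[20]),(1,0,[14]),(1,1,[4])] ([2],[1]) = true := by decide +kernel
theorem c10001447 : chkDer M10001 [([1,2,4,8],[1,8,4,10]),([1,2,4,8,16],[5,2,1,17,9]),([1,2,6,16],[1,16,6,18])] [(1,0,[2]),(2,1,[20]),(1,2,[14]),(1,1,[4])] ([2],[1]) = true := by decide +kernel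
theorem c10001475 : chkDer M10001 [([1,2,4,8],[1,8,4,10]),([1,2,4,8,16],[5,2,1,21,12]),([1,2,6,16],[1,16,6,18])] [(1,0,[2]),(1,1,[8]),(1,2,[15]),(2,1,[1])] ([2],[1]) = true := by decide +kernel
theorem c10001483 : chkDer M10001 [([1,2,4,8],[1,8,4,10]),([1,2,4,8,16],[5,2,1,21,8]),([1,2,6,16],[1,16,6,18])] [(1,0,[2]),(1,1,[8]),(1,2,[15]),(2,1,[1])] ([2],[1]) = true := by decide +kernel
theorem c10001921 : chkDer M10001 [([1,2,6,16],[1,16,6,18]),([1,2,4,8,16],[6,2,1,13,17])] [(1,0,[2]),(2,1,[20]),(1,0,[14]),(1,1,[4])] ([2],[1]) = true := by decide +kernel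
theorem c10001947 : chkDer M10001 [([1,2,4,8],[1,8,4,10]),([1,2,4,8,16],[6,2,1,17,9]),([1,2,6,16],[1,16,6,18])] [(1,0,[2]),(2,1,[20]),(1,2,[14]),(1,1,[4])] ([2],[1]) = true := by decide +kernel
theorem c10002367 : chkDer M10001 [([1,2,6,16],[1,16,6,18]),([1,2,4,8,16],[7,2,1,8,17])] [(1,0,[2]),(2,1,[20]),(1,0,[14]),(1,1,[4])] ([2],[1]) = true := by decide +kernel
theorem c10002431 : chkDer M10001 [([1,2,4,8],[1,8,4,10]),([1,2,4,8,16],[7,2,1,16,9]),([1,2,6,16],[1,16,6,18])] [(1,0,[2]),(2,1,[20]),(1,2,[14]),(1,1,[4])] ([2],[1]) = true := by decide +kernel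
theorem c10002479 : chkDer M10001 [([1,2,4,8],[1,8,4,10]),([1,2,4,8,16],[7,2,1,21,9]),([1,2,6,16],[1,16,6,18])] [(1,0,[2]),(2,1,[20]),(1,2,[14]),(1,1,[4])] ([2],[1]) = true := by decide +kernel
theorem c10000029 : chkDer M10001 [([1,2,4,8],[1,8,4,10]),([1,2,4,8,16],[3,2,7,9,20])] [(1,0,[2]),(1,1,[8]),(2,0,[3]),(1,1,[3])] ([2],[1]) = true := by decide +kernel
theorem c10000037 : chkDer M10001 [([1,2,4,8],[1,8,4,10]),([1,2,4,8,16],[3,2,7,9,16])] [(1,0,[2]),(1,1,[8]),(2,0,[3]),(1,1,[3])] ([2],[1]) = true := by decide +kernel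
theorem c10000065 : chkDer M10001 [([1,2,6,16],[1,16,6,18]),([1,2,4,8,16],[3,2,7,13,17])] [(1,0,[2]),(1,1,[16]),(2,0,[3]),(1,1,[3])] ([2],[1]) = true := by decide +kernel
theorem c10000093 : chkDer M10001 [([1,2,4,8],[1,8,4,10]),([1,2,4,8,16],[3,2,7,17,12]),([1,2,6,16],[1,16,6,18])] [(1,0,[2]),(1,1,[8]),(2,2,[3]),(1,1,[3])] ([2],[1]) = true := by decide +kernel
theorem c10000101 : chkDer M10001 [([1,2,4,8],[1,8,4,10]),([1,2,4,8,16],[3,2,7,17,8]),([1,2,6,16],[1,16,6,18])] [(1,0,[2]),(1,1,[8]),(2,2,[3]),(1,1,[3])] ([2],[1]) = true := by decide +kernel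
theorem c10000149 : chkDer M10001 [([1,2,4,8],[1,8,4,10]),([1,2,4,8,16],[3,2,6,9,21])] [(1,0,[2]),(1,1,[8]),(2,0,[3]),(1,1,[3])] ([2],[1]) = true := by decide +kernel
theorem c10000157 : chkDer M10001 [([1,2,4,8],[1,8,4,10]),([1,2,4,8,16],[3,2,6,9,17])] [(1,0,[2]),(1,1,[8]),(2,0,[3]),(1,1,[3])] ([2],[1]) = true := by decide +kernel
theorem c10000173 : chkDer M10001 [([1,2,6,16],[1,16,6,18]),([1,2,4,8,16],[3,2,6,12,17])] [(1,0,[2]),(1,1,[16]),(2,0,[3]),(1,1,[3])] ([2],[1]) = true := by decide +kernel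
theorem c10000204 : chkDer M10001 [([1,2,4,8],[1,8,4,10]),([1,2,4,8,16],[3,2,6,17,13]),([1,2,6,16],[1,16,6,18])] [(1,0,[2]),(1,1,[8]),(2,2,[3]),(1,1,[3])] ([2],[1]) = true := by decide +kernel
theorem c10000212 : chkDer M10001 [([1,2,4,8],[1,8,4,10]),([1,2,4,8,16],[3,2,6,17,9]),([1,2,6,16],[1,16,6,18])] [(1,0,[2]),(1,1,[8]),(2,2,[3]),(1,1,[3])] ([2],[1]) = true := by decide +kernel
theorem c10000257 : chkDer M10001 [([1,2,6,16],[1,16,6,18]),([1,2,4,8,16],[3,2,5,8,17])] [(1,0,[2]),(1,1,[16]),(2,0,[3]),(1,1,[3])] ([2],[1]) = true := by decide +kernel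
theorem c10000269 : chkDer M10001 [([1,2,4,8],[1,8,4,10]),([1,2,4,8,16],[3,2,5,9,20])] [(1,0,[2]),(1,1,[8]),(2,0,[3]),(1,1,[3])] ([2],[1]) = true := by decide +kernel
theorem c10000277 : chkDer M10001 [([1,2,4,8],[1,8,4,10]),([1,2,4,8,16],[3,2,5,9,16])] [(1,0,[2]),(1,1,[8]),(2,0,[3]),(1,1,[3])] ([2],[1]) = true := by decide +kernel
theorem c10000305 : chkDer M10001 [([1,2,6,16],[1,16,6,18]),([1,2,4,8,16],[3,2,5,13,17])] [(1,0,[2]),(1,1,[16]),(2,0,[3]),(1,1,[3])] ([2],[1]) = true := by decide +kernel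
theorem c10000333 : chkDer M10001 [([1,2,4,8],[1,8,4,10]),([1,2,4,8,16],[3,2,5,17,12]),([1,2,6,16],[1,16,6,18])] [(1,0,[2]),(1,1,[8]),(2,2,[3]),(1,1,[3])] ([2],[1]) = true := by decide +kernel
theorem c10000341 : chkDer M10001 [([1,2,4,8],[1,8,4,10]),([1,2,4,8,16],[3,2,5,17,8]),([1,2,6,16],[1,16,6,18])] [(1,0,[2]),(1,1,[8]),(2,2,[3]),(1,1,[3])] ([2],[1]) = true := by decide +kernel
theorem c10000387 : chkDer M10001 [([1,2,4,8],[1,8,4,10]),([1,2,4,8,16],[3,2,4,9,21])] [(1,0,[2]),(1,1,[8]),(2,0,[3]),(1,1,[3])] ([2],[1]) = true := by decide +kernel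
theorem c10000395 : chkDer M10001 [([1,2,4,8],[1,8,4,10]),([1,2,4,8,16],[3,2,4,9,17])] [(1,0,[2]),(1,1,[8]),(2,0,[3]),(1,1,[3])] ([2],[1]) = true := by decide +kernel
theorem c10000408 : chkDer M10001 [([1,2,6,16],[1,16,6,18]),([1,2,4,8,16],[3,2,4,12,17])] [(1,0,[2]),(1,1,[16]),(2,0,[3]),(1,1,[3])] ([2],[1]) = true := by decide +kernel
theorem c10000442 : chkDer M10001 [([1,2,4,8],[1,8,4,10]),([1,2,4,8,16],[3,2,4,17,13]),([1,2,6,16],[1,16,6,18])] [(1,0,[2]),(1,1,[8]),(2,2,[3]),(1,1,[3])] ([2],[1]) = true := by decide +kernel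
theorem c10000450 : chkDer M10001 [([1,2,4,8],[1,8,4,10]),([1,2,4,8,16],[3,2,4,17,9]),([1,2,6,16],[1,16,6,18])] [(1,0,[2]),(1,1,[8]),(2,2,[3]),(1,1,[3])] ([2],[1]) = true := by decide +kernel
theorem c10000491 : chkDer M10001 [([1,2,6,16],[1,16,6,18]),([1,2,4,8,16],[4,2,7,8,20])] [(1,0,[2]),(1,1,[16]),(1,0,[14]),(2,1,[1])] ([2],[1]) = true := by decide +kernel
theorem c10000583 : chkDer M10001 [([1,2,4,8],[1,8,4,10]),([1,2,4,8,16],[4,2,7,20,13]),([1,2,6,16],[1,16,6,18])] [(1,0,[2]),(1,1,[8]),(1,2,[14]),(2,1,[1])] ([2],[1]) = true := by decide +kernel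
theorem c10000591 : chkDer M10001 [([1,2,4,8],[1,8,4,10]),([1,2,4,8,16],[4,2,7,20,9]),([1,2,6,16],[1,16,6,18])] [(1,0,[2]),(1,1,[8]),(1,2,[14]),(2,1,[1])] ([2],[1]) = true := by decide +kernel
theorem c10000619 : chkDer M10001 [([1,2,6,16],[1,16,6,18]),([1,2,4,8,16],[4,2,5,8,20])] [(1,0,[2]),(1,1,[16]),(1,0,[14]),(2,1,[1])] ([2],[1]) = true := by decide +kernel
theorem c10000651 : chkDer M10001 [([1,2,6,16],[1,16,6,18]),([1,2,4,8,16],[4,2,5,12,20])] [(1,0,[2]),(1,1,[16]),(1,0,[14]),(2,1,[1])] ([2],[1]) = true := by decide +kernel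
theorem c10000711 : chkDer M10001 [([1,2,4,8],[1,8,4,10]),([1,2,4,8,16],[4,2,5,20,13]),([1,2,6,16],[1,16,6,18])] [(1,0,[2]),(1,1,[8]),(1,2,[14]),(2,1,[1])] ([2],[1]) = true := by decide +kernel
theorem c10000719 : chkDer M10001 [([1,2,4,8],[1,8,4,10]),([1,2,4,8,16],[4,2,5,20,9]),([1,2,6,16],[1,16,6,18])] [(1,0,[2]),(1,1,[8]),(1,2,[14]),(2,1,[1])] ([2],[1]) = true := by decide +kernel
theorem c10000747 : chkDer M10001 [([1,2,6,16],[1,16,6,18]),([1,2,4,8,16],[4,2,3,8,20])] [(1,0,[2]),(1,1,[16]),(1,0,[14]),(2,1,[1])] ([2],[1]) = true := by decide +kernel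
theorem c10000779 : chkDer M10001 [([1,2,4,8],[1,8,4,10]),([1,2,4,8,16],[4,2,3,12,20])] [(1,0,[2]),(1,1,[8]),(2,0,[6]),(1,1,[6])] ([2],[1]) = true := by decide +kernel
theorem c10000787 : chkDer M10001 [([1,2,4,8],[1,8,4,10]),([1,2,4,8,16],[4,2,3,12,16])] [(1,0,[2]),(1,1,[8]),(2,0,[6]),(1,1,[6])] ([2],[1]) = true := by decide +kernel
theorem c10000811 : chkDer M10001 [([1,2,6,16],[1,16,6,18]),([1,2,4,8,16],[4,2,3,16,12]),([1,2,4,8],[1,8,4,10])] [(1,0,[2]),(1,1,[16]),(2,2,[6]),(1,1,[6])] ([2],[1]) = true := by decide +kernel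
theorem c10000836 : chkDer M10001 [([1,2,4,8],[1,8,4,10]),([1,2,4,8,16],[4,2,3,20,13]),([1,2,6,16],[1,16,6,18])] [(1,0,[2]),(1,1,[8]),(1,2,[14]),(2,1,[1])] ([2],[1]) = true := by decide +kernel
theorem c10000844 : chkDer M10001 [([1,2,4,8],[1,8,4,10]),([1,2,4,8,16],[4,2,3,20,9]),([1,2,6,16],[1,16,6,18])] [(1,0,[2]),(1,1,[8]),(1,2,[14]),(2,1,[1])] ([2],[1]) = true := by decide +kernel
theorem c10000856 : chkDer M10001 [([1,2,6,16],[1,16,6,18]),([1,2,4,8,16],[4,2,3,21,12]),([1,2,4,8],[1,8,4,10])] [(1,0,[2]),(1,1,[16]),(2,2,[6]),(1,1,[6])] ([2],[1]) = true := by decide +kernel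
theorem c10000879 : chkDer M10001 [([1,2,6,16],[1,16,6,18]),([1,2,4,8,16],[4,2,1,9,20])] [(1,0,[2]),(1,1,[16]),(1,0,[14]),(1,1,[4])] ([2],[1]) = true := by decide +kernel
theorem c10000911 : chkDer M10001 [([1,2,6,16],[1,16,6,18]),([1,2,4,8,16],[4,2,1,13,20])] [(1,0,[2]),(1,1,[16]),(1,0,[14]),(1,1,[4])] ([2],[1]) = true := by decide +kernel
theorem c10000959 : chkDer M10001 [([1,2,4,8],[1,8,4,10]),([1,2,4,8,16],[4,2,1,20,12]),([1,2,6,16],[1,16,6,18])] [(1,0,[2]),(1,1,[8]),(1,2,[14]),(1,1,[4])] ([2],[1]) = true := by decide +kernel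
theorem c10000967 : chkDer M10001 [([1,2,4,8],[1,8,4,10]),([1,2,4,8,16],[4,2,1,20,8]),([1,2,6,16],[1,16,6,18])] [(1,0,[2]),(1,1,[8]),(1,2,[14]),(1,1,[4])] ([2],[1]) = true := by decide +kernel
theorem c10001267 : chkDer M10001 [([1,2,4,8],[1,8,4,10]),([1,2,4,8,16],[5,2,3,12,20])] [(1,0,[2]),(1,1,[8]),(2,0,[6]),(1,1,[6])] ([2],[1]) = true := by decide +kernel
theorem c10001275 : chkDer M10001 [([1,2,4,8],[1,8,4,10]),([1,2,4,8,16],[5,2,3,12,16])] [(1,0,[2]),(1,1,[8]),(2,0,[6]),(1,1,[6])] ([2],[1]) = true := by decide +kernel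
theorem c10001379 : chkDer M10001 [([1,2,6,16],[1,16,6,18]),([1,2,4,8,16],[5,2,1,9,20])] [(1,0,[2]),(1,1,[16]),(1,0,[14]),(1,1,[4])] ([2],[1]) = true := by decide +kernel
theorem c10001411 : chkDer M10001 [([1,2,6,16],[1,16,6,18]),([1,2,4,8,16],[5,2,1,13,20])] [(1,0,[2]),(1,1,[16]),(1,0,[14]),(1,1,[4])] ([2],[1]) = true := by decide +kernel
theorem c10001459 : chkDer M10001 [([1,2,4,8],[1,8,4,10]),([1,2,4,8,16],[5,2,1,20,12]),([1,2,6,16],[1,16,6,18])] [(1,0,[2]),(1,1,[8]),(1,2,[14]),(1,1,[4])] ([2],[1]) = true := by decide +kernel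
theorem c10001467 : chkDer M10001 [([1,2,4,8],[1,8,4,10]),([1,2,4,8,16],[5,2,1,20,8]),([1,2,6,16],[1,16,6,18])] [(1,0,[2]),(1,1,[8]),(1,2,[14]),(1,1,[4])] ([2],[1]) = true := by decide +kernel
theorem c10001739 : chkDer M10001 [([1,2,6,16],[1,16,6,18]),([1,2,4,8,16],[6,2,5,21,8]),([1,2,4,8],[1,8,4,10])] [(1,0,[2]),(2,1,[12]),(2,2,[6]),(2,1,[1])] ([2],[1]) = true := by decide +kernel
theorem c10001776 : chkDer M10001 [([1,2,4,8],[1,8,4,10]),([1,2,4,8,16],[6,2,3,12,20])] [(1,0,[2]),(1,1,[8]),(2,0,[6]),(1,1,[6])] ([2],[1]) = true := by decide +kernel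
theorem c10001784 : chkDer M10001 [([1,2,4,8],[1,8,4,10]),([1,2,4,8,16],[6,2,3,12,16])] [(1,0,[2]),(1,1,[8]),(2,0,[6]),(1,1,[6])] ([2],[1]) = true := by decide +kernel
theorem c10001821 : chkDer M10001 [([1,2,6,16],[1,16,6,18]),([1,2,4,8,16],[6,2,3,17,12]),([1,2,4,8],[1,8,4,10])] [(1,0,[2]),(1,1,[16]),(2,2,[6]),(1,1,[6])] ([2],[1]) = true := by decide +kernel
theorem c10001853 : chkDer M10001 [([1,2,6,16],[1,16,6,18]),([1,2,4,8,16],[6,2,3,21,12]),([1,2,4,8],[1,8,4,10])] [(1,0,[2]),(1,1,[16]),(2,2,[6]),(1,1,[6])] ([2],[1]) = true := by decide +kernel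
theorem c10001881 : chkDer M10001 [([1,2,4,8],[1,8,4,10]),([1,2,4,8,16],[6,2,1,9,21])] [(1,0,[2]),(2,1,[12]),(2,0,[6]),(2,1,[1])] ([2],[1]) = true := by decide +kernel
theorem c10001889 : chkDer M10001 [([1,2,4,8],[1,8,4,10]),([1,2,4,8,16],[6,2,1,9,17])] [(1,0,[2]),(2,1,[12]),(2,0,[6]),(2,1,[1])] ([2],[1]) = true := by decide +kernel
theorem c10001917 : chkDer M10001 [([1,2,6,16],[1,16,6,18]),([1,2,4,8,16],[6,2,1,13,20])] [(1,0,[2]),(1,1,[16]),(1,0,[14]),(1,1,[4])] ([2],[1]) = true := by decide +kernel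
theorem c10001951 : chkDer M10001 [([1,2,6,16],[1,16,6,18]),([1,2,4,8,16],[6,2,1,17,8]),([1,2,4,8],[1,8,4,10])] [(1,0,[2]),(2,1,[12]),(2,2,[6]),(2,1,[1])] ([2],[1]) = true := by decide +kernel
theorem c10001959 : chkDer M10001 [([1,2,4,8],[1,8,4,10]),([1,2,4,8,16],[6,2,1,20,12]),([1,2,6,16],[1,16,6,18])] [(1,0,[2]),(1,1,[8]),(1,2,[14]),(1,1,[4])] ([2],[1]) = true := by decide +kernel
theorem c10001967 : chkDer M10001 [([1,2,4,8],[1,8,4,10]),([1,2,4,8,16],[6,2,1,20,8]),([1,2,6,16],[1,16,6,18])] [(1,0,[2]),(1,1,[8]),(1,2,[14]),(1,1,[4])] ([2],[1]) = true := by decide +kernel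
theorem c10002039 : chkDer M10001 [([1,2,4,8],[1,8,4,10]),([1,2,4,8,16],[7,2,6,13,20])] [(1,0,[2]),(1,1,[8]),(2,0,[7]),(2,1,[1])] ([2],[1]) = true := by decide +kernel
theorem c10002047 : chkDer M10001 [([1,2,4,8],[1,8,4,10]),([1,2,4,8,16],[7,2,6,13,16])] [(1,0,[2]),(1,1,[8]),(2,0,[7]),(2,1,[1])] ([2],[1]) = true := by decide +kernel
theorem c10002061 : chkDer M10001 [([1,2,6,16],[1,16,6,18]),([1,2,4,8,16],[7,2,6,17,13]),([1,2,4,8],[1,8,4,10])] [(1,0,[2]),(1,1,[16]),(2,2,[7]),(2,1,[1])] ([2],[1]) = true := by decide +kernel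
theorem c10002263 : chkDer M10001 [([1,2,4,8],[1,8,4,10]),([1,2,4,8,16],[7,2,3,12,21])] [(1,0,[2]),(1,1,[8]),(2,0,[6]),(1,1,[6])] ([2],[1]) = true := by decide +kernel
theorem c10002271 : chkDer M10001 [([1,2,4,8],[1,8,4,10]),([1,2,4,8,16],[7,2,3,12,17])] [(1,0,[2]),(1,1,[8]),(2,0,[6]),(1,1,[6])] ([2],[1]) = true := by decide +kernel
theorem c10002279 : chkDer M10001 [([1,2,4,8],[1,8,4,10]),([1,2,4,8,16],[7,2,3,13,21])] [(1,0,[2]),(1,1,[8]),(2,0,[7]),(2,1,[1])] ([2],[1]) = true := by decide +kernel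
theorem c10002287 : chkDer M10001 [([1,2,4,8],[1,8,4,10]),([1,2,4,8,16],[7,2,3,13,17])] [(1,0,[2]),(1,1,[8]),(2,0,[7]),(2,1,[1])] ([2],[1]) = true := by decide +kernel
theorem c10002295 : chkDer M10001 [([1,2,6,16],[1,16,6,18]),([1,2,4,8,16],[7,2,3,16,13]),([1,2,4,8],[1,8,4,10])] [(1,0,[2]),(1,1,[16]),(2,2,[7]),(2,1,[1])] ([2],[1]) = true := by decide +kernel
theorem c10002311 : chkDer M10001 [([1,2,6,16],[1,16,6,18]),([1,2,4,8,16],[7,2,3,17,13]),([1,2,4,8],[1,8,4,10])] [(1,0,[2]),(1,1,[16]),(2,2,[7]),(2,1,[1])] ([2],[1]) = true := by decide +kernel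
theorem c10002327 : chkDer M10001 [([1,2,6,16],[1,16,6,18]),([1,2,4,8,16],[7,2,3,20,13]),([1,2,4,8],[1,8,4,10])] [(1,0,[2]),(1,1,[16]),(2,2,[7]),(2,1,[1])] ([2],[1]) = true := by decide +kernel
theorem c10002343 : chkDer M10001 [([1,2,6,16],[1,16,6,18]),([1,2,4,8,16],[7,2,3,21,13]),([1,2,4,8],[1,8,4,10])] [(1,0,[2]),(1,1,[16]),(2,2,[7]),(2,1,[1])] ([2],[1]) = true := by decide +kernel
theorem c10002363 : chkDer M10001 [([1,2,6,16],[1,16,6,18]),([1,2,4,8,16],[7,2,1,8,20])] [(1,0,[2]),(1,1,[16]),(1,0,[14]),(1,1,[4])] ([2],[1]) = true := by decide +kernel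
theorem c10002407 : chkDer M10001 [([1,2,4,8],[1,8,4,10]),([1,2,4,8,16],[7,2,1,13,21])] [(1,0,[2]),(1,1,[8]),(2,0,[7]),(2,1,[1])] ([2],[1]) = true := by decide +kernel
theorem c10002415 : chkDer M10001 [([1,2,4,8],[1,8,4,10]),([1,2,4,8,16],[7,2,1,13,17])] [(1,0,[2]),(1,1,[8]),(2,0,[7]),(2,1,[1])] ([2],[1]) = true := by decide +kernel
theorem c10002423 : chkDer M10001 [([1,2,6,16],[1,16,6,18]),([1,2,4,8,16],[7,2,1,16,13]),([1,2,4,8],[1,8,4,10])] [(1,0,[2]),(1,1,[16]),(2,2,[7]),(2,1,[1])] ([2],[1]) = true := by decide +kernel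
theorem c10002455 : chkDer M10001 [([1,2,4,8],[1,8,4,10]),([1,2,4,8,16],[7,2,1,20,13]),([1,2,6,16],[1,16,6,18])] [(1,0,[2]),(1,1,[8]),(1,2,[14]),(1,1,[4])] ([2],[1]) = true := by decide +kernel
theorem c10002463 : chkDer M10001 [([1,2,4,8],[1,8,4,10]),([1,2,4,8,16],[7,2,1,20,9]),([1,2,6,16],[1,16,6,18])] [(1,0,[2]),(1,1,[8]),(1,2,[14]),(1,1,[4])] ([2],[1]) = true := by decide +kernel
theorem c10002471 : chkDer M10001 [([1,2,6,16],[1,16,6,18]),([1,2,4,8,16],[7,2,1,21,13]),([1,2,4,8],[1,8,4,10])] [(1,0,[2]),(1,1,[16]),(2,2,[7]),(2,1,[1])] ([2],[1]) = true := by decide +kernel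
theorem c10001523 : chkDer M10001 [([1,2,4,8],[1,8,4,10]),([1,2,4,8,16],[6,2,7,12,20])] [(1,0,[2]),(1,1,[8]),(2,0,[6]),(2,1,[1])] ([2],[1]) = true := by decide +kernel
theorem c10001531 : chkDer M10001 [([1,2,4,8],[1,8,4,10]),([1,2,4,8,16],[6,2,7,12,16])] [(1,0,[2]),(1,1,[8]),(2,0,[6]),(2,1,[1])] ([2],[1]) = true := by decide +kernel
theorem c10001571 : chkDer M10001 [([1,2,6,16],[1,16,6,18]),([1,2,4,8,16],[6,2,7,17,12]),([1,2,4,8],[1,8,4,10])] [(1,0,[2]),(1,1,[16]),(2,2,[6]),(2,1,[1])] ([2],[1]) = true := by decide +kernel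
theorem c10001647 : chkDer M10001 [([1,2,4,8],[1,8,4,10]),([1,2,4,8,16],[6,2,5,12,21])] [(1,0,[2]),(1,1,[8]),(2,0,[6]),(2,1,[1])] ([2],[1]) = true := by decide +kernel
theorem c10001655 : chkDer M10001 [([1,2,4,8],[1,8,4,10]),([1,2,4,8,16],[6,2,5,12,17])] [(1,0,[2]),(1,1,[8]),(2,0,[6]),(2,1,[1])] ([2],[1]) = true := by decide +kernel
theorem c10001683 : chkDer M10001 [([1,2,6,16],[1,16,6,18]),([1,2,4,8,16],[6,2,5,16,12]),([1,2,4,8],[1,8,4,10])] [(1,0,[2]),(1,1,[16]),(2,2,[6]),(2,1,[1])] ([2],[1]) = true := by decide +kernel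
theorem c10001715 : chkDer M10001 [([1,2,6,16],[1,16,6,18]),([1,2,4,8,16],[6,2,5,20,12]),([1,2,4,8],[1,8,4,10])] [(1,0,[2]),(1,1,[16]),(2,2,[6]),(2,1,[1])] ([2],[1]) = true := by decide +kernel
theorem c10001897 : chkDer M10001 [([1,2,4,8],[1,8,4,10]),([1,2,4,8,16],[6,2,1,12,21])] [(1,0,[2]),(1,1,[8]),(2,0,[6]),(2,1,[1])] ([2],[1]) = true := by decide +kernel
theorem c10001905 : chkDer M10001 [([1,2,4,8],[1,8,4,10]),([1,2,4,8,16],[6,2,1,12,17])] [(1,0,[2]),(1,1,[8]),(2,0,[6]),(2,1,[1])] ([2],[1]) = true := by decide +kernel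
theorem c10001930 : chkDer M10001 [([1,2,6,16],[1,16,6,18]),([1,2,4,8,16],[6,2,1,16,12]),([1,2,4,8],[1,8,4,10])] [(1,0,[2]),(1,1,[16]),(2,2,[6]),(2,1,[1])] ([2],[1]) = true := by decide +kernel
theorem c10001975 : chkDer M10001 [([1,2,6,16],[1,16,6,18]),([1,2,4,8,16],[6,2,1,21,12]),([1,2,4,8],[1,8,4,10])] [(1,0,[2]),(1,1,[16]),(2,2,[6]),(2,1,[1])] ([2],[1]) = true := by decide +kernel
theorem c10015385 : chkDer M10001 [([1,2,6,16],[1,16,6,18])] [(1,0,[1,2,5,8])] ([1,2,7,16],[1,16,7,18]) = true := by decide +kernel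
theorem c10000138 : chkDer M10001 [] [(0,8,[])] ([1,2,4,16],[1,2,4,18]) = true := by decide +kernel
theorem c10002491 : chkDer M10001 [([1,2,6,16],[1,16,6,18])] [(2,0,[2])] ([16],[2]) = true := by decide +kernel
theorem c10002511 : chkDer M10001 [] [(0,8,[])] ([16],[18]) = true := by decide +kernel

end Cfsg.Lib.D8
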