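import Cfsg.Agent.D8.R0C1

set_option autoImplicit false
set_option maxRecDepth 100000
set_option linter.all false
set_option Elab.async false

namespace Cfsg.Lib.D8

theorem loc0_1 : chkLoc M10001 ⟨5,0,[],[]⟩ [1,2,4,16] [⟨3,0,[⟨1,0,0,0⟩,⟨2,0,0,0⟩,⟨2,1,0,0⟩,⟨5,0,1,0⟩],0,0,false⟩,⟨3,0,[⟨0,2,2,0⟩,⟨1,0,0,0⟩,⟨2,0,0,0⟩,⟨2,1,0,0⟩,⟨2,2,0,0⟩,⟨2,3,0,0⟩,⟨5,0,1,4⟩],0,0,false⟩,⟨3,0,[⟨0,2,2,0⟩,⟨0,4,4,0⟩,⟨1,0,0,0⟩,⟨2,0,0,0⟩,⟨2,1,0,0⟩,⟨2,2,0,0⟩,⟨2,3,0,0⟩,⟨2,4,0,0⟩,⟨2,5,0,0⟩,⟨2,6,0,0⟩,⟨2,7,0,0⟩,⟨5,0,1,0⟩],1,0,false⟩] [[1,2,23,16],[1,2,23,17],[1,2,23,18],[1,2,23,19],[1,2,22,16],[1,2,22,17],[1,2,22,18],[1,2,22,19],[1,2,21,16],[1,2,21,17],[1,2,21,18],[1,2,21,19],[1,2,20,16],[1,2,20,17],[1,2,20,18],[1,2,20,19],[1,2,15,8],[1,2,15,9],[1,2,15,10],[1,2,15,11],[1,2,14,8],[1,2,14,9],[1,2,14,10],[1,2,14,11],[1,2,13,8],[1,2,13,9],[1,2,13,10],[1,2,13,11],[1,2,12,8],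[1,2,12,9],[1,2,12,10],[1,2,12,11],[1,2,7,8],[1,2,7,9],[1,2,7,16],[1,2,7,17],[1,2,6,8],[1,2,6,9],[1,2,6,16],[1,2,6,17],[1,2,5,8],[1,2,5,9],[1,2,5,16],[1,2,5,17],[1,2,4,8],[1,2,4,9],[1,2,4,16],[1,2,4,17],[1,3,23,16],[1,3,23,17],[1,3,23,18],[1,3,23,19],[1,3,22,16],[1,3,22,17],[1,3,22,18],[1,3,22,19],[1,3,21,16],[1,3,21,17],[1,3,21,18],[1,3,21,19],[1,3,20,16],[1,3,20,17],[1,3,20,18],[1,3,20,19],[1,3,15,8],[1,3,15,9],[1,3,15,10],[1,3,15,11],[1,3,14,8],[1,3,14,9],[1,3,14,10],[1,3,14,11],[1,3,13,8],[1,3,13,9],[1,3,13,10],[1,3,13,11],[1,3,12,8],[1,3,12,9],[1,3,12,10],[1,3,12,11],[1,3,7,8],[1,3,7,9],[1,3,7,16],[1,3,7,17],[1,3,6,8],[1,3,6,9],[1,3,6,16],[1,3,6,17],[1,3,5,8],[1,3,5,9],[1,3,5,16],[1,3,5,17],[1,3,4,8],[1,3,4,9],[1,3,4,16],[1,3,4,17],[1,8,15,2],[1,8,15,3],[1,8,15,10],[1,8,15,11],[1,8,14,2],[1,8,14,3],[1,8,14,10],[1,8,14,11],[1,8,13,2]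,[1,8,13,3],[1,8,13,10],[1,8,13,11],[1,8,12,2],[1,8,12,3],[1,8,12,10],[1,8,12,11],[1,8,7,2],[1,8,7,3],[1,8,7,10],[1,8,7,11],[1,8,6,2],[1,8,6,3],[1,8,6,10],[1,8,6,11],[1,8,5,2],[1,8,5,3],[1,8,5,10],[1,8,5,11],[1,8,4,2],[1,8,4,3],[1,8,4,10],[1,8,4,11],[1,9,15,2],[1,9,15,3],[1,9,15,10],[1,9,15,11],[1,9,14,2],[1,9,14,3],[1,9,14,10],[1,9,14,11],[1,9,13,2],[1,9,13,3],[1,9,13,10],[1,9,13,11],[1,9,12,2],[1,9,12,3],[1,9,12,10],[1,9,12,11],[1,9,7,2],[1,9,7,3],[1,9,7,10],[1,9,7,11],[1,9,6,2],[1,9,6,3],[1,9,6,10],[1,9,6,11],[1,9,5,2],[1,9,5,3],[1,9,5,10],[1,9,5,11],[1,9,4,2],[1,9,4,3],[1,9,4,10],[1,9,4,11],[1,10,15,2],[1,10,15,3],[1,10,15,8],[1,10,15,9],[1,10,14,2],[1,10,14,3],[1,10,14,8],[1,10,14,9],[1,10,13,2],[1,10,13,3],[1,10,13,8],[1,10,13,9],[1,10,12,2],[1,10,12,3],[1,10,12,8],[1,10,12,9],[1,10,7,2],[1,10,7,3],[1,10,7,8],[1,10,7,9],[1,10,6,2],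[1,10,6,3],[1,10,6,8],[1,10,6,9],[1,10,5,2],[1,10,5,3],[1,10,5,8],[1,10,5,9],[1,10,4,2],[1,10,4,3],[1,10,4,8],[1,10,4,9],[1,11,15,2],[1,11,15,3],[1,11,15,8],[1,11,15,9],[1,11,14,2],[1,11,14,3],[1,11,14,8],[1,11,14,9],[1,11,13,2],[1,11,13,3],[1,11,13,8],[1,11,13,9],[1,11,12,2],[1,11,12,3],[1,11,12,8],[1,11,12,9],[1,11,7,2],[1,11,7,3],[1,11,7,8],[1,11,7,9],[1,11,6,2],[1,11,6,3],[1,11,6,8],[1,11,6,9],[1,11,5,2],[1,11,5,3],[1,11,5,8],[1,11,5,9],[1,11,4,2],[1,11,4,3],[1,11,4,8],[1,11,4,9],[1,16,23,2],[1,16,23,3],[1,16,23,18],[1,16,23,19],[1,16,22,2],[1,16,22,3],[1,16,22,18],[1,16,22,19],[1,16,21,2],[1,16,21,3],[1,16,21,18],[1,16,21,19],[1,16,20,2],[1,16,20,3],[1,16,20,18],[1,16,20,19],[1,16,7,2],[1,16,7,3],[1,16,7,18],[1,16,7,19],[1,16,6,2],[1,16,6,3],[1,16,6,18],[1,16,6,19],[1,16,5,2],[1,16,5,3],[1,16,5,18],[1,16,5,19],[1,16,4,2],[1,16,4,3],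[1,16,4,18],[1,16,4,19],[1,17,23,2],[1,17,23,3],[1,17,23,18],[1,17,23,19],[1,17,22,2],[1,17,22,3],[1,17,22,18],[1,17,22,19],[1,17,21,2],[1,17,21,3],[1,17,21,18],[1,17,21,19],[1,17,20,2],[1,17,20,3],[1,17,20,18],[1,17,20,19],[1,17,7,2],[1,17,7,3],[1,17,7,18],[1,17,7,19],[1,17,6,2],[1,17,6,3],[1,17,6,18],[1,17,6,19],[1,17,5,2],[1,17,5,3],[1,17,5,18],[1,17,5,19],[1,17,4,2],[1,17,4,3],[1,17,4,18],[1,17,4,19],[1,18,23,2],[1,18,23,3],[1,18,23,16],[1,18,23,17],[1,18,22,2],[1,18,22,3],[1,18,22,16],[1,18,22,17],[1,18,21,2],[1,18,21,3],[1,18,21,16],[1,18,21,17],[1,18,20,2],[1,18,20,3],[1,18,20,16],[1,18,20,17],[1,18,7,2],[1,18,7,3],[1,18,7,16],[1,18,7,17],[1,18,6,2],[1,18,6,3],[1,18,6,16],[1,18,6,17],[1,18,5,2],[1,18,5,3],[1,18,5,16],[1,18,5,17],[1,18,4,2],[1,18,4,3],[1,18,4,16],[1,18,4,17],[1,19,23,2],[1,19,23,3],[1,19,23,16],[1,19,23,17],[1,19,22,2],[1,19,22,3],[1,19,22,16],[1,19,22,17],[1,19,21,2],[1,19,21,3],[1,19,21,16],[1,19,21,17],[1,19,20,2],[1,19,20,3],[1,19,20,16],[1,19,20,17],[1,19,7,2],[1,19,7,3],[1,19,7,16],[1,19,7,17],[1,19,6,2],[1,19,6,3],[1,19,6,16],[1,19,6,17],[1,19,5,2],[1,19,5,3],[1,19,5,16],[1,19,5,17],[1,19,4,2],[1,19,4,3],[1,19,4,16],[1,19,4,17]]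 32 = true := by decide +kernel
theorem c10002530 : chkStK M10001 5 [1,2,4,8,16] 0x4000000000000 ([1,2,4,8],[1,8,4,10]) ([1,2,6,16],[1,16,6,18]) = true := by decide +kernel
theorem c10006428 : chkStK M10001 5 [1,2,4,8,16] 0x4000000000000 ([1,2,4,8],[1,8,4,10]) ([1,2,6,16],[1,16,6,18]) = true := by decide +kernel
theorem c10014188 : chkStK M10001 5 [1,2,4,8,16] 0x4000000000000 ([1,2,4,8],[1,8,4,10]) ([1,2,6,16],[1,16,6,18]) = true := by decide +kernel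
theorem c10014199 : chkStK M10001 5 [1,2,4,8,16] 0x4000000000000 ([1,2,4,8],[1,8,4,10]) ([1,2,6,16],[1,16,6,18]) = true := by decide +kernel
theorem c10014389 : chkStK M10001 5 [1,2,4,8,16] 0x4000000000000 ([1,2,4,8],[1,8,4,10]) ([1,2,6,16],[1,16,6,18]) = true := by decide +kernel
theorem c10015306 : chkStK M10001 5 [1,2,4,8,16] 0x4000000000000 ([1,2,4,8],[1,8,4,10]) ([1,2,6,16],[1,16,6,18]) = true := by decide +kernel
theorem c10015309 : chkStK M10001 5 [1,2,6,16,8] 0x4000000000000 ([1,2,6,16],[1,16,6,18]) ([1,2,4,8],[1,8,4,10]) = true := by decide +kernel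
theorem c10015312 : chkStK M10001 5 [1,2,6,16,8] 0x4000000000000 ([1,2,6,16],[1,16,6,18]) ([1,2,4,8],[1,8,4,10]) = true := by decide +kernel
theorem c10015337 : chkStK M10001 5 [1,2,4,8,16] 0x4000000000000 ([1,2,4,8],[1,8,4,10]) ([1,2,6,16],[1,16,6,18]) = true := by decide +kernel
theorem c10015362 : chkStK M10001 5 [1,2,4,8,16] 0x4000000000000 ([1,2,4,8],[1,8,4,10]) ([1,2,6,16],[1,16,6,18]) = true := by decide +kernel
theorem c10015371 : chkStK M10001 5 [1,2,4,8,16] 0x4000000000000 ([1,2,4,8],[1,8,4,10]) ([1,2,6,16],[1,16,6,18]) = true := by decide +kernel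
theorem c10015380 : chkStK M10001 5 [1,2,4,8,16] 0x4000000000000 ([1,2,4,8],[1,8,4,10]) ([1,2,6,16],[1,16,6,18]) = true := by decide +kernel
theorem c10015387 : chkStK M10001 5 [1,2,5,8,16] 0x4000000000000 ([1,2,5,8],[1,8,5,10]) ([1,2,7,16],[1,16,7,18]) = true := by decide +kernel
theorem c10015390 : chkStK M10001 5 [1,2,5,8,16] 0x4000000000000 ([1,2,5,8],[1,8,5,10]) ([1,2,7,16],[1,16,7,18]) = true := by decide +kernel
theorem c10015393 : chkStK M10001 5 [1,2,5,8,16] 0x4000000000000 ([1,2,5,8],[1,8,5,10]) ([1,2,7,16],[1,16,7,18]) = true := by decide +kernel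
theorem c10015396 : chkStK M10001 5 [1,2,5,8,16] 0x4000000000000 ([1,2,5,8],[1,8,5,10]) ([1,2,7,16],[1,16,7,18]) = true := by decide +kernel
theorem c10015399 : chkStK M10001 5 [1,2,5,8,16] 0x4000000000000 ([1,2,5,8],[1,8,5,10]) ([1,2,7,16],[1,16,7,18]) = true := by decide +kernel
theorem c10015402 : chkStK M10001 5 [1,2,5,8,16] 0x4000000000000 ([1,2,5,8],[1,8,5,10]) ([1,2,7,16],[1,16,7,18]) = true := by decide +kernel
theorem c10015408 : chkStK M10001 5 [1,2,7,16,8] 0x4000000000000 ([1,2,7,16],[1,16,7,18]) ([1,2,5,8],[1,8,5,10]) = true := by decide +kernel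
theorem c10015414 : chkStK M10001 5 [1,2,5,8,16] 0x4000000000000 ([1,2,5,8],[1,8,5,10]) ([1,2,7,16],[1,16,7,18]) = true := by decide +kernel
theorem c10015420 : chkStK M10001 5 [1,2,5,8,16] 0x4000000000000 ([1,2,5,8],[1,8,5,10]) ([1,2,7,16],[1,16,7,18]) = true := by decide +kernel
theorem c10018181 : chkStK M10001 5 [1,2,4,8,16] 0x4000000000000 ([1,2,4,8],[1,8,4,10]) ([1,2,6,16],[1,16,6,18]) = true := by decide +kernel
theorem c10021864 : chkStK M10001 5 [1,2,4,8,16] 0x4000000000000 ([1,2,4,8],[1,8,4,10]) ([1,2,6,16],[1,16,6,18]) = true := by decide +kernel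
theorem c10021870 : chkStK M10001 5 [1,2,5,8,16] 0x4000000000000 ([1,2,5,8],[1,8,5,10]) ([1,2,7,16],[1,16,7,18]) = true := by decide +kernel
theorem c10021876 : chkStK M10001 5 [1,2,5,8,16] 0x4000000000000 ([1,2,5,8],[1,8,5,10]) ([1,2,7,16],[1,16,7,18]) = true := by decide +kernel
theorem c10021882 : chkStK M10001 5 [1,2,6,16,8] 0x4000000000000 ([1,2,6,16],[1,16,6,18]) ([1,2,4,8],[1,8,4,10]) = true := by decide +kernel
theorem c10021888 : chkStK M10001 5 [1,2,6,16,8] 0x4000000000000 ([1,2,6,16],[1,16,6,18]) ([1,2,4,8],[1,8,4,10]) = true := by decide +kernel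
theorem c10021894 : chkStK M10001 5 [1,2,7,16,8] 0x4000000000000 ([1,2,7,16],[1,16,7,18]) ([1,2,5,8],[1,8,5,10]) = true := by decide +kernel
theorem c10021900 : chkStK M10001 5 [1,2,7,16,8] 0x4000000000000 ([1,2,7,16],[1,16,7,18]) ([1,2,5,8],[1,8,5,10]) = true := by decide +kernel
theorem c10001925 : chkDer M10001 [([1,2,4,8],[1,8,4,10]),([1,2,4,8,16],[6,2,1,13,16])] [(1,0,[1,2,4,8]),(1,1,[1,8,4,10]),(1,0,[6,13,1,15]),(1,1,[12,15,1,7]),(1,0,[12,8,6,5]),(2,1,[14,13,12,7]),(1,0,[14,13,12,7]),(2,1,[1,10,14,8]),(1,0,[1,10,14,8])] ([1,2,4,8],[1,2,6,10]) = true := by decide +kernel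
theorem c10000803 : chkDer M10001 [([1,2,4,8],[1,8,4,10]),([1,2,4,8,16],[4,2,3,13,16])] [(1,0,[1,2,4,8]),(1,1,[1,8,4,10]),(1,0,[4,13,3,15]),(1,1,[4,15,9,7]),(1,1,[3,8,9,5]),(1,0,[6,13,9,7]),(2,1,[14,10,11,8]),(1,0,[14,10,11,8]),(1,1,[6,2,3,10])] ([1,2,4,8],[1,2,6,15]) = true := by decide +kernel
theorem c10002031 : chkDer M10001 [([1,2,4,8],[1,8,4,10]),([1,2,4,8,16],[7,2,6,12,16])] [(1,0,[1,2,4,8]),(1,1,[1,8,4,10]),(1,0,[7,12,6,14]),(1,1,[13,14,12,6]),(1,0,[13,8,10,4]),(2,1,[15,12,2,6]),(1,0,[15,12,2,6]),(2,1,[1,10,14,8]),(1,0,[1,10,14,8])] ([1,2,4,8],[1,2,6,10]) = true := by decide +kernel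
theorem c10000169 : chkDer M10001 [([1,2,4,8],[1,8,4,10]),([1,2,4,8,16],[3,2,6,12,20])] [(1,0,[1,2,4,8]),(1,1,[1,8,4,10]),(2,0,[11,6,14,12]),(1,1,[11,6,14,12]),(1,0,[13,4,8,10]),(1,1,[15,4,10,2]),(1,0,[11,6,14,2]),(1,1,[3,12,6,8]),(1,0,[1,10,4,12])] ([1,2,4,8],[1,2,4,14]) = true := by decide +kernel
theorem c10001023 : chkDer M10001 [([1,2,4,8],[1,8,4,10]),([1,2,4,8,16],[5,2,6,12,20])] [(1,0,[1,2,4,8]),(1,1,[1,8,4,10]),(1,0,[5,12,6,14]),(1,1,[5,14,12,6]),(1,1,[3,8,10,4]),(1,0,[7,12,14,6]),(2,1,[15,10,4,8]),(1,0,[15,10,4,8]),(1,1,[7,2,4,10])] ([1,2,4,8],[1,2,6,14]) = true := by decide +kernel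
theorem c10000413 : chkDer M10001 [([1,2,4,8],[1,8,4,10]),([1,2,4,8,16],[3,2,4,13,21])] [(1,0,[1,2,4,8]),(1,1,[1,8,4,10]),(2,0,[11,7,4,13]),(1,1,[11,7,4,13]),(1,0,[12,5,4,10]),(1,1,[14,5,4,2]),(1,0,[11,7,4,2]),(1,1,[3,13,4,8]),(1,0,[1,10,4,13])] ([1,2,4,8],[1,2,4,15]) = true := by decide +kernel
theorem c10000233 : chkDer M10001 [([1,2,4,8],[1,8,4,10]),([1,2,4,8,16],[3,2,6,21,13]),([1,2,6,16],[1,16,6,18])] [(1,0,[1,2,4,8]),(1,1,[1,8,4,10]),(1,2,[3,15,4,13]),(1,1,[17,5,6,21]),(2,0,[12,5,4,2]),(1,1,[12,5,4,2]),(1,2,[11,7,4,2]),(1,1,[3,23,6,16]),(1,0,[1,10,4,13])] ([1,2,4,8],[1,2,4,15]) = true := by decide +kernel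
theorem c10001849 : chkDer M10001 [([1,2,4,8],[1,8,4,10]),([1,2,4,8,16],[6,2,3,21,13]),([1,2,6,16],[1,16,6,18])] [(1,0,[1,2,4,8]),(1,1,[1,8,4,10]),(1,2,[4,15,3,13]),(1,1,[6,5,17,21]),(2,0,[1,5,9,2]),(1,1,[1,5,9,2]),(1,2,[4,7,11,2]),(1,1,[6,23,3,16]),(1,0,[1,10,4,13])] ([1,2,4,8],[1,2,4,15]) = true := by decide +kernel
theorem c10000023 : chkStab M10001 [1,2,4,8] [1] [1] [1,2,4,8] [([1,2,4,10],[1,2,4,10]),([1,2,6,8],[1,2,6,8])] [[1,2,4,8],[1,2,4,10],[1,2,6,8],[1,2,6,10]] [(0,0),(0,1),(1,1)] 2 32 = true := by decide +kernel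
theorem c10000142 : chkStab M10001 [1,2,4,16] [1] [1] [1,2,4,16] [([1,2,4,18],[1,2,4,10]),([1,2,4,20],[1,2,4,12])] [[1,2,4,16],[1,2,4,18],[1,2,4,20],[1,2,4,22]] [(0,0),(0,1),(1,1)] 2 32 = true := by decide +kernel
theorem c10000179 : chkStab M10001 [1,2,4,8] [1] [1] [1,2,4,8] [([1,2,4,10],[1,2,4,10]),([1,2,4,14],[1,2,4,14])] [[1,2,4,8],[1,2,4,10],[1,2,4,14],[1,2,4,12]] [(0,0),(0,1),(1,1)] 2 32 = true := by decide +kernel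
theorem c10000197 : chkStab M10001 [1,2,4,8] [1] [1] [1,2,4,8] [([1,2,4,10],[1,2,4,10]),([1,2,4,12],[1,2,4,12])] [[1,2,4,8],[1,2,4,10],[1,2,4,12],[1,2,4,14]] [(0,0),(0,1),(1,1)] 2 32 = true := by decide +kernel
theorem c10000235 : chkStab M10001 [1,2,4,8] [1] [1] [1,2,4,8] [([1,2,4,10],[1,2,4,10]),([1,2,4,15],[1,2,4,15])] [[1,2,4,8],[1,2,4,10],[1,2,4,15],[1,2,4,13]] [(0,0),(0,1),(1,1)] 2 32 = true := by decide +kernel
theorem c10000263 : chkStab M10001 [1,2,4,8] [1] [1] [1,2,4,8] [([1,2,4,10],[1,2,4,10]),([1,2,6,8],[1,2,6,8])] [[1,2,4,8],[1,2,4,10],[1,2,6,8],[1,2,6,10]] [(0,0),(0,1),(1,1)] 2 32 = true := by decide +kernel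
theorem c10000379 : chkStab M10001 [1,2,4,16] [1] [1] [1,2,4,16] [([1,2,4,18],[1,2,4,10]),([1,2,4,21],[1,2,4,13])] [[1,2,4,16],[1,2,4,18],[1,2,4,21],[1,2,4,23]] [(0,0),(0,1),(1,1)] 2 32 = true := by decide +kernel
theorem c10000427 : chkStab M10001 [1,2,4,8] [1] [1] [1,2,4,8] [([1,2,4,10],[1,2,4,10]),([1,2,4,15],[1,2,4,15])] [[1,2,4,8],[1,2,4,10],[1,2,4,15],[1,2,4,13]] [(0,0),(0,1),(1,1)] 2 32 = true := by decide +kernel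
theorem c10000435 : chkStab M10001 [1,2,4,8] [1] [1] [1,2,4,8] [([1,2,4,10],[1,2,4,10]),([1,2,4,12],[1,2,4,12])] [[1,2,4,8],[1,2,4,10],[1,2,4,12],[1,2,4,14]] [(0,0),(0,1),(1,1)] 2 32 = true := by decide +kernel
theorem c10000472 : chkStab M10001 [1,2,4,8] [1] [1] [1,2,4,8] [([1,2,4,10],[1,2,4,10]),([1,2,4,12],[1,2,4,12])] [[1,2,4,8],[1,2,4,10],[1,2,4,12],[1,2,4,14]] [(0,0),(0,1),(1,1)] 2 32 = true := by decide +kernel
theorem c10000501 : chkStab M10001 [1,2,4,8] [1] [1] [1,2,4,8] [([1,2,4,10],[1,2,4,10]),([1,2,6,8],[1,2,6,8])] [[1,2,4,8],[1,2,4,10],[1,2,6,8],[1,2,6,10]] [(0,0),(0,1),(1,1)] 2 32 = true := by decide +kernel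
theorem c10000565 : chkStab M10001 [1,2,4,8] [1] [1] [1,2,4,8] [([1,2,4,10],[1,2,4,10]),([1,2,6,8],[1,2,6,8])] [[1,2,4,8],[1,2,4,10],[1,2,6,8],[1,2,6,10]] [(0,0),(0,1),(1,1)] 2 32 = true := by decide +kernel
theorem c10000629 : chkStab M10001 [1,2,4,16] [1] [1] [1,2,4,16] [([1,2,4,18],[1,2,4,10]),([1,2,6,16],[1,2,6,8])] [[1,2,4,16],[1,2,4,18],[1,2,6,16],[1,2,6,18]] [(0,0),(0,1),(1,1)] 2 32 = true := by decide +kernel
theorem c10000745 : chkStab M10001 [1,2,4,8] [1] [1] [1,2,4,8] [([1,2,4,10],[1,2,4,10]),([1,2,6,8],[1,2,6,8])] [[1,2,4,8],[1,2,4,10],[1,2,6,8],[1,2,6,10]] [(0,0),(0,1),(1,1)] 2 32 = true := by decide +kernel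
theorem c10000793 : chkStab M10001 [1,2,4,8] [1] [1] [1,2,4,8] [([1,2,4,10],[1,2,4,10]),([1,2,6,15],[1,2,6,15])] [[1,2,4,8],[1,2,4,10],[1,2,6,15],[1,2,6,13]] [(0,0),(0,1),(1,1)] 2 32 = true := by decide +kernel
theorem c10000809 : chkStab M10001 [1,2,4,8] [1] [1] [1,2,4,8] [([1,2,4,10],[1,2,4,10]),([1,2,4,13],[1,2,4,13])] [[1,2,4,8],[1,2,4,10],[1,2,4,13],[1,2,4,15]] [(0,0),(0,1),(1,1)] 2 32 = true := by decide +kernel
theorem c10000877 : chkStab M10001 [1,2,4,8] [1] [1] [1,2,4,8] [([1,2,4,10],[1,2,4,10]),([1,2,4,13],[1,2,4,13])] [[1,2,4,8],[1,2,4,10],[1,2,4,13],[1,2,4,15]] [(0,0),(0,1),(1,1)] 2 32 = true := by decide +kernel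
theorem c10000909 : chkStab M10001 [1,2,4,8] [1] [1] [1,2,4,8] [([1,2,4,10],[1,2,4,10]),([1,2,4,13],[1,2,4,13])] [[1,2,4,8],[1,2,4,10],[1,2,4,13],[1,2,4,15]] [(0,0),(0,1),(1,1)] 2 32 = true := by decide +kernel
theorem c10000925 : chkStab M10001 [1,2,4,8] [1] [1] [1,2,4,8] [([1,2,4,10],[1,2,4,10]),([1,2,4,13],[1,2,4,13])] [[1,2,4,8],[1,2,4,10],[1,2,4,13],[1,2,4,15]] [(0,0),(0,1),(1,1)] 2 32 = true := by decide +kernel
theorem c10000945 : chkStab M10001 [1,2,4,16] [1] [1] [1,2,4,16] [([1,2,4,18],[1,2,4,10]),([1,2,7,17],[1,2,7,9])] [[1,2,4,16],[1,2,4,18],[1,2,7,17],[1,2,7,19]] [(0,0),(0,1),(1,1)] 2 32 = true := by decide +kernel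
theorem c10000985 : chkStab M10001 [1,2,4,8] [1] [1] [1,2,4,8] [([1,2,4,10],[1,2,4,10]),([1,2,4,13],[1,2,4,13])] [[1,2,4,8],[1,2,4,10],[1,2,4,13],[1,2,4,15]] [(0,0),(0,1),(1,1)] 2 32 = true := by decide +kernel
theorem c10001001 : chkStab M10001 [1,2,4,8] [1] [1] [1,2,4,8] [([1,2,4,10],[1,2,4,10]),([1,2,6,8],[1,2,6,8])] [[1,2,4,8],[1,2,4,10],[1,2,6,8],[1,2,6,10]] [(0,0),(0,1),(1,1)] 2 32 = true := by decide +kernel
theorem c10001033 : chkStab M10001 [1,2,4,8] [1] [1] [1,2,4,8] [([1,2,4,10],[1,2,4,10]),([1,2,6,14],[1,2,6,14])] [[1,2,4,8],[1,2,4,10],[1,2,6,14],[1,2,6,12]] [(0,0),(0,1),(1,1)] 2 32 = true := by decide +kernel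
theorem c10001086 : chkStab M10001 [1,2,4,8] [1] [1] [1,2,4,8] [([1,2,4,10],[1,2,4,10]),([1,2,4,12],[1,2,4,12])] [[1,2,4,8],[1,2,4,10],[1,2,4,12],[1,2,4,14]] [(0,0),(0,1),(1,1)] 2 32 = true := by decide +kernel
theorem c10001141 : chkStab M10001 [1,2,4,8] [1] [1] [1,2,4,8] [([1,2,4,10],[1,2,4,10]),([1,2,4,12],[1,2,4,12])] [[1,2,4,8],[1,2,4,10],[1,2,4,12],[1,2,4,14]] [(0,0),(0,1),(1,1)] 2 32 = true := by decide +kernel
theorem c10001157 : chkStab M10001 [1,2,4,8] [1] [1] [1,2,4,8] [([1,2,4,10],[1,2,4,10]),([1,2,4,12],[1,2,4,12])] [[1,2,4,8],[1,2,4,10],[1,2,4,12],[1,2,4,14]] [(0,0),(0,1),(1,1)] 2 32 = true := by decide +kernel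
theorem c10001181 : chkStab M10001 [1,2,4,16] [1] [1] [1,2,4,16] [([1,2,4,18],[1,2,4,10]),([1,2,6,16],[1,2,6,8])] [[1,2,4,16],[1,2,4,18],[1,2,6,16],[1,2,6,18]] [(0,0),(0,1),(1,1)] 2 32 = true := by decide +kernel
theorem c10001205 : chkStab M10001 [1,2,4,8] [1] [1] [1,2,4,8] [([1,2,4,10],[1,2,4,10]),([1,2,4,14],[1,2,4,14])] [[1,2,4,8],[1,2,4,10],[1,2,4,14],[1,2,4,12]] [(0,0),(0,1),(1,1)] 2 32 = true := by decide +kernel
theorem c10001245 : chkStab M10001 [1,2,4,8] [1] [1] [1,2,4,8] [([1,2,4,10],[1,2,4,10]),([1,2,6,8],[1,2,6,8])] [[1,2,4,8],[1,2,4,10],[1,2,6,8],[1,2,6,10]] [(0,0),(0,1),(1,1)] 2 32 = true := by decide +kernel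
theorem c10001309 : chkStab M10001 [1,2,4,8] [1] [1] [1,2,4,8] [([1,2,4,10],[1,2,4,10]),([1,2,6,8],[1,2,6,8])] [[1,2,4,8],[1,2,4,10],[1,2,6,8],[1,2,6,10]] [(0,0),(0,1),(1,1)] 2 32 = true := by decide +kernel
theorem c10001373 : chkStab M10001 [1,2,4,16] [1] [1] [1,2,4,16] [([1,2,4,18],[1,2,4,10]),([1,2,6,16],[1,2,6,8])] [[1,2,4,16],[1,2,4,18],[1,2,6,16],[1,2,6,18]] [(0,0),(0,1),(1,1)] 2 32 = true := by decide +kernel
theorem c10001501 : chkStab M10001 [1,2,4,8] [1] [1] [1,2,4,8] [([1,2,4,10],[1,2,4,10]),([1,2,6,8],[1,2,6,8])] [[1,2,4,8],[1,2,4,10],[1,2,6,8],[1,2,6,10]] [(0,0),(0,1),(1,1)] 2 32 = true := by decide +kernel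
theorem c10001553 : chkStab M10001 [1,2,4,8] [1] [1] [1,2,4,8] [([1,2,4,10],[1,2,4,10]),([1,2,7,9],[1,2,7,9])] [[1,2,4,8],[1,2,4,10],[1,2,7,9],[1,2,7,11]] [(0,0),(0,1),(1,1)] 2 32 = true := by decide +kernel
theorem c10001629 : chkStab M10001 [1,2,4,8] [1] [1] [1,2,4,8] [([1,2,4,10],[1,2,4,10]),([1,2,6,8],[1,2,6,8])] [[1,2,4,8],[1,2,4,10],[1,2,6,8],[1,2,6,10]] [(0,0),(0,1),(1,1)] 2 32 = true := by decide +kernel
theorem c10001745 : chkStab M10001 [1,2,4,16] [1] [1] [1,2,4,16] [([1,2,4,18],[1,2,4,10]),([1,2,4,23],[1,2,4,15])] [[1,2,4,16],[1,2,4,18],[1,2,4,23],[1,2,4,21]] [(0,0),(0,1),(1,1)] 2 32 = true := by decide +kernel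
theorem c10001794 : chkStab M10001 [1,2,4,16] [1] [1] [1,2,4,16] [([1,2,4,18],[1,2,4,10]),([1,2,4,23],[1,2,4,15])] [[1,2,4,16],[1,2,4,18],[1,2,4,23],[1,2,4,21]] [(0,0),(0,1),(1,1)] 2 32 = true := by decide +kernel
theorem c10001803 : chkStab M10001 [1,2,4,8] [1] [1] [1,2,4,8] [([1,2,4,10],[1,2,4,10]),([1,2,4,13],[1,2,4,13])] [[1,2,4,8],[1,2,4,10],[1,2,4,13],[1,2,4,15]] [(0,0),(0,1),(1,1)] 2 32 = true := by decide +kernel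
theorem c10001843 : chkStab M10001 [1,2,4,8] [1] [1] [1,2,4,8] [([1,2,4,10],[1,2,4,10]),([1,2,7,11],[1,2,7,11])] [[1,2,4,8],[1,2,4,10],[1,2,7,11],[1,2,7,9]] [(0,0),(0,1),(1,1)] 2 32 = true := by decide +kernel
theorem c10001863 : chkStab M10001 [1,2,4,8] [1] [1] [1,2,4,8] [([1,2,4,10],[1,2,4,10]),([1,2,4,13],[1,2,4,13])] [[1,2,4,8],[1,2,4,10],[1,2,4,13],[1,2,4,15]] [(0,0),(0,1),(1,1)] 2 32 = true := by decide +kernel
theorem c10001879 : chkStab M10001 [1,2,4,8] [1] [1] [1,2,4,8] [([1,2,4,10],[1,2,4,10]),([1,2,6,8],[1,2,6,8])] [[1,2,4,8],[1,2,4,10],[1,2,6,8],[1,2,6,10]] [(0,0),(0,1),(1,1)] 2 32 = true := by decide +kernel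
theorem c10001927 : chkStab M10001 [1,2,4,8] [1] [1] [1,2,4,8] [([1,2,4,10],[1,2,4,10]),([1,2,6,10],[1,2,6,10])] [[1,2,4,8],[1,2,4,10],[1,2,6,10],[1,2,6,8]] [(0,0),(0,1),(1,1)] 2 32 = true := by decide +kernel
theorem c10001985 : chkStab M10001 [1,2,4,8] [1] [1] [1,2,4,8] [([1,2,4,10],[1,2,4,10]),([1,2,4,13],[1,2,4,13])] [[1,2,4,8],[1,2,4,10],[1,2,4,13],[1,2,4,15]] [(0,0),(0,1),(1,1)] 2 32 = true := by decide +kernel
theorem c10002001 : chkStab M10001 [1,2,4,8] [1] [1] [1,2,4,8] [([1,2,4,10],[1,2,4,10]),([1,2,6,8],[1,2,6,8])] [[1,2,4,8],[1,2,4,10],[1,2,6,8],[1,2,6,10]] [(0,0),(0,1),(1,1)] 2 32 = true := by decide +kernel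
theorem c10002033 : chkStab M10001 [1,2,4,8] [1] [1] [1,2,4,8] [([1,2,4,10],[1,2,4,10]),([1,2,6,10],[1,2,6,10])] [[1,2,4,8],[1,2,4,10],[1,2,6,10],[1,2,6,8]] [(0,0),(0,1),(1,1)] 2 32 = true := by decide +kernel
theorem c10002091 : chkStab M10001 [1,2,4,8] [1] [1] [1,2,4,8] [([1,2,4,10],[1,2,4,10]),([1,2,4,12],[1,2,4,12])] [[1,2,4,8],[1,2,4,10],[1,2,4,12],[1,2,4,14]] [(0,0),(0,1),(1,1)] 2 32 = true := by decide +kernel
theorem c10002140 : chkStab M10001 [1,2,4,16] [1] [1] [1,2,4,16] [([1,2,4,18],[1,2,4,10]),([1,2,4,22],[1,2,4,14])] [[1,2,4,16],[1,2,4,18],[1,2,4,22],[1,2,4,20]] [(0,0),(0,1),(1,1)] 2 32 = true := by decide +kernel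
theorem c10002148 : chkStab M10001 [1,2,4,16] [1] [1] [1,2,4,16] [([1,2,4,18],[1,2,4,10]),([1,2,4,22],[1,2,4,14])] [[1,2,4,16],[1,2,4,18],[1,2,4,22],[1,2,4,20]] [(0,0),(0,1),(1,1)] 2 32 = true := by decide +kernel
theorem c10002181 : chkStab M10001 [1,2,4,8] [1] [1] [1,2,4,8] [([1,2,4,10],[1,2,4,10]),([1,2,6,8],[1,2,6,8])] [[1,2,4,8],[1,2,4,10],[1,2,6,8],[1,2,6,10]] [(0,0),(0,1),(1,1)] 2 32 = true := by decide +kernel
theorem c10002213 : chkStab M10001 [1,2,4,8] [1] [1] [1,2,4,8] [([1,2,4,10],[1,2,4,10]),([1,2,4,12],[1,2,4,12])] [[1,2,4,8],[1,2,4,10],[1,2,4,12],[1,2,4,14]] [(0,0),(0,1),(1,1)] 2 32 = true := by decide +kernel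
theorem c10002245 : chkStab M10001 [1,2,4,8] [1] [1] [1,2,4,8] [([1,2,4,10],[1,2,4,10]),([1,2,6,8],[1,2,6,8])] [[1,2,4,8],[1,2,4,10],[1,2,6,8],[1,2,6,10]] [(0,0),(0,1),(1,1)] 2 32 = true := by decide +kernel
theorem c10002373 : chkStab M10001 [1,2,4,8] [1] [1] [1,2,4,8] [([1,2,4,10],[1,2,4,10]),([1,2,6,8],[1,2,6,8])] [[1,2,4,8],[1,2,4,10],[1,2,6,8],[1,2,6,10]] [(0,0),(0,1),(1,1)] 2 32 = true := by decide +kernel
theorem c10002429 : chkStab M10001 [1,2,4,8] [1] [1] [1,2,4,8] [([1,2,4,10],[1,2,4,10]),([1,2,7,9],[1,2,7,9])] [[1,2,4,8],[1,2,4,10],[1,2,7,9],[1,2,7,11]] [(0,0),(0,1),(1,1)] 2 32 = true := by decide +kernel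
theorem c10000462 : chkDer M10001 [([1,2,4,8],[1,8,4,10]),([1,2,4,8,16],[3,2,4,20,12]),([1,2,6,16],[1,16,6,18])] [(1,0,[1,2,4,8]),(1,1,[1,8,4,10]),(1,2,[3,14,6,12]),(1,1,[17,4,22,20]),(2,0,[13,4,8,2]),(1,1,[13,4,8,2]),(1,2,[11,6,14,2]),(1,1,[3,22,4,16]),(1,0,[1,10,4,12])] ([1,2,4,8],[1,2,4,14]) = true := by decide +kernel
theorem c10000691 : chkDer M10001 [([1,2,4,8],[1,8,4,10]),([1,2,4,8,16],[4,2,5,16,8]),([1,2,6,16],[1,16,6,18])] [(1,0,[1,2,4,8]),(1,1,[1,8,4,10]),(1,2,[6,8,7,10]),(2,1,[11,10,14,2]),(2,1,[23,18,19,2]),(2,2,[7,8,9,10]),(1,1,[5,16,17,18]),(2,0,[1,2,6,8])] ([1,2,4,8],[1,2,6,8]) = true := by decide +kernel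
theorem c10001339 : chkDer M10001 [([1,2,4,8],[1,8,4,10]),([1,2,4,8,16],[5,2,3,20,8]),([1,2,6,16],[1,16,6,18])] [(1,0,[1,2,4,8]),(1,1,[1,8,4,10]),(2,2,[15,12,11,6]),(2,1,[14,10,11,7]),(1,0,[14,10,11,7]),(2,1,[5,2,4,17]),(2,1,[1,2,7,9])] ([1,2,4,8],[1,2,7,9]) = true := by decide +kernel
theorem c10002427 : chkDer M10001 [([1,2,4,8],[1,8,4,10]),([1,2,4,8,16],[7,2,1,16,12]),([1,2,6,16],[1,16,6,18])] [(1,0,[1,2,4,8]),(1,1,[1,8,4,10]),(1,1,[7,16,1,18]),(1,0,[4,12,7,14]),(2,1,[7,18,20,5]),(1,2,[5,10,14,7]),(2,1,[1,2,7,9])] ([1,2,4,8],[1,2,7,9]) = true := by decide +kernel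
theorem c10000627 : chkDer M10001 [([1,2,6,16],[1,16,6,18]),([1,2,4,8,16],[4,2,5,8,16])] [(1,0,[1,2,6,8]),(1,1,[1,16,22,18]),(1,0,[6,8,13,10]),(1,1,[22,18,21,2]),(2,0,[7,8,3,10]),(1,1,[5,16,3,18]),(2,0,[1,2,4,8])] ([1,2,4,16],[1,2,6,16]) = true := by decide +kernel
theorem c10001371 : chkDer M10001 [([1,2,6,16],[1,16,6,18]),([1,2,4,8,16],[5,2,1,8,16])] [(1,0,[1,2,6,8]),(1,1,[1,16,22,18]),(1,0,[7,8,11,10]),(1,1,[23,18,3,2]),(2,0,[6,8,5,10]),(1,1,[4,16,7,18]),(2,0,[1,2,4,8])] ([1,2,4,16],[1,2,6,16]) = true := by decide +kernel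
theorem c10001307 : chkDer M10001 [([1,2,4,8],[1,8,4,10]),([1,2,4,8,16],[5,2,3,16,8]),([1,2,6,16],[1,16,6,18])] [(1,0,[1,2,4,8]),(2,1,[6,16,7,18]),(2,1,[5,8,3,10]),(1,0,[5,8,3,10]),(1,1,[5,10,9,2]),(1,2,[4,10,15,2]),(1,1,[6,2,5,16])] ([1,2,4,8],[1,2,6,8]) = true := by decide +kernel
theorem c10001563 : chkDer M10001 [([1,2,4,8],[1,8,4,10]),([1,2,4,8,16],[6,2,7,16,8]),([1,2,6,16],[1,16,6,18])] [(1,0,[1,2,4,8]),(1,1,[1,8,4,10]),(1,1,[6,16,7,18]),(1,0,[5,8,3,10]),(2,1,[6,18,21,2]),(1,2,[4,10,15,2]),(2,1,[1,2,6,8])] ([1,2,4,8],[1,2,6,8]) = true := by decide +kernel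
theorem c10002435 : chkDer M10001 [([1,2,4,8],[1,8,4,10]),([1,2,4,8,16],[7,2,1,16,8]),([1,2,6,16],[1,16,6,18])] [(1,0,[1,2,4,8]),(1,1,[1,8,4,10]),(1,1,[7,16,1,18]),(1,0,[4,8,7,10]),(2,1,[7,18,19,2]),(1,2,[5,10,11,2]),(2,1,[1,2,6,8])] ([1,2,4,8],[1,2,6,8]) = true := by decide +kernel
theorem c10001743 : chkDer M10001 [([1,2,6,16],[1,16,6,18]),([1,2,4,8,16],[6,2,3,8,21])] [(1,0,[1,2,6,8]),(1,1,[1,16,22,18]),(2,0,[4,13,12,7]),(1,1,[6,23,22,5]),(1,0,[1,10,14,7])] ([1,2,4,16],[1,2,4,23]) = true := by decide +kernel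
theorem c10001788 : chkDer M10001 [([1,2,6,16],[1,16,6,18]),([1,2,4,8,16],[6,2,3,13,21])] [(1,0,[1,2,6,8]),(1,1,[1,16,22,18]),(2,0,[4,13,12,7]),(1,1,[6,23,22,5]),(1,0,[1,10,14,7])] ([1,2,4,16],[1,2,4,23]) = true := by decide +kernel
theorem c10002223 : chkDer M10001 [([1,2,4,8],[1,8,4,10]),([1,2,4,8,16],[7,2,4,21,9]),([1,2,6,16],[1,16,6,18])] [(1,0,[1,2,4,8]),(1,1,[1,8,4,10]),(2,2,[5,13,14,7]),(1,1,[7,23,20,5]),(2,0,[1,2,7,11])] ([1,2,4,8],[1,2,7,11]) = true := by decide +kernel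
theorem c10000807 : chkDer M10001 [([1,2,4,8],[1,8,4,10]),([1,2,4,8,16],[4,2,3,16,13]),([1,2,6,16],[1,16,6,18])] [(1,0,[1,2,4,8]),(2,1,[6,23,1,21]),(1,2,[4,13,1,15]),(1,1,[6,21,1,5]),(1,0,[1,10,4,7])] ([1,2,4,8],[1,2,4,13]) = true := by decide +kernel
theorem c10000943 : chkDer M10001 [([1,2,6,16],[1,16,6,18]),([1,2,4,8,16],[4,2,1,17,12]),([1,2,4,8],[1,8,4,10])] [(1,0,[1,2,6,8]),(1,1,[1,16,22,18]),(1,2,[4,12,15,14]),(1,1,[4,14,7,6]),(1,0,[1,10,5,3])] ([1,2,4,16],[1,2,7,17]) = true := by decide +kernel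
theorem c10000527 : chkDer M10001 [([1,2,4,8],[1,8,4,10]),([1,2,4,8,16],[4,2,7,12,17])] [(1,0,[1,2,4,8]),(1,1,[1,8,4,10]),(1,0,[4,12,7,14]),(2,1,[1,10,15,3]),(1,0,[1,10,15,3])] ([1,2,4,8],[1,2,7,9]) = true := by decide +kernel
theorem c10001084 : chkDer M10001 [([1,2,4,8],[1,8,4,10]),([1,2,4,8,16],[5,2,6,20,12]),([1,2,6,16],[1,16,6,18])] [(1,0,[1,2,4,8]),(2,1,[7,22,6,20]),(1,2,[5,12,4,14]),(1,1,[7,20,6,4]),(1,0,[1,10,4,6])] ([1,2,4,8],[1,2,4,12]) = true := by decide +kernel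
theorem c10000907 : chkDer M10001 [([1,2,4,8],[1,8,4,10]),([1,2,4,8,16],[4,2,1,13,21])] [(1,0,[1,2,4,8]),(1,1,[1,8,4,10]),(1,0,[4,13,1,15]),(1,1,[4,15,1,7]),(1,0,[1,10,4,7])] ([1,2,4,8],[1,2,4,13]) = true := by decide +kernel
theorem c10000919 : chkDer M10001 [([1,2,4,8],[1,8,4,10]),([1,2,4,8,16],[4,2,1,13,16])] [(1,0,[1,2,4,8]),(1,1,[1,8,4,10]),(1,0,[4,13,1,15]),(1,1,[4,15,1,7]),(1,0,[1,10,4,7])] ([1,2,4,8],[1,2,4,13]) = true := by decide +kernel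
theorem c10002495 : chkCF M10001 (1,Z10002486) [2,8,16] = true := by decide +kernel
theorem c10002502 : chkCF M10001 (8,Z10002497) [1] = true := by decide +kernel
theorem c10001179 : chkDer M10001 [([1,2,6,16],[1,16,6,18]),([1,2,4,8,16],[5,2,4,16,8]),([1,2,4,8],[1,8,4,10])] [(1,0,[1,2,6,8]),(1,1,[1,16,22,18]),(1,2,[5,8,14,10]),(1,1,[5,10,6,2]),(1,0,[1,10,4,2])] ([1,2,4,16],[1,2,6,16]) = true := by decide +kernel
theorem c10001991 : chkDer M10001 [([1,2,4,8],[1,8,4,10]),([1,2,4,8,16],[7,2,6,8,20])] [(1,0,[1,2,4,8]),(2,1,[5,8,6,10]),(1,0,[5,8,6,10]),(1,1,[5,10,12,2]),(1,0,[1,10,14,2])] ([1,2,4,8],[1,2,6,8]) = true := by decide +kernel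
theorem c10002179 : chkDer M10001 [([1,2,4,8],[1,8,4,10]),([1,2,4,8,16],[7,2,4,16,8]),([1,2,6,16],[1,16,6,18])] [(1,0,[1,2,4,8]),(1,1,[1,8,4,10]),(1,2,[5,8,6,10]),(1,1,[7,18,22,2]),(1,0,[1,10,14,2])] ([1,2,4,8],[1,2,6,8]) = true := by decide +kernel
theorem c10001139 : chkDer M10001 [([1,2,4,8],[1,8,4,10]),([1,2,4,8,16],[5,2,4,12,20])] [(1,0,[1,2,4,8]),(1,1,[1,8,4,10]),(1,0,[5,12,4,14]),(1,1,[5,14,4,6]),(1,0,[1,10,4,6])] ([1,2,4,8],[1,2,4,12]) = true := by decide +kernel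
theorem c10001971 : chkDer M10001 [([1,2,4,8],[1,8,4,10]),([1,2,4,8,16],[6,2,1,21,13]),([1,2,6,16],[1,16,6,18])] [(1,0,[1,2,4,8]),(1,1,[1,8,4,10]),(2,2,[4,13,1,7]),(2,1,[1,10,4,7]),(1,0,[1,10,4,7])] ([1,2,4,8],[1,2,4,13]) = true := by decide +kernel
theorem c10000499 : chkDer M10001 [([1,2,4,8],[1,8,4,10]),([1,2,4,8,16],[4,2,7,8,16])] [(1,0,[1,2,4,8]),(1,1,[1,8,4,10]),(1,0,[4,8,7,10]),(2,1,[1,10,14,2]),(1,0,[1,10,14,2])] ([1,2,4,8],[1,2,6,8]) = true := by decide +kernel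
theorem c10000991 : chkDer M10001 [([1,2,4,8],[1,8,4,10]),([1,2,4,8,16],[5,2,6,8,20])] [(1,0,[1,2,4,8]),(1,1,[1,8,4,10]),(1,0,[5,8,6,10]),(2,1,[1,10,14,2]),(1,0,[1,10,14,2])] ([1,2,4,8],[1,2,6,8]) = true := by decide +kernel
theorem c10001243 : chkDer M10001 [([1,2,4,8],[1,8,4,10]),([1,2,4,8,16],[5,2,3,8,16])] [(1,0,[1,2,4,8]),(1,1,[1,8,4,10]),(1,0,[5,8,3,10]),(2,1,[1,10,14,2]),(1,0,[1,10,14,2])] ([1,2,4,8],[1,2,6,8]) = true := by decide +kernel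
theorem c10002307 : chkDer M10001 [([1,2,4,8],[1,8,4,10]),([1,2,4,8,16],[7,2,3,16,8]),([1,2,6,16],[1,16,6,18])] [(1,0,[1,2,4,8]),(1,1,[1,8,4,10]),(1,2,[5,8,3,10]),(2,1,[1,10,14,2]),(1,0,[1,10,14,2])] ([1,2,4,8],[1,2,6,8]) = true := by decide +kernel
theorem c10001813 : chkDer M10001 [([1,2,4,8],[1,8,4,10]),([1,2,4,8,16],[6,2,3,16,8]),([1,2,6,16],[1,16,6,18])] [(1,0,[1,2,4,8]),(1,1,[1,8,4,10]),(1,2,[4,8,3,10]),(1,1,[6,18,17,2]),(1,0,[1,10,14,2])] ([1,2,4,8],[1,2,6,8]) = true := by decide +kernel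
theorem c10001877 : chkDer M10001 [([1,2,4,8],[1,8,4,10]),([1,2,4,8,16],[6,2,1,8,16])] [(1,0,[1,2,4,8]),(2,1,[4,8,3,10]),(1,0,[4,8,3,10]),(1,1,[4,10,9,2]),(1,0,[1,10,14,2])] ([1,2,4,8],[1,2,6,8]) = true := by decide +kernel
theorem c10002089 : chkDer M10001 [([1,2,4,8],[1,8,4,10]),([1,2,4,8,16],[7,2,6,20,8]),([1,2,6,16],[1,16,6,18])] [(1,0,[1,2,4,8]),(1,1,[1,8,4,10]),(2,2,[5,12,4,6]),(2,1,[1,10,4,6]),(1,0,[1,10,4,6])] ([1,2,4,8],[1,2,4,12]) = true := by decide +kernel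
theorem c10000077 : chkDer M10001 [([1,2,4,8],[1,8,4,10]),([1,2,4,8,16],[3,2,7,16,12]),([1,2,6,16],[1,16,6,18])] [(1,0,[2]),(2,1,[21]),(1,2,[15]),(1,1,[5]),(1,2,[6]),(1,1,[22]),(2,0,[3]),(1,1,[3])] ([2],[1]) = true := by decide +kernel
theorem c10000105 : chkDer M10001 [([1,2,4,8],[1,8,4,10]),([1,2,4,8,16],[3,2,7,20,13]),([1,2,6,16],[1,16,6,18])] [(1,0,[2]),(1,1,[8]),(1,2,[14]),(2,1,[5]),(1,2,[7]),(1,1,[23]),(1,0,[11]),(1,1,[3])] ([2],[1]) = true := by decide +kernel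
theorem c10000403 : chkDer M10001 [([1,2,6,16],[1,16,6,18]),([1,2,4,8,16],[3,2,4,12,21]),([1,2,4,8],[1,8,4,10])] [(1,0,[2]),(1,1,[16]),(1,0,[15]),(1,1,[5]),(1,2,[7]),(1,1,[13]),(1,2,[11]),(1,1,[3])] ([2],[1]) = true := by decide +kernel
theorem c10000313 : chkDer M10001 [([1,2,4,8],[1,8,4,10]),([1,2,4,8,16],[3,2,5,16,13]),([1,2,6,16],[1,16,6,18])] [(1,0,[2]),(2,1,[20]),(1,2,[14]),(1,1,[4]),(1,2,[7]),(1,1,[23]),(2,0,[3]),(1,1,[3])] ([2],[1]) = true := by decide +kernel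
theorem c10002227 : chkDer M10001 [([1,2,6,16],[1,16,6,18]),([1,2,4,8,16],[7,2,4,21,8]),([1,2,4,8],[1,8,4,10])] [(1,0,[2]),(2,1,[11]),(1,2,[11]),(1,0,[3]),(1,1,[17]),(1,2,[15]),(1,1,[7])] ([2],[1]) = true := by decide +kernel
theorem c10000365 : chkDer M10001 [([1,2,4,8],[1,8,4,10]),([1,2,4,8,16],[3,2,5,21,12]),([1,2,6,16],[1,16,6,18])] [(1,0,[2]),(1,1,[8]),(1,2,[15]),(2,1,[4]),(1,2,[6]),(1,1,[22]),(1,0,[11]),(1,1,[3])] ([2],[1]) = true := by decide +kernel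
theorem c10002175 : chkDer M10001 [([1,2,6,16],[1,16,6,18]),([1,2,4,8,16],[7,2,4,16,9]),([1,2,4,8],[1,8,4,10])] [(1,0,[2]),(1,1,[16]),(2,2,[3]),(1,0,[3]),(2,1,[15]),(1,2,[15]),(1,1,[7])] ([2],[1]) = true := by decide +kernel
theorem c10000133 : chkDer M10001 [([1,2,4,8],[1,8,4,10]),([1,2,4,8,16],[3,2,7,21,8]),([1,2,6,16],[1,16,6,18])] [(1,0,[2]),(1,1,[8]),(1,2,[15]),(1,1,[5]),(1,2,[6]),(2,1,[9]),(2,0,[3]),(1,1,[3])] ([2],[1]) = true := by decide +kernel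
theorem c10001615 : chkDer M10001 [([1,2,6,16],[1,16,6,18]),([1,2,4,8,16],[6,2,5,8,21]),([1,2,4,8],[1,8,4,10])] [(1,0,[2]),(1,1,[16]),(1,0,[15]),(1,1,[5]),(1,2,[3]),(1,1,[9]),(1,2,[14]),(2,1,[1])] ([2],[1]) = true := by decide +kernel
theorem c10001845 : chkDer M10001 [([1,2,6,16],[1,16,6,18]),([1,2,4,8,16],[6,2,3,20,8]),([1,2,4,8],[1,8,4,10])] [(1,0,[2]),(2,1,[11]),(1,2,[11]),(1,0,[3]),(1,1,[17]),(1,2,[14]),(1,1,[6])] ([2],[1]) = true := by decide +kernel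
theorem c10002359 : chkDer M10001 [([1,2,6,16],[1,16,6,18]),([1,2,4,8,16],[7,2,1,8,21]),([1,2,4,8],[1,8,4,10])] [(1,0,[2]),(2,1,[19]),(1,0,[11]),(1,2,[3]),(1,1,[9]),(1,2,[15]),(2,1,[1])] ([2],[1]) = true := by decide +kernel
theorem c10000182 : chkDer M10001 [([1,2,6,16],[1,16,6,18]),([1,2,4,8,16],[3,2,6,13,20]),([1,2,4,8],[1,8,4,10])] [(1,0,[2]),(1,1,[16]),(1,0,[14]),(1,1,[4]),(1,2,[6]),(1,1,[12]),(1,2,[11]),(1,1,[3])] ([2],[1]) = true := by decide +kernel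
theorem c10000373 : chkDer M10001 [([1,2,4,8],[1,8,4,10]),([1,2,4,8,16],[3,2,5,21,8]),([1,2,6,16],[1,16,6,18])] [(1,0,[2]),(1,1,[8]),(1,2,[15]),(2,1,[4]),(1,2,[6]),(2,1,[9]),(2,0,[3]),(1,1,[3])] ([2],[1]) = true := by decide +kernel
theorem c10002235 : chkDer M10001 [([1,2,6,16],[1,16,6,18]),([1,2,4,8,16],[7,2,3,8,20]),([1,2,4,8],[1,8,4,10])] [(1,0,[2]),(1,1,[16]),(1,0,[14]),(1,1,[4]),(1,2,[3]),(1,1,[9]),(1,2,[15]),(2,1,[1])] ([2],[1]) = true := by decide +kernel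
theorem c10001167 : chkDer M10001 [([1,2,4,8],[1,8,4,10]),([1,2,4,8,16],[5,2,4,16,13]),([1,2,6,16],[1,16,6,18])] [(1,0,[2]),(2,1,[17]),(2,2,[3]),(1,0,[3]),(1,1,[9]),(1,2,[15]),(1,1,[5])] ([2],[1]) = true := by decide +kernel
theorem c10001491 : chkDer M10001 [([1,2,6,16],[1,16,6,18]),([1,2,4,8,16],[6,2,7,8,20]),([1,2,4,8],[1,8,4,10])] [(1,0,[2]),(2,1,[19]),(1,0,[11]),(1,2,[3]),(1,1,[9]),(1,2,[14]),(2,1,[1])] ([2],[1]) = true := by decide +kernel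
theorem c10001619 : chkDer M10001 [([1,2,6,16],[1,16,6,18]),([1,2,4,8,16],[6,2,5,8,20]),([1,2,4,8],[1,8,4,10])] [(1,0,[2]),(2,1,[19]),(1,0,[11]),(1,2,[3]),(1,1,[9]),(1,2,[14]),(2,1,[1])] ([2],[1]) = true := by decide +kernel
theorem c10001131 : chkDer M10001 [([1,2,4,8],[1,8,4,10]),([1,2,4,8,16],[5,2,4,9,16]),([1,2,6,16],[1,16,6,18])] [(1,0,[2]),(1,1,[8]),(2,0,[3]),(1,2,[3]),(1,1,[17]),(1,2,[15]),(1,1,[5])] ([2],[1]) = true := by decide +kernel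
theorem c10001239 : chkDer M10001 [([1,2,6,16],[1,16,6,18]),([1,2,4,8,16],[5,2,3,8,17]),([1,2,4,8],[1,8,4,10])] [(1,0,[2]),(1,1,[16]),(2,0,[3]),(1,2,[3]),(2,1,[14]),(1,2,[14]),(1,1,[6])] ([2],[1]) = true := by decide +kernel
theorem c10001419 : chkDer M10001 [([1,2,4,8],[1,8,4,10]),([1,2,4,8,16],[5,2,1,13,16]),([1,2,6,16],[1,16,6,18])] [(1,0,[2]),(2,1,[9]),(2,0,[3]),(1,2,[3]),(1,1,[17]),(1,2,[15]),(2,1,[1])] ([2],[1]) = true := by decide +kernel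
theorem c10000555 : chkDer M10001 [([1,2,4,8],[1,8,4,10]),([1,2,4,8,16],[4,2,7,16,12])] [(1,0,[2]),(2,1,[17]),(2,1,[15]),(1,0,[15]),(1,1,[7])] ([2],[1]) = true := by decide +kernel
theorem c10000659 : chkDer M10001 [([1,2,4,8],[1,8,4,10]),([1,2,4,8,16],[4,2,5,12,16]),([1,2,6,16],[1,16,6,18])] [(1,0,[2]),(2,1,[9]),(2,0,[3]),(1,2,[3]),(1,1,[17]),(1,2,[14]),(2,1,[1])] ([2],[1]) = true := by decide +kernel
theorem c10000927 : chkDer M10001 [([1,2,4,8],[1,8,4,10]),([1,2,4,8,16],[4,2,1,16,12]),([1,2,6,16],[1,16,6,18])] [(1,0,[2]),(2,1,[17]),(2,2,[3]),(1,0,[3]),(1,1,[9]),(1,2,[14]),(1,1,[4])] ([2],[1]) = true := by decide +kernel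
theorem c10001751 : chkDer M10001 [([1,2,6,16],[1,16,6,18]),([1,2,4,8,16],[6,2,3,8,17]),([1,2,4,8],[1,8,4,10])] [(1,0,[2]),(1,1,[16]),(2,0,[3]),(1,2,[3]),(1,1,[9]),(1,2,[14]),(1,1,[6])] ([2],[1]) = true := by decide +kernel
theorem c10001335 : chkDer M10001 [([1,2,6,16],[1,16,6,18]),([1,2,4,8,16],[5,2,3,20,9])] [(1,0,[2]),(2,1,[15]),(2,1,[21]),(1,0,[15]),(2,1,[1])] ([2],[1]) = true := by decide +kernel
theorem c10002303 : chkDer M10001 [([1,2,4,8],[1,8,4,10]),([1,2,4,8,16],[7,2,3,16,9])] [(1,0,[2]),(2,1,[22]),(2,1,[15]),(1,0,[15]),(2,1,[1])] ([2],[1]) = true := by decide +kernel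
theorem c10001861 : chkDer M10001 [([1,2,4,8,16],[6,2,3,21,8])] [(1,0,[1,2,4,8]),(1,0,[6,2,3,21])] ([1,2,4,8],[1,2,4,13]) = true := by decide +kernel
theorem c10000643 : chkDer M10001 [([1,2,4,8],[1,8,4,10]),([1,2,4,8,16],[4,2,5,9,16]),([1,2,6,16],[1,16,6,18])] [(1,0,[2]),(1,1,[8]),(2,0,[3]),(1,2,[3]),(1,1,[17]),(1,2,[14]),(2,1,[1])] ([2],[1]) = true := by decide +kernel
theorem c10000951 : chkDer M10001 [([1,2,4,8],[1,8,4,10]),([1,2,4,8,16],[4,2,1,17,8]),([1,2,6,16],[1,16,6,18])] [(1,0,[2]),(1,1,[8]),(2,2,[3]),(1,0,[3]),(2,1,[20]),(1,2,[14]),(1,1,[4])] ([2],[1]) = true := by decide +kernel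
theorem c10002387 : chkDer M10001 [([1,2,4,8],[1,8,4,10]),([1,2,4,8,16],[7,2,1,9,16]),([1,2,6,16],[1,16,6,18])] [(1,0,[2]),(1,1,[8]),(2,0,[3]),(1,2,[3]),(2,1,[20]),(1,2,[14]),(1,1,[4])] ([2],[1]) = true := by decide +kernel
theorem c10002219 : chkDer M10001 [([1,2,4,8],[1,8,4,10]),([1,2,4,8,16],[7,2,4,21,12])] [(1,0,[2]),(1,1,[8]),(1,1,[21]),(1,0,[15]),(1,1,[7])] ([2],[1]) = true := by decide +kernel
theorem c10000021 : chkDer M10001 [([1,2,4,8,16],[3,2,7,8,16])] [(1,0,[1,2,4,8]),(1,0,[3,2,7,8])] ([1,2,4,8],[1,2,6,8]) = true := by decide +kernel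
theorem c10000229 : chkDer M10001 [([1,2,4,8,16],[3,2,6,20,8])] [(1,0,[1,2,4,8]),(1,0,[3,2,6,20])] ([1,2,4,8],[1,2,4,14]) = true := by decide +kernel
theorem c10001155 : chkDer M10001 [([1,2,4,8,16],[5,2,4,13,20])] [(1,0,[1,2,4,8]),(1,0,[5,2,4,13])] ([1,2,4,8],[1,2,4,12]) = true := by decide +kernel
theorem c10001796 : chkDer M10001 [([1,2,4,8,16],[6,2,3,13,17])] [(1,0,[1,2,4,16]),(1,0,[6,2,3,17])] ([1,2,4,16],[1,2,4,23]) = true := by decide +kernel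
theorem c10002211 : chkDer M10001 [([1,2,4,8,16],[7,2,4,20,8])] [(1,0,[1,2,4,8]),(1,0,[7,2,4,20])] ([1,2,4,8],[1,2,4,12]) = true := by decide +kernel
theorem c10000507 : chkDer M10001 [([1,2,4,8],[1,8,4,10]),([1,2,4,8,16],[4,2,7,9,20])] [(1,0,[2]),(2,1,[15]),(1,0,[15]),(1,1,[7])] ([2],[1]) = true := by decide +kernel
theorem c10000515 : chkDer M10001 [([1,2,4,8],[1,8,4,10]),([1,2,4,8,16],[4,2,7,9,16])] [(1,0,[2]),(2,1,[15]),(1,0,[15]),(1,1,[7])] ([2],[1]) = true := by decide +kernel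
theorem c10000575 : chkDer M10001 [([1,2,6,16],[1,16,6,18]),([1,2,4,8,16],[4,2,7,17,9]),([1,2,4,8],[1,8,4,10])] [(1,0,[2]),(2,1,[15]),(1,2,[15]),(1,1,[7])] ([2],[1]) = true := by decide +kernel
theorem c10001003 : chkDer M10001 [([1,2,4,8],[1,8,4,10]),([1,2,4,8,16],[5,2,6,9,21])] [(1,0,[2]),(2,1,[15]),(1,0,[15]),(1,1,[7])] ([2],[1]) = true := by decide +kernel
theorem c10001011 : chkDer M10001 [([1,2,4,8],[1,8,4,10]),([1,2,4,8,16],[5,2,6,9,17])] [(1,0,[2]),(2,1,[15]),(1,0,[15]),(1,1,[7])] ([2],[1]) = true := by decide +kernel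
theorem c10001068 : chkDer M10001 [([1,2,6,16],[1,16,6,18]),([1,2,4,8,16],[5,2,6,17,12]),([1,2,4,8],[1,8,4,10])] [(1,0,[2]),(2,1,[15]),(1,2,[15]),(1,1,[7])] ([2],[1]) = true := by decide +kernel
theorem c10001631 : chkDer M10001 [([1,2,4,8],[1,8,4,10]),([1,2,4,8,16],[6,2,5,9,21])] [(1,0,[2]),(2,1,[15]),(1,0,[15]),(1,1,[7])] ([2],[1]) = true := by decide +kernel
theorem c10001639 : chkDer M10001 [([1,2,4,8],[1,8,4,10]),([1,2,4,8,16],[6,2,5,9,17])] [(1,0,[2]),(2,1,[15]),(1,0,[15]),(1,1,[7])] ([2],[1]) = true := by decide +kernel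
theorem c10001703 : chkDer M10001 [([1,2,6,16],[1,16,6,18]),([1,2,4,8,16],[6,2,5,17,9]),([1,2,4,8],[1,8,4,10])] [(1,0,[2]),(2,1,[15]),(1,2,[15]),(1,1,[7])] ([2],[1]) = true := by decide +kernel
theorem c10002122 : chkDer M10001 [([1,2,4,8],[1,8,4,10]),([1,2,4,8,16],[7,2,4,9,21])] [(1,0,[2]),(2,1,[15]),(1,0,[15]),(1,1,[7])] ([2],[1]) = true := by decide +kernel
theorem c10002130 : chkDer M10001 [([1,2,4,8],[1,8,4,10]),([1,2,4,8,16],[7,2,4,9,17])] [(1,0,[2]),(2,1,[15]),(1,0,[15]),(1,1,[7])] ([2],[1]) = true := by decide +kernel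
theorem c10002187 : chkDer M10001 [([1,2,6,16],[1,16,6,18]),([1,2,4,8,16],[7,2,4,17,12]),([1,2,4,8],[1,8,4,10])] [(1,0,[2]),(2,1,[15]),(1,2,[15]),(1,1,[7])] ([2],[1]) = true := by decide +kernel
theorem c10002195 : chkDer M10001 [([1,2,6,16],[1,16,6,18]),([1,2,4,8,16],[7,2,4,17,8]),([1,2,4,8],[1,8,4,10])] [(1,0,[2]),(2,1,[15]),(1,2,[15]),(1,1,[7])] ([2],[1]) = true := by decide +kernel
theorem c10001295 : chkDer M10001 [([1,2,4,8],[1,8,4,10]),([1,2,4,8,16],[5,2,3,16,13])] [(1,0,[2]),(2,1,[17]),(2,1,[14]),(1,0,[14]),(1,1,[6])] ([2],[1]) = true := by decide +kernel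
theorem c10001583 : chkDer M10001 [([1,2,6,16],[1,16,6,18]),([1,2,4,8,16],[6,2,7,20,13])] [(1,0,[2]),(1,1,[16]),(1,1,[13]),(1,0,[15]),(1,1,[5])] ([2],[1]) = true := by decide +kernel
theorem c10000195 : chkDer M10001 [([1,2,4,8,16],[3,2,6,16,12])] [(1,0,[1,2,4,8]),(1,0,[3,2,6,16])] ([1,2,4,8],[1,2,4,12]) = true := by decide +kernel
theorem c10000325 : chkDer M10001 [([1,2,4,8,16],[3,2,5,16,8])] [(1,0,[1,2,4,8]),(1,0,[3,2,5,16])] ([1,2,4,8],[1,2,6,8]) = true := by decide +kernel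
theorem c10000983 : chkDer M10001 [([1,2,4,8,16],[4,2,1,21,8])] [(1,0,[1,2,4,8]),(1,0,[4,2,1,21])] ([1,2,4,8],[1,2,4,13]) = true := by decide +kernel
theorem c10001211 : chkDer M10001 [([1,2,4,8,16],[5,2,4,20,8])] [(1,0,[1,2,4,8]),(1,0,[5,2,4,20])] ([1,2,4,8],[1,2,4,12]) = true := by decide +kernel
theorem c10002171 : chkDer M10001 [([1,2,4,8,16],[7,2,4,16,12])] [(1,0,[1,2,4,8]),(1,0,[7,2,4,16])] ([1,2,4,8],[1,2,4,12]) = true := by decide +kernel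
theorem c10000297 : chkDer M10001 [([1,2,4,8],[1,8,4,10]),([1,2,4,8,16],[3,2,5,13,21])] [(1,0,[2]),(1,1,[8]),(1,1,[13]),(1,0,[11]),(1,1,[3])] ([2],[1]) = true := by decide +kernel
theorem c10000309 : chkDer M10001 [([1,2,4,8],[1,8,4,10]),([1,2,4,8,16],[3,2,5,13,16])] [(1,0,[2]),(1,1,[8]),(1,1,[13]),(1,0,[11]),(1,1,[3])] ([2],[1]) = true := by decide +kernel
theorem c10000475 : chkDer M10001 [([1,2,4,8],[1,8,4,10]),([1,2,4,8,16],[3,2,4,21,12])] [(1,0,[2]),(1,1,[8]),(1,1,[21]),(1,0,[11]),(1,1,[3])] ([2],[1]) = true := by decide +kernel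
theorem c10000683 : chkDer M10001 [([1,2,6,16],[1,16,6,18]),([1,2,4,8,16],[4,2,5,16,12])] [(1,0,[2]),(1,1,[16]),(1,1,[12]),(1,0,[15]),(1,1,[5])] ([2],[1]) = true := by decide +kernel
theorem c10001187 : chkDer M10001 [([1,2,6,16],[1,16,6,18]),([1,2,4,8,16],[5,2,4,17,12])] [(1,0,[2]),(1,1,[16]),(1,1,[12]),(1,0,[15]),(1,1,[5])] ([2],[1]) = true := by decide +kernel
theorem c10001723 : chkDer M10001 [([1,2,4,8],[1,8,4,10]),([1,2,4,8,16],[6,2,5,20,8])] [(1,0,[2]),(1,1,[8]),(1,1,[20]),(2,0,[7]),(1,1,[7])] ([2],[1]) = true := by decide +kernel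
theorem c10002483 : chkDer M10001 [([1,2,6,16],[1,16,6,18]),([1,2,4,8,16],[7,2,1,21,8])] [(1,0,[2]),(2,1,[11]),(2,1,[22]),(2,0,[6]),(1,1,[4])] ([2],[1]) = true := by decide +kernel
theorem c10000433 : chkDer M10001 [([1,2,4,8,16],[3,2,4,16,12])] [(1,0,[1,2,4,8]),(1,0,[3,2,4,16])] ([1,2,4,8],[1,2,4,12]) = true := by decide +kernel
theorem c10000891 : chkDer M10001 [([1,2,4,8,16],[4,2,1,12,21])] [(1,0,[1,2,4,8]),(1,0,[4,2,1,12])] ([1,2,4,8],[1,2,4,13]) = true := by decide +kernel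
theorem c10000623 : chkDer M10001 [([1,2,6,16],[1,16,6,18]),([1,2,4,8,16],[4,2,5,8,17])] [(1,0,[2]),(2,1,[21]),(1,0,[15]),(1,1,[5])] ([2],[1]) = true := by decide +kernel
theorem c10000639 : chkDer M10001 [([1,2,6,16],[1,16,6,18]),([1,2,4,8,16],[4,2,5,9,17])] [(1,0,[2]),(2,1,[21]),(1,0,[15]),(1,1,[5])] ([2],[1]) = true := by decide +kernel
theorem c10000671 : chkDer M10001 [([1,2,6,16],[1,16,6,18]),([1,2,4,8,16],[4,2,5,13,17])] [(1,0,[2]),(2,1,[21]),(1,0,[15]),(1,1,[5])] ([2],[1]) = true := by decide +kernel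
theorem c10000703 : chkDer M10001 [([1,2,4,8],[1,8,4,10]),([1,2,4,8,16],[4,2,5,17,9]),([1,2,6,16],[1,16,6,18])] [(1,0,[2]),(2,1,[21]),(1,2,[15]),(1,1,[5])] ([2],[1]) = true := by decide +kernel
theorem c10001127 : chkDer M10001 [([1,2,6,16],[1,16,6,18]),([1,2,4,8,16],[5,2,4,9,17])] [(1,0,[2]),(2,1,[21]),(1,0,[15]),(1,1,[5])] ([2],[1]) = true := by decide +kernel
theorem c10001159 : chkDer M10001 [([1,2,6,16],[1,16,6,18]),([1,2,4,8,16],[5,2,4,13,17])] [(1,0,[2]),(2,1,[21]),(1,0,[15]),(1,1,[5])] ([2],[1]) = true := by decide +kernel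
theorem c10001191 : chkDer M10001 [([1,2,4,8],[1,8,4,10]),([1,2,4,8,16],[5,2,4,17,9]),([1,2,6,16],[1,16,6,18])] [(1,0,[2]),(2,1,[21]),(1,2,[15]),(1,1,[5])] ([2],[1]) = true := by decide +kernel
theorem c10001495 : chkDer M10001 [([1,2,6,16],[1,16,6,18]),([1,2,4,8,16],[6,2,7,8,17])] [(1,0,[2]),(2,1,[21]),(1,0,[15]),(1,1,[5])] ([2],[1]) = true := by decide +kernel
theorem c10001559 : chkDer M10001 [([1,2,4,8],[1,8,4,10]),([1,2,4,8,16],[6,2,7,16,9]),([1,2,6,16],[1,16,6,18])] [(1,0,[2]),(2,1,[21]),(1,2,[15]),(1,1,[5])] ([2],[1]) = true := by decide +kernel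
theorem c10001591 : chkDer M10001 [([1,2,4,8],[1,8,4,10]),([1,2,4,8,16],[6,2,7,20,9]),([1,2,6,16],[1,16,6,18])] [(1,0,[2]),(2,1,[21]),(1,2,[15]),(1,1,[5])] ([2],[1]) = true := by decide +kernel
theorem c10002027 : chkDer M10001 [([1,2,6,16],[1,16,6,18]),([1,2,4,8,16],[7,2,6,12,17])] [(1,0,[2]),(2,1,[21]),(1,0,[15]),(1,1,[5])] ([2],[1]) = true := by decide +kernel
theorem c10002069 : chkDer M10001 [([1,2,4,8],[1,8,4,10]),([1,2,4,8,16],[7,2,6,17,9]),([1,2,6,16],[1,16,6,18])] [(1,0,[2]),(2,1,[21]),(1,2,[15]),(1,1,[5])] ([2],[1]) = true := by decide +kernel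
theorem c10002391 : chkDer M10001 [([1,2,4,8],[1,8,4,10]),([1,2,4,8,16],[7,2,1,12,21])] [(1,0,[2]),(2,1,[15]),(1,0,[15]),(2,1,[1])] ([2],[1]) = true := by decide +kernel
theorem c10002399 : chkDer M10001 [([1,2,4,8],[1,8,4,10]),([1,2,4,8,16],[7,2,1,12,17])] [(1,0,[2]),(2,1,[15]),(1,0,[15]),(2,1,[1])] ([2],[1]) = true := by decide +kernel
theorem c10000007 : chkDer M10001 [([1,2,6,16],[1,16,6,18]),([1,2,4,8,16],[3,2,7,8,21])] [(1,0,[2]),(1,1,[16]),(1,1,[21]),(2,0,[3]),(1,1,[3])] ([2],[1]) = true := by decide +kernel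
theorem c10000041 : chkDer M10001 [([1,2,4,8],[1,8,4,10]),([1,2,4,8,16],[3,2,7,12,21])] [(1,0,[2]),(1,1,[8]),(1,1,[12]),(1,0,[11]),(1,1,[3])] ([2],[1]) = true := by decide +kernel
theorem c10000053 : chkDer M10001 [([1,2,4,8],[1,8,4,10]),([1,2,4,8,16],[3,2,7,12,16])] [(1,0,[2]),(1,1,[8]),(1,1,[12]),(1,0,[11]),(1,1,[3])] ([2],[1]) = true := by decide +kernel
theorem c10000061 : chkDer M10001 [([1,2,4,8],[1,8,4,10]),([1,2,4,8,16],[3,2,7,13,20])] [(1,0,[2]),(1,1,[8]),(1,1,[13]),(2,0,[3]),(1,1,[3])] ([2],[1]) = true := by decide +kernel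
theorem c10000109 : chkDer M10001 [([1,2,4,8],[1,8,4,10]),([1,2,4,8,16],[3,2,7,20,12])] [(1,0,[2]),(1,1,[8]),(1,1,[20]),(1,0,[11]),(1,1,[3])] ([2],[1]) = true := by decide +kernel
theorem c10000220 : chkDer M10001 [([1,2,4,8],[1,8,4,10]),([1,2,4,8,16],[3,2,6,20,13])] [(1,0,[2]),(1,1,[8]),(1,1,[20]),(1,0,[11]),(1,1,[3])] ([2],[1]) = true := by decide +kernel
theorem c10000939 : chkDer M10001 [([1,2,6,16],[1,16,6,18]),([1,2,4,8,16],[4,2,1,17,13])] [(1,0,[2]),(1,1,[16]),(1,1,[13]),(1,0,[14]),(1,1,[4])] ([2],[1]) = true := by decide +kernel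
theorem c10001327 : chkDer M10001 [([1,2,4,8],[1,8,4,10]),([1,2,4,8,16],[5,2,3,20,13])] [(1,0,[2]),(1,1,[8]),(1,1,[20]),(1,0,[14]),(1,1,[6])] ([2],[1]) = true := by decide +kernel
theorem c10001567 : chkDer M10001 [([1,2,4,8],[1,8,4,10]),([1,2,4,8,16],[6,2,7,17,13])] [(1,0,[2]),(2,1,[22]),(2,1,[12]),(2,0,[6]),(2,1,[1])] ([2],[1]) = true := by decide +kernel
theorem c10001857 : chkDer M10001 [([1,2,4,8],[1,8,4,10]),([1,2,4,8,16],[6,2,3,21,9])] [(1,0,[2]),(1,1,[8]),(1,1,[21]),(2,0,[6]),(1,1,[6])] ([2],[1]) = true := by decide +kernel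
theorem c10002355 : chkDer M10001 [([1,2,4,8],[1,8,4,10]),([1,2,4,8,16],[7,2,3,21,8])] [(1,0,[2]),(1,1,[8]),(1,1,[21]),(2,0,[6]),(1,1,[6])] ([2],[1]) = true := by decide +kernel
theorem c10000923 : chkDer M10001 [([1,2,4,8,16],[4,2,1,16,13])] [(1,0,[1,2,4,8]),(1,0,[4,2,1,16])] ([1,2,4,8],[1,2,4,13]) = true := by decide +kernel
theorem c10000129 : chkDer M10001 [([1,2,4,8],[1,8,4,10]),([1,2,4,8,16],[3,2,7,21,9]),([1,2,6,16],[1,16,6,18])] [(1,0,[2]),(2,1,[19]),(1,2,[11]),(1,1,[3])] ([2],[1]) = true := by decide +kernel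
theorem c10000225 : chkDer M10001 [([1,2,4,8],[1,8,4,10]),([1,2,4,8,16],[3,2,6,20,9]),([1,2,6,16],[1,16,6,18])] [(1,0,[2]),(2,1,[19]),(1,2,[11]),(1,1,[3])] ([2],[1]) = true := by decide +kernel
theorem c10000321 : chkDer M10001 [([1,2,4,8],[1,8,4,10]),([1,2,4,8,16],[3,2,5,16,9]),([1,2,6,16],[1,16,6,18])] [(1,0,[2]),(2,1,[19]),(1,2,[11]),(1,1,[3])] ([2],[1]) = true := by decide +kernel
theorem c10000369 : chkDer M10001 [([1,2,4,8],[1,8,4,10]),([1,2,4,8,16],[3,2,5,21,9]),([1,2,6,16],[1,16,6,18])] [(1,0,[2]),(2,1,[19]),(1,2,[11]),(1,1,[3])] ([2],[1]) = true := by decide +kernel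
theorem c10000466 : chkDer M10001 [([1,2,4,8],[1,8,4,10]),([1,2,4,8,16],[3,2,4,20,9]),([1,2,6,16],[1,16,6,18])] [(1,0,[2]),(2,1,[19]),(1,2,[11]),(1,1,[3])] ([2],[1]) = true := by decide +kernel
theorem c10000759 : chkDer M10001 [([1,2,4,8],[1,8,4,10]),([1,2,4,8,16],[4,2,3,9,21])] [(1,0,[2]),(2,1,[14]),(1,0,[14]),(1,1,[6])] ([2],[1]) = true := by decide +kernel
theorem c10000767 : chkDer M10001 [([1,2,4,8],[1,8,4,10]),([1,2,4,8,16],[4,2,3,9,17])] [(1,0,[2]),(2,1,[14]),(1,0,[14]),(1,1,[6])] ([2],[1]) = true := by decide +kernel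
theorem c10000820 : chkDer M10001 [([1,2,6,16],[1,16,6,18]),([1,2,4,8,16],[4,2,3,17,13]),([1,2,4,8],[1,8,4,10])] [(1,0,[2]),(2,1,[14]),(1,2,[14]),(1,1,[6])] ([2],[1]) = true := by decide +kernel
theorem c10000995 : chkDer M10001 [([1,2,6,16],[1,16,6,18]),([1,2,4,8,16],[5,2,6,8,17])] [(1,0,[2]),(2,1,[23]),(2,0,[7]),(2,1,[1])] ([2],[1]) = true := by decide +kernel
theorem c10001059 : chkDer M10001 [([1,2,4,8],[1,8,4,10]),([1,2,4,8,16],[5,2,6,16,9]),([1,2,6,16],[1,16,6,18])] [(1,0,[2]),(2,1,[23]),(2,2,[7]),(2,1,[1])] ([2],[1]) = true := by decide +kernel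
theorem c10001088 : chkDer M10001 [([1,2,4,8],[1,8,4,10]),([1,2,4,8,16],[5,2,6,20,9]),([1,2,6,16],[1,16,6,18])] [(1,0,[2]),(2,1,[23]),(2,2,[7]),(2,1,[1])] ([2],[1]) = true := by decide +kernel
theorem c10001247 : chkDer M10001 [([1,2,4,8],[1,8,4,10]),([1,2,4,8,16],[5,2,3,9,21])] [(1,0,[2]),(2,1,[14]),(1,0,[14]),(1,1,[6])] ([2],[1]) = true := by decide +kernel
theorem c10001255 : chkDer M10001 [([1,2,4,8],[1,8,4,10]),([1,2,4,8,16],[5,2,3,9,17])] [(1,0,[2]),(2,1,[14]),(1,0,[14]),(1,1,[6])] ([2],[1]) = true := by decide +kernel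
theorem c10001283 : chkDer M10001 [([1,2,6,16],[1,16,6,18]),([1,2,4,8,16],[5,2,3,13,20])] [(1,0,[2]),(2,1,[23]),(2,0,[7]),(2,1,[1])] ([2],[1]) = true := by decide +kernel
theorem c10001311 : chkDer M10001 [([1,2,6,16],[1,16,6,18]),([1,2,4,8,16],[5,2,3,17,13]),([1,2,4,8],[1,8,4,10])] [(1,0,[2]),(2,1,[14]),(1,2,[14]),(1,1,[6])] ([2],[1]) = true := by decide +kernel
theorem c10001319 : chkDer M10001 [([1,2,6,16],[1,16,6,18]),([1,2,4,8,16],[5,2,3,17,9]),([1,2,4,8],[1,8,4,10])] [(1,0,[2]),(2,1,[14]),(1,2,[14]),(1,1,[6])] ([2],[1]) = true := by decide +kernel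
theorem c10001331 : chkDer M10001 [([1,2,4,8],[1,8,4,10]),([1,2,4,8,16],[5,2,3,20,12]),([1,2,6,16],[1,16,6,18])] [(1,0,[2]),(2,1,[23]),(2,2,[7]),(2,1,[1])] ([2],[1]) = true := by decide +kernel
theorem c10001443 : chkDer M10001 [([1,2,4,8],[1,8,4,10]),([1,2,4,8,16],[5,2,1,17,12]),([1,2,6,16],[1,16,6,18])] [(1,0,[2]),(2,1,[21]),(1,2,[15]),(2,1,[1])] ([2],[1]) = true := by decide +kernel
theorem c10001760 : chkDer M10001 [([1,2,4,8],[1,8,4,10]),([1,2,4,8,16],[6,2,3,9,20])] [(1,0,[2]),(2,1,[14]),(1,0,[14]),(1,1,[6])] ([2],[1]) = true := by decide +kernel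
theorem c10001768 : chkDer M10001 [([1,2,4,8],[1,8,4,10]),([1,2,4,8,16],[6,2,3,9,16])] [(1,0,[2]),(2,1,[14]),(1,0,[14]),(1,1,[6])] ([2],[1]) = true := by decide +kernel
theorem c10001825 : chkDer M10001 [([1,2,6,16],[1,16,6,18]),([1,2,4,8,16],[6,2,3,17,9]),([1,2,4,8],[1,8,4,10])] [(1,0,[2]),(2,1,[14]),(1,2,[14]),(1,1,[6])] ([2],[1]) = true := by decide +kernel
theorem c10002247 : chkDer M10001 [([1,2,4,8],[1,8,4,10]),([1,2,4,8,16],[7,2,3,9,21])] [(1,0,[2]),(2,1,[14]),(1,0,[14]),(1,1,[6])] ([2],[1]) = true := by decide +kernel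
theorem c10002255 : chkDer M10001 [([1,2,4,8],[1,8,4,10]),([1,2,4,8,16],[7,2,3,9,17])] [(1,0,[2]),(2,1,[14]),(1,0,[14]),(1,1,[6])] ([2],[1]) = true := by decide +kernel
theorem c10002319 : chkDer M10001 [([1,2,6,16],[1,16,6,18]),([1,2,4,8,16],[7,2,3,17,9]),([1,2,4,8],[1,8,4,10])] [(1,0,[2]),(2,1,[14]),(1,2,[14]),(1,1,[6])] ([2],[1]) = true := by decide +kernel
theorem c10000253 : chkDer M10001 [([1,2,6,16],[1,16,6,18]),([1,2,4,8,16],[3,2,5,8,20])] [(1,0,[2]),(1,1,[16]),(1,1,[20]),(2,0,[3]),(1,1,[3])] ([2],[1]) = true := by decide +kernel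
theorem c10000281 : chkDer M10001 [([1,2,4,8],[1,8,4,10]),([1,2,4,8,16],[3,2,5,12,21])] [(1,0,[2]),(1,1,[8]),(1,1,[12]),(2,0,[3]),(1,1,[3])] ([2],[1]) = true := by decide +kernel
theorem c10000293 : chkDer M10001 [([1,2,4,8],[1,8,4,10]),([1,2,4,8,16],[3,2,5,12,16])] [(1,0,[2]),(1,1,[8]),(1,1,[12]),(2,0,[3]),(1,1,[3])] ([2],[1]) = true := by decide +kernel
theorem c10000458 : chkDer M10001 [([1,2,4,8],[1,8,4,10]),([1,2,4,8,16],[3,2,4,20,13])] [(1,0,[2]),(1,1,[8]),(1,1,[20]),(2,0,[3]),(1,1,[3])] ([2],[1]) = true := by decide +kernel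
theorem c10000699 : chkDer M10001 [([1,2,6,16],[1,16,6,18]),([1,2,4,8,16],[4,2,5,17,12])] [(1,0,[2]),(1,1,[16]),(1,1,[12]),(1,0,[14]),(2,1,[1])] ([2],[1]) = true := by decide +kernel
theorem c10001579 : chkDer M10001 [([1,2,4,8],[1,8,4,10]),([1,2,4,8,16],[6,2,7,17,8])] [(1,0,[2]),(1,1,[8]),(1,1,[17]),(1,0,[14]),(2,1,[1])] ([2],[1]) = true := by decide +kernel
theorem c10000535 : chkDer M10001 [([1,2,4,8],[1,8,4,10]),([1,2,4,8,16],[4,2,7,13,21])] [(1,0,[2]),(1,1,[8]),(2,0,[7]),(1,1,[7])] ([2],[1]) = true := by decide +kernel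
theorem c10000543 : chkDer M10001 [([1,2,4,8],[1,8,4,10]),([1,2,4,8,16],[4,2,7,13,17])] [(1,0,[2]),(1,1,[8]),(2,0,[7]),(1,1,[7])] ([2],[1]) = true := by decide +kernel
theorem c10000615 : chkDer M10001 [([1,2,6,16],[1,16,6,18]),([1,2,4,8,16],[4,2,5,8,21])] [(1,0,[2]),(1,1,[16]),(1,0,[15]),(1,1,[5])] ([2],[1]) = true := by decide +kernel
theorem c10000647 : chkDer M10001 [([1,2,6,16],[1,16,6,18]),([1,2,4,8,16],[4,2,5,12,21])] [(1,0,[2]),(1,1,[16]),(1,0,[15]),(1,1,[5])] ([2],[1]) = true := by decide +kernel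
theorem c10000727 : chkDer M10001 [([1,2,4,8],[1,8,4,10]),([1,2,4,8,16],[4,2,5,21,13]),([1,2,6,16],[1,16,6,18])] [(1,0,[2]),(1,1,[8]),(1,2,[15]),(1,1,[5])] ([2],[1]) = true := by decide +kernel
theorem c10000735 : chkDer M10001 [([1,2,4,8],[1,8,4,10]),([1,2,4,8,16],[4,2,5,21,9]),([1,2,6,16],[1,16,6,18])] [(1,0,[2]),(1,1,[8]),(1,2,[15]),(1,1,[5])] ([2],[1]) = true := by decide +kernel
theorem c10001035 : chkDer M10001 [([1,2,4,8],[1,8,4,10]),([1,2,4,8,16],[5,2,6,13,21])] [(1,0,[2]),(1,1,[8]),(2,0,[7]),(1,1,[7])] ([2],[1]) = true := by decide +kernel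
theorem c10001043 : chkDer M10001 [([1,2,4,8],[1,8,4,10]),([1,2,4,8,16],[5,2,6,13,17])] [(1,0,[2]),(1,1,[8]),(2,0,[7]),(1,1,[7])] ([2],[1]) = true := by decide +kernel
theorem c10001051 : chkDer M10001 [([1,2,6,16],[1,16,6,18]),([1,2,4,8,16],[5,2,6,16,13]),([1,2,4,8],[1,8,4,10])] [(1,0,[2]),(1,1,[16]),(2,2,[7]),(1,1,[7])] ([2],[1]) = true := by decide +kernel
theorem c10001080 : chkDer M10001 [([1,2,6,16],[1,16,6,18]),([1,2,4,8,16],[5,2,6,20,13]),([1,2,4,8],[1,8,4,10])] [(1,0,[2]),(1,1,[16]),(2,2,[7]),(1,1,[7])] ([2],[1]) = true := by decide +kernel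
theorem c10001119 : chkDer M10001 [([1,2,6,16],[1,16,6,18]),([1,2,4,8,16],[5,2,4,9,21])] [(1,0,[2]),(1,1,[16]),(1,0,[15]),(1,1,[5])] ([2],[1]) = true := by decide +kernel
theorem c10001151 : chkDer M10001 [([1,2,6,16],[1,16,6,18]),([1,2,4,8,16],[5,2,4,13,21])] [(1,0,[2]),(1,1,[16]),(1,0,[15]),(1,1,[5])] ([2],[1]) = true := by decide +kernel
theorem c10001219 : chkDer M10001 [([1,2,4,8],[1,8,4,10]),([1,2,4,8,16],[5,2,4,21,12]),([1,2,6,16],[1,16,6,18])] [(1,0,[2]),(1,1,[8]),(1,2,[15]),(1,1,[5])] ([2],[1]) = true := by decide +kernel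
theorem c10001227 : chkDer M10001 [([1,2,4,8],[1,8,4,10]),([1,2,4,8,16],[5,2,4,21,8]),([1,2,6,16],[1,16,6,18])] [(1,0,[2]),(1,1,[8]),(1,2,[15]),(1,1,[5])] ([2],[1]) = true := by decide +kernel
theorem c10001503 : chkDer M10001 [([1,2,6,16],[1,16,6,18]),([1,2,4,8,16],[6,2,7,9,21])] [(1,0,[2]),(1,1,[16]),(1,0,[15]),(1,1,[5])] ([2],[1]) = true := by decide +kernel
theorem c10001539 : chkDer M10001 [([1,2,4,8],[1,8,4,10]),([1,2,4,8,16],[6,2,7,13,20])] [(1,0,[2]),(2,1,[14]),(1,0,[14]),(2,1,[1])] ([2],[1]) = true := by decide +kernel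
theorem c10001547 : chkDer M10001 [([1,2,4,8],[1,8,4,10]),([1,2,4,8,16],[6,2,7,13,16])] [(1,0,[2]),(2,1,[14]),(1,0,[14]),(2,1,[1])] ([2],[1]) = true := by decide +kernel
theorem c10001603 : chkDer M10001 [([1,2,4,8],[1,8,4,10]),([1,2,4,8,16],[6,2,7,21,12]),([1,2,6,16],[1,16,6,18])] [(1,0,[2]),(1,1,[8]),(1,2,[15]),(1,1,[5])] ([2],[1]) = true := by decide +kernel
theorem c10001611 : chkDer M10001 [([1,2,4,8],[1,8,4,10]),([1,2,4,8,16],[6,2,7,21,8]),([1,2,6,16],[1,16,6,18])] [(1,0,[2]),(1,1,[8]),(1,2,[15]),(1,1,[5])] ([2],[1]) = true := by decide +kernel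
theorem c10001667 : chkDer M10001 [([1,2,4,8],[1,8,4,10]),([1,2,4,8,16],[6,2,5,13,20])] [(1,0,[2]),(1,1,[8]),(2,0,[7]),(1,1,[7])] ([2],[1]) = true := by decide +kernel
theorem c10001675 : chkDer M10001 [([1,2,4,8],[1,8,4,10]),([1,2,4,8,16],[6,2,5,13,16])] [(1,0,[2]),(1,1,[8]),(2,0,[7]),(1,1,[7])] ([2],[1]) = true := by decide +kernel
theorem c10001695 : chkDer M10001 [([1,2,6,16],[1,16,6,18]),([1,2,4,8,16],[6,2,5,17,13]),([1,2,4,8],[1,8,4,10])] [(1,0,[2]),(1,1,[16]),(2,2,[7]),(1,1,[7])] ([2],[1]) = true := by decide +kernel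
theorem c10001727 : chkDer M10001 [([1,2,6,16],[1,16,6,18]),([1,2,4,8,16],[6,2,5,21,13]),([1,2,4,8],[1,8,4,10])] [(1,0,[2]),(1,1,[16]),(2,2,[7]),(1,1,[7])] ([2],[1]) = true := by decide +kernel
theorem c10002003 : chkDer M10001 [([1,2,4,8],[1,8,4,10]),([1,2,4,8,16],[7,2,6,9,21])] [(1,0,[2]),(2,1,[13]),(2,0,[7]),(2,1,[1])] ([2],[1]) = true := by decide +kernel
theorem c10002011 : chkDer M10001 [([1,2,4,8],[1,8,4,10]),([1,2,4,8,16],[7,2,6,9,17])] [(1,0,[2]),(2,1,[13]),(2,0,[7]),(2,1,[1])] ([2],[1]) = true := by decide +kernel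
theorem c10002019 : chkDer M10001 [([1,2,6,16],[1,16,6,18]),([1,2,4,8,16],[7,2,6,12,21])] [(1,0,[2]),(1,1,[16]),(1,0,[15]),(1,1,[5])] ([2],[1]) = true := by decide +kernel
theorem c10002073 : chkDer M10001 [([1,2,6,16],[1,16,6,18]),([1,2,4,8,16],[7,2,6,17,8]),([1,2,4,8],[1,8,4,10])] [(1,0,[2]),(2,1,[13]),(2,2,[7]),(2,1,[1])] ([2],[1]) = true := by decide +kernel
theorem c10002097 : chkDer M10001 [([1,2,4,8],[1,8,4,10]),([1,2,4,8,16],[7,2,6,21,12]),([1,2,6,16],[1,16,6,18])] [(1,0,[2]),(1,1,[8]),(1,2,[15]),(1,1,[5])] ([2],[1]) = true := by decide +kernel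
theorem c10002105 : chkDer M10001 [([1,2,4,8],[1,8,4,10]),([1,2,4,8,16],[7,2,6,21,8]),([1,2,6,16],[1,16,6,18])] [(1,0,[2]),(1,1,[8]),(1,2,[15]),(1,1,[5])] ([2],[1]) = true := by decide +kernel
theorem c10002155 : chkDer M10001 [([1,2,4,8],[1,8,4,10]),([1,2,4,8,16],[7,2,4,13,20])] [(1,0,[2]),(1,1,[8]),(2,0,[7]),(1,1,[7])] ([2],[1]) = true := by decide +kernel
theorem c10002163 : chkDer M10001 [([1,2,4,8],[1,8,4,10]),([1,2,4,8,16],[7,2,4,13,16])] [(1,0,[2]),(1,1,[8]),(2,0,[7]),(1,1,[7])] ([2],[1]) = true := by decide +kernel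
theorem c10002183 : chkDer M10001 [([1,2,6,16],[1,16,6,18]),([1,2,4,8,16],[7,2,4,17,13]),([1,2,4,8],[1,8,4,10])] [(1,0,[2]),(1,1,[16]),(2,2,[7]),(1,1,[7])] ([2],[1]) = true := by decide +kernel
theorem c10002215 : chkDer M10001 [([1,2,6,16],[1,16,6,18]),([1,2,4,8,16],[7,2,4,21,13]),([1,2,4,8],[1,8,4,10])] [(1,0,[2]),(1,1,[16]),(2,2,[7]),(1,1,[7])] ([2],[1]) = true := by decide +kernel
theorem c10002339 : chkDer M10001 [([1,2,6,16],[1,16,6,18]),([1,2,4,8,16],[7,2,3,20,8]),([1,2,4,8],[1,8,4,10])] [(1,0,[2]),(2,1,[13]),(2,2,[7]),(2,1,[1])] ([2],[1]) = true := by decide +kernel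
theorem c10000519 : chkDer M10001 [([1,2,6,16],[1,16,6,18]),([1,2,4,8,16],[4,2,7,12,21])] [(1,0,[2]),(2,1,[22]),(2,0,[6]),(2,1,[1])] ([2],[1]) = true := by decide +kernel
theorem c10000567 : chkDer M10001 [([1,2,4,8],[1,8,4,10]),([1,2,4,8,16],[4,2,7,17,13]),([1,2,6,16],[1,16,6,18])] [(1,0,[2]),(2,1,[22]),(2,2,[6]),(2,1,[1])] ([2],[1]) = true := by decide +kernel
theorem c10000679 : chkDer M10001 [([1,2,4,8],[1,8,4,10]),([1,2,4,8,16],[4,2,5,16,13]),([1,2,6,16],[1,16,6,18])] [(1,0,[2]),(2,1,[20]),(1,2,[14]),(2,1,[1])] ([2],[1]) = true := by decide +kernel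
theorem c10000751 : chkDer M10001 [([1,2,6,16],[1,16,6,18]),([1,2,4,8,16],[4,2,3,8,17])] [(1,0,[2]),(2,1,[22]),(2,0,[6]),(2,1,[1])] ([2],[1]) = true := by decide +kernel
theorem c10000815 : chkDer M10001 [([1,2,4,8],[1,8,4,10]),([1,2,4,8,16],[4,2,3,16,9]),([1,2,6,16],[1,16,6,18])] [(1,0,[2]),(2,1,[22]),(2,2,[6]),(2,1,[1])] ([2],[1]) = true := by decide +kernel
theorem c10000860 : chkDer M10001 [([1,2,4,8],[1,8,4,10]),([1,2,4,8,16],[4,2,3,21,9]),([1,2,6,16],[1,16,6,18])] [(1,0,[2]),(2,1,[22]),(2,2,[6]),(2,1,[1])] ([2],[1]) = true := by decide +kernel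
theorem c10000883 : chkDer M10001 [([1,2,6,16],[1,16,6,18]),([1,2,4,8,16],[4,2,1,9,17])] [(1,0,[2]),(2,1,[20]),(1,0,[14]),(1,1,[4])] ([2],[1]) = true := by decide +kernel
theorem c10000915 : chkDer M10001 [([1,2,6,16],[1,16,6,18]),([1,2,4,8,16],[4,2,1,13,17])] [(1,0,[2]),(2,1,[20]),(1,0,[14]),(1,1,[4])] ([2],[1]) = true := by decide +kernel
theorem c10000947 : chkDer M10001 [([1,2,4,8],[1,8,4,10]),([1,2,4,8,16],[4,2,1,17,9]),([1,2,6,16],[1,16,6,18])] [(1,0,[2]),(2,1,[20]),(1,2,[14]),(1,1,[4])] ([2],[1]) = true := by decide +kernel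
theorem c10000987 : chkDer M10001 [([1,2,6,16],[1,16,6,18]),([1,2,4,8,16],[5,2,6,8,21])] [(1,0,[2]),(1,1,[16]),(1,0,[15]),(2,1,[1])] ([2],[1]) = true := by decide +kernel
theorem c10001093 : chkDer M10001 [([1,2,4,8],[1,8,4,10]),([1,2,4,8,16],[5,2,6,21,13]),([1,2,6,16],[1,16,6,18])] [(1,0,[2]),(1,1,[8]),(1,2,[15]),(2,1,[1])] ([2],[1]) = true := by decide +kernel
theorem c10001101 : chkDer M10001 [([1,2,4,8],[1,8,4,10]),([1,2,4,8,16],[5,2,6,21,9]),([1,2,6,16],[1,16,6,18])] [(1,0,[2]),(1,1,[8]),(1,2,[15]),(2,1,[1])] ([2],[1]) = true := by decide +kernel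
theorem c10001231 : chkDer M10001 [([1,2,6,16],[1,16,6,18]),([1,2,4,8,16],[5,2,3,8,21])] [(1,0,[2]),(1,1,[16]),(1,0,[15]),(2,1,[1])] ([2],[1]) = true := by decide +kernel
theorem c10001343 : chkDer M10001 [([1,2,4,8],[1,8,4,10]),([1,2,4,8,16],[5,2,3,21,13]),([1,2,6,16],[1,16,6,18])] [(1,0,[2]),(1,1,[8]),(1,2,[15]),(2,1,[1])] ([2],[1]) = true := by decide +kernel
theorem c10001351 : chkDer M10001 [([1,2,4,8],[1,8,4,10]),([1,2,4,8,16],[5,2,3,21,9]),([1,2,6,16],[1,16,6,18])] [(1,0,[2]),(1,1,[8]),(1,2,[15]),(2,1,[1])] ([2],[1]) = true := by decide +kernel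
theorem c10001359 : chkDer M10001 [([1,2,6,16],[1,16,6,18]),([1,2,4,8,16],[5,2,1,8,21])] [(1,0,[2]),(1,1,[16]),(1,0,[15]),(2,1,[1])] ([2],[1]) = true := by decide +kernel
theorem c10001375 : chkDer M10001 [([1,2,6,16],[1,16,6,18]),([1,2,4,8,16],[5,2,1,9,21])] [(1,0,[2]),(1,1,[16]),(1,0,[15]),(2,1,[1])] ([2],[1]) = true := by decide +kernel
theorem c10001391 : chkDer M10001 [([1,2,6,16],[1,16,6,18]),([1,2,4,8,16],[5,2,1,12,21])] [(1,0,[2]),(1,1,[16]),(1,0,[15]),(2,1,[1])] ([2],[1]) = true := by decide +kernel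
theorem c10001407 : chkDer M10001 [([1,2,6,16],[1,16,6,18]),([1,2,4,8,16],[5,2,1,13,21])] [(1,0,[2]),(1,1,[16]),(1,0,[15]),(2,1,[1])] ([2],[1]) = true := by decide +kernel
theorem c10001431 : chkDer M10001 [([1,2,4,8],[1,8,4,10]),([1,2,4,8,16],[5,2,1,16,9]),([1,2,6,16],[1,16,6,18])] [(1,0,[2]),(2,1,[20]),(1,2,[14]),(1,1,[4])] ([2],[1]) = true := by decide +kernel
theorem c10001471 : chkDer M10001 [([1,2,4,8],[1,8,4,10]),([1,2,4,8,16],[5,2,1,21,13]),([1,2,6,16],[1,16,6,18])] [(1,0,[2]),(1,1,[8]),(1,2,[15]),(2,1,[1])] ([2],[1]) = true := by decide +kernel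
theorem c10001479 : chkDer M10001 [([1,2,4,8],[1,8,4,10]),([1,2,4,8,16],[5,2,1,21,9]),([1,2,6,16],[1,16,6,18])] [(1,0,[2]),(1,1,[8]),(1,2,[15]),(2,1,[1])] ([2],[1]) = true := by decide +kernel
theorem c10001873 : chkDer M10001 [([1,2,6,16],[1,16,6,18]),([1,2,4,8,16],[6,2,1,8,17])] [(1,0,[2]),(2,1,[20]),(1,0,[14]),(1,1,[4])] ([2],[1]) = true := by decide +kernel
theorem c10001934 : chkDer M10001 [([1,2,4,8],[1,8,4,10]),([1,2,4,8,16],[6,2,1,16,9]),([1,2,6,16],[1,16,6,18])] [(1,0,[2]),(2,1,[20]),(1,2,[14]),(1,1,[4])] ([2],[1]) = true := by decide +kernel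
theorem c10001979 : chkDer M10001 [([1,2,4,8],[1,8,4,10]),([1,2,4,8,16],[6,2,1,21,9]),([1,2,6,16],[1,16,6,18])] [(1,0,[2]),(2,1,[20]),(1,2,[14]),(1,1,[4])] ([2],[1]) = true := by decide +kernel
theorem c10002383 : chkDer M10001 [([1,2,6,16],[1,16,6,18]),([1,2,4,8,16],[7,2,1,9,17])] [(1,0,[2]),(2,1,[20]),(1,0,[14]),(1,1,[4])] ([2],[1]) = true := by decide +kernel
theorem c10002447 : chkDer M10001 [([1,2,4,8],[1,8,4,10]),([1,2,4,8,16],[7,2,1,17,9]),([1,2,6,16],[1,16,6,18])] [(1,0,[2]),(2,1,[20]),(1,2,[14]),(1,1,[4])] ([2],[1]) = true := by decide +kernel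
theorem c10000015 : chkDer M10001 [([1,2,6,16],[1,16,6,18]),([1,2,4,8,16],[3,2,7,8,17])] [(1,0,[2]),(1,1,[16]),(2,0,[3]),(1,1,[3])] ([2],[1]) = true := by decide +kernel
theorem c10000025 : chkDer M10001 [([1,2,4,8],[1,8,4,10]),([1,2,4,8,16],[3,2,7,9,21])] [(1,0,[2]),(1,1,[8]),(2,0,[3]),(1,1,[3])] ([2],[1]) = true := by decide +kernel
theorem c10000033 : chkDer M10001 [([1,2,4,8],[1,8,4,10]),([1,2,4,8,16],[3,2,7,9,17])] [(1,0,[2]),(1,1,[8]),(2,0,[3]),(1,1,[3])] ([2],[1]) = true := by decide +kernel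
theorem c10000049 : chkDer M10001 [([1,2,6,16],[1,16,6,18]),([1,2,4,8,16],[3,2,7,12,17])] [(1,0,[2]),(1,1,[16]),(2,0,[3]),(1,1,[3])] ([2],[1]) = true := by decide +kernel
theorem c10000089 : chkDer M10001 [([1,2,4,8],[1,8,4,10]),([1,2,4,8,16],[3,2,7,17,13]),([1,2,6,16],[1,16,6,18])] [(1,0,[2]),(1,1,[8]),(2,2,[3]),(1,1,[3])] ([2],[1]) = true := by decide +kernel
theorem c10000097 : chkDer M10001 [([1,2,4,8],[1,8,4,10]),([1,2,4,8,16],[3,2,7,17,9]),([1,2,6,16],[1,16,6,18])] [(1,0,[2]),(1,1,[8]),(2,2,[3]),(1,1,[3])] ([2],[1]) = true := by decide +kernel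
theorem c10000144 : chkDer M10001 [([1,2,6,16],[1,16,6,18]),([1,2,4,8,16],[3,2,6,8,17])] [(1,0,[2]),(1,1,[16]),(2,0,[3]),(1,1,[3])] ([2],[1]) = true := by decide +kernel
theorem c10000153 : chkDer M10001 [([1,2,4,8],[1,8,4,10]),([1,2,4,8,16],[3,2,6,9,20])] [(1,0,[2]),(1,1,[8]),(2,0,[3]),(1,1,[3])] ([2],[1]) = true := by decide +kernel
theorem c10000161 : chkDer M10001 [([1,2,4,8],[1,8,4,10]),([1,2,4,8,16],[3,2,6,9,16])] [(1,0,[2]),(1,1,[8]),(2,0,[3]),(1,1,[3])] ([2],[1]) = true := by decide +kernel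
theorem c10000186 : chkDer M10001 [([1,2,6,16],[1,16,6,18]),([1,2,4,8,16],[3,2,6,13,17])] [(1,0,[2]),(1,1,[16]),(2,0,[3]),(1,1,[3])] ([2],[1]) = true := by decide +kernel
theorem c10000208 : chkDer M10001 [([1,2,4,8],[1,8,4,10]),([1,2,4,8,16],[3,2,6,17,12]),([1,2,6,16],[1,16,6,18])] [(1,0,[2]),(1,1,[8]),(2,2,[3]),(1,1,[3])] ([2],[1]) = true := by decide +kernel
theorem c10000216 : chkDer M10001 [([1,2,4,8],[1,8,4,10]),([1,2,4,8,16],[3,2,6,17,8]),([1,2,6,16],[1,16,6,18])] [(1,0,[2]),(1,1,[8]),(2,2,[3]),(1,1,[3])] ([2],[1]) = true := by decide +kernel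
theorem c10000265 : chkDer M10001 [([1,2,4,8],[1,8,4,10]),([1,2,4,8,16],[3,2,5,9,21])] [(1,0,[2]),(1,1,[8]),(2,0,[3]),(1,1,[3])] ([2],[1]) = true := by decide +kernel
theorem c10000273 : chkDer M10001 [([1,2,4,8],[1,8,4,10]),([1,2,4,8,16],[3,2,5,9,17])] [(1,0,[2]),(1,1,[8]),(2,0,[3]),(1,1,[3])] ([2],[1]) = true := by decide +kernel
theorem c10000289 : chkDer M10001 [([1,2,6,16],[1,16,6,18]),([1,2,4,8,16],[3,2,5,12,17])] [(1,0,[2]),(1,1,[16]),(2,0,[3]),(1,1,[3])] ([2],[1]) = true := by decide +kernel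
theorem c10000329 : chkDer M10001 [([1,2,4,8],[1,8,4,10]),([1,2,4,8,16],[3,2,5,17,13]),([1,2,6,16],[1,16,6,18])] [(1,0,[2]),(1,1,[8]),(2,2,[3]),(1,1,[3])] ([2],[1]) = true := by decide +kernel
theorem c10000337 : chkDer M10001 [([1,2,4,8],[1,8,4,10]),([1,2,4,8,16],[3,2,5,17,9]),([1,2,6,16],[1,16,6,18])] [(1,0,[2]),(1,1,[8]),(2,2,[3]),(1,1,[3])] ([2],[1]) = true := by decide +kernel
theorem c10000382 : chkDer M10001 [([1,2,6,16],[1,16,6,18]),([1,2,4,8,16],[3,2,4,8,17])] [(1,0,[2]),(1,1,[16]),(2,0,[3]),(1,1,[3])] ([2],[1]) = true := by decide +kernel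
theorem c10000391 : chkDer M10001 [([1,2,4,8],[1,8,4,10]),([1,2,4,8,16],[3,2,4,9,20])] [(1,0,[2]),(1,1,[8]),(2,0,[3]),(1,1,[3])] ([2],[1]) = true := by decide +kernel
theorem c10000399 : chkDer M10001 [([1,2,4,8],[1,8,4,10]),([1,2,4,8,16],[3,2,4,9,16])] [(1,0,[2]),(1,1,[8]),(2,0,[3]),(1,1,[3])] ([2],[1]) = true := by decide +kernel
theorem c10000421 : chkDer M10001 [([1,2,6,16],[1,16,6,18]),([1,2,4,8,16],[3,2,4,13,17])] [(1,0,[2]),(1,1,[16]),(2,0,[3]),(1,1,[3])] ([2],[1]) = true := by decide +kernel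
theorem c10000446 : chkDer M10001 [([1,2,4,8],[1,8,4,10]),([1,2,4,8,16],[3,2,4,17,12]),([1,2,6,16],[1,16,6,18])] [(1,0,[2]),(1,1,[8]),(2,2,[3]),(1,1,[3])] ([2],[1]) = true := by decide +kernel
theorem c10000454 : chkDer M10001 [([1,2,4,8],[1,8,4,10]),([1,2,4,8,16],[3,2,4,17,8]),([1,2,6,16],[1,16,6,18])] [(1,0,[2]),(1,1,[8]),(2,2,[3]),(1,1,[3])] ([2],[1]) = true := by decide +kernel
theorem c10000523 : chkDer M10001 [([1,2,6,16],[1,16,6,18]),([1,2,4,8,16],[4,2,7,12,20])] [(1,0,[2]),(1,1,[16]),(1,0,[14]),(2,1,[1])] ([2],[1]) = true := by decide +kernel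
theorem c10000587 : chkDer M10001 [([1,2,4,8],[1,8,4,10]),([1,2,4,8,16],[4,2,7,20,12]),([1,2,6,16],[1,16,6,18])] [(1,0,[2]),(1,1,[8]),(1,2,[14]),(2,1,[1])] ([2],[1]) = true := by decide +kernel
theorem c10000595 : chkDer M10001 [([1,2,4,8],[1,8,4,10]),([1,2,4,8,16],[4,2,7,20,8]),([1,2,6,16],[1,16,6,18])] [(1,0,[2]),(1,1,[8]),(1,2,[14]),(2,1,[1])] ([2],[1]) = true := by decide +kernel
theorem c10000635 : chkDer M10001 [([1,2,6,16],[1,16,6,18]),([1,2,4,8,16],[4,2,5,9,20])] [(1,0,[2]),(1,1,[16]),(1,0,[14]),(2,1,[1])] ([2],[1]) = true := by decide +kernel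
theorem c10000667 : chkDer M10001 [([1,2,6,16],[1,16,6,18]),([1,2,4,8,16],[4,2,5,13,20])] [(1,0,[2]),(1,1,[16]),(1,0,[14]),(2,1,[1])] ([2],[1]) = true := by decide +kernel
theorem c10000715 : chkDer M10001 [([1,2,4,8],[1,8,4,10]),([1,2,4,8,16],[4,2,5,20,12]),([1,2,6,16],[1,16,6,18])] [(1,0,[2]),(1,1,[8]),(1,2,[14]),(2,1,[1])] ([2],[1]) = true := by decide +kernel
theorem c10000723 : chkDer M10001 [([1,2,4,8],[1,8,4,10]),([1,2,4,8,16],[4,2,5,20,8]),([1,2,6,16],[1,16,6,18])] [(1,0,[2]),(1,1,[8]),(1,2,[14]),(2,1,[1])] ([2],[1]) = true := by decide +kernel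
theorem c10000775 : chkDer M10001 [([1,2,4,8],[1,8,4,10]),([1,2,4,8,16],[4,2,3,12,21])] [(1,0,[2]),(1,1,[8]),(2,0,[6]),(1,1,[6])] ([2],[1]) = true := by decide +kernel
theorem c10000783 : chkDer M10001 [([1,2,4,8],[1,8,4,10]),([1,2,4,8,16],[4,2,3,12,17])] [(1,0,[2]),(1,1,[8]),(2,0,[6]),(1,1,[6])] ([2],[1]) = true := by decide +kernel
theorem c10000795 : chkDer M10001 [([1,2,6,16],[1,16,6,18]),([1,2,4,8,16],[4,2,3,13,20])] [(1,0,[2]),(1,1,[16]),(1,0,[14]),(2,1,[1])] ([2],[1]) = true := by decide +kernel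
theorem c10000824 : chkDer M10001 [([1,2,6,16],[1,16,6,18]),([1,2,4,8,16],[4,2,3,17,12]),([1,2,4,8],[1,8,4,10])] [(1,0,[2]),(1,1,[16]),(2,2,[6]),(1,1,[6])] ([2],[1]) = true := by decide +kernel
theorem c10000840 : chkDer M10001 [([1,2,4,8],[1,8,4,10]),([1,2,4,8,16],[4,2,3,20,12]),([1,2,6,16],[1,16,6,18])] [(1,0,[2]),(1,1,[8]),(1,2,[14]),(2,1,[1])] ([2],[1]) = true := by decide +kernel
theorem c10000848 : chkDer M10001 [([1,2,4,8],[1,8,4,10]),([1,2,4,8,16],[4,2,3,20,8]),([1,2,6,16],[1,16,6,18])] [(1,0,[2]),(1,1,[8]),(1,2,[14]),(2,1,[1])] ([2],[1]) = true := by decide +kernel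
theorem c10000866 : chkDer M10001 [([1,2,6,16],[1,16,6,18]),([1,2,4,8,16],[4,2,1,8,20])] [(1,0,[2]),(1,1,[16]),(1,0,[14]),(1,1,[4])] ([2],[1]) = true := by decide +kernel
theorem c10000895 : chkDer M10001 [([1,2,6,16],[1,16,6,18]),([1,2,4,8,16],[4,2,1,12,20])] [(1,0,[2]),(1,1,[16]),(1,0,[14]),(1,1,[4])] ([2],[1]) = true := by decide +kernel
theorem c10000955 : chkDer M10001 [([1,2,4,8],[1,8,4,10]),([1,2,4,8,16],[4,2,1,20,13]),([1,2,6,16],[1,16,6,18])] [(1,0,[2]),(1,1,[8]),(1,2,[14]),(1,1,[4])] ([2],[1]) = true := by decide +kernel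
theorem c10000963 : chkDer M10001 [([1,2,4,8],[1,8,4,10]),([1,2,4,8,16],[4,2,1,20,9]),([1,2,6,16],[1,16,6,18])] [(1,0,[2]),(1,1,[8]),(1,2,[14]),(1,1,[4])] ([2],[1]) = true := by decide +kernel
theorem c10001263 : chkDer M10001 [([1,2,4,8],[1,8,4,10]),([1,2,4,8,16],[5,2,3,12,21])] [(1,0,[2]),(1,1,[8]),(2,0,[6]),(1,1,[6])] ([2],[1]) = true := by decide +kernel
theorem c10001271 : chkDer M10001 [([1,2,4,8],[1,8,4,10]),([1,2,4,8,16],[5,2,3,12,17])] [(1,0,[2]),(1,1,[8]),(2,0,[6]),(1,1,[6])] ([2],[1]) = true := by decide +kernel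
theorem c10001363 : chkDer M10001 [([1,2,6,16],[1,16,6,18]),([1,2,4,8,16],[5,2,1,8,20])] [(1,0,[2]),(1,1,[16]),(1,0,[14]),(1,1,[4])] ([2],[1]) = true := by decide +kernel
theorem c10001395 : chkDer M10001 [([1,2,6,16],[1,16,6,18]),([1,2,4,8,16],[5,2,1,12,20])] [(1,0,[2]),(1,1,[16]),(1,0,[14]),(1,1,[4])] ([2],[1]) = true := by decide +kernel
theorem c10001455 : chkDer M10001 [([1,2,4,8],[1,8,4,10]),([1,2,4,8,16],[5,2,1,20,13]),([1,2,6,16],[1,16,6,18])] [(1,0,[2]),(1,1,[8]),(1,2,[14]),(1,1,[4])] ([2],[1]) = true := by decide +kernel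
theorem c10001463 : chkDer M10001 [([1,2,4,8],[1,8,4,10]),([1,2,4,8,16],[5,2,1,20,9]),([1,2,6,16],[1,16,6,18])] [(1,0,[2]),(1,1,[8]),(1,2,[14]),(1,1,[4])] ([2],[1]) = true := by decide +kernel
theorem c10001735 : chkDer M10001 [([1,2,6,16],[1,16,6,18]),([1,2,4,8,16],[6,2,5,21,9]),([1,2,4,8],[1,8,4,10])] [(1,0,[2]),(2,1,[12]),(2,2,[6]),(2,1,[1])] ([2],[1]) = true := by decide +kernel
theorem c10001772 : chkDer M10001 [([1,2,4,8],[1,8,4,10]),([1,2,4,8,16],[6,2,3,12,21])] [(1,0,[2]),(1,1,[8]),(2,0,[6]),(1,1,[6])] ([2],[1]) = true := by decide +kernel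
theorem c10001780 : chkDer M10001 [([1,2,4,8],[1,8,4,10]),([1,2,4,8,16],[6,2,3,12,17])] [(1,0,[2]),(1,1,[8]),(2,0,[6]),(1,1,[6])] ([2],[1]) = true := by decide +kernel
theorem c10001805 : chkDer M10001 [([1,2,6,16],[1,16,6,18]),([1,2,4,8,16],[6,2,3,16,12]),([1,2,4,8],[1,8,4,10])] [(1,0,[2]),(1,1,[16]),(2,2,[6]),(1,1,[6])] ([2],[1]) = true := by decide +kernel
theorem c10001837 : chkDer M10001 [([1,2,6,16],[1,16,6,18]),([1,2,4,8,16],[6,2,3,20,12]),([1,2,4,8],[1,8,4,10])] [(1,0,[2]),(1,1,[16]),(2,2,[6]),(1,1,[6])] ([2],[1]) = true := by decide +kernel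
theorem c10001869 : chkDer M10001 [([1,2,6,16],[1,16,6,18]),([1,2,4,8,16],[6,2,1,8,20])] [(1,0,[2]),(1,1,[16]),(1,0,[14]),(1,1,[4])] ([2],[1]) = true := by decide +kernel
theorem c10001885 : chkDer M10001 [([1,2,4,8],[1,8,4,10]),([1,2,4,8,16],[6,2,1,9,20])] [(1,0,[2]),(2,1,[12]),(2,0,[6]),(2,1,[1])] ([2],[1]) = true := by decide +kernel
theorem c10001893 : chkDer M10001 [([1,2,4,8],[1,8,4,10]),([1,2,4,8,16],[6,2,1,9,16])] [(1,0,[2]),(2,1,[12]),(2,0,[6]),(2,1,[1])] ([2],[1]) = true := by decide +kernel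
theorem c10001939 : chkDer M10001 [([1,2,6,16],[1,16,6,18]),([1,2,4,8,16],[6,2,1,17,13]),([1,2,4,8],[1,8,4,10])] [(1,0,[2]),(2,1,[12]),(2,2,[6]),(2,1,[1])] ([2],[1]) = true := by decide +kernel
theorem c10001955 : chkDer M10001 [([1,2,4,8],[1,8,4,10]),([1,2,4,8,16],[6,2,1,20,13]),([1,2,6,16],[1,16,6,18])] [(1,0,[2]),(1,1,[8]),(1,2,[14]),(1,1,[4])] ([2],[1]) = true := by decide +kernel
theorem c10001963 : chkDer M10001 [([1,2,4,8],[1,8,4,10]),([1,2,4,8,16],[6,2,1,20,9]),([1,2,6,16],[1,16,6,18])] [(1,0,[2]),(1,1,[8]),(1,2,[14]),(1,1,[4])] ([2],[1]) = true := by decide +kernel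
theorem c10002035 : chkDer M10001 [([1,2,4,8],[1,8,4,10]),([1,2,4,8,16],[7,2,6,13,21])] [(1,0,[2]),(1,1,[8]),(2,0,[7]),(2,1,[1])] ([2],[1]) = true := by decide +kernel
theorem c10002043 : chkDer M10001 [([1,2,4,8],[1,8,4,10]),([1,2,4,8,16],[7,2,6,13,17])] [(1,0,[2]),(1,1,[8]),(2,0,[7]),(2,1,[1])] ([2],[1]) = true := by decide +kernel
theorem c10002051 : chkDer M10001 [([1,2,6,16],[1,16,6,18]),([1,2,4,8,16],[7,2,6,16,13]),([1,2,4,8],[1,8,4,10])] [(1,0,[2]),(1,1,[16]),(2,2,[7]),(2,1,[1])] ([2],[1]) = true := by decide +kernel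
theorem c10002077 : chkDer M10001 [([1,2,6,16],[1,16,6,18]),([1,2,4,8,16],[7,2,6,20,13]),([1,2,4,8],[1,8,4,10])] [(1,0,[2]),(1,1,[16]),(2,2,[7]),(2,1,[1])] ([2],[1]) = true := by decide +kernel
theorem c10002267 : chkDer M10001 [([1,2,4,8],[1,8,4,10]),([1,2,4,8,16],[7,2,3,12,20])] [(1,0,[2]),(1,1,[8]),(2,0,[6]),(1,1,[6])] ([2],[1]) = true := by decide +kernel
theorem c10002275 : chkDer M10001 [([1,2,4,8],[1,8,4,10]),([1,2,4,8,16],[7,2,3,12,16])] [(1,0,[2]),(1,1,[8]),(2,0,[6]),(1,1,[6])] ([2],[1]) = true := by decide +kernel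
theorem c10002283 : chkDer M10001 [([1,2,4,8],[1,8,4,10]),([1,2,4,8,16],[7,2,3,13,20])] [(1,0,[2]),(1,1,[8]),(2,0,[7]),(2,1,[1])] ([2],[1]) = true := by decide +kernel
theorem c10002291 : chkDer M10001 [([1,2,4,8],[1,8,4,10]),([1,2,4,8,16],[7,2,3,13,16])] [(1,0,[2]),(1,1,[8]),(2,0,[7]),(2,1,[1])] ([2],[1]) = true := by decide +kernel
theorem c10002299 : chkDer M10001 [([1,2,6,16],[1,16,6,18]),([1,2,4,8,16],[7,2,3,16,12]),([1,2,4,8],[1,8,4,10])] [(1,0,[2]),(1,1,[16]),(2,2,[6]),(1,1,[6])] ([2],[1]) = true := by decide +kernel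
theorem c10002315 : chkDer M10001 [([1,2,6,16],[1,16,6,18]),([1,2,4,8,16],[7,2,3,17,12]),([1,2,4,8],[1,8,4,10])] [(1,0,[2]),(1,1,[16]),(2,2,[6]),(1,1,[6])] ([2],[1]) = true := by decide +kernel
theorem c10002331 : chkDer M10001 [([1,2,6,16],[1,16,6,18]),([1,2,4,8,16],[7,2,3,20,12]),([1,2,4,8],[1,8,4,10])] [(1,0,[2]),(1,1,[16]),(2,2,[6]),(1,1,[6])] ([2],[1]) = true := by decide +kernel
theorem c10002347 : chkDer M10001 [([1,2,6,16],[1,16,6,18]),([1,2,4,8,16],[7,2,3,21,12]),([1,2,4,8],[1,8,4,10])] [(1,0,[2]),(1,1,[16]),(2,2,[6]),(1,1,[6])] ([2],[1]) = true := by decide +kernel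
theorem c10002379 : chkDer M10001 [([1,2,6,16],[1,16,6,18]),([1,2,4,8,16],[7,2,1,9,20])] [(1,0,[2]),(1,1,[16]),(1,0,[14]),(1,1,[4])] ([2],[1]) = true := by decide +kernel
theorem c10002411 : chkDer M10001 [([1,2,4,8],[1,8,4,10]),([1,2,4,8,16],[7,2,1,13,20])] [(1,0,[2]),(1,1,[8]),(2,0,[7]),(2,1,[1])] ([2],[1]) = true := by decide +kernel
theorem c10002419 : chkDer M10001 [([1,2,4,8],[1,8,4,10]),([1,2,4,8,16],[7,2,1,13,16])] [(1,0,[2]),(1,1,[8]),(2,0,[7]),(2,1,[1])] ([2],[1]) = true := by decide +kernel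
theorem c10002439 : chkDer M10001 [([1,2,6,16],[1,16,6,18]),([1,2,4,8,16],[7,2,1,17,13]),([1,2,4,8],[1,8,4,10])] [(1,0,[2]),(1,1,[16]),(2,2,[7]),(2,1,[1])] ([2],[1]) = true := by decide +kernel
theorem c10002459 : chkDer M10001 [([1,2,4,8],[1,8,4,10]),([1,2,4,8,16],[7,2,1,20,12]),([1,2,6,16],[1,16,6,18])] [(1,0,[2]),(1,1,[8]),(1,2,[14]),(1,1,[4])] ([2],[1]) = true := by decide +kernel
theorem c10002467 : chkDer M10001 [([1,2,4,8],[1,8,4,10]),([1,2,4,8,16],[7,2,1,20,8]),([1,2,6,16],[1,16,6,18])] [(1,0,[2]),(1,1,[8]),(1,2,[14]),(1,1,[4])] ([2],[1]) = true := by decide +kernel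
theorem c10001519 : chkDer M10001 [([1,2,4,8],[1,8,4,10]),([1,2,4,8,16],[6,2,7,12,21])] [(1,0,[2]),(1,1,[8]),(2,0,[6]),(2,1,[1])] ([2],[1]) = true := by decide +kernel
theorem c10001527 : chkDer M10001 [([1,2,4,8],[1,8,4,10]),([1,2,4,8,16],[6,2,7,12,17])] [(1,0,[2]),(1,1,[8]),(2,0,[6]),(2,1,[1])] ([2],[1]) = true := by decide +kernel
theorem c10001555 : chkDer M10001 [([1,2,6,16],[1,16,6,18]),([1,2,4,8,16],[6,2,7,16,12]),([1,2,4,8],[1,8,4,10])] [(1,0,[2]),(1,1,[16]),(2,2,[6]),(2,1,[1])] ([2],[1]) = true := by decide +kernel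
theorem c10001587 : chkDer M10001 [([1,2,6,16],[1,16,6,18]),([1,2,4,8,16],[6,2,7,20,12]),([1,2,4,8],[1,8,4,10])] [(1,0,[2]),(1,1,[16]),(2,2,[6]),(2,1,[1])] ([2],[1]) = true := by decide +kernel
theorem c10001651 : chkDer M10001 [([1,2,4,8],[1,8,4,10]),([1,2,4,8,16],[6,2,5,12,20])] [(1,0,[2]),(1,1,[8]),(2,0,[6]),(2,1,[1])] ([2],[1]) = true := by decide +kernel
theorem c10001659 : chkDer M10001 [([1,2,4,8],[1,8,4,10]),([1,2,4,8,16],[6,2,5,12,16])] [(1,0,[2]),(1,1,[8]),(2,0,[6]),(2,1,[1])] ([2],[1]) = true := by decide +kernel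
theorem c10001699 : chkDer M10001 [([1,2,6,16],[1,16,6,18]),([1,2,4,8,16],[6,2,5,17,12]),([1,2,4,8],[1,8,4,10])] [(1,0,[2]),(1,1,[16]),(2,2,[6]),(2,1,[1])] ([2],[1]) = true := by decide +kernel
theorem c10001731 : chkDer M10001 [([1,2,6,16],[1,16,6,18]),([1,2,4,8,16],[6,2,5,21,12]),([1,2,4,8],[1,8,4,10])] [(1,0,[2]),(1,1,[16]),(2,2,[6]),(2,1,[1])] ([2],[1]) = true := by decide +kernel
theorem c10001901 : chkDer M10001 [([1,2,4,8],[1,8,4,10]),([1,2,4,8,16],[6,2,1,12,20])] [(1,0,[2]),(1,1,[8]),(2,0,[6]),(2,1,[1])] ([2],[1]) = true := by decide +kernel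
theorem c10001909 : chkDer M10001 [([1,2,4,8],[1,8,4,10]),([1,2,4,8,16],[6,2,1,12,16])] [(1,0,[2]),(1,1,[8]),(2,0,[6]),(2,1,[1])] ([2],[1]) = true := by decide +kernel
theorem c10001943 : chkDer M10001 [([1,2,6,16],[1,16,6,18]),([1,2,4,8,16],[6,2,1,17,12]),([1,2,4,8],[1,8,4,10])] [(1,0,[2]),(1,1,[16]),(2,2,[6]),(2,1,[1])] ([2],[1]) = true := by decide +kernel
theorem c10015383 : chkDer M10001 [([1,2,4,8],[1,8,4,10])] [(1,0,[1,2,5,8])] ([1,2,5,8],[1,8,5,10]) = true := by decide +kernel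
theorem c10000019 : chkDer M10001 [] [(0,16,[])] ([1,2,4,8],[1,2,4,10]) = true := by decide +kernel
theorem c10002487 : chkDer M10001 [([1,2,4,8],[1,8,4,10])] [(2,0,[2])] ([8],[2]) = true := by decide +kernel
theorem c10002504 : chkDer M10001 [] [(0,16,[])] ([8],[10]) = true := by decide +kernel

end Cfsg.Lib.D8
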