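import Cfsg.Agent.D8.Chk3

set_option autoImplicit false
set_option maxRecDepth 100000
set_option linter.all false
set_option Elab.async false

namespace Cfsg.Lib.D8

noncomputable def D10001 : Tw := [([],0),([1],0),([1,2],0),([1,2,4],0),([1,2,4,10],0)]
noncomputable def D10002 : Tw := [([],0),([1],0),([1,2],0),([1,2,4],0),([1,2,4,10],0),([3,2,6,8,21],0)]
noncomputable def D10003 : Tw := [([],0),([1],0),([1,2],0),([1,2,4],0),([1,2,4,10],0),([3,2,6,8,21],5)]
noncomputable def D10004 : Tw := [([],0),([1],0),([1,2],0),([1,2,4],0),([1,2,4,10],0),([3,2,6,8,16],0)]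
noncomputable def D10005 : Tw := [([],0),([1],0),([1,2],0),([1,2,4],0),([1,2,4,10],0),([3,2,6,8,16],5)]
noncomputable def D10006 : Tw := [([],0),([1],0),([1,2],0),([1,2,4],0),([1,2,4,10],0),([3,2,6,13,21],0)]
noncomputable def D10007 : Tw := [([],0),([1],0),([1,2],0),([1,2,4],0),([1,2,4,10],0),([3,2,6,13,21],5)]
noncomputable def D10008 : Tw := [([],0),([1],0),([1,2],0),([1,2,4],0),([1,2,4,10],0),([3,2,6,16,8],0)]
noncomputable def D10009 : Tw := [([],0),([1],0),([1,2],0),([1,2,4],0),([1,2,4,10],0),([3,2,6,16,8],5)]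
noncomputable def D10010 : Tw := [([],0),([1],0),([1,2],0),([1,2,4],0),([1,2,4,10],0),([3,2,6,20,12],27)]
noncomputable def D10011 : Tw := [([],0),([1],0),([1,2],0),([1,2,4],0),([1,2,4,10],0),([3,2,6,20,12],30)]
noncomputable def D10012 : Tw := [([],0),([1],0),([1,2],0),([1,2,4],0),([1,2,4,10],0),([4,2,1,8,21],0)]
noncomputable def D10013 : Tw := [([],0),([1],0),([1,2],0),([1,2,4],0),([1,2,4,10],0),([4,2,1,8,21],2)]
noncomputable def D10014 : Tw := [([],0),([1],0),([1,2],0),([1,2,4],0),([1,2,4,10],0),([4,2,1,8,16],0)]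
noncomputable def D10015 : Tw := [([],0),([1],0),([1,2],0),([1,2,4],0),([1,2,4,10],0),([4,2,1,8,16],2)]
noncomputable def D10016 : Tw := [([],0),([1],0),([1,2],0),([1,2,4],0),([1,2,4,10],0),([3,2,6,8,21],5),([11,2,14,8,60,45],0)]
noncomputable def D10017 : Tw := [([],0),([1],0),([1,2],0),([1,2,4],0),([1,2,4,10],0),([3,2,6,8,21],5),([11,2,14,8,60,45],2)]
noncomputable def D10018 : Tw := [([],0),([1],0),([1,2],0),([1,2,4],0),([1,2,4,10],0),([3,2,6,8,21],5),([11,2,14,8,60,45],5)]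
noncomputable def D10019 : Tw := [([],0),([1],0),([1,2],0),([1,2,4],0),([1,2,4,10],0),([3,2,6,8,21],5),([11,2,14,8,60,45],7)]
noncomputable def D10020 : Tw := [([],0),([1],0),([1,2],0),([1,2,4],0),([1,2,4,10],0),([3,2,6,8,21],5),([11,2,14,8,53,37],0)]
noncomputable def D10021 : Tw := [([],0),([1],0),([1,2],0),([1,2,4],0),([1,2,4,10],0),([3,2,6,8,21],5),([11,2,14,8,53,37],2)]
noncomputable def D10022 : Tw := [([],0),([1],0),([1,2],0),([1,2,4],0),([1,2,4,10],0),([3,2,6,8,21],5),([11,2,14,8,53,37],5)]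
noncomputable def D10023 : Tw := [([],0),([1],0),([1,2],0),([1,2,4],0),([1,2,4,10],0),([3,2,6,8,21],5),([11,2,14,8,53,37],7)]
noncomputable def D10024 : Tw := [([],0),([1],0),([1,2],0),([1,2,4],0),([1,2,4,10],0),([3,2,6,8,21],5),([11,2,14,8,60,45],5),([4,2,1,8,21,37,69],0)]
noncomputable def D10025 : Tw := [([],0),([1],0),([1,2],0),([1,2,4],0),([1,2,4,10],0),([3,2,6,8,21],5),([11,2,14,8,60,45],5),([4,2,1,8,21,37,69],2)]
noncomputable def D10026 : Tw := [([],0),([1],0),([1,2],0),([1,2,4],0),([1,2,4,10],0),([3,2,6,8,21],5),([11,2,14,8,60,45],5),([4,2,1,8,21,37,69],5)]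
noncomputable def D10027 : Tw := [([],0),([1],0),([1,2],0),([1,2,4],0),([1,2,4,10],0),([3,2,6,8,21],5),([11,2,14,8,60,45],5),([4,2,1,8,21,37,69],7)]
noncomputable def D10028 : Tw := [([],0),([1],0),([1,2],0),([1,2,4],0),([1,2,4,10],0),([3,2,6,8,21],5),([11,2,14,8,60,45],5),([4,2,1,8,21,37,71],0)]
noncomputable def D10029 : Tw := [([],0),([1],0),([1,2],0),([1,2,4],0),([1,2,4,10],0),([3,2,6,8,21],5),([11,2,14,8,60,45],5),([4,2,1,8,21,37,71],2)]
noncomputable def D10030 : Tw := [([],0),([1],0),([1,2],0),([1,2,4],0),([1,2,4,10],0),([3,2,6,8,21],5),([11,2,14,8,60,45],5),([4,2,1,8,21,37,71],5)]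
noncomputable def D10031 : Tw := [([],0),([1],0),([1,2],0),([1,2,4],0),([1,2,4,10],0),([3,2,6,8,21],5),([11,2,14,8,60,45],5),([4,2,1,8,21,37,71],7)]
noncomputable def D10032 : Tw := [([],0),([1],0),([1,2],0),([1,2,4],0),([1,2,4,10],0),([3,2,6,8,21],5),([11,2,14,8,60,45],5),([4,2,1,8,21,37,64],0)]
noncomputable def D10033 : Tw := [([],0),([1],0),([1,2],0),([1,2,4],0),([1,2,4,10],0),([3,2,6,8,21],5),([11,2,14,8,60,45],5),([4,2,1,8,21,37,64],2)]
noncomputable def D10034 : Tw := [([],0),([1],0),([1,2],0),([1,2,4],0),([1,2,4,10],0),([3,2,6,8,21],5),([11,2,14,8,60,45],5),([4,2,1,8,21,37,64],5)]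
noncomputable def D10035 : Tw := [([],0),([1],0),([1,2],0),([1,2,4],0),([1,2,4,10],0),([3,2,6,8,21],5),([11,2,14,8,60,45],5),([4,2,1,8,21,37,64],7)]
noncomputable def D10036 : Tw := [([],0),([1],0),([1,2],0),([1,2,4],0),([1,2,4,10],0),([3,2,6,8,21],5),([11,2,14,8,60,45],5),([4,2,1,8,21,37,66],0)]
noncomputable def D10037 : Tw := [([],0),([1],0),([1,2],0),([1,2,4],0),([1,2,4,10],0),([3,2,6,8,21],5),([11,2,14,8,60,45],5),([4,2,1,8,21,37,66],2)]
noncomputable def D10038 : Tw := [([],0),([1],0),([1,2],0),([1,2,4],0),([1,2,4,10],0),([3,2,6,8,21],5),([11,2,14,8,60,45],5),([4,2,1,8,21,37,66],5)]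
noncomputable def D10039 : Tw := [([],0),([1],0),([1,2],0),([1,2,4],0),([1,2,4,10],0),([3,2,6,8,21],5),([11,2,14,8,60,45],5),([4,2,1,8,21,37,66],7)]
noncomputable def D10040 : Tw := [([],0),([1],0),([1,2],0),([1,2,4],0),([1,2,4,10],0),([3,2,6,8,21],5),([11,2,14,8,60,45],5),([4,2,1,8,16,37,69],0)]
noncomputable def D10041 : Tw := [([],0),([1],0),([1,2],0),([1,2,4],0),([1,2,4,10],0),([3,2,6,8,21],5),([11,2,14,8,60,45],5),([4,2,1,8,16,37,69],2)]
noncomputable def D10042 : Tw := [([],0),([1],0),([1,2],0),([1,2,4],0),([1,2,4,10],0),([3,2,6,8,21],5),([11,2,14,8,60,45],5),([4,2,1,8,16,37,69],5)]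
noncomputable def D10043 : Tw := [([],0),([1],0),([1,2],0),([1,2,4],0),([1,2,4,10],0),([3,2,6,8,21],5),([11,2,14,8,60,45],5),([4,2,1,8,16,37,69],7)]
noncomputable def D10044 : Tw := [([],0),([1],0),([1,2],0),([1,2,4],0),([1,2,4,10],0),([3,2,6,8,21],5),([11,2,14,8,60,45],5),([4,2,1,8,16,37,71],0)]
noncomputable def D10045 : Tw := [([],0),([1],0),([1,2],0),([1,2,4],0),([1,2,4,10],0),([3,2,6,8,21],5),([11,2,14,8,60,45],5),([4,2,1,8,16,37,71],2)]
noncomputable def D10046 : Tw := [([],0),([1],0),([1,2],0),([1,2,4],0),([1,2,4,10],0),([3,2,6,8,21],5),([11,2,14,8,60,45],5),([4,2,1,8,16,37,71],5)]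
noncomputable def D10047 : Tw := [([],0),([1],0),([1,2],0),([1,2,4],0),([1,2,4,10],0),([3,2,6,8,21],5),([11,2,14,8,60,45],5),([4,2,1,8,16,37,71],7)]
noncomputable def D10048 : Tw := [([],0),([1],0),([1,2],0),([1,2,4],0),([1,2,4,10],0),([3,2,6,8,21],5),([11,2,14,8,60,45],5),([4,2,1,8,16,37,64],0)]
noncomputable def D10049 : Tw := [([],0),([1],0),([1,2],0),([1,2,4],0),([1,2,4,10],0),([3,2,6,8,21],5),([11,2,14,8,60,45],5),([4,2,1,8,16,37,64],2)]
noncomputable def D10050 : Tw := [([],0),([1],0),([1,2],0),([1,2,4],0),([1,2,4,10],0),([3,2,6,8,21],5),([11,2,14,8,60,45],5),([4,2,1,8,16,37,64],5)]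
noncomputable def D10051 : Tw := [([],0),([1],0),([1,2],0),([1,2,4],0),([1,2,4,10],0),([3,2,6,8,21],5),([11,2,14,8,60,45],5),([4,2,1,8,16,37,64],7)]
noncomputable def D10052 : Tw := [([],0),([1],0),([1,2],0),([1,2,4],0),([1,2,4,10],0),([3,2,6,8,21],5),([11,2,14,8,60,45],5),([4,2,1,8,16,37,66],0)]
noncomputable def D10053 : Tw := [([],0),([1],0),([1,2],0),([1,2,4],0),([1,2,4,10],0),([3,2,6,8,21],5),([11,2,14,8,60,45],5),([4,2,1,8,16,37,66],2)]
noncomputable def D10054 : Tw := [([],0),([1],0),([1,2],0),([1,2,4],0),([1,2,4,10],0),([3,2,6,8,21],5),([11,2,14,8,60,45],5),([4,2,1,8,16,37,66],5)]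
noncomputable def D10055 : Tw := [([],0),([1],0),([1,2],0),([1,2,4],0),([1,2,4,10],0),([3,2,6,8,21],5),([11,2,14,8,60,45],5),([4,2,1,8,16,37,66],7)]
noncomputable def D10056 : Tw := [([],0),([1],0),([1,2],0),([1,2,4],0),([1,2,4,10],0),([3,2,6,8,21],5),([11,2,14,8,60,45],5),([4,2,1,8,21,37,69],0),([173,2,168,8,62,139,110,133],46)]
noncomputable def D10057 : Tw := [([],0),([1],0),([1,2],0),([1,2,4],0),([1,2,4,10],0),([3,2,6,8,21],5),([11,2,14,8,60,45],5),([4,2,1,8,21,37,69],0),([173,2,168,8,62,139,110,133],44)]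
noncomputable def D10058 : Tw := [([],0),([1],0),([1,2],0),([1,2,4],0),([1,2,4,10],0),([3,2,6,8,21],5),([11,2,14,8,60,45],5),([4,2,1,8,21,37,69],0),([173,2,168,8,62,139,110,133],43)]
noncomputable def D10059 : Tw := [([],0),([1],0),([1,2],0),([1,2,4],0),([1,2,4,10],0),([3,2,6,8,21],5),([11,2,14,8,60,45],5),([4,2,1,8,21,37,69],0),([173,2,168,8,62,139,110,133],41)]
noncomputable def D10060 : Tw := [([],0),([1],0),([1,2],0),([1,2,4],0),([1,2,4,10],0),([3,2,6,8,21],5),([11,2,14,8,60,45],5),([4,2,1,8,21,37,69],0),([173,2,168,8,62,139,108,133],46)]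
noncomputable def D10061 : Tw := [([],0),([1],0),([1,2],0),([1,2,4],0),([1,2,4,10],0),([3,2,6,8,21],5),([11,2,14,8,60,45],5),([4,2,1,8,21,37,69],0),([173,2,168,8,62,139,108,133],44)]
noncomputable def D10062 : Tw := [([],0),([1],0),([1,2],0),([1,2,4],0),([1,2,4,10],0),([3,2,6,8,21],5),([11,2,14,8,60,45],5),([4,2,1,8,21,37,69],0),([173,2,168,8,62,139,108,133],43)]
noncomputable def D10063 : Tw := [([],0),([1],0),([1,2],0),([1,2,4],0),([1,2,4,10],0),([3,2,6,8,21],5),([11,2,14,8,60,45],5),([4,2,1,8,21,37,69],0),([173,2,168,8,62,139,108,133],41)]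
noncomputable def D10064 : Tw := [([],0),([1],0),([1,2],0),([1,2,4],0),([1,2,4,10],0),([3,2,6,8,21],5),([11,2,14,8,60,45],5),([4,2,1,8,21,37,69],0),([173,2,168,8,62,139,107,133],46)]
noncomputable def D10065 : Tw := [([],0),([1],0),([1,2],0),([1,2,4],0),([1,2,4,10],0),([3,2,6,8,21],5),([11,2,14,8,60,45],5),([4,2,1,8,21,37,69],0),([173,2,168,8,62,139,107,133],44)]
noncomputable def D10066 : Tw := [([],0),([1],0),([1,2],0),([1,2,4],0),([1,2,4,10],0),([3,2,6,8,21],5),([11,2,14,8,60,45],5),([4,2,1,8,21,37,69],0),([173,2,168,8,62,139,107,133],43)]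
noncomputable def D10067 : Tw := [([],0),([1],0),([1,2],0),([1,2,4],0),([1,2,4,10],0),([3,2,6,8,21],5),([11,2,14,8,60,45],5),([4,2,1,8,21,37,69],0),([173,2,168,8,62,139,107,133],41)]
noncomputable def D10068 : Tw := [([],0),([1],0),([1,2],0),([1,2,4],0),([1,2,4,10],0),([3,2,6,8,21],5),([11,2,14,8,60,45],5),([4,2,1,8,21,37,69],0),([173,2,168,8,62,139,105,133],46)]
noncomputable def D10069 : Tw := [([],0),([1],0),([1,2],0),([1,2,4],0),([1,2,4,10],0),([3,2,6,8,21],5),([11,2,14,8,60,45],5),([4,2,1,8,21,37,69],0),([173,2,168,8,62,139,105,133],44)]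
noncomputable def D10070 : Tw := [([],0),([1],0),([1,2],0),([1,2,4],0),([1,2,4,10],0),([3,2,6,8,21],5),([11,2,14,8,60,45],5),([4,2,1,8,21,37,69],0),([173,2,168,8,62,139,105,133],43)]
noncomputable def D10071 : Tw := [([],0),([1],0),([1,2],0),([1,2,4],0),([1,2,4,10],0),([3,2,6,8,21],5),([11,2,14,8,60,45],5),([4,2,1,8,21,37,69],0),([173,2,168,8,62,139,105,133],41)]
noncomputable def D10072 : Tw := [([],0),([1],0),([1,2],0),([1,2,4],0),([1,2,4,10],0),([3,2,6,8,21],5),([11,2,14,8,60,45],5),([4,2,1,8,21,37,69],0),([173,2,168,8,62,139,110,133],43),([192,2,197,8,505,107,142,133,360],70)]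
noncomputable def D10073 : Tw := [([],0),([1],0),([1,2],0),([1,2,4],0),([1,2,4,10],0),([3,2,6,8,21],5),([11,2,14,8,60,45],5),([4,2,1,8,21,37,69],0),([173,2,168,8,62,139,110,133],43),([192,2,197,8,505,107,142,133,360],68)]
noncomputable def D10074 : Tw := [([],0),([1],0),([1,2],0),([1,2,4],0),([1,2,4,10],0),([3,2,6,8,21],5),([11,2,14,8,60,45],5),([4,2,1,8,21,37,69],0),([173,2,168,8,62,139,110,133],43),([192,2,197,8,505,107,142,133,360],67)]
noncomputable def D10075 : Tw := [([],0),([1],0),([1,2],0),([1,2,4],0),([1,2,4,10],0),([3,2,6,8,21],5),([11,2,14,8,60,45],5),([4,2,1,8,21,37,69],0),([173,2,168,8,62,139,110,133],43),([192,2,197,8,505,107,142,133,360],65)]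
noncomputable def D10076 : Tw := [([],0),([1],0),([1,2],0),([1,2,4],0),([1,2,4,10],0),([3,2,6,8,21],5),([11,2,14,8,60,45],5),([4,2,1,8,21,37,69],0),([173,2,168,8,62,139,110,133],43),([192,2,197,8,505,107,142,133,362],78)]
noncomputable def D10077 : Tw := [([],0),([1],0),([1,2],0),([1,2,4],0),([1,2,4,10],0),([3,2,6,8,21],5),([11,2,14,8,60,45],5),([4,2,1,8,21,37,69],0),([173,2,168,8,62,139,110,133],43),([192,2,197,8,505,107,142,133,362],76)]
noncomputable def D10078 : Tw := [([],0),([1],0),([1,2],0),([1,2,4],0),([1,2,4,10],0),([3,2,6,8,21],5),([11,2,14,8,60,45],5),([4,2,1,8,21,37,69],0),([173,2,168,8,62,139,110,133],43),([192,2,197,8,505,107,142,133,362],75)]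
noncomputable def D10079 : Tw := [([],0),([1],0),([1,2],0),([1,2,4],0),([1,2,4,10],0),([3,2,6,8,21],5),([11,2,14,8,60,45],5),([4,2,1,8,21,37,69],0),([173,2,168,8,62,139,110,133],43),([192,2,197,8,505,107,142,133,362],73)]
noncomputable def D10080 : Tw := [([],0),([1],0),([1,2],0),([1,2,4],0),([1,2,4,10],0),([3,2,6,8,21],5),([11,2,14,8,60,45],5),([4,2,1,8,21,37,69],0),([173,2,168,8,62,139,110,133],43),([192,2,197,8,505,107,142,133,360],67),([17,5,19,130,21,189,435,15,221,790],157)]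
noncomputable def D10081 : Tw := [([],0),([1],0),([1,2],0),([1,2,4],0),([1,2,4,10],0),([3,2,6,8,21],5),([11,2,14,8,60,45],5),([4,2,1,8,21,37,69],0),([173,2,168,8,62,139,110,133],43),([192,2,197,8,505,107,142,133,360],67),([17,5,19,130,21,189,435,15,221,785],157)]
noncomputable def D10082 : Tw := [([],0),([1],0),([1,2],0),([1,2,4],0),([1,2,4,10],0),([3,2,6,8,21],5),([11,2,14,8,60,45],5),([4,2,1,8,21,37,69],0),([173,2,168,8,62,139,107,133],41),([192,2,197,8,369,110,142,133,365],78)]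
noncomputable def D10083 : Tw := [([],0),([1],0),([1,2],0),([1,2,4],0),([1,2,4,10],0),([3,2,6,8,21],5),([11,2,14,8,60,45],5),([4,2,1,8,21,37,69],0),([173,2,168,8,62,139,107,133],41),([192,2,197,8,369,110,142,133,365],76)]
noncomputable def D10084 : Tw := [([],0),([1],0),([1,2],0),([1,2,4],0),([1,2,4,10],0),([3,2,6,8,21],5),([11,2,14,8,60,45],5),([4,2,1,8,21,37,69],0),([173,2,168,8,62,139,107,133],41),([192,2,197,8,369,110,142,133,365],75)]
noncomputable def D10085 : Tw := [([],0),([1],0),([1,2],0),([1,2,4],0),([1,2,4,10],0),([3,2,6,8,21],5),([11,2,14,8,60,45],5),([4,2,1,8,21,37,69],0),([173,2,168,8,62,139,107,133],41),([192,2,197,8,369,110,142,133,365],73)]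
noncomputable def D10086 : Tw := [([],0),([1],0),([1,2],0),([1,2,4],0),([1,2,4,10],0),([3,2,6,8,21],5),([11,2,14,8,60,45],5),([4,2,1,8,21,37,69],0),([173,2,168,8,62,139,107,133],41),([192,2,197,8,369,110,142,133,367],70)]
noncomputable def D10087 : Tw := [([],0),([1],0),([1,2],0),([1,2,4],0),([1,2,4,10],0),([3,2,6,8,21],5),([11,2,14,8,60,45],5),([4,2,1,8,21,37,69],0),([173,2,168,8,62,139,107,133],41),([192,2,197,8,369,110,142,133,367],68)]
noncomputable def D10088 : Tw := [([],0),([1],0),([1,2],0),([1,2,4],0),([1,2,4,10],0),([3,2,6,8,21],5),([11,2,14,8,60,45],5),([4,2,1,8,21,37,69],0),([173,2,168,8,62,139,107,133],41),([192,2,197,8,369,110,142,133,367],67)]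
noncomputable def D10089 : Tw := [([],0),([1],0),([1,2],0),([1,2,4],0),([1,2,4,10],0),([3,2,6,8,21],5),([11,2,14,8,60,45],5),([4,2,1,8,21,37,69],0),([173,2,168,8,62,139,107,133],41),([192,2,197,8,369,110,142,133,367],65)]
noncomputable def D10090 : Tw := [([],0),([1],0),([1,2],0),([1,2,4],0),([1,2,4,10],0),([3,2,6,8,21],5),([11,2,14,8,60,45],5),([4,2,1,8,21,37,69],0),([168,2,173,8,57,142,105,133],46)]
noncomputable def D10091 : Tw := [([],0),([1],0),([1,2],0),([1,2,4],0),([1,2,4,10],0),([3,2,6,8,21],5),([11,2,14,8,60,45],5),([4,2,1,8,21,37,69],0),([168,2,173,8,57,142,105,133],44)]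
noncomputable def D10092 : Tw := [([],0),([1],0),([1,2],0),([1,2,4],0),([1,2,4,10],0),([3,2,6,8,21],5),([11,2,14,8,60,45],5),([4,2,1,8,21,37,69],0),([168,2,173,8,57,142,105,133],43)]
noncomputable def D10093 : Tw := [([],0),([1],0),([1,2],0),([1,2,4],0),([1,2,4,10],0),([3,2,6,8,21],5),([11,2,14,8,60,45],5),([4,2,1,8,21,37,69],0),([168,2,173,8,57,142,105,133],41)]
noncomputable def D10094 : Tw := [([],0),([1],0),([1,2],0),([1,2,4],0),([1,2,4,10],0),([3,2,6,8,21],5),([11,2,14,8,60,45],5),([4,2,1,8,21,37,69],0),([168,2,173,8,57,142,107,133],46)]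
noncomputable def D10095 : Tw := [([],0),([1],0),([1,2],0),([1,2,4],0),([1,2,4,10],0),([3,2,6,8,21],5),([11,2,14,8,60,45],5),([4,2,1,8,21,37,69],0),([168,2,173,8,57,142,107,133],44)]
noncomputable def D10096 : Tw := [([],0),([1],0),([1,2],0),([1,2,4],0),([1,2,4,10],0),([3,2,6,8,21],5),([11,2,14,8,60,45],5),([4,2,1,8,21,37,69],0),([168,2,173,8,57,142,107,133],43)]
noncomputable def D10097 : Tw := [([],0),([1],0),([1,2],0),([1,2,4],0),([1,2,4,10],0),([3,2,6,8,21],5),([11,2,14,8,60,45],5),([4,2,1,8,21,37,69],0),([168,2,173,8,57,142,107,133],41)]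
noncomputable def D10098 : Tw := [([],0),([1],0),([1,2],0),([1,2,4],0),([1,2,4,10],0),([3,2,6,8,21],5),([11,2,14,8,60,45],5),([4,2,1,8,21,37,69],0),([168,2,173,8,57,142,108,133],46)]
noncomputable def D10099 : Tw := [([],0),([1],0),([1,2],0),([1,2,4],0),([1,2,4,10],0),([3,2,6,8,21],5),([11,2,14,8,60,45],5),([4,2,1,8,21,37,69],0),([168,2,173,8,57,142,108,133],44)]
noncomputable def D10100 : Tw := [([],0),([1],0),([1,2],0),([1,2,4],0),([1,2,4,10],0),([3,2,6,8,21],5),([11,2,14,8,60,45],5),([4,2,1,8,21,37,69],0),([168,2,173,8,57,142,108,133],43)]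
noncomputable def D10101 : Tw := [([],0),([1],0),([1,2],0),([1,2,4],0),([1,2,4,10],0),([3,2,6,8,21],5),([11,2,14,8,60,45],5),([4,2,1,8,21,37,69],0),([168,2,173,8,57,142,108,133],41)]
noncomputable def D10102 : Tw := [([],0),([1],0),([1,2],0),([1,2,4],0),([1,2,4,10],0),([3,2,6,8,21],5),([11,2,14,8,60,45],5),([4,2,1,8,21,37,69],0),([168,2,173,8,57,142,110,133],46)]
noncomputable def D10103 : Tw := [([],0),([1],0),([1,2],0),([1,2,4],0),([1,2,4,10],0),([3,2,6,8,21],5),([11,2,14,8,60,45],5),([4,2,1,8,21,37,69],0),([168,2,173,8,57,142,110,133],44)]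
noncomputable def D10104 : Tw := [([],0),([1],0),([1,2],0),([1,2,4],0),([1,2,4,10],0),([3,2,6,8,21],5),([11,2,14,8,60,45],5),([4,2,1,8,21,37,69],0),([168,2,173,8,57,142,110,133],43)]
noncomputable def D10105 : Tw := [([],0),([1],0),([1,2],0),([1,2,4],0),([1,2,4,10],0),([3,2,6,8,21],5),([11,2,14,8,60,45],5),([4,2,1,8,21,37,69],0),([168,2,173,8,57,142,110,133],41)]
noncomputable def D10106 : Tw := [([],0),([1],0),([1,2],0),([1,2,4],0),([1,2,4,10],0),([3,2,6,8,21],5),([11,2,14,8,60,45],5),([4,2,1,8,21,37,69],0),([168,2,173,8,57,142,107,133],46),([197,2,192,8,369,110,139,133,362],78)]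
noncomputable def D10107 : Tw := [([],0),([1],0),([1,2],0),([1,2,4],0),([1,2,4,10],0),([3,2,6,8,21],5),([11,2,14,8,60,45],5),([4,2,1,8,21,37,69],0),([168,2,173,8,57,142,107,133],46),([197,2,192,8,369,110,139,133,362],76)]
noncomputable def D10108 : Tw := [([],0),([1],0),([1,2],0),([1,2,4],0),([1,2,4,10],0),([3,2,6,8,21],5),([11,2,14,8,60,45],5),([4,2,1,8,21,37,69],0),([168,2,173,8,57,142,107,133],46),([197,2,192,8,369,110,139,133,362],75)]
noncomputable def D10109 : Tw := [([],0),([1],0),([1,2],0),([1,2,4],0),([1,2,4,10],0),([3,2,6,8,21],5),([11,2,14,8,60,45],5),([4,2,1,8,21,37,69],0),([168,2,173,8,57,142,107,133],46),([197,2,192,8,369,110,139,133,362],73)]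
noncomputable def D10110 : Tw := [([],0),([1],0),([1,2],0),([1,2,4],0),([1,2,4,10],0),([3,2,6,8,21],5),([11,2,14,8,60,45],5),([4,2,1,8,21,37,69],0),([168,2,173,8,57,142,107,133],46),([197,2,192,8,369,110,139,133,360],70)]
noncomputable def D10111 : Tw := [([],0),([1],0),([1,2],0),([1,2,4],0),([1,2,4,10],0),([3,2,6,8,21],5),([11,2,14,8,60,45],5),([4,2,1,8,21,37,69],0),([168,2,173,8,57,142,107,133],46),([197,2,192,8,369,110,139,133,360],68)]
noncomputable def D10112 : Tw := [([],0),([1],0),([1,2],0),([1,2,4],0),([1,2,4,10],0),([3,2,6,8,21],5),([11,2,14,8,60,45],5),([4,2,1,8,21,37,69],0),([168,2,173,8,57,142,107,133],46),([197,2,192,8,369,110,139,133,360],67)]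
noncomputable def D10113 : Tw := [([],0),([1],0),([1,2],0),([1,2,4],0),([1,2,4,10],0),([3,2,6,8,21],5),([11,2,14,8,60,45],5),([4,2,1,8,21,37,69],0),([168,2,173,8,57,142,107,133],46),([197,2,192,8,369,110,139,133,360],65)]
noncomputable def D10114 : Tw := [([],0),([1],0),([1,2],0),([1,2,4],0),([1,2,4,10],0),([3,2,6,8,21],5),([11,2,14,8,60,45],5),([4,2,1,8,21,37,69],0),([168,2,173,8,57,142,110,133],44),([197,2,192,8,505,107,139,133,367],70)]
noncomputable def D10115 : Tw := [([],0),([1],0),([1,2],0),([1,2,4],0),([1,2,4,10],0),([3,2,6,8,21],5),([11,2,14,8,60,45],5),([4,2,1,8,21,37,69],0),([168,2,173,8,57,142,110,133],44),([197,2,192,8,505,107,139,133,367],68)]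
noncomputable def D10116 : Tw := [([],0),([1],0),([1,2],0),([1,2,4],0),([1,2,4,10],0),([3,2,6,8,21],5),([11,2,14,8,60,45],5),([4,2,1,8,21,37,69],0),([168,2,173,8,57,142,110,133],44),([197,2,192,8,505,107,139,133,367],67)]
noncomputable def D10117 : Tw := [([],0),([1],0),([1,2],0),([1,2,4],0),([1,2,4,10],0),([3,2,6,8,21],5),([11,2,14,8,60,45],5),([4,2,1,8,21,37,69],0),([168,2,173,8,57,142,110,133],44),([197,2,192,8,505,107,139,133,367],65)]
noncomputable def D10118 : Tw := [([],0),([1],0),([1,2],0),([1,2,4],0),([1,2,4,10],0),([3,2,6,8,21],5),([11,2,14,8,60,45],5),([4,2,1,8,21,37,69],0),([168,2,173,8,57,142,110,133],44),([197,2,192,8,505,107,139,133,365],78)]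
noncomputable def D10119 : Tw := [([],0),([1],0),([1,2],0),([1,2,4],0),([1,2,4,10],0),([3,2,6,8,21],5),([11,2,14,8,60,45],5),([4,2,1,8,21,37,69],0),([168,2,173,8,57,142,110,133],44),([197,2,192,8,505,107,139,133,365],76)]
noncomputable def D10120 : Tw := [([],0),([1],0),([1,2],0),([1,2,4],0),([1,2,4,10],0),([3,2,6,8,21],5),([11,2,14,8,60,45],5),([4,2,1,8,21,37,69],0),([168,2,173,8,57,142,110,133],44),([197,2,192,8,505,107,139,133,365],75)]
noncomputable def D10121 : Tw := [([],0),([1],0),([1,2],0),([1,2,4],0),([1,2,4,10],0),([3,2,6,8,21],5),([11,2,14,8,60,45],5),([4,2,1,8,21,37,69],0),([168,2,173,8,57,142,110,133],44),([197,2,192,8,505,107,139,133,365],73)]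
noncomputable def D10122 : Tw := [([],0),([1],0),([1,2],0),([1,2,4],0),([1,2,4,10],0),([3,2,6,8,21],5),([11,2,14,8,60,45],5),([4,2,1,8,21,37,69],0),([168,2,173,8,57,142,110,133],44),([197,2,192,8,505,107,139,133,365],76),([17,5,19,128,21,184,435,10,221,826],159)]
noncomputable def D10123 : Tw := [([],0),([1],0),([1,2],0),([1,2,4],0),([1,2,4,10],0),([3,2,6,8,21],5),([11,2,14,8,60,45],5),([4,2,1,8,21,37,69],0),([168,2,173,8,57,142,110,133],44),([197,2,192,8,505,107,139,133,365],76),([17,5,19,128,21,184,435,10,221,829],159)]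
noncomputable def D10124 : Tw := [([],0),([1],0),([1,2],0),([1,2,4],0),([1,2,4,10],0),([3,2,6,8,21],5),([11,2,14,8,53,37],5),([4,2,1,8,21,32,69],0)]
noncomputable def D10125 : Tw := [([],0),([1],0),([1,2],0),([1,2,4],0),([1,2,4,10],0),([3,2,6,8,21],5),([11,2,14,8,53,37],5),([4,2,1,8,21,32,69],2)]
noncomputable def D10126 : Tw := [([],0),([1],0),([1,2],0),([1,2,4],0),([1,2,4,10],0),([3,2,6,8,21],5),([11,2,14,8,53,37],5),([4,2,1,8,21,32,69],5)]
noncomputable def D10127 : Tw := [([],0),([1],0),([1,2],0),([1,2,4],0),([1,2,4,10],0),([3,2,6,8,21],5),([11,2,14,8,53,37],5),([4,2,1,8,21,32,69],7)]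
noncomputable def D10128 : Tw := [([],0),([1],0),([1,2],0),([1,2,4],0),([1,2,4,10],0),([3,2,6,8,21],5),([11,2,14,8,53,37],5),([4,2,1,8,21,32,71],0)]
noncomputable def D10129 : Tw := [([],0),([1],0),([1,2],0),([1,2,4],0),([1,2,4,10],0),([3,2,6,8,21],5),([11,2,14,8,53,37],5),([4,2,1,8,21,32,71],2)]
noncomputable def D10130 : Tw := [([],0),([1],0),([1,2],0),([1,2,4],0),([1,2,4,10],0),([3,2,6,8,21],5),([11,2,14,8,53,37],5),([4,2,1,8,21,32,71],5)]
noncomputable def D10131 : Tw := [([],0),([1],0),([1,2],0),([1,2,4],0),([1,2,4,10],0),([3,2,6,8,21],5),([11,2,14,8,53,37],5),([4,2,1,8,21,32,71],7)]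
noncomputable def D10132 : Tw := [([],0),([1],0),([1,2],0),([1,2,4],0),([1,2,4,10],0),([3,2,6,8,21],5),([11,2,14,8,53,37],5),([4,2,1,8,21,32,64],0)]
noncomputable def D10133 : Tw := [([],0),([1],0),([1,2],0),([1,2,4],0),([1,2,4,10],0),([3,2,6,8,21],5),([11,2,14,8,53,37],5),([4,2,1,8,21,32,64],2)]
noncomputable def D10134 : Tw := [([],0),([1],0),([1,2],0),([1,2,4],0),([1,2,4,10],0),([3,2,6,8,21],5),([11,2,14,8,53,37],5),([4,2,1,8,21,32,64],5)]
noncomputable def D10135 : Tw := [([],0),([1],0),([1,2],0),([1,2,4],0),([1,2,4,10],0),([3,2,6,8,21],5),([11,2,14,8,53,37],5),([4,2,1,8,21,32,64],7)]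
noncomputable def D10136 : Tw := [([],0),([1],0),([1,2],0),([1,2,4],0),([1,2,4,10],0),([3,2,6,8,21],5),([11,2,14,8,53,37],5),([4,2,1,8,21,32,66],0)]
noncomputable def D10137 : Tw := [([],0),([1],0),([1,2],0),([1,2,4],0),([1,2,4,10],0),([3,2,6,8,21],5),([11,2,14,8,53,37],5),([4,2,1,8,21,32,66],2)]
noncomputable def D10138 : Tw := [([],0),([1],0),([1,2],0),([1,2,4],0),([1,2,4,10],0),([3,2,6,8,21],5),([11,2,14,8,53,37],5),([4,2,1,8,21,32,66],5)]
noncomputable def D10139 : Tw := [([],0),([1],0),([1,2],0),([1,2,4],0),([1,2,4,10],0),([3,2,6,8,21],5),([11,2,14,8,53,37],5),([4,2,1,8,21,32,66],7)]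
noncomputable def D10140 : Tw := [([],0),([1],0),([1,2],0),([1,2,4],0),([1,2,4,10],0),([3,2,6,8,21],5),([11,2,14,8,53,37],5),([4,2,1,8,16,32,69],0)]
noncomputable def D10141 : Tw := [([],0),([1],0),([1,2],0),([1,2,4],0),([1,2,4,10],0),([3,2,6,8,21],5),([11,2,14,8,53,37],5),([4,2,1,8,16,32,69],2)]
noncomputable def D10142 : Tw := [([],0),([1],0),([1,2],0),([1,2,4],0),([1,2,4,10],0),([3,2,6,8,21],5),([11,2,14,8,53,37],5),([4,2,1,8,16,32,69],5)]
noncomputable def D10143 : Tw := [([],0),([1],0),([1,2],0),([1,2,4],0),([1,2,4,10],0),([3,2,6,8,21],5),([11,2,14,8,53,37],5),([4,2,1,8,16,32,69],7)]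
noncomputable def D10144 : Tw := [([],0),([1],0),([1,2],0),([1,2,4],0),([1,2,4,10],0),([3,2,6,8,21],5),([11,2,14,8,53,37],5),([4,2,1,8,16,32,71],0)]
noncomputable def D10145 : Tw := [([],0),([1],0),([1,2],0),([1,2,4],0),([1,2,4,10],0),([3,2,6,8,21],5),([11,2,14,8,53,37],5),([4,2,1,8,16,32,71],2)]
noncomputable def D10146 : Tw := [([],0),([1],0),([1,2],0),([1,2,4],0),([1,2,4,10],0),([3,2,6,8,21],5),([11,2,14,8,53,37],5),([4,2,1,8,16,32,71],5)]
noncomputable def D10147 : Tw := [([],0),([1],0),([1,2],0),([1,2,4],0),([1,2,4,10],0),([3,2,6,8,21],5),([11,2,14,8,53,37],5),([4,2,1,8,16,32,71],7)]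
noncomputable def D10148 : Tw := [([],0),([1],0),([1,2],0),([1,2,4],0),([1,2,4,10],0),([3,2,6,8,21],5),([11,2,14,8,53,37],5),([4,2,1,8,16,32,64],0)]
noncomputable def D10149 : Tw := [([],0),([1],0),([1,2],0),([1,2,4],0),([1,2,4,10],0),([3,2,6,8,21],5),([11,2,14,8,53,37],5),([4,2,1,8,16,32,64],2)]
noncomputable def D10150 : Tw := [([],0),([1],0),([1,2],0),([1,2,4],0),([1,2,4,10],0),([3,2,6,8,21],5),([11,2,14,8,53,37],5),([4,2,1,8,16,32,64],5)]
noncomputable def D10151 : Tw := [([],0),([1],0),([1,2],0),([1,2,4],0),([1,2,4,10],0),([3,2,6,8,21],5),([11,2,14,8,53,37],5),([4,2,1,8,16,32,64],7)]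
noncomputable def D10152 : Tw := [([],0),([1],0),([1,2],0),([1,2,4],0),([1,2,4,10],0),([3,2,6,8,21],5),([11,2,14,8,53,37],5),([4,2,1,8,16,32,66],0)]
noncomputable def D10153 : Tw := [([],0),([1],0),([1,2],0),([1,2,4],0),([1,2,4,10],0),([3,2,6,8,21],5),([11,2,14,8,53,37],5),([4,2,1,8,16,32,66],2)]
noncomputable def D10154 : Tw := [([],0),([1],0),([1,2],0),([1,2,4],0),([1,2,4,10],0),([3,2,6,8,21],5),([11,2,14,8,53,37],5),([4,2,1,8,16,32,66],5)]
noncomputable def D10155 : Tw := [([],0),([1],0),([1,2],0),([1,2,4],0),([1,2,4,10],0),([3,2,6,8,21],5),([11,2,14,8,53,37],5),([4,2,1,8,16,32,66],7)]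
noncomputable def D10156 : Tw := [([],0),([1],0),([1,2],0),([1,2,4],0),([1,2,4,10],0),([3,2,6,8,16],0),([11,2,14,8,60,40],0)]
noncomputable def D10157 : Tw := [([],0),([1],0),([1,2],0),([1,2,4],0),([1,2,4,10],0),([3,2,6,8,16],0),([11,2,14,8,60,40],2)]
noncomputable def D10158 : Tw := [([],0),([1],0),([1,2],0),([1,2,4],0),([1,2,4,10],0),([3,2,6,8,16],0),([11,2,14,8,60,40],5)]
noncomputable def D10159 : Tw := [([],0),([1],0),([1,2],0),([1,2,4],0),([1,2,4,10],0),([3,2,6,8,16],0),([11,2,14,8,60,40],7)]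
noncomputable def D10160 : Tw := [([],0),([1],0),([1,2],0),([1,2,4],0),([1,2,4,10],0),([3,2,6,8,16],0),([11,2,14,8,53,32],0)]
noncomputable def D10161 : Tw := [([],0),([1],0),([1,2],0),([1,2,4],0),([1,2,4,10],0),([3,2,6,8,16],0),([11,2,14,8,53,32],2)]
noncomputable def D10162 : Tw := [([],0),([1],0),([1,2],0),([1,2,4],0),([1,2,4,10],0),([3,2,6,8,16],0),([11,2,14,8,53,32],5)]
noncomputable def D10163 : Tw := [([],0),([1],0),([1,2],0),([1,2,4],0),([1,2,4,10],0),([3,2,6,8,16],0),([11,2,14,8,53,32],7)]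
noncomputable def D10164 : Tw := [([],0),([1],0),([1,2],0),([1,2,4],0),([1,2,4,10],0),([3,2,6,8,16],0),([11,2,14,8,60,40],0),([47,2,40,8,57,12,100],8)]
noncomputable def D10165 : Tw := [([],0),([1],0),([1,2],0),([1,2,4],0),([1,2,4,10],0),([3,2,6,8,16],0),([11,2,14,8,60,40],0),([47,2,40,8,60,12,100],0)]
noncomputable def D10166 : Tw := [([],0),([1],0),([1,2],0),([1,2,4],0),([1,2,4,10],0),([3,2,6,8,16],0),([11,2,14,8,60,40],0),([39,2,32,8,16,6,100],38)]
noncomputable def D10167 : Tw := [([],0),([1],0),([1,2],0),([1,2,4],0),([1,2,4,10],0),([3,2,6,8,16],0),([11,2,14,8,60,40],0),([39,2,32,8,21,6,100],46)]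
noncomputable def D10168 : Tw := [([],0),([1],0),([1,2],0),([1,2,4],0),([1,2,4,10],0),([3,2,6,8,16],0),([11,2,14,8,60,40],0),([12,2,9,8,60,45,72],8)]
noncomputable def D10169 : Tw := [([],0),([1],0),([1,2],0),([1,2,4],0),([1,2,4,10],0),([3,2,6,8,16],0),([11,2,14,8,60,40],0),([12,2,9,8,60,45,72],10)]
noncomputable def D10170 : Tw := [([],0),([1],0),([1,2],0),([1,2,4],0),([1,2,4,10],0),([3,2,6,8,16],0),([11,2,14,8,60,40],0),([12,2,9,8,60,45,72],13)]
noncomputable def D10171 : Tw := [([],0),([1],0),([1,2],0),([1,2,4],0),([1,2,4,10],0),([3,2,6,8,16],0),([11,2,14,8,60,40],0),([12,2,9,8,60,45,72],15)]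
noncomputable def D10172 : Tw := [([],0),([1],0),([1,2],0),([1,2,4],0),([1,2,4,10],0),([3,2,6,8,16],0),([11,2,14,8,60,40],0),([12,2,9,8,60,45,74],8)]
noncomputable def D10173 : Tw := [([],0),([1],0),([1,2],0),([1,2,4],0),([1,2,4,10],0),([3,2,6,8,16],0),([11,2,14,8,60,40],0),([12,2,9,8,60,45,74],10)]
noncomputable def D10174 : Tw := [([],0),([1],0),([1,2],0),([1,2,4],0),([1,2,4,10],0),([3,2,6,8,16],0),([11,2,14,8,60,40],0),([12,2,9,8,60,45,74],13)]
noncomputable def D10175 : Tw := [([],0),([1],0),([1,2],0),([1,2,4],0),([1,2,4,10],0),([3,2,6,8,16],0),([11,2,14,8,60,40],0),([12,2,9,8,60,45,74],15)]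
noncomputable def D10176 : Tw := [([],0),([1],0),([1,2],0),([1,2,4],0),([1,2,4,10],0),([3,2,6,8,16],0),([11,2,14,8,60,40],0),([12,2,9,8,60,45,77],8)]
noncomputable def D10177 : Tw := [([],0),([1],0),([1,2],0),([1,2,4],0),([1,2,4,10],0),([3,2,6,8,16],0),([11,2,14,8,60,40],0),([12,2,9,8,60,45,77],10)]
noncomputable def D10178 : Tw := [([],0),([1],0),([1,2],0),([1,2,4],0),([1,2,4,10],0),([3,2,6,8,16],0),([11,2,14,8,60,40],0),([12,2,9,8,60,45,77],13)]
noncomputable def D10179 : Tw := [([],0),([1],0),([1,2],0),([1,2,4],0),([1,2,4,10],0),([3,2,6,8,16],0),([11,2,14,8,60,40],0),([12,2,9,8,60,45,77],15)]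
noncomputable def D10180 : Tw := [([],0),([1],0),([1,2],0),([1,2,4],0),([1,2,4,10],0),([3,2,6,8,16],0),([11,2,14,8,60,40],0),([12,2,9,8,60,45,79],8)]
noncomputable def D10181 : Tw := [([],0),([1],0),([1,2],0),([1,2,4],0),([1,2,4,10],0),([3,2,6,8,16],0),([11,2,14,8,60,40],0),([12,2,9,8,60,45,79],10)]
noncomputable def D10182 : Tw := [([],0),([1],0),([1,2],0),([1,2,4],0),([1,2,4,10],0),([3,2,6,8,16],0),([11,2,14,8,60,40],0),([12,2,9,8,60,45,79],13)]
noncomputable def D10183 : Tw := [([],0),([1],0),([1,2],0),([1,2,4],0),([1,2,4,10],0),([3,2,6,8,16],0),([11,2,14,8,60,40],0),([12,2,9,8,60,45,79],15)]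
noncomputable def D10184 : Tw := [([],0),([1],0),([1,2],0),([1,2,4],0),([1,2,4,10],0),([3,2,6,8,16],0),([11,2,14,8,60,40],0),([12,2,9,8,57,45,72],8)]
noncomputable def D10185 : Tw := [([],0),([1],0),([1,2],0),([1,2,4],0),([1,2,4,10],0),([3,2,6,8,16],0),([11,2,14,8,60,40],0),([12,2,9,8,57,45,72],10)]
noncomputable def D10186 : Tw := [([],0),([1],0),([1,2],0),([1,2,4],0),([1,2,4,10],0),([3,2,6,8,16],0),([11,2,14,8,60,40],0),([12,2,9,8,57,45,72],13)]
noncomputable def D10187 : Tw := [([],0),([1],0),([1,2],0),([1,2,4],0),([1,2,4,10],0),([3,2,6,8,16],0),([11,2,14,8,60,40],0),([12,2,9,8,57,45,72],15)]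
noncomputable def D10188 : Tw := [([],0),([1],0),([1,2],0),([1,2,4],0),([1,2,4,10],0),([3,2,6,8,16],0),([11,2,14,8,60,40],0),([12,2,9,8,57,45,74],8)]
noncomputable def D10189 : Tw := [([],0),([1],0),([1,2],0),([1,2,4],0),([1,2,4,10],0),([3,2,6,8,16],0),([11,2,14,8,60,40],0),([12,2,9,8,57,45,74],10)]
noncomputable def D10190 : Tw := [([],0),([1],0),([1,2],0),([1,2,4],0),([1,2,4,10],0),([3,2,6,8,16],0),([11,2,14,8,60,40],0),([12,2,9,8,57,45,74],13)]
noncomputable def D10191 : Tw := [([],0),([1],0),([1,2],0),([1,2,4],0),([1,2,4,10],0),([3,2,6,8,16],0),([11,2,14,8,60,40],0),([12,2,9,8,57,45,74],15)]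
noncomputable def D10192 : Tw := [([],0),([1],0),([1,2],0),([1,2,4],0),([1,2,4,10],0),([3,2,6,8,16],0),([11,2,14,8,60,40],0),([12,2,9,8,57,45,77],8)]
noncomputable def D10193 : Tw := [([],0),([1],0),([1,2],0),([1,2,4],0),([1,2,4,10],0),([3,2,6,8,16],0),([11,2,14,8,60,40],0),([12,2,9,8,57,45,77],10)]
noncomputable def D10194 : Tw := [([],0),([1],0),([1,2],0),([1,2,4],0),([1,2,4,10],0),([3,2,6,8,16],0),([11,2,14,8,60,40],0),([12,2,9,8,57,45,77],13)]
noncomputable def D10195 : Tw := [([],0),([1],0),([1,2],0),([1,2,4],0),([1,2,4,10],0),([3,2,6,8,16],0),([11,2,14,8,60,40],0),([12,2,9,8,57,45,77],15)]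
noncomputable def D10196 : Tw := [([],0),([1],0),([1,2],0),([1,2,4],0),([1,2,4,10],0),([3,2,6,8,16],0),([11,2,14,8,60,40],0),([12,2,9,8,57,45,79],8)]
noncomputable def D10197 : Tw := [([],0),([1],0),([1,2],0),([1,2,4],0),([1,2,4,10],0),([3,2,6,8,16],0),([11,2,14,8,60,40],0),([12,2,9,8,57,45,79],10)]
noncomputable def D10198 : Tw := [([],0),([1],0),([1,2],0),([1,2,4],0),([1,2,4,10],0),([3,2,6,8,16],0),([11,2,14,8,60,40],0),([12,2,9,8,57,45,79],13)]
noncomputable def D10199 : Tw := [([],0),([1],0),([1,2],0),([1,2,4],0),([1,2,4,10],0),([3,2,6,8,16],0),([11,2,14,8,60,40],0),([12,2,9,8,57,45,79],15)]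
noncomputable def D10200 : Tw := [([],0),([1],0),([1,2],0),([1,2,4],0),([1,2,4,10],0),([3,2,6,8,16],0),([11,2,14,8,53,32],0),([19,2,22,45,16,32,96],0)]
noncomputable def D10201 : Tw := [([],0),([1],0),([1,2],0),([1,2,4],0),([1,2,4,10],0),([3,2,6,8,16],0),([11,2,14,8,53,32],0),([19,2,22,45,16,32,96],2)]
noncomputable def D10202 : Tw := [([],0),([1],0),([1,2],0),([1,2,4],0),([1,2,4,10],0),([3,2,6,8,16],0),([11,2,14,8,53,32],0),([19,2,22,45,16,32,96],5)]
noncomputable def D10203 : Tw := [([],0),([1],0),([1,2],0),([1,2,4],0),([1,2,4,10],0),([3,2,6,8,16],0),([11,2,14,8,53,32],0),([19,2,22,45,16,32,96],7)]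
noncomputable def D10204 : Tw := [([],0),([1],0),([1,2],0),([1,2,4],0),([1,2,4,10],0),([3,2,6,8,16],0),([11,2,14,8,53,32],0),([19,2,22,45,16,32,98],0)]
noncomputable def D10205 : Tw := [([],0),([1],0),([1,2],0),([1,2,4],0),([1,2,4,10],0),([3,2,6,8,16],0),([11,2,14,8,53,32],0),([19,2,22,45,16,32,98],2)]
noncomputable def D10206 : Tw := [([],0),([1],0),([1,2],0),([1,2,4],0),([1,2,4,10],0),([3,2,6,8,16],0),([11,2,14,8,53,32],0),([19,2,22,45,16,32,98],5)]
noncomputable def D10207 : Tw := [([],0),([1],0),([1,2],0),([1,2,4],0),([1,2,4,10],0),([3,2,6,8,16],0),([11,2,14,8,53,32],0),([19,2,22,45,16,32,98],7)]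
noncomputable def D10208 : Tw := [([],0),([1],0),([1,2],0),([1,2,4],0),([1,2,4,10],0),([3,2,6,8,16],0),([11,2,14,8,53,32],0),([19,2,22,45,16,32,101],0)]
noncomputable def D10209 : Tw := [([],0),([1],0),([1,2],0),([1,2,4],0),([1,2,4,10],0),([3,2,6,8,16],0),([11,2,14,8,53,32],0),([19,2,22,45,16,32,101],2)]
noncomputable def D10210 : Tw := [([],0),([1],0),([1,2],0),([1,2,4],0),([1,2,4,10],0),([3,2,6,8,16],0),([11,2,14,8,53,32],0),([19,2,22,45,16,32,101],5)]
noncomputable def D10211 : Tw := [([],0),([1],0),([1,2],0),([1,2,4],0),([1,2,4,10],0),([3,2,6,8,16],0),([11,2,14,8,53,32],0),([19,2,22,45,16,32,101],7)]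
noncomputable def D10212 : Tw := [([],0),([1],0),([1,2],0),([1,2,4],0),([1,2,4,10],0),([3,2,6,8,16],0),([11,2,14,8,53,32],0),([19,2,22,45,16,32,103],0)]
noncomputable def D10213 : Tw := [([],0),([1],0),([1,2],0),([1,2,4],0),([1,2,4,10],0),([3,2,6,8,16],0),([11,2,14,8,53,32],0),([19,2,22,45,16,32,103],2)]
noncomputable def D10214 : Tw := [([],0),([1],0),([1,2],0),([1,2,4],0),([1,2,4,10],0),([3,2,6,8,16],0),([11,2,14,8,53,32],0),([19,2,22,45,16,32,103],5)]
noncomputable def D10215 : Tw := [([],0),([1],0),([1,2],0),([1,2,4],0),([1,2,4,10],0),([3,2,6,8,16],0),([11,2,14,8,53,32],0),([19,2,22,45,16,32,103],7)]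
noncomputable def D10216 : Tw := [([],0),([1],0),([1,2],0),([1,2,4],0),([1,2,4,10],0),([3,2,6,8,16],0),([11,2,14,8,53,32],0),([19,2,22,45,16,32,96],0),([4,2,1,8,16,32,64,135],0)]
noncomputable def D10217 : Tw := [([],0),([1],0),([1,2],0),([1,2,4],0),([1,2,4,10],0),([3,2,6,8,16],0),([11,2,14,8,53,32],0),([19,2,22,45,16,32,96],0),([4,2,1,8,16,32,64,135],2)]
noncomputable def D10218 : Tw := [([],0),([1],0),([1,2],0),([1,2,4],0),([1,2,4,10],0),([3,2,6,8,16],0),([11,2,14,8,53,32],0),([19,2,22,45,16,32,96],0),([4,2,1,8,16,32,64,135],5)]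
noncomputable def D10219 : Tw := [([],0),([1],0),([1,2],0),([1,2,4],0),([1,2,4,10],0),([3,2,6,8,16],0),([11,2,14,8,53,32],0),([19,2,22,45,16,32,96],0),([4,2,1,8,16,32,64,135],7)]
noncomputable def D10220 : Tw := [([],0),([1],0),([1,2],0),([1,2,4],0),([1,2,4,10],0),([3,2,6,8,16],0),([11,2,14,8,53,32],0),([19,2,22,45,16,32,96],0),([4,2,1,8,16,32,64,133],0)]
noncomputable def D10221 : Tw := [([],0),([1],0),([1,2],0),([1,2,4],0),([1,2,4,10],0),([3,2,6,8,16],0),([11,2,14,8,53,32],0),([19,2,22,45,16,32,96],0),([4,2,1,8,16,32,64,133],2)]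
noncomputable def D10222 : Tw := [([],0),([1],0),([1,2],0),([1,2,4],0),([1,2,4,10],0),([3,2,6,8,16],0),([11,2,14,8,53,32],0),([19,2,22,45,16,32,96],0),([4,2,1,8,16,32,64,133],5)]
noncomputable def D10223 : Tw := [([],0),([1],0),([1,2],0),([1,2,4],0),([1,2,4,10],0),([3,2,6,8,16],0),([11,2,14,8,53,32],0),([19,2,22,45,16,32,96],0),([4,2,1,8,16,32,64,133],7)]
noncomputable def D10224 : Tw := [([],0),([1],0),([1,2],0),([1,2,4],0),([1,2,4,10],0),([3,2,6,8,16],0),([11,2,14,8,53,32],0),([19,2,22,45,16,32,96],0),([4,2,1,8,16,32,64,130],0)]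
noncomputable def D10225 : Tw := [([],0),([1],0),([1,2],0),([1,2,4],0),([1,2,4,10],0),([3,2,6,8,16],0),([11,2,14,8,53,32],0),([19,2,22,45,16,32,96],0),([4,2,1,8,16,32,64,130],2)]
noncomputable def D10226 : Tw := [([],0),([1],0),([1,2],0),([1,2,4],0),([1,2,4,10],0),([3,2,6,8,16],0),([11,2,14,8,53,32],0),([19,2,22,45,16,32,96],0),([4,2,1,8,16,32,64,130],5)]
noncomputable def D10227 : Tw := [([],0),([1],0),([1,2],0),([1,2,4],0),([1,2,4,10],0),([3,2,6,8,16],0),([11,2,14,8,53,32],0),([19,2,22,45,16,32,96],0),([4,2,1,8,16,32,64,130],7)]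
noncomputable def D10280 : Tw := [([],0),([1],0),([1,2],0),([1,2,4],0),([1,2,4,10],0),([3,2,6,8,16],0),([11,2,14,8,53,32],0),([19,2,22,45,16,32,96],0),([4,2,1,8,16,32,64,135],0)]
noncomputable def D10281 : Tw := [([],0),([1],0),([1,2],0),([1,2,4],0),([1,2,4,10],0),([3,2,6,8,16],0),([11,2,14,8,53,32],0),([19,2,22,45,16,32,96],0),([4,2,1,8,16,32,64,135],2)]
noncomputable def D10282 : Tw := [([],0),([1],0),([1,2],0),([1,2,4],0),([1,2,4,10],0),([3,2,6,8,16],0),([11,2,14,8,53,32],0),([19,2,22,45,16,32,96],0),([4,2,1,8,16,32,64,135],5)]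
noncomputable def D10283 : Tw := [([],0),([1],0),([1,2],0),([1,2,4],0),([1,2,4,10],0),([3,2,6,8,16],0),([11,2,14,8,53,32],0),([19,2,22,45,16,32,96],0),([4,2,1,8,16,32,64,135],7)]
noncomputable def D10284 : Tw := [([],0),([1],0),([1,2],0),([1,2,4],0),([1,2,4,10],0),([3,2,6,8,16],0),([11,2,14,8,53,32],0),([19,2,22,45,16,32,96],0),([4,2,1,8,16,32,64,133],0)]
noncomputable def D10285 : Tw := [([],0),([1],0),([1,2],0),([1,2,4],0),([1,2,4,10],0),([3,2,6,8,16],0),([11,2,14,8,53,32],0),([19,2,22,45,16,32,96],0),([4,2,1,8,16,32,64,133],2)]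
noncomputable def D10286 : Tw := [([],0),([1],0),([1,2],0),([1,2,4],0),([1,2,4,10],0),([3,2,6,8,16],0),([11,2,14,8,53,32],0),([19,2,22,45,16,32,96],0),([4,2,1,8,16,32,64,133],5)]
noncomputable def D10287 : Tw := [([],0),([1],0),([1,2],0),([1,2,4],0),([1,2,4,10],0),([3,2,6,8,16],0),([11,2,14,8,53,32],0),([19,2,22,45,16,32,96],0),([4,2,1,8,16,32,64,133],7)]
noncomputable def D10288 : Tw := [([],0),([1],0),([1,2],0),([1,2,4],0),([1,2,4,10],0),([3,2,6,8,16],0),([11,2,14,8,53,32],0),([19,2,22,45,16,32,96],0),([4,2,1,8,16,32,64,130],0)]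
noncomputable def D10289 : Tw := [([],0),([1],0),([1,2],0),([1,2,4],0),([1,2,4,10],0),([3,2,6,8,16],0),([11,2,14,8,53,32],0),([19,2,22,45,16,32,96],0),([4,2,1,8,16,32,64,130],2)]
noncomputable def D10290 : Tw := [([],0),([1],0),([1,2],0),([1,2,4],0),([1,2,4,10],0),([3,2,6,8,16],0),([11,2,14,8,53,32],0),([19,2,22,45,16,32,96],0),([4,2,1,8,16,32,64,130],5)]
noncomputable def D10291 : Tw := [([],0),([1],0),([1,2],0),([1,2,4],0),([1,2,4,10],0),([3,2,6,8,16],0),([11,2,14,8,53,32],0),([19,2,22,45,16,32,96],0),([4,2,1,8,16,32,64,130],7)]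
noncomputable def D10292 : Tw := [([],0),([1],0),([1,2],0),([1,2,4],0),([1,2,4,10],0),([3,2,6,8,16],0),([11,2,14,8,53,32],0),([19,2,22,45,16,32,96],0),([4,2,1,8,16,32,64,128],0)]
noncomputable def D10293 : Tw := [([],0),([1],0),([1,2],0),([1,2,4],0),([1,2,4,10],0),([3,2,6,8,16],0),([11,2,14,8,53,32],0),([19,2,22,45,16,32,96],0),([4,2,1,8,16,32,64,128],2)]
noncomputable def D10294 : Tw := [([],0),([1],0),([1,2],0),([1,2,4],0),([1,2,4,10],0),([3,2,6,8,16],0),([11,2,14,8,53,32],0),([19,2,22,45,16,32,96],0),([4,2,1,8,16,32,64,128],5)]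
noncomputable def D10295 : Tw := [([],0),([1],0),([1,2],0),([1,2,4],0),([1,2,4,10],0),([3,2,6,8,16],0),([11,2,14,8,53,32],0),([19,2,22,45,16,32,96],0),([4,2,1,8,16,32,64,128],7)]
noncomputable def D10296 : Tw := [([],0),([1],0),([1,2],0),([1,2,4],0),([1,2,4,10],0),([3,2,6,8,16],0),([11,2,14,8,53,32],0),([19,2,22,45,16,32,96],0),([4,2,1,8,16,32,66,135],0)]
noncomputable def D10297 : Tw := [([],0),([1],0),([1,2],0),([1,2,4],0),([1,2,4,10],0),([3,2,6,8,16],0),([11,2,14,8,53,32],0),([19,2,22,45,16,32,96],0),([4,2,1,8,16,32,66,135],2)]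
noncomputable def D10298 : Tw := [([],0),([1],0),([1,2],0),([1,2,4],0),([1,2,4,10],0),([3,2,6,8,16],0),([11,2,14,8,53,32],0),([19,2,22,45,16,32,96],0),([4,2,1,8,16,32,66,135],5)]
noncomputable def D10299 : Tw := [([],0),([1],0),([1,2],0),([1,2,4],0),([1,2,4,10],0),([3,2,6,8,16],0),([11,2,14,8,53,32],0),([19,2,22,45,16,32,96],0),([4,2,1,8,16,32,66,135],7)]
noncomputable def D10300 : Tw := [([],0),([1],0),([1,2],0),([1,2,4],0),([1,2,4,10],0),([3,2,6,8,16],0),([11,2,14,8,53,32],0),([19,2,22,45,16,32,96],0),([4,2,1,8,16,32,66,133],0)]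
noncomputable def D10301 : Tw := [([],0),([1],0),([1,2],0),([1,2,4],0),([1,2,4,10],0),([3,2,6,8,16],0),([11,2,14,8,53,32],0),([19,2,22,45,16,32,96],0),([4,2,1,8,16,32,66,133],2)]
noncomputable def D10302 : Tw := [([],0),([1],0),([1,2],0),([1,2,4],0),([1,2,4,10],0),([3,2,6,8,16],0),([11,2,14,8,53,32],0),([19,2,22,45,16,32,96],0),([4,2,1,8,16,32,66,133],5)]
noncomputable def D10303 : Tw := [([],0),([1],0),([1,2],0),([1,2,4],0),([1,2,4,10],0),([3,2,6,8,16],0),([11,2,14,8,53,32],0),([19,2,22,45,16,32,96],0),([4,2,1,8,16,32,66,133],7)]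
noncomputable def D10304 : Tw := [([],0),([1],0),([1,2],0),([1,2,4],0),([1,2,4,10],0),([3,2,6,8,16],0),([11,2,14,8,53,32],0),([19,2,22,45,16,32,96],0),([4,2,1,8,16,32,66,130],0)]
noncomputable def D10305 : Tw := [([],0),([1],0),([1,2],0),([1,2,4],0),([1,2,4,10],0),([3,2,6,8,16],0),([11,2,14,8,53,32],0),([19,2,22,45,16,32,96],0),([4,2,1,8,16,32,66,130],2)]
noncomputable def D10306 : Tw := [([],0),([1],0),([1,2],0),([1,2,4],0),([1,2,4,10],0),([3,2,6,8,16],0),([11,2,14,8,53,32],0),([19,2,22,45,16,32,96],0),([4,2,1,8,16,32,66,130],5)]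
noncomputable def D10307 : Tw := [([],0),([1],0),([1,2],0),([1,2,4],0),([1,2,4,10],0),([3,2,6,8,16],0),([11,2,14,8,53,32],0),([19,2,22,45,16,32,96],0),([4,2,1,8,16,32,66,130],7)]
noncomputable def D10308 : Tw := [([],0),([1],0),([1,2],0),([1,2,4],0),([1,2,4,10],0),([3,2,6,8,16],0),([11,2,14,8,53,32],0),([19,2,22,45,16,32,96],0),([4,2,1,8,16,32,66,128],0)]
noncomputable def D10309 : Tw := [([],0),([1],0),([1,2],0),([1,2,4],0),([1,2,4,10],0),([3,2,6,8,16],0),([11,2,14,8,53,32],0),([19,2,22,45,16,32,96],0),([4,2,1,8,16,32,66,128],2)]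
noncomputable def D10310 : Tw := [([],0),([1],0),([1,2],0),([1,2,4],0),([1,2,4,10],0),([3,2,6,8,16],0),([11,2,14,8,53,32],0),([19,2,22,45,16,32,96],0),([4,2,1,8,16,32,66,128],5)]
noncomputable def D10311 : Tw := [([],0),([1],0),([1,2],0),([1,2,4],0),([1,2,4,10],0),([3,2,6,8,16],0),([11,2,14,8,53,32],0),([19,2,22,45,16,32,96],0),([4,2,1,8,16,32,66,128],7)]
noncomputable def D10312 : Tw := [([],0),([1],0),([1,2],0),([1,2,4],0),([1,2,4,10],0),([3,2,6,8,16],0),([11,2,14,8,53,32],0),([19,2,22,45,16,32,96],0),([4,2,1,8,16,32,69,135],0)]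
noncomputable def D10313 : Tw := [([],0),([1],0),([1,2],0),([1,2,4],0),([1,2,4,10],0),([3,2,6,8,16],0),([11,2,14,8,53,32],0),([19,2,22,45,16,32,96],0),([4,2,1,8,16,32,69,135],2)]
noncomputable def D10314 : Tw := [([],0),([1],0),([1,2],0),([1,2,4],0),([1,2,4,10],0),([3,2,6,8,16],0),([11,2,14,8,53,32],0),([19,2,22,45,16,32,96],0),([4,2,1,8,16,32,69,135],5)]
noncomputable def D10315 : Tw := [([],0),([1],0),([1,2],0),([1,2,4],0),([1,2,4,10],0),([3,2,6,8,16],0),([11,2,14,8,53,32],0),([19,2,22,45,16,32,96],0),([4,2,1,8,16,32,69,135],7)]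
noncomputable def D10316 : Tw := [([],0),([1],0),([1,2],0),([1,2,4],0),([1,2,4,10],0),([3,2,6,8,16],0),([11,2,14,8,53,32],0),([19,2,22,45,16,32,96],0),([4,2,1,8,16,32,69,133],0)]
noncomputable def D10317 : Tw := [([],0),([1],0),([1,2],0),([1,2,4],0),([1,2,4,10],0),([3,2,6,8,16],0),([11,2,14,8,53,32],0),([19,2,22,45,16,32,96],0),([4,2,1,8,16,32,69,133],2)]
noncomputable def D10318 : Tw := [([],0),([1],0),([1,2],0),([1,2,4],0),([1,2,4,10],0),([3,2,6,8,16],0),([11,2,14,8,53,32],0),([19,2,22,45,16,32,96],0),([4,2,1,8,16,32,69,133],5)]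
noncomputable def D10319 : Tw := [([],0),([1],0),([1,2],0),([1,2,4],0),([1,2,4,10],0),([3,2,6,8,16],0),([11,2,14,8,53,32],0),([19,2,22,45,16,32,96],0),([4,2,1,8,16,32,69,133],7)]
noncomputable def D10320 : Tw := [([],0),([1],0),([1,2],0),([1,2,4],0),([1,2,4,10],0),([3,2,6,8,16],0),([11,2,14,8,53,32],0),([19,2,22,45,16,32,96],0),([4,2,1,8,16,32,69,130],0)]
noncomputable def D10321 : Tw := [([],0),([1],0),([1,2],0),([1,2,4],0),([1,2,4,10],0),([3,2,6,8,16],0),([11,2,14,8,53,32],0),([19,2,22,45,16,32,96],0),([4,2,1,8,16,32,69,130],2)]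
noncomputable def D10322 : Tw := [([],0),([1],0),([1,2],0),([1,2,4],0),([1,2,4,10],0),([3,2,6,8,16],0),([11,2,14,8,53,32],0),([19,2,22,45,16,32,96],0),([4,2,1,8,16,32,69,130],5)]
noncomputable def D10323 : Tw := [([],0),([1],0),([1,2],0),([1,2,4],0),([1,2,4,10],0),([3,2,6,8,16],0),([11,2,14,8,53,32],0),([19,2,22,45,16,32,96],0),([4,2,1,8,16,32,69,130],7)]
noncomputable def D10324 : Tw := [([],0),([1],0),([1,2],0),([1,2,4],0),([1,2,4,10],0),([3,2,6,8,16],0),([11,2,14,8,53,32],0),([19,2,22,45,16,32,96],0),([4,2,1,8,16,32,69,128],0)]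
noncomputable def D10325 : Tw := [([],0),([1],0),([1,2],0),([1,2,4],0),([1,2,4,10],0),([3,2,6,8,16],0),([11,2,14,8,53,32],0),([19,2,22,45,16,32,96],0),([4,2,1,8,16,32,69,128],2)]
noncomputable def D10326 : Tw := [([],0),([1],0),([1,2],0),([1,2,4],0),([1,2,4,10],0),([3,2,6,8,16],0),([11,2,14,8,53,32],0),([19,2,22,45,16,32,96],0),([4,2,1,8,16,32,69,128],5)]
noncomputable def D10327 : Tw := [([],0),([1],0),([1,2],0),([1,2,4],0),([1,2,4,10],0),([3,2,6,8,16],0),([11,2,14,8,53,32],0),([19,2,22,45,16,32,96],0),([4,2,1,8,16,32,69,128],7)]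
noncomputable def D10328 : Tw := [([],0),([1],0),([1,2],0),([1,2,4],0),([1,2,4,10],0),([3,2,6,8,16],0),([11,2,14,8,53,32],0),([19,2,22,45,16,32,96],0),([4,2,1,8,16,32,71,135],0)]
noncomputable def D10329 : Tw := [([],0),([1],0),([1,2],0),([1,2,4],0),([1,2,4,10],0),([3,2,6,8,16],0),([11,2,14,8,53,32],0),([19,2,22,45,16,32,96],0),([4,2,1,8,16,32,71,135],2)]
noncomputable def D10330 : Tw := [([],0),([1],0),([1,2],0),([1,2,4],0),([1,2,4,10],0),([3,2,6,8,16],0),([11,2,14,8,53,32],0),([19,2,22,45,16,32,96],0),([4,2,1,8,16,32,71,135],5)]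
noncomputable def D10331 : Tw := [([],0),([1],0),([1,2],0),([1,2,4],0),([1,2,4,10],0),([3,2,6,8,16],0),([11,2,14,8,53,32],0),([19,2,22,45,16,32,96],0),([4,2,1,8,16,32,71,135],7)]
noncomputable def D10332 : Tw := [([],0),([1],0),([1,2],0),([1,2,4],0),([1,2,4,10],0),([3,2,6,8,16],0),([11,2,14,8,53,32],0),([19,2,22,45,16,32,96],0),([4,2,1,8,16,32,71,133],0)]
noncomputable def D10333 : Tw := [([],0),([1],0),([1,2],0),([1,2,4],0),([1,2,4,10],0),([3,2,6,8,16],0),([11,2,14,8,53,32],0),([19,2,22,45,16,32,96],0),([4,2,1,8,16,32,71,133],2)]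
noncomputable def D10334 : Tw := [([],0),([1],0),([1,2],0),([1,2,4],0),([1,2,4,10],0),([3,2,6,8,16],0),([11,2,14,8,53,32],0),([19,2,22,45,16,32,96],0),([4,2,1,8,16,32,71,133],5)]
noncomputable def D10335 : Tw := [([],0),([1],0),([1,2],0),([1,2,4],0),([1,2,4,10],0),([3,2,6,8,16],0),([11,2,14,8,53,32],0),([19,2,22,45,16,32,96],0),([4,2,1,8,16,32,71,133],7)]
noncomputable def D10336 : Tw := [([],0),([1],0),([1,2],0),([1,2,4],0),([1,2,4,10],0),([3,2,6,8,16],0),([11,2,14,8,53,32],0),([19,2,22,45,16,32,96],0),([4,2,1,8,16,32,71,130],0)]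
noncomputable def D10337 : Tw := [([],0),([1],0),([1,2],0),([1,2,4],0),([1,2,4,10],0),([3,2,6,8,16],0),([11,2,14,8,53,32],0),([19,2,22,45,16,32,96],0),([4,2,1,8,16,32,71,130],2)]
noncomputable def D10338 : Tw := [([],0),([1],0),([1,2],0),([1,2,4],0),([1,2,4,10],0),([3,2,6,8,16],0),([11,2,14,8,53,32],0),([19,2,22,45,16,32,96],0),([4,2,1,8,16,32,71,130],5)]
noncomputable def D10339 : Tw := [([],0),([1],0),([1,2],0),([1,2,4],0),([1,2,4,10],0),([3,2,6,8,16],0),([11,2,14,8,53,32],0),([19,2,22,45,16,32,96],0),([4,2,1,8,16,32,71,130],7)]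
noncomputable def D10340 : Tw := [([],0),([1],0),([1,2],0),([1,2,4],0),([1,2,4,10],0),([3,2,6,8,16],0),([11,2,14,8,53,32],0),([19,2,22,45,16,32,96],0),([4,2,1,8,16,32,71,128],0)]
noncomputable def D10341 : Tw := [([],0),([1],0),([1,2],0),([1,2,4],0),([1,2,4,10],0),([3,2,6,8,16],0),([11,2,14,8,53,32],0),([19,2,22,45,16,32,96],0),([4,2,1,8,16,32,71,128],2)]
noncomputable def D10342 : Tw := [([],0),([1],0),([1,2],0),([1,2,4],0),([1,2,4,10],0),([3,2,6,8,16],0),([11,2,14,8,53,32],0),([19,2,22,45,16,32,96],0),([4,2,1,8,16,32,71,128],5)]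
noncomputable def D10343 : Tw := [([],0),([1],0),([1,2],0),([1,2,4],0),([1,2,4,10],0),([3,2,6,8,16],0),([11,2,14,8,53,32],0),([19,2,22,45,16,32,96],0),([4,2,1,8,16,32,71,128],7)]
noncomputable def D10344 : Tw := [([],0),([1],0),([1,2],0),([1,2,4],0),([1,2,4,10],0),([3,2,6,8,16],0),([11,2,14,8,53,32],0),([19,2,22,45,16,32,101],0),([4,2,1,8,16,32,64,135],0)]
noncomputable def D10345 : Tw := [([],0),([1],0),([1,2],0),([1,2,4],0),([1,2,4,10],0),([3,2,6,8,16],0),([11,2,14,8,53,32],0),([19,2,22,45,16,32,101],0),([4,2,1,8,16,32,64,135],2)]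
noncomputable def D10346 : Tw := [([],0),([1],0),([1,2],0),([1,2,4],0),([1,2,4,10],0),([3,2,6,8,16],0),([11,2,14,8,53,32],0),([19,2,22,45,16,32,101],0),([4,2,1,8,16,32,64,135],5)]
noncomputable def D10347 : Tw := [([],0),([1],0),([1,2],0),([1,2,4],0),([1,2,4,10],0),([3,2,6,8,16],0),([11,2,14,8,53,32],0),([19,2,22,45,16,32,101],0),([4,2,1,8,16,32,64,135],7)]
noncomputable def D10348 : Tw := [([],0),([1],0),([1,2],0),([1,2,4],0),([1,2,4,10],0),([3,2,6,8,16],0),([11,2,14,8,53,32],0),([19,2,22,45,16,32,101],0),([4,2,1,8,16,32,64,133],0)]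
noncomputable def D10349 : Tw := [([],0),([1],0),([1,2],0),([1,2,4],0),([1,2,4,10],0),([3,2,6,8,16],0),([11,2,14,8,53,32],0),([19,2,22,45,16,32,101],0),([4,2,1,8,16,32,64,133],2)]
noncomputable def D10350 : Tw := [([],0),([1],0),([1,2],0),([1,2,4],0),([1,2,4,10],0),([3,2,6,8,16],0),([11,2,14,8,53,32],0),([19,2,22,45,16,32,101],0),([4,2,1,8,16,32,64,133],5)]
noncomputable def D10351 : Tw := [([],0),([1],0),([1,2],0),([1,2,4],0),([1,2,4,10],0),([3,2,6,8,16],0),([11,2,14,8,53,32],0),([19,2,22,45,16,32,101],0),([4,2,1,8,16,32,64,133],7)]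
noncomputable def D10352 : Tw := [([],0),([1],0),([1,2],0),([1,2,4],0),([1,2,4,10],0),([3,2,6,8,16],0),([11,2,14,8,53,32],0),([19,2,22,45,16,32,101],0),([4,2,1,8,16,32,64,130],0)]
noncomputable def D10353 : Tw := [([],0),([1],0),([1,2],0),([1,2,4],0),([1,2,4,10],0),([3,2,6,8,16],0),([11,2,14,8,53,32],0),([19,2,22,45,16,32,101],0),([4,2,1,8,16,32,64,130],2)]
noncomputable def D10354 : Tw := [([],0),([1],0),([1,2],0),([1,2,4],0),([1,2,4,10],0),([3,2,6,8,16],0),([11,2,14,8,53,32],0),([19,2,22,45,16,32,101],0),([4,2,1,8,16,32,64,130],5)]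
noncomputable def D10355 : Tw := [([],0),([1],0),([1,2],0),([1,2,4],0),([1,2,4,10],0),([3,2,6,8,16],0),([11,2,14,8,53,32],0),([19,2,22,45,16,32,101],0),([4,2,1,8,16,32,64,130],7)]
noncomputable def D10380 : Tw := [([],0),([1],0),([1,2],0),([1,2,4],0),([1,2,4,10],0),([3,2,6,8,16],0),([11,2,14,8,53,32],0),([19,2,22,45,16,32,101],0),([4,2,3,16,8,32,144,72],32)]
noncomputable def D10381 : Tw := [([],0),([1],0),([1,2],0),([1,2,4],0),([1,2,4,10],0),([3,2,6,8,16],0),([11,2,14,8,53,32],0),([19,2,22,45,16,32,101],0),([4,2,3,16,8,32,146,74],32)]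
noncomputable def D10382 : Tw := [([],0),([1],0),([1,2],0),([1,2,4],0),([1,2,4,10],0),([3,2,6,8,16],0),([11,2,14,8,53,32],0),([19,2,22,45,16,32,101],0),([4,2,1,8,16,32,64,135],0)]
noncomputable def D10383 : Tw := [([],0),([1],0),([1,2],0),([1,2,4],0),([1,2,4,10],0),([3,2,6,8,16],0),([11,2,14,8,53,32],0),([19,2,22,45,16,32,101],0),([4,2,1,8,16,32,64,135],2)]
noncomputable def D10384 : Tw := [([],0),([1],0),([1,2],0),([1,2,4],0),([1,2,4,10],0),([3,2,6,8,16],0),([11,2,14,8,53,32],0),([19,2,22,45,16,32,101],0),([4,2,1,8,16,32,64,135],5)]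
noncomputable def D10385 : Tw := [([],0),([1],0),([1,2],0),([1,2,4],0),([1,2,4,10],0),([3,2,6,8,16],0),([11,2,14,8,53,32],0),([19,2,22,45,16,32,101],0),([4,2,1,8,16,32,64,135],7)]
noncomputable def D10386 : Tw := [([],0),([1],0),([1,2],0),([1,2,4],0),([1,2,4,10],0),([3,2,6,8,16],0),([11,2,14,8,53,32],0),([19,2,22,45,16,32,101],0),([4,2,1,8,16,32,64,133],0)]
noncomputable def D10387 : Tw := [([],0),([1],0),([1,2],0),([1,2,4],0),([1,2,4,10],0),([3,2,6,8,16],0),([11,2,14,8,53,32],0),([19,2,22,45,16,32,101],0),([4,2,1,8,16,32,64,133],2)]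
noncomputable def D10388 : Tw := [([],0),([1],0),([1,2],0),([1,2,4],0),([1,2,4,10],0),([3,2,6,8,16],0),([11,2,14,8,53,32],0),([19,2,22,45,16,32,101],0),([4,2,1,8,16,32,64,133],5)]
noncomputable def D10389 : Tw := [([],0),([1],0),([1,2],0),([1,2,4],0),([1,2,4,10],0),([3,2,6,8,16],0),([11,2,14,8,53,32],0),([19,2,22,45,16,32,101],0),([4,2,1,8,16,32,64,133],7)]
noncomputable def D10390 : Tw := [([],0),([1],0),([1,2],0),([1,2,4],0),([1,2,4,10],0),([3,2,6,8,16],0),([11,2,14,8,53,32],0),([19,2,22,45,16,32,101],0),([4,2,1,8,16,32,64,130],0)]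
noncomputable def D10391 : Tw := [([],0),([1],0),([1,2],0),([1,2,4],0),([1,2,4,10],0),([3,2,6,8,16],0),([11,2,14,8,53,32],0),([19,2,22,45,16,32,101],0),([4,2,1,8,16,32,64,130],2)]
noncomputable def D10392 : Tw := [([],0),([1],0),([1,2],0),([1,2,4],0),([1,2,4,10],0),([3,2,6,8,16],0),([11,2,14,8,53,32],0),([19,2,22,45,16,32,101],0),([4,2,1,8,16,32,64,130],5)]
noncomputable def D10393 : Tw := [([],0),([1],0),([1,2],0),([1,2,4],0),([1,2,4,10],0),([3,2,6,8,16],0),([11,2,14,8,53,32],0),([19,2,22,45,16,32,101],0),([4,2,1,8,16,32,64,130],7)]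
noncomputable def D10394 : Tw := [([],0),([1],0),([1,2],0),([1,2,4],0),([1,2,4,10],0),([3,2,6,8,16],0),([11,2,14,8,53,32],0),([19,2,22,45,16,32,101],0),([4,2,1,8,16,32,64,128],0)]
noncomputable def D10395 : Tw := [([],0),([1],0),([1,2],0),([1,2,4],0),([1,2,4,10],0),([3,2,6,8,16],0),([11,2,14,8,53,32],0),([19,2,22,45,16,32,101],0),([4,2,1,8,16,32,64,128],2)]
noncomputable def D10396 : Tw := [([],0),([1],0),([1,2],0),([1,2,4],0),([1,2,4,10],0),([3,2,6,8,16],0),([11,2,14,8,53,32],0),([19,2,22,45,16,32,101],0),([4,2,1,8,16,32,64,128],5)]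
noncomputable def D10397 : Tw := [([],0),([1],0),([1,2],0),([1,2,4],0),([1,2,4,10],0),([3,2,6,8,16],0),([11,2,14,8,53,32],0),([19,2,22,45,16,32,101],0),([4,2,1,8,16,32,66,135],0)]
noncomputable def D10398 : Tw := [([],0),([1],0),([1,2],0),([1,2,4],0),([1,2,4,10],0),([3,2,6,8,16],0),([11,2,14,8,53,32],0),([19,2,22,45,16,32,101],0),([4,2,1,8,16,32,66,135],2)]
noncomputable def D10399 : Tw := [([],0),([1],0),([1,2],0),([1,2,4],0),([1,2,4,10],0),([3,2,6,8,16],0),([11,2,14,8,53,32],0),([19,2,22,45,16,32,101],0),([4,2,1,8,16,32,66,135],5)]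
noncomputable def D10400 : Tw := [([],0),([1],0),([1,2],0),([1,2,4],0),([1,2,4,10],0),([3,2,6,8,16],0),([11,2,14,8,53,32],0),([19,2,22,45,16,32,101],0),([4,2,1,8,16,32,66,135],7)]
noncomputable def D10401 : Tw := [([],0),([1],0),([1,2],0),([1,2,4],0),([1,2,4,10],0),([3,2,6,8,16],0),([11,2,14,8,53,32],0),([19,2,22,45,16,32,101],0),([4,2,1,8,16,32,66,133],0)]
noncomputable def D10402 : Tw := [([],0),([1],0),([1,2],0),([1,2,4],0),([1,2,4,10],0),([3,2,6,8,16],0),([11,2,14,8,53,32],0),([19,2,22,45,16,32,101],0),([4,2,1,8,16,32,66,133],2)]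
noncomputable def D10403 : Tw := [([],0),([1],0),([1,2],0),([1,2,4],0),([1,2,4,10],0),([3,2,6,8,16],0),([11,2,14,8,53,32],0),([19,2,22,45,16,32,101],0),([4,2,1,8,16,32,66,133],5)]
noncomputable def D10404 : Tw := [([],0),([1],0),([1,2],0),([1,2,4],0),([1,2,4,10],0),([3,2,6,8,16],0),([11,2,14,8,53,32],0),([19,2,22,45,16,32,101],0),([4,2,1,8,16,32,66,133],7)]
noncomputable def D10405 : Tw := [([],0),([1],0),([1,2],0),([1,2,4],0),([1,2,4,10],0),([3,2,6,8,16],0),([11,2,14,8,53,32],0),([19,2,22,45,16,32,101],0),([4,2,1,8,16,32,66,130],0)]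
noncomputable def D10406 : Tw := [([],0),([1],0),([1,2],0),([1,2,4],0),([1,2,4,10],0),([3,2,6,8,16],0),([11,2,14,8,53,32],0),([19,2,22,45,16,32,101],0),([4,2,1,8,16,32,66,130],2)]
noncomputable def D10407 : Tw := [([],0),([1],0),([1,2],0),([1,2,4],0),([1,2,4,10],0),([3,2,6,8,16],0),([11,2,14,8,53,32],0),([19,2,22,45,16,32,101],0),([4,2,1,8,16,32,66,130],5)]
noncomputable def D10408 : Tw := [([],0),([1],0),([1,2],0),([1,2,4],0),([1,2,4,10],0),([3,2,6,8,16],0),([11,2,14,8,53,32],0),([19,2,22,45,16,32,101],0),([4,2,1,8,16,32,69,135],0)]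
noncomputable def D10409 : Tw := [([],0),([1],0),([1,2],0),([1,2,4],0),([1,2,4,10],0),([3,2,6,8,16],0),([11,2,14,8,53,32],0),([19,2,22,45,16,32,101],0),([4,2,1,8,16,32,69,135],2)]
noncomputable def D10410 : Tw := [([],0),([1],0),([1,2],0),([1,2,4],0),([1,2,4,10],0),([3,2,6,8,16],0),([11,2,14,8,53,32],0),([19,2,22,45,16,32,101],0),([4,2,1,8,16,32,69,135],5)]
noncomputable def D10411 : Tw := [([],0),([1],0),([1,2],0),([1,2,4],0),([1,2,4,10],0),([3,2,6,8,16],0),([11,2,14,8,53,32],0),([19,2,22,45,16,32,101],0),([4,2,1,8,16,32,69,133],0)]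
noncomputable def D10412 : Tw := [([],0),([1],0),([1,2],0),([1,2,4],0),([1,2,4,10],0),([3,2,6,8,16],0),([11,2,14,8,53,32],0),([19,2,22,45,16,32,101],0),([4,2,1,8,16,32,69,133],2)]
noncomputable def D10413 : Tw := [([],0),([1],0),([1,2],0),([1,2,4],0),([1,2,4,10],0),([3,2,6,8,16],0),([11,2,14,8,53,32],0),([19,2,22,45,16,32,101],0),([4,2,1,8,16,32,69,133],5)]
noncomputable def D10414 : Tw := [([],0),([1],0),([1,2],0),([1,2,4],0),([1,2,4,10],0),([3,2,6,8,16],0),([11,2,14,8,53,32],0),([19,2,22,45,16,32,101],0),([4,2,1,8,16,32,69,133],7)]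
noncomputable def D10415 : Tw := [([],0),([1],0),([1,2],0),([1,2,4],0),([1,2,4,10],0),([3,2,6,8,16],0),([11,2,14,8,53,32],0),([19,2,22,45,16,32,101],0),([4,2,1,8,16,32,71,133],0)]
noncomputable def D10416 : Tw := [([],0),([1],0),([1,2],0),([1,2,4],0),([1,2,4,10],0),([3,2,6,8,16],0),([11,2,14,8,53,32],0),([19,2,22,45,16,32,101],0),([4,2,1,8,16,32,71,133],2)]
noncomputable def D10417 : Tw := [([],0),([1],0),([1,2],0),([1,2,4],0),([1,2,4,10],0),([3,2,6,8,16],0),([11,2,14,8,53,32],0),([19,2,22,45,16,32,101],0),([4,2,1,8,16,32,71,133],5)]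
noncomputable def D10418 : Tw := [([],0),([1],0),([1,2],0),([1,2,4],0),([1,2,4,10],0),([3,2,6,8,16],0),([11,2,14,8,53,32],0),([19,2,22,45,16,32,103],0),([4,2,1,8,16,32,64,135],0)]
noncomputable def D10419 : Tw := [([],0),([1],0),([1,2],0),([1,2,4],0),([1,2,4,10],0),([3,2,6,8,16],0),([11,2,14,8,53,32],0),([19,2,22,45,16,32,103],0),([4,2,1,8,16,32,64,135],2)]
noncomputable def D10420 : Tw := [([],0),([1],0),([1,2],0),([1,2,4],0),([1,2,4,10],0),([3,2,6,8,16],0),([11,2,14,8,53,32],0),([19,2,22,45,16,32,103],0),([4,2,1,8,16,32,64,135],5)]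
noncomputable def D10421 : Tw := [([],0),([1],0),([1,2],0),([1,2,4],0),([1,2,4,10],0),([3,2,6,8,16],0),([11,2,14,8,53,32],0),([19,2,22,45,16,32,103],0),([4,2,1,8,16,32,64,135],7)]
noncomputable def D10422 : Tw := [([],0),([1],0),([1,2],0),([1,2,4],0),([1,2,4,10],0),([3,2,6,8,16],0),([11,2,14,8,53,32],0),([19,2,22,45,16,32,103],0),([4,2,1,8,16,32,64,133],0)]
noncomputable def D10423 : Tw := [([],0),([1],0),([1,2],0),([1,2,4],0),([1,2,4,10],0),([3,2,6,8,16],0),([11,2,14,8,53,32],0),([19,2,22,45,16,32,103],0),([4,2,1,8,16,32,64,133],2)]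
noncomputable def D10424 : Tw := [([],0),([1],0),([1,2],0),([1,2,4],0),([1,2,4,10],0),([3,2,6,8,16],0),([11,2,14,8,53,32],0),([19,2,22,45,16,32,103],0),([4,2,1,8,16,32,64,133],5)]
noncomputable def D10425 : Tw := [([],0),([1],0),([1,2],0),([1,2,4],0),([1,2,4,10],0),([3,2,6,8,16],0),([11,2,14,8,53,32],0),([19,2,22,45,16,32,103],0),([4,2,1,8,16,32,64,133],7)]
noncomputable def D10426 : Tw := [([],0),([1],0),([1,2],0),([1,2,4],0),([1,2,4,10],0),([3,2,6,8,16],0),([11,2,14,8,53,32],0),([19,2,22,45,16,32,103],0),([4,2,1,8,16,32,64,130],0)]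
noncomputable def D10427 : Tw := [([],0),([1],0),([1,2],0),([1,2,4],0),([1,2,4,10],0),([3,2,6,8,16],0),([11,2,14,8,53,32],0),([19,2,22,45,16,32,103],0),([4,2,1,8,16,32,64,130],2)]
noncomputable def D10428 : Tw := [([],0),([1],0),([1,2],0),([1,2,4],0),([1,2,4,10],0),([3,2,6,8,16],0),([11,2,14,8,53,32],0),([19,2,22,45,16,32,103],0),([4,2,1,8,16,32,64,130],5)]
noncomputable def D10429 : Tw := [([],0),([1],0),([1,2],0),([1,2,4],0),([1,2,4,10],0),([3,2,6,8,16],0),([11,2,14,8,53,32],0),([19,2,22,45,16,32,103],0),([4,2,1,8,16,32,64,130],7)]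
noncomputable def D10454 : Tw := [([],0),([1],0),([1,2],0),([1,2,4],0),([1,2,4,10],0),([3,2,6,8,16],0),([11,2,14,8,53,32],0),([19,2,22,45,16,32,103],0),([4,2,3,16,8,32,144,72],32)]
noncomputable def D10455 : Tw := [([],0),([1],0),([1,2],0),([1,2,4],0),([1,2,4,10],0),([3,2,6,8,16],0),([11,2,14,8,53,32],0),([19,2,22,45,16,32,103],0),([4,2,3,16,8,32,146,74],32)]
noncomputable def D10456 : Tw := [([],0),([1],0),([1,2],0),([1,2,4],0),([1,2,4,10],0),([3,2,6,8,16],0),([11,2,14,8,53,32],0),([19,2,22,45,16,32,103],0),([4,2,1,8,16,32,64,135],0)]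
noncomputable def D10457 : Tw := [([],0),([1],0),([1,2],0),([1,2,4],0),([1,2,4,10],0),([3,2,6,8,16],0),([11,2,14,8,53,32],0),([19,2,22,45,16,32,103],0),([4,2,1,8,16,32,64,135],2)]
noncomputable def D10458 : Tw := [([],0),([1],0),([1,2],0),([1,2,4],0),([1,2,4,10],0),([3,2,6,8,16],0),([11,2,14,8,53,32],0),([19,2,22,45,16,32,103],0),([4,2,1,8,16,32,64,135],5)]
noncomputable def D10459 : Tw := [([],0),([1],0),([1,2],0),([1,2,4],0),([1,2,4,10],0),([3,2,6,8,16],0),([11,2,14,8,53,32],0),([19,2,22,45,16,32,103],0),([4,2,1,8,16,32,64,135],7)]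
noncomputable def D10460 : Tw := [([],0),([1],0),([1,2],0),([1,2,4],0),([1,2,4,10],0),([3,2,6,8,16],0),([11,2,14,8,53,32],0),([19,2,22,45,16,32,103],0),([4,2,1,8,16,32,64,133],0)]
noncomputable def D10461 : Tw := [([],0),([1],0),([1,2],0),([1,2,4],0),([1,2,4,10],0),([3,2,6,8,16],0),([11,2,14,8,53,32],0),([19,2,22,45,16,32,103],0),([4,2,1,8,16,32,64,133],2)]
noncomputable def D10462 : Tw := [([],0),([1],0),([1,2],0),([1,2,4],0),([1,2,4,10],0),([3,2,6,8,16],0),([11,2,14,8,53,32],0),([19,2,22,45,16,32,103],0),([4,2,1,8,16,32,64,133],5)]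
noncomputable def D10463 : Tw := [([],0),([1],0),([1,2],0),([1,2,4],0),([1,2,4,10],0),([3,2,6,8,16],0),([11,2,14,8,53,32],0),([19,2,22,45,16,32,103],0),([4,2,1,8,16,32,64,133],7)]
noncomputable def D10464 : Tw := [([],0),([1],0),([1,2],0),([1,2,4],0),([1,2,4,10],0),([3,2,6,8,16],0),([11,2,14,8,53,32],0),([19,2,22,45,16,32,103],0),([4,2,1,8,16,32,64,130],0)]
noncomputable def D10465 : Tw := [([],0),([1],0),([1,2],0),([1,2,4],0),([1,2,4,10],0),([3,2,6,8,16],0),([11,2,14,8,53,32],0),([19,2,22,45,16,32,103],0),([4,2,1,8,16,32,64,130],2)]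
noncomputable def D10466 : Tw := [([],0),([1],0),([1,2],0),([1,2,4],0),([1,2,4,10],0),([3,2,6,8,16],0),([11,2,14,8,53,32],0),([19,2,22,45,16,32,103],0),([4,2,1,8,16,32,64,130],5)]
noncomputable def D10467 : Tw := [([],0),([1],0),([1,2],0),([1,2,4],0),([1,2,4,10],0),([3,2,6,8,16],0),([11,2,14,8,53,32],0),([19,2,22,45,16,32,103],0),([4,2,1,8,16,32,64,130],7)]
noncomputable def D10468 : Tw := [([],0),([1],0),([1,2],0),([1,2,4],0),([1,2,4,10],0),([3,2,6,8,16],0),([11,2,14,8,53,32],0),([19,2,22,45,16,32,103],0),([4,2,1,8,16,32,64,128],0)]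
noncomputable def D10469 : Tw := [([],0),([1],0),([1,2],0),([1,2,4],0),([1,2,4,10],0),([3,2,6,8,16],0),([11,2,14,8,53,32],0),([19,2,22,45,16,32,103],0),([4,2,1,8,16,32,64,128],2)]
noncomputable def D10470 : Tw := [([],0),([1],0),([1,2],0),([1,2,4],0),([1,2,4,10],0),([3,2,6,8,16],0),([11,2,14,8,53,32],0),([19,2,22,45,16,32,103],0),([4,2,1,8,16,32,64,128],5)]
noncomputable def D10471 : Tw := [([],0),([1],0),([1,2],0),([1,2,4],0),([1,2,4,10],0),([3,2,6,8,16],0),([11,2,14,8,53,32],0),([19,2,22,45,16,32,103],0),([4,2,1,8,16,32,66,135],0)]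
noncomputable def D10472 : Tw := [([],0),([1],0),([1,2],0),([1,2,4],0),([1,2,4,10],0),([3,2,6,8,16],0),([11,2,14,8,53,32],0),([19,2,22,45,16,32,103],0),([4,2,1,8,16,32,66,135],2)]
noncomputable def D10473 : Tw := [([],0),([1],0),([1,2],0),([1,2,4],0),([1,2,4,10],0),([3,2,6,8,16],0),([11,2,14,8,53,32],0),([19,2,22,45,16,32,103],0),([4,2,1,8,16,32,66,135],5)]
noncomputable def D10474 : Tw := [([],0),([1],0),([1,2],0),([1,2,4],0),([1,2,4,10],0),([3,2,6,8,16],0),([11,2,14,8,53,32],0),([19,2,22,45,16,32,103],0),([4,2,1,8,16,32,66,135],7)]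
noncomputable def D10475 : Tw := [([],0),([1],0),([1,2],0),([1,2,4],0),([1,2,4,10],0),([3,2,6,8,16],0),([11,2,14,8,53,32],0),([19,2,22,45,16,32,103],0),([4,2,1,8,16,32,66,133],0)]
noncomputable def D10476 : Tw := [([],0),([1],0),([1,2],0),([1,2,4],0),([1,2,4,10],0),([3,2,6,8,16],0),([11,2,14,8,53,32],0),([19,2,22,45,16,32,103],0),([4,2,1,8,16,32,66,133],2)]
noncomputable def D10477 : Tw := [([],0),([1],0),([1,2],0),([1,2,4],0),([1,2,4,10],0),([3,2,6,8,16],0),([11,2,14,8,53,32],0),([19,2,22,45,16,32,103],0),([4,2,1,8,16,32,66,133],5)]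
noncomputable def D10478 : Tw := [([],0),([1],0),([1,2],0),([1,2,4],0),([1,2,4,10],0),([3,2,6,8,16],0),([11,2,14,8,53,32],0),([19,2,22,45,16,32,103],0),([4,2,1,8,16,32,66,133],7)]
noncomputable def D10479 : Tw := [([],0),([1],0),([1,2],0),([1,2,4],0),([1,2,4,10],0),([3,2,6,8,16],0),([11,2,14,8,53,32],0),([19,2,22,45,16,32,103],0),([4,2,1,8,16,32,66,130],0)]
noncomputable def D10480 : Tw := [([],0),([1],0),([1,2],0),([1,2,4],0),([1,2,4,10],0),([3,2,6,8,16],0),([11,2,14,8,53,32],0),([19,2,22,45,16,32,103],0),([4,2,1,8,16,32,66,130],2)]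
noncomputable def D10481 : Tw := [([],0),([1],0),([1,2],0),([1,2,4],0),([1,2,4,10],0),([3,2,6,8,16],0),([11,2,14,8,53,32],0),([19,2,22,45,16,32,103],0),([4,2,1,8,16,32,66,130],5)]
noncomputable def D10482 : Tw := [([],0),([1],0),([1,2],0),([1,2,4],0),([1,2,4,10],0),([3,2,6,8,16],0),([11,2,14,8,53,32],0),([19,2,22,45,16,32,103],0),([4,2,1,8,16,32,69,135],0)]
noncomputable def D10483 : Tw := [([],0),([1],0),([1,2],0),([1,2,4],0),([1,2,4,10],0),([3,2,6,8,16],0),([11,2,14,8,53,32],0),([19,2,22,45,16,32,103],0),([4,2,1,8,16,32,69,135],2)]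
noncomputable def D10484 : Tw := [([],0),([1],0),([1,2],0),([1,2,4],0),([1,2,4,10],0),([3,2,6,8,16],0),([11,2,14,8,53,32],0),([19,2,22,45,16,32,103],0),([4,2,1,8,16,32,69,135],5)]
noncomputable def D10485 : Tw := [([],0),([1],0),([1,2],0),([1,2,4],0),([1,2,4,10],0),([3,2,6,8,16],0),([11,2,14,8,53,32],0),([19,2,22,45,16,32,103],0),([4,2,1,8,16,32,69,133],0)]
noncomputable def D10486 : Tw := [([],0),([1],0),([1,2],0),([1,2,4],0),([1,2,4,10],0),([3,2,6,8,16],0),([11,2,14,8,53,32],0),([19,2,22,45,16,32,103],0),([4,2,1,8,16,32,69,133],2)]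
noncomputable def D10487 : Tw := [([],0),([1],0),([1,2],0),([1,2,4],0),([1,2,4,10],0),([3,2,6,8,16],0),([11,2,14,8,53,32],0),([19,2,22,45,16,32,103],0),([4,2,1,8,16,32,69,133],5)]
noncomputable def D10488 : Tw := [([],0),([1],0),([1,2],0),([1,2,4],0),([1,2,4,10],0),([3,2,6,8,16],0),([11,2,14,8,53,32],0),([19,2,22,45,16,32,103],0),([4,2,1,8,16,32,69,133],7)]
noncomputable def D10489 : Tw := [([],0),([1],0),([1,2],0),([1,2,4],0),([1,2,4,10],0),([3,2,6,8,16],0),([11,2,14,8,53,32],0),([19,2,22,45,16,32,103],0),([4,2,1,8,16,32,71,133],0)]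
noncomputable def D10490 : Tw := [([],0),([1],0),([1,2],0),([1,2,4],0),([1,2,4,10],0),([3,2,6,8,16],0),([11,2,14,8,53,32],0),([19,2,22,45,16,32,103],0),([4,2,1,8,16,32,71,133],2)]
noncomputable def D10491 : Tw := [([],0),([1],0),([1,2],0),([1,2,4],0),([1,2,4,10],0),([3,2,6,8,16],0),([11,2,14,8,53,32],0),([19,2,22,45,16,32,103],0),([4,2,1,8,16,32,71,133],5)]
noncomputable def D10492 : Tw := [([],0),([1],0),([1,2],0),([1,2,4],0),([1,2,4,10],0),([3,2,6,8,16],0),([11,2,14,8,53,32],0),([12,2,9,8,53,32,64],0)]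
noncomputable def D10493 : Tw := [([],0),([1],0),([1,2],0),([1,2,4],0),([1,2,4,10],0),([3,2,6,8,16],0),([11,2,14,8,53,32],0),([12,2,9,8,53,32,64],2)]
noncomputable def D10494 : Tw := [([],0),([1],0),([1,2],0),([1,2,4],0),([1,2,4,10],0),([3,2,6,8,16],0),([11,2,14,8,53,32],0),([12,2,9,8,53,32,64],5)]
noncomputable def D10495 : Tw := [([],0),([1],0),([1,2],0),([1,2,4],0),([1,2,4,10],0),([3,2,6,8,16],0),([11,2,14,8,53,32],0),([12,2,9,8,53,32,64],7)]
noncomputable def D10496 : Tw := [([],0),([1],0),([1,2],0),([1,2,4],0),([1,2,4,10],0),([3,2,6,8,16],0),([11,2,14,8,53,32],0),([12,2,9,8,53,32,66],0)]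
noncomputable def D10497 : Tw := [([],0),([1],0),([1,2],0),([1,2,4],0),([1,2,4,10],0),([3,2,6,8,16],0),([11,2,14,8,53,32],0),([12,2,9,8,53,32,66],2)]
noncomputable def D10498 : Tw := [([],0),([1],0),([1,2],0),([1,2,4],0),([1,2,4,10],0),([3,2,6,8,16],0),([11,2,14,8,53,32],0),([12,2,9,8,53,32,66],5)]
noncomputable def D10499 : Tw := [([],0),([1],0),([1,2],0),([1,2,4],0),([1,2,4,10],0),([3,2,6,8,16],0),([11,2,14,8,53,32],0),([12,2,9,8,53,32,66],7)]
noncomputable def D10500 : Tw := [([],0),([1],0),([1,2],0),([1,2,4],0),([1,2,4,10],0),([3,2,6,8,16],0),([11,2,14,8,53,32],0),([12,2,9,8,53,32,69],0)]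
noncomputable def D10501 : Tw := [([],0),([1],0),([1,2],0),([1,2,4],0),([1,2,4,10],0),([3,2,6,8,16],0),([11,2,14,8,53,32],0),([12,2,9,8,53,32,69],2)]
noncomputable def D10502 : Tw := [([],0),([1],0),([1,2],0),([1,2,4],0),([1,2,4,10],0),([3,2,6,8,16],0),([11,2,14,8,53,32],0),([12,2,9,8,53,32,69],5)]
noncomputable def D10503 : Tw := [([],0),([1],0),([1,2],0),([1,2,4],0),([1,2,4,10],0),([3,2,6,8,16],0),([11,2,14,8,53,32],0),([12,2,9,8,53,32,69],7)]
noncomputable def D10504 : Tw := [([],0),([1],0),([1,2],0),([1,2,4],0),([1,2,4,10],0),([3,2,6,8,16],0),([11,2,14,8,53,32],0),([12,2,9,8,53,32,71],0)]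
noncomputable def D10505 : Tw := [([],0),([1],0),([1,2],0),([1,2,4],0),([1,2,4,10],0),([3,2,6,8,16],0),([11,2,14,8,53,32],0),([12,2,9,8,53,32,71],2)]
noncomputable def D10506 : Tw := [([],0),([1],0),([1,2],0),([1,2,4],0),([1,2,4,10],0),([3,2,6,8,16],0),([11,2,14,8,53,32],0),([12,2,9,8,53,32,71],5)]
noncomputable def D10507 : Tw := [([],0),([1],0),([1,2],0),([1,2,4],0),([1,2,4,10],0),([3,2,6,8,16],0),([11,2,14,8,53,32],0),([12,2,9,8,53,32,71],7)]
noncomputable def D10508 : Tw := [([],0),([1],0),([1,2],0),([1,2,4],0),([1,2,4,10],0),([3,2,6,8,16],0),([11,2,14,8,53,32],0),([12,2,9,8,48,32,64],0)]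
noncomputable def D10509 : Tw := [([],0),([1],0),([1,2],0),([1,2,4],0),([1,2,4,10],0),([3,2,6,8,16],0),([11,2,14,8,53,32],0),([12,2,9,8,48,32,64],2)]
noncomputable def D10510 : Tw := [([],0),([1],0),([1,2],0),([1,2,4],0),([1,2,4,10],0),([3,2,6,8,16],0),([11,2,14,8,53,32],0),([12,2,9,8,48,32,64],5)]
noncomputable def D10511 : Tw := [([],0),([1],0),([1,2],0),([1,2,4],0),([1,2,4,10],0),([3,2,6,8,16],0),([11,2,14,8,53,32],0),([12,2,9,8,48,32,64],7)]
noncomputable def D10512 : Tw := [([],0),([1],0),([1,2],0),([1,2,4],0),([1,2,4,10],0),([3,2,6,8,16],0),([11,2,14,8,53,32],0),([12,2,9,8,48,32,66],0)]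
noncomputable def D10513 : Tw := [([],0),([1],0),([1,2],0),([1,2,4],0),([1,2,4,10],0),([3,2,6,8,16],0),([11,2,14,8,53,32],0),([12,2,9,8,48,32,66],2)]
noncomputable def D10514 : Tw := [([],0),([1],0),([1,2],0),([1,2,4],0),([1,2,4,10],0),([3,2,6,8,16],0),([11,2,14,8,53,32],0),([12,2,9,8,48,32,66],5)]
noncomputable def D10515 : Tw := [([],0),([1],0),([1,2],0),([1,2,4],0),([1,2,4,10],0),([3,2,6,8,16],0),([11,2,14,8,53,32],0),([12,2,9,8,48,32,66],7)]
noncomputable def D10516 : Tw := [([],0),([1],0),([1,2],0),([1,2,4],0),([1,2,4,10],0),([3,2,6,8,16],0),([11,2,14,8,53,32],0),([12,2,9,8,48,32,69],0)]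
noncomputable def D10517 : Tw := [([],0),([1],0),([1,2],0),([1,2,4],0),([1,2,4,10],0),([3,2,6,8,16],0),([11,2,14,8,53,32],0),([12,2,9,8,48,32,69],2)]
noncomputable def D10518 : Tw := [([],0),([1],0),([1,2],0),([1,2,4],0),([1,2,4,10],0),([3,2,6,8,16],0),([11,2,14,8,53,32],0),([12,2,9,8,48,32,69],5)]
noncomputable def D10519 : Tw := [([],0),([1],0),([1,2],0),([1,2,4],0),([1,2,4,10],0),([3,2,6,8,16],0),([11,2,14,8,53,32],0),([12,2,9,8,48,32,69],7)]
noncomputable def D10520 : Tw := [([],0),([1],0),([1,2],0),([1,2,4],0),([1,2,4,10],0),([3,2,6,8,16],0),([11,2,14,8,53,32],0),([12,2,9,8,48,32,71],0)]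
noncomputable def D10521 : Tw := [([],0),([1],0),([1,2],0),([1,2,4],0),([1,2,4,10],0),([3,2,6,8,16],0),([11,2,14,8,53,32],0),([12,2,9,8,48,32,71],2)]
noncomputable def D10522 : Tw := [([],0),([1],0),([1,2],0),([1,2,4],0),([1,2,4,10],0),([3,2,6,8,16],0),([11,2,14,8,53,32],0),([12,2,9,8,48,32,71],5)]
noncomputable def D10523 : Tw := [([],0),([1],0),([1,2],0),([1,2,4],0),([1,2,4,10],0),([3,2,6,8,16],0),([11,2,14,8,53,32],0),([12,2,9,8,48,32,71],7)]
noncomputable def D10524 : Tw := [([],0),([1],0),([1,2],0),([1,2,4],0),([1,2,4,10],0),([3,2,6,8,16],0),([11,2,14,8,53,32],0),([12,2,9,8,53,32,64],0),([19,2,22,40,16,32,128,64],0)]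
noncomputable def D10525 : Tw := [([],0),([1],0),([1,2],0),([1,2,4],0),([1,2,4,10],0),([3,2,6,8,16],0),([11,2,14,8,53,32],0),([12,2,9,8,53,32,64],0),([19,2,22,40,16,32,128,64],2)]
noncomputable def D10526 : Tw := [([],0),([1],0),([1,2],0),([1,2,4],0),([1,2,4,10],0),([3,2,6,8,16],0),([11,2,14,8,53,32],0),([12,2,9,8,53,32,64],0),([19,2,22,40,16,32,128,64],5)]
noncomputable def D10527 : Tw := [([],0),([1],0),([1,2],0),([1,2,4],0),([1,2,4,10],0),([3,2,6,8,16],0),([11,2,14,8,53,32],0),([12,2,9,8,53,32,64],0),([19,2,22,40,16,32,128,64],7)]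
noncomputable def D10528 : Tw := [([],0),([1],0),([1,2],0),([1,2,4],0),([1,2,4,10],0),([3,2,6,8,16],0),([11,2,14,8,53,32],0),([12,2,9,8,53,32,64],0),([19,2,22,40,16,32,130,66],0)]
noncomputable def D10529 : Tw := [([],0),([1],0),([1,2],0),([1,2,4],0),([1,2,4,10],0),([3,2,6,8,16],0),([11,2,14,8,53,32],0),([12,2,9,8,53,32,64],0),([19,2,22,40,16,32,130,66],2)]
noncomputable def D10530 : Tw := [([],0),([1],0),([1,2],0),([1,2,4],0),([1,2,4,10],0),([3,2,6,8,16],0),([11,2,14,8,53,32],0),([12,2,9,8,53,32,64],0),([19,2,22,40,16,32,130,66],5)]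
noncomputable def D10531 : Tw := [([],0),([1],0),([1,2],0),([1,2,4],0),([1,2,4,10],0),([3,2,6,8,16],0),([11,2,14,8,53,32],0),([12,2,9,8,53,32,64],0),([19,2,22,40,16,32,130,66],7)]
noncomputable def D10532 : Tw := [([],0),([1],0),([1,2],0),([1,2,4],0),([1,2,4,10],0),([3,2,6,8,16],0),([11,2,14,8,53,32],0),([12,2,9,8,53,32,64],0),([19,2,22,40,16,32,133,69],0)]
noncomputable def D10533 : Tw := [([],0),([1],0),([1,2],0),([1,2,4],0),([1,2,4,10],0),([3,2,6,8,16],0),([11,2,14,8,53,32],0),([12,2,9,8,53,32,64],0),([19,2,22,40,16,32,133,69],2)]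
noncomputable def D10534 : Tw := [([],0),([1],0),([1,2],0),([1,2,4],0),([1,2,4,10],0),([3,2,6,8,16],0),([11,2,14,8,53,32],0),([12,2,9,8,53,32,64],0),([19,2,22,40,16,32,133,69],5)]
noncomputable def D10535 : Tw := [([],0),([1],0),([1,2],0),([1,2,4],0),([1,2,4,10],0),([3,2,6,8,16],0),([11,2,14,8,53,32],0),([12,2,9,8,53,32,64],0),([19,2,22,40,16,32,133,69],7)]
noncomputable def D10536 : Tw := [([],0),([1],0),([1,2],0),([1,2,4],0),([1,2,4,10],0),([3,2,6,8,16],0),([11,2,14,8,53,32],0),([12,2,9,8,53,32,64],0),([19,2,22,40,16,32,135,71],0)]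
noncomputable def D10537 : Tw := [([],0),([1],0),([1,2],0),([1,2,4],0),([1,2,4,10],0),([3,2,6,8,16],0),([11,2,14,8,53,32],0),([12,2,9,8,53,32,64],0),([19,2,22,40,16,32,135,71],2)]
noncomputable def D10538 : Tw := [([],0),([1],0),([1,2],0),([1,2,4],0),([1,2,4,10],0),([3,2,6,8,16],0),([11,2,14,8,53,32],0),([12,2,9,8,53,32,64],0),([19,2,22,40,16,32,135,71],5)]
noncomputable def D10539 : Tw := [([],0),([1],0),([1,2],0),([1,2,4],0),([1,2,4,10],0),([3,2,6,8,16],0),([11,2,14,8,53,32],0),([12,2,9,8,53,32,64],0),([19,2,22,40,16,32,135,71],7)]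
noncomputable def D10540 : Tw := [([],0),([1],0),([1,2],0),([1,2,4],0),([1,2,4,10],0),([3,2,6,13,21],0),([6,2,3,13,21,37],0)]
noncomputable def D10541 : Tw := [([],0),([1],0),([1,2],0),([1,2,4],0),([1,2,4,10],0),([3,2,6,13,21],0),([6,2,3,13,21,37],2)]
noncomputable def D10542 : Tw := [([],0),([1],0),([1,2],0),([1,2,4],0),([1,2,4,10],0),([3,2,6,13,21],0),([6,2,3,13,21,37],5)]
noncomputable def D10543 : Tw := [([],0),([1],0),([1,2],0),([1,2,4],0),([1,2,4,10],0),([3,2,6,13,21],0),([6,2,3,13,21,37],7)]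
noncomputable def D10544 : Tw := [([],0),([1],0),([1,2],0),([1,2,4],0),([1,2,4,10],0),([3,2,6,13,21],0),([6,2,3,13,21,32],0)]
noncomputable def D10545 : Tw := [([],0),([1],0),([1,2],0),([1,2,4],0),([1,2,4,10],0),([3,2,6,13,21],0),([6,2,3,13,21,32],2)]
noncomputable def D10546 : Tw := [([],0),([1],0),([1,2],0),([1,2,4],0),([1,2,4,10],0),([3,2,6,13,21],0),([6,2,3,13,21,32],5)]
noncomputable def D10547 : Tw := [([],0),([1],0),([1,2],0),([1,2,4],0),([1,2,4,10],0),([3,2,6,13,21],0),([6,2,3,13,21,32],7)]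
noncomputable def D10548 : Tw := [([],0),([1],0),([1,2],0),([1,2,4],0),([1,2,4,10],0),([3,2,6,13,21],0),([6,2,3,13,16,37],0)]
noncomputable def D10549 : Tw := [([],0),([1],0),([1,2],0),([1,2,4],0),([1,2,4,10],0),([3,2,6,13,21],0),([6,2,3,13,16,37],2)]
noncomputable def D10550 : Tw := [([],0),([1],0),([1,2],0),([1,2,4],0),([1,2,4,10],0),([3,2,6,13,21],0),([6,2,3,13,16,37],5)]
noncomputable def D10551 : Tw := [([],0),([1],0),([1,2],0),([1,2,4],0),([1,2,4,10],0),([3,2,6,13,21],0),([6,2,3,13,16,37],7)]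
noncomputable def D10552 : Tw := [([],0),([1],0),([1,2],0),([1,2,4],0),([1,2,4,10],0),([3,2,6,13,21],5),([6,2,3,13,21,37],0)]
noncomputable def D10553 : Tw := [([],0),([1],0),([1,2],0),([1,2,4],0),([1,2,4,10],0),([3,2,6,13,21],5),([6,2,3,13,21,37],2)]
noncomputable def D10554 : Tw := [([],0),([1],0),([1,2],0),([1,2,4],0),([1,2,4,10],0),([3,2,6,13,21],5),([6,2,3,13,21,37],5)]
noncomputable def D10555 : Tw := [([],0),([1],0),([1,2],0),([1,2,4],0),([1,2,4,10],0),([3,2,6,13,21],5),([6,2,3,13,21,37],7)]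
noncomputable def D10556 : Tw := [([],0),([1],0),([1,2],0),([1,2,4],0),([1,2,4,10],0),([3,2,6,13,21],5),([6,2,3,13,21,32],0)]
noncomputable def D10557 : Tw := [([],0),([1],0),([1,2],0),([1,2,4],0),([1,2,4,10],0),([3,2,6,13,21],5),([6,2,3,13,21,32],2)]
noncomputable def D10558 : Tw := [([],0),([1],0),([1,2],0),([1,2,4],0),([1,2,4,10],0),([3,2,6,13,21],5),([6,2,3,13,21,32],5)]
noncomputable def D10559 : Tw := [([],0),([1],0),([1,2],0),([1,2,4],0),([1,2,4,10],0),([3,2,6,13,21],5),([6,2,3,13,21,32],7)]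
noncomputable def D10560 : Tw := [([],0),([1],0),([1,2],0),([1,2,4],0),([1,2,4,10],0),([3,2,6,13,21],5),([6,2,3,13,16,37],0)]
noncomputable def D10561 : Tw := [([],0),([1],0),([1,2],0),([1,2,4],0),([1,2,4,10],0),([3,2,6,13,21],5),([6,2,3,13,16,37],2)]
noncomputable def D10562 : Tw := [([],0),([1],0),([1,2],0),([1,2,4],0),([1,2,4,10],0),([3,2,6,13,21],5),([6,2,3,13,16,37],5)]
noncomputable def D10563 : Tw := [([],0),([1],0),([1,2],0),([1,2,4],0),([1,2,4,10],0),([3,2,6,13,21],5),([6,2,3,13,16,32],0)]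
noncomputable def D10564 : Tw := [([],0),([1],0),([1,2],0),([1,2,4],0),([1,2,4,10],0),([3,2,6,13,21],5),([6,2,3,13,16,32],2)]
noncomputable def D10565 : Tw := [([],0),([1],0),([1,2],0),([1,2,4],0),([1,2,4,10],0),([3,2,6,13,21],5),([6,2,3,13,16,32],5)]
noncomputable def D10566 : Tw := [([],0),([1],0),([1,2],0),([1,2,4],0),([1,2,4,10],0),([3,2,6,13,21],5),([6,2,3,13,16,32],0),([11,7,14,13,82,34,71],10)]
noncomputable def D10567 : Tw := [([],0),([1],0),([1,2],0),([1,2,4],0),([1,2,4,10],0),([3,2,6,13,21],5),([6,2,3,13,16,32],0),([11,7,14,13,82,32,69],0)]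
noncomputable def D10568 : Tw := [([],0),([1],0),([1,2],0),([1,2,4],0),([1,2,4,10],0),([3,2,6,13,21],5),([6,2,3,13,16,32],0),([11,7,14,13,80,34,66],10)]
noncomputable def D10569 : Tw := [([],0),([1],0),([1,2],0),([1,2,4],0),([1,2,4,10],0),([3,2,6,13,21],5),([6,2,3,13,16,32],0),([11,7,14,13,80,32,64],0)]
noncomputable def D10570 : Tw := [([],0),([1],0),([1,2],0),([1,2,4],0),([1,2,4,10],0),([3,2,6,13,21],5),([6,2,3,13,16,32],0),([11,7,14,13,82,32,69],0),([48,2,53,64,105,104,8,128],103)]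
noncomputable def D10571 : Tw := [([],0),([1],0),([1,2],0),([1,2,4],0),([1,2,4,10],0),([3,2,6,13,21],5),([6,2,3,13,16,32],0),([11,7,14,13,82,32,69],0),([48,2,53,64,105,104,8,128],98)]
noncomputable def D10572 : Tw := [([],0),([1],0),([1,2],0),([1,2,4],0),([1,2,4,10],0),([3,2,6,13,21],5),([6,2,3,13,16,32],0),([11,7,14,13,82,32,69],0),([48,2,53,64,105,109,8,128],0)]
noncomputable def D10573 : Tw := [([],0),([1],0),([1,2],0),([1,2,4],0),([1,2,4,10],0),([3,2,6,13,21],5),([6,2,3,13,16,32],0),([11,7,14,13,82,32,69],0),([48,2,53,64,105,109,8,128],5)]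
noncomputable def D10574 : Tw := [([],0),([1],0),([1,2],0),([1,2,4],0),([1,2,4,10],0),([3,2,6,13,21],5),([6,2,3,13,16,32],0),([11,7,14,13,80,34,66],10),([48,2,53,64,105,104,8,211],101)]
noncomputable def D10575 : Tw := [([],0),([1],0),([1,2],0),([1,2,4],0),([1,2,4,10],0),([3,2,6,13,21],5),([6,2,3,13,16,32],0),([11,7,14,13,80,34,66],10),([48,2,53,64,105,104,8,211],96)]
noncomputable def D10576 : Tw := [([],0),([1],0),([1,2],0),([1,2,4],0),([1,2,4,10],0),([3,2,6,13,21],5),([6,2,3,13,16,32],0),([11,7,14,13,80,34,66],10),([48,2,53,64,105,109,8,211],0)]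
noncomputable def D10577 : Tw := [([],0),([1],0),([1,2],0),([1,2,4],0),([1,2,4,10],0),([3,2,6,13,21],5),([6,2,3,13,16,32],0),([11,7,14,13,80,34,66],10),([48,2,53,64,105,109,8,211],5)]
noncomputable def D10578 : Tw := [([],0),([1],0),([1,2],0),([1,2,4],0),([1,2,4,10],0),([4,2,1,8,21],0),([22,5,20,34,21,13],42)]
noncomputable def D10579 : Tw := [([],0),([1],0),([1,2],0),([1,2,4],0),([1,2,4,10],0),([4,2,1,8,21],0),([22,5,20,32,21,8],40)]
noncomputable def D10580 : Tw := [([],0),([1],0),([1,2],0),([1,2,4],0),([1,2,4,10],0),([4,2,1,8,21],0),([22,5,20,34,21,13],42),([3,2,6,8,21,32,106],0)]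
noncomputable def D10581 : Tw := [([],0),([1],0),([1,2],0),([1,2,4],0),([1,2,4,10],0),([4,2,1,8,21],0),([22,5,20,34,21,13],42),([3,2,6,8,21,32,106],7)]
noncomputable def D10582 : Tw := [([],0),([1],0),([1,2],0),([1,2,4],0),([1,2,4,10],0),([4,2,1,8,21],0),([22,5,20,34,21,13],42),([3,2,6,13,21,34,104],2)]
noncomputable def D10583 : Tw := [([],0),([1],0),([1,2],0),([1,2,4],0),([1,2,4,10],0),([4,2,1,8,21],0),([22,5,20,34,21,13],42),([3,2,6,13,21,34,104],5)]
noncomputable def D10584 : Tw := [([],0),([1],0),([1,2],0),([1,2,4],0),([1,2,4,10],0),([4,2,1,8,21],0),([22,5,20,34,21,13],42),([3,2,6,8,21,32,106],7),([177,5,179,34,23,13,106,173],0)]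
noncomputable def D10585 : Tw := [([],0),([1],0),([1,2],0),([1,2,4],0),([1,2,4,10],0),([4,2,1,8,21],0),([22,5,20,34,21,13],42),([3,2,6,8,21,32,106],7),([177,5,179,34,23,13,106,173],7)]
noncomputable def D10586 : Tw := [([],0),([1],0),([1,2],0),([1,2,4],0),([1,2,4,10],0),([4,2,1,8,21],0),([22,5,20,34,21,13],42),([3,2,6,8,21,32,106],7),([177,5,179,34,23,13,106,173],0),([11,2,14,8,152,32,264,133,98],8)]
noncomputable def D10587 : Tw := [([],0),([1],0),([1,2],0),([1,2,4],0),([1,2,4,10],0),([4,2,1,8,21],0),([22,5,20,34,21,13],42),([3,2,6,8,21,32,106],7),([177,5,179,34,23,13,106,173],0),([11,2,14,8,152,32,264,133,98],15)]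
noncomputable def D10588 : Tw := [([],0),([1],0),([1,2],0),([1,2,4],0),([1,2,4,10],0),([4,2,1,8,21],0),([22,5,20,34,21,13],42),([3,2,6,8,21,32,106],7),([177,5,179,34,23,13,106,173],0),([11,2,14,8,152,32,264,133,101],10)]
noncomputable def D10589 : Tw := [([],0),([1],0),([1,2],0),([1,2,4],0),([1,2,4,10],0),([4,2,1,8,21],0),([22,5,20,34,21,13],42),([3,2,6,8,21,32,106],7),([177,5,179,34,23,13,106,173],0),([11,2,14,8,152,32,264,133,101],13)]
noncomputable def D10590 : Tw := [([],0),([1],0),([1,2],0),([1,2,4],0),([1,2,4,10],0),([4,2,1,8,21],0),([22,5,20,34,21,13],42),([3,2,6,8,21,32,106],7),([177,5,179,34,23,13,106,173],0),([11,2,14,8,152,32,264,133,98],15),([545,2,548,8,349,32,264,175,72,527],0)]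
noncomputable def D10591 : Tw := [([],0),([1],0),([1,2],0),([1,2,4],0),([1,2,4,10],0),([4,2,1,8,21],0),([22,5,20,34,21,13],42),([3,2,6,8,21,32,106],7),([177,5,179,34,23,13,106,173],0),([11,2,14,8,152,32,264,133,98],15),([545,2,548,8,349,32,264,175,72,527],7)]
noncomputable def D10592 : Tw := [([],0),([1],0),([1,2],0),([1,2,4],0),([1,2,4,10],0),([4,2,1,8,21],0),([22,5,20,34,21,13],42),([3,2,6,8,21,32,106],7),([177,5,179,34,23,13,106,173],0),([11,2,14,8,152,32,264,133,98],15),([545,2,548,8,344,32,426,175,197,527],10)]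
noncomputable def D10593 : Tw := [([],0),([1],0),([1,2],0),([1,2,4],0),([1,2,4,10],0),([4,2,1,8,21],0),([22,5,20,34,21,13],42),([3,2,6,8,21,32,106],7),([177,5,179,34,23,13,106,173],0),([11,2,14,8,152,32,264,133,98],15),([545,2,548,8,344,32,426,175,197,527],13)]
noncomputable def D10594 : Tw := [([],0),([1],0),([1,2],0),([1,2,4],0),([1,2,4,10],0),([4,2,1,8,21],0),([22,5,20,34,21,13],42),([3,2,6,8,21,32,106],7),([177,5,179,34,23,13,106,173],7),([11,2,14,8,152,32,266,133,103],10)]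
noncomputable def D10595 : Tw := [([],0),([1],0),([1,2],0),([1,2,4],0),([1,2,4,10],0),([4,2,1,8,21],0),([22,5,20,34,21,13],42),([3,2,6,8,21,32,106],7),([177,5,179,34,23,13,106,173],7),([11,2,14,8,152,32,266,133,103],13)]
noncomputable def D10596 : Tw := [([],0),([1],0),([1,2],0),([1,2,4],0),([1,2,4,10],0),([4,2,1,8,21],0),([22,5,20,34,21,13],42),([3,2,6,8,21,32,106],7),([177,5,179,34,23,13,106,173],7),([11,2,14,8,152,32,266,133,96],8)]
noncomputable def D10597 : Tw := [([],0),([1],0),([1,2],0),([1,2,4],0),([1,2,4,10],0),([4,2,1,8,21],0),([22,5,20,34,21,13],42),([3,2,6,8,21,32,106],7),([177,5,179,34,23,13,106,173],7),([11,2,14,8,152,32,266,133,96],15)]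
noncomputable def D10598 : Tw := [([],0),([1],0),([1,2],0),([1,2,4],0),([1,2,4,10],0),([4,2,1,8,21],0),([22,5,20,32,21,8],40),([3,2,6,8,21,32,104],0)]
noncomputable def D10599 : Tw := [([],0),([1],0),([1,2],0),([1,2,4],0),([1,2,4,10],0),([4,2,1,8,21],0),([22,5,20,32,21,8],40),([3,2,6,8,21,32,104],7)]
noncomputable def D10600 : Tw := [([],0),([1],0),([1,2],0),([1,2,4],0),([1,2,4,10],0),([4,2,1,8,21],0),([22,5,20,32,21,8],40),([3,2,6,13,21,34,106],2)]
noncomputable def D10601 : Tw := [([],0),([1],0),([1,2],0),([1,2,4],0),([1,2,4,10],0),([4,2,1,8,21],0),([22,5,20,32,21,8],40),([3,2,6,13,21,34,106],5)]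
noncomputable def D10602 : Tw := [([],0),([1],0),([1,2],0),([1,2,4],0),([1,2,4,10],0),([4,2,1,8,21],0),([22,5,20,32,21,8],40),([3,2,6,8,21,32,104],7),([179,5,177,32,23,8,104,175],0)]
noncomputable def D10603 : Tw := [([],0),([1],0),([1,2],0),([1,2,4],0),([1,2,4,10],0),([4,2,1,8,21],0),([22,5,20,32,21,8],40),([3,2,6,8,21,32,104],7),([179,5,177,32,23,8,104,175],7)]
noncomputable def D10604 : Tw := [([],0),([1],0),([1,2],0),([1,2,4],0),([1,2,4,10],0),([4,2,1,8,21],0),([22,5,20,32,21,8],40),([3,2,6,8,21,32,104],7),([179,5,177,32,23,8,104,175],0),([11,2,14,8,152,32,264,133,96],8)]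
noncomputable def D10605 : Tw := [([],0),([1],0),([1,2],0),([1,2,4],0),([1,2,4,10],0),([4,2,1,8,21],0),([22,5,20,32,21,8],40),([3,2,6,8,21,32,104],7),([179,5,177,32,23,8,104,175],0),([11,2,14,8,152,32,264,133,96],15)]
noncomputable def D10606 : Tw := [([],0),([1],0),([1,2],0),([1,2,4],0),([1,2,4,10],0),([4,2,1,8,21],0),([22,5,20,32,21,8],40),([3,2,6,8,21,32,104],7),([179,5,177,32,23,8,104,175],0),([11,2,14,8,152,32,264,133,103],10)]
noncomputable def D10607 : Tw := [([],0),([1],0),([1,2],0),([1,2,4],0),([1,2,4,10],0),([4,2,1,8,21],0),([22,5,20,32,21,8],40),([3,2,6,8,21,32,104],7),([179,5,177,32,23,8,104,175],0),([11,2,14,8,152,32,264,133,103],13)]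
noncomputable def D10608 : Tw := [([],0),([1],0),([1,2],0),([1,2,4],0),([1,2,4,10],0),([4,2,1,8,21],0),([22,5,20,32,21,8],40),([3,2,6,8,21,32,104],7),([179,5,177,32,23,8,104,175],7),([11,2,14,8,152,32,266,133,101],10)]
noncomputable def D10609 : Tw := [([],0),([1],0),([1,2],0),([1,2,4],0),([1,2,4,10],0),([4,2,1,8,21],0),([22,5,20,32,21,8],40),([3,2,6,8,21,32,104],7),([179,5,177,32,23,8,104,175],7),([11,2,14,8,152,32,266,133,101],13)]
noncomputable def D10610 : Tw := [([],0),([1],0),([1,2],0),([1,2,4],0),([1,2,4,10],0),([4,2,1,8,21],0),([22,5,20,32,21,8],40),([3,2,6,8,21,32,104],7),([179,5,177,32,23,8,104,175],7),([11,2,14,8,152,32,266,133,98],8)]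
noncomputable def D10611 : Tw := [([],0),([1],0),([1,2],0),([1,2,4],0),([1,2,4,10],0),([4,2,1,8,21],0),([22,5,20,32,21,8],40),([3,2,6,8,21,32,104],7),([179,5,177,32,23,8,104,175],7),([11,2,14,8,152,32,266,133,98],15)]
noncomputable def D10612 : Tw := [([],0),([1],0),([1,2],0),([1,2,4],0),([1,2,4,10],0),([4,2,1,8,21],0),([22,5,20,32,21,8],40),([3,2,6,8,21,32,104],7),([179,5,177,32,23,8,104,175],7),([11,2,14,8,152,32,266,133,98],15),([555,2,558,8,368,32,266,170,74,527],0)]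
noncomputable def D10613 : Tw := [([],0),([1],0),([1,2],0),([1,2,4],0),([1,2,4,10],0),([4,2,1,8,21],0),([22,5,20,32,21,8],40),([3,2,6,8,21,32,104],7),([179,5,177,32,23,8,104,175],7),([11,2,14,8,152,32,266,133,98],15),([555,2,558,8,368,32,266,170,74,527],7)]
noncomputable def D10614 : Tw := [([],0),([1],0),([1,2],0),([1,2,4],0),([1,2,4,10],0),([4,2,1,8,21],0),([22,5,20,32,21,8],40),([3,2,6,8,21,32,104],7),([179,5,177,32,23,8,104,175],7),([11,2,14,8,152,32,266,133,98],15),([555,2,558,8,373,32,426,170,199,527],8)]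
noncomputable def D10615 : Tw := [([],0),([1],0),([1,2],0),([1,2,4],0),([1,2,4,10],0),([4,2,1,8,21],0),([22,5,20,32,21,8],40),([3,2,6,8,21,32,104],7),([179,5,177,32,23,8,104,175],7),([11,2,14,8,152,32,266,133,98],15),([555,2,558,8,373,32,426,170,199,527],15)]
noncomputable def D10616 : Tw := [([],0),([1],0),([1,2],0),([1,2,4],0),([1,2,4,10],0),([4,2,1,8,16],0),([3,2,6,13,16,34],0)]
noncomputable def D10617 : Tw := [([],0),([1],0),([1,2],0),([1,2,4],0),([1,2,4,10],0),([4,2,1,8,16],0),([3,2,6,13,16,34],2)]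
noncomputable def D10618 : Tw := [([],0),([1],0),([1,2],0),([1,2,4],0),([1,2,4,10],0),([4,2,1,8,16],0),([3,2,6,13,16,34],5)]
noncomputable def D10619 : Tw := [([],0),([1],0),([1,2],0),([1,2,4],0),([1,2,4,10],0),([4,2,1,8,16],0),([3,2,6,13,16,34],7)]
noncomputable def D10620 : Tw := [([],0),([1],0),([1,2],0),([1,2,4],0),([1,2,4,10],0),([4,2,1,8,16],0),([3,2,6,13,16,32],0)]
noncomputable def D10621 : Tw := [([],0),([1],0),([1,2],0),([1,2,4],0),([1,2,4,10],0),([4,2,1,8,16],0),([3,2,6,13,16,32],2)]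
noncomputable def D10622 : Tw := [([],0),([1],0),([1,2],0),([1,2,4],0),([1,2,4,10],0),([4,2,1,8,16],0),([3,2,6,13,16,32],5)]
noncomputable def D10623 : Tw := [([],0),([1],0),([1,2],0),([1,2,4],0),([1,2,4,10],0),([4,2,1,8,16],0),([3,2,6,13,16,32],7)]
noncomputable def D10624 : Tw := [([],0),([1],0),([1,2],0),([1,2,4],0),([1,2,4,10],0),([4,2,1,8,16],0),([3,2,6,8,16,34],0)]
noncomputable def D10625 : Tw := [([],0),([1],0),([1,2],0),([1,2,4],0),([1,2,4,10],0),([4,2,1,8,16],0),([3,2,6,8,16,34],2)]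
noncomputable def D10626 : Tw := [([],0),([1],0),([1,2],0),([1,2,4],0),([1,2,4,10],0),([4,2,1,8,16],0),([3,2,6,8,16,34],5)]
noncomputable def D10627 : Tw := [([],0),([1],0),([1,2],0),([1,2,4],0),([1,2,4,10],0),([4,2,1,8,16],0),([3,2,6,8,16,34],7)]
noncomputable def D10628 : Tw := [([],0),([1],0),([1,2],0),([1,2,4],0),([1,2,4,10],0),([4,2,1,8,16],0),([3,2,6,8,16,32],0)]
noncomputable def D10629 : Tw := [([],0),([1],0),([1,2],0),([1,2,4],0),([1,2,4,10],0),([4,2,1,8,16],0),([3,2,6,8,16,32],2)]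
noncomputable def D10630 : Tw := [([],0),([1],0),([1,2],0),([1,2,4],0),([1,2,4,10],0),([4,2,1,8,16],0),([3,2,6,8,16,32],5)]
noncomputable def D10631 : Tw := [([],0),([1],0),([1,2],0),([1,2,4],0),([1,2,4,10],0),([4,2,1,8,16],0),([3,2,6,8,16,32],7)]
noncomputable def D10632 : Tw := [([],0),([1],0),([1,2],0),([1,2,4],0),([1,2,4,10],0),([4,2,1,8,16],0),([3,2,6,13,16,34],5),([11,7,14,13,115,42,71],10)]
noncomputable def D10633 : Tw := [([],0),([1],0),([1,2],0),([1,2,4],0),([1,2,4,10],0),([4,2,1,8,16],0),([3,2,6,13,16,34],5),([11,7,14,13,115,42,69],0)]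
noncomputable def D10634 : Tw := [([],0),([1],0),([1,2],0),([1,2,4],0),([1,2,4,10],0),([4,2,1,8,16],0),([3,2,6,13,16,34],5),([11,7,14,13,113,42,66],10)]
noncomputable def D10635 : Tw := [([],0),([1],0),([1,2],0),([1,2,4],0),([1,2,4,10],0),([4,2,1,8,16],0),([3,2,6,13,16,34],5),([11,7,14,13,113,42,64],0)]
noncomputable def D10636 : Tw := [([],0),([1],0),([1,2],0),([1,2,4],0),([1,2,4,10],0),([4,2,1,8,16],0),([3,2,6,13,16,32],0),([11,7,14,13,114,32,69],0)]
noncomputable def D10637 : Tw := [([],0),([1],0),([1,2],0),([1,2,4],0),([1,2,4,10],0),([4,2,1,8,16],0),([3,2,6,13,16,32],0),([11,7,14,13,114,32,71],10)]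
noncomputable def D10638 : Tw := [([],0),([1],0),([1,2],0),([1,2,4],0),([1,2,4,10],0),([4,2,1,8,16],0),([3,2,6,13,16,32],0),([11,7,14,13,112,32,64],0)]
noncomputable def D10639 : Tw := [([],0),([1],0),([1,2],0),([1,2,4],0),([1,2,4,10],0),([4,2,1,8,16],0),([3,2,6,13,16,32],0),([11,7,14,13,112,32,66],10)]
noncomputable def D10640 : Tw := [([],0),([1],0),([1,2],0),([1,2,4],0),([1,2,4,10],0),([4,2,1,8,16],0),([3,2,6,8,16,34],2),([11,2,14,8,93,42,66],0)]
noncomputable def D10641 : Tw := [([],0),([1],0),([1,2],0),([1,2,4],0),([1,2,4,10],0),([4,2,1,8,16],0),([3,2,6,8,16,34],2),([11,2,14,8,93,42,66],2)]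
noncomputable def D10642 : Tw := [([],0),([1],0),([1,2],0),([1,2,4],0),([1,2,4,10],0),([4,2,1,8,16],0),([3,2,6,8,16,34],2),([11,2,14,8,93,42,66],5)]
noncomputable def D10643 : Tw := [([],0),([1],0),([1,2],0),([1,2,4],0),([1,2,4,10],0),([4,2,1,8,16],0),([3,2,6,8,16,34],2),([11,2,14,8,93,42,66],7)]
noncomputable def D10644 : Tw := [([],0),([1],0),([1,2],0),([1,2,4],0),([1,2,4,10],0),([4,2,1,8,16],0),([3,2,6,8,16,34],2),([11,2,14,8,93,42,64],8)]
noncomputable def D10645 : Tw := [([],0),([1],0),([1,2],0),([1,2,4],0),([1,2,4,10],0),([4,2,1,8,16],0),([3,2,6,8,16,34],2),([11,2,14,8,93,42,64],10)]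
noncomputable def D10646 : Tw := [([],0),([1],0),([1,2],0),([1,2,4],0),([1,2,4,10],0),([4,2,1,8,16],0),([3,2,6,8,16,34],2),([11,2,14,8,93,42,64],13)]
noncomputable def D10647 : Tw := [([],0),([1],0),([1,2],0),([1,2,4],0),([1,2,4,10],0),([4,2,1,8,16],0),([3,2,6,8,16,34],2),([11,2,14,8,93,42,64],15)]
noncomputable def D10648 : Tw := [([],0),([1],0),([1,2],0),([1,2,4],0),([1,2,4,10],0),([4,2,1,8,16],0),([3,2,6,8,16,34],2),([11,2,14,8,93,40,66],0)]
noncomputable def D10649 : Tw := [([],0),([1],0),([1,2],0),([1,2,4],0),([1,2,4,10],0),([4,2,1,8,16],0),([3,2,6,8,16,34],2),([11,2,14,8,93,40,66],2)]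
noncomputable def D10650 : Tw := [([],0),([1],0),([1,2],0),([1,2,4],0),([1,2,4,10],0),([4,2,1,8,16],0),([3,2,6,8,16,34],2),([11,2,14,8,93,40,66],5)]
noncomputable def D10651 : Tw := [([],0),([1],0),([1,2],0),([1,2,4],0),([1,2,4,10],0),([4,2,1,8,16],0),([3,2,6,8,16,34],2),([11,2,14,8,93,40,66],7)]
noncomputable def D10652 : Tw := [([],0),([1],0),([1,2],0),([1,2,4],0),([1,2,4,10],0),([4,2,1,8,16],0),([3,2,6,8,16,34],2),([11,2,14,8,93,40,64],8)]
noncomputable def D10653 : Tw := [([],0),([1],0),([1,2],0),([1,2,4],0),([1,2,4,10],0),([4,2,1,8,16],0),([3,2,6,8,16,34],2),([11,2,14,8,93,40,64],10)]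
noncomputable def D10654 : Tw := [([],0),([1],0),([1,2],0),([1,2,4],0),([1,2,4,10],0),([4,2,1,8,16],0),([3,2,6,8,16,34],2),([11,2,14,8,93,40,64],13)]
noncomputable def D10655 : Tw := [([],0),([1],0),([1,2],0),([1,2,4],0),([1,2,4,10],0),([4,2,1,8,16],0),([3,2,6,8,16,34],2),([11,2,14,8,93,40,64],15)]
noncomputable def D10656 : Tw := [([],0),([1],0),([1,2],0),([1,2,4],0),([1,2,4,10],0),([4,2,1,8,16],0),([3,2,6,8,16,34],2),([11,2,14,8,93,42,64],10),([70,2,65,8,21,34,64,136],8)]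
noncomputable def D10657 : Tw := [([],0),([1],0),([1,2],0),([1,2,4],0),([1,2,4,10],0),([4,2,1,8,16],0),([3,2,6,8,16,34],2),([11,2,14,8,93,42,64],10),([70,2,65,8,16,34,64,136],0)]
noncomputable def D10658 : Tw := [([],0),([1],0),([1,2],0),([1,2,4],0),([1,2,4,10],0),([4,2,1,8,16],0),([3,2,6,8,16,32],0),([11,2,14,8,85,34,64],0)]
noncomputable def D10659 : Tw := [([],0),([1],0),([1,2],0),([1,2,4],0),([1,2,4,10],0),([4,2,1,8,16],0),([3,2,6,8,16,32],0),([11,2,14,8,85,34,64],2)]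
noncomputable def D10660 : Tw := [([],0),([1],0),([1,2],0),([1,2,4],0),([1,2,4,10],0),([4,2,1,8,16],0),([3,2,6,8,16,32],0),([11,2,14,8,85,34,64],5)]
noncomputable def D10661 : Tw := [([],0),([1],0),([1,2],0),([1,2,4],0),([1,2,4,10],0),([4,2,1,8,16],0),([3,2,6,8,16,32],0),([11,2,14,8,85,34,64],7)]
noncomputable def D10662 : Tw := [([],0),([1],0),([1,2],0),([1,2,4],0),([1,2,4,10],0),([4,2,1,8,16],0),([3,2,6,8,16,32],0),([11,2,14,8,85,34,66],8)]
noncomputable def D10663 : Tw := [([],0),([1],0),([1,2],0),([1,2,4],0),([1,2,4,10],0),([4,2,1,8,16],0),([3,2,6,8,16,32],0),([11,2,14,8,85,34,66],10)]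
noncomputable def D10664 : Tw := [([],0),([1],0),([1,2],0),([1,2,4],0),([1,2,4,10],0),([4,2,1,8,16],0),([3,2,6,8,16,32],0),([11,2,14,8,85,34,66],13)]
noncomputable def D10665 : Tw := [([],0),([1],0),([1,2],0),([1,2,4],0),([1,2,4,10],0),([4,2,1,8,16],0),([3,2,6,8,16,32],0),([11,2,14,8,85,34,66],15)]
noncomputable def D10666 : Tw := [([],0),([1],0),([1,2],0),([1,2,4],0),([1,2,4,10],0),([4,2,1,8,16],0),([3,2,6,8,16,32],0),([11,2,14,8,85,32,64],0)]
noncomputable def D10667 : Tw := [([],0),([1],0),([1,2],0),([1,2,4],0),([1,2,4,10],0),([4,2,1,8,16],0),([3,2,6,8,16,32],0),([11,2,14,8,85,32,64],2)]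
noncomputable def D10668 : Tw := [([],0),([1],0),([1,2],0),([1,2,4],0),([1,2,4,10],0),([4,2,1,8,16],0),([3,2,6,8,16,32],0),([11,2,14,8,85,32,64],5)]
noncomputable def D10669 : Tw := [([],0),([1],0),([1,2],0),([1,2,4],0),([1,2,4,10],0),([4,2,1,8,16],0),([3,2,6,8,16,32],0),([11,2,14,8,85,32,64],7)]
noncomputable def D10670 : Tw := [([],0),([1],0),([1,2],0),([1,2,4],0),([1,2,4,10],0),([4,2,1,8,16],0),([3,2,6,8,16,32],0),([11,2,14,8,85,32,66],8)]
noncomputable def D10671 : Tw := [([],0),([1],0),([1,2],0),([1,2,4],0),([1,2,4,10],0),([4,2,1,8,16],0),([3,2,6,8,16,32],0),([11,2,14,8,85,32,66],10)]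
noncomputable def D10672 : Tw := [([],0),([1],0),([1,2],0),([1,2,4],0),([1,2,4,10],0),([4,2,1,8,16],0),([3,2,6,8,16,32],0),([11,2,14,8,85,32,66],13)]
noncomputable def D10673 : Tw := [([],0),([1],0),([1,2],0),([1,2,4],0),([1,2,4,10],0),([4,2,1,8,16],0),([3,2,6,8,16,32],0),([11,2,14,8,85,32,66],15)]
noncomputable def D10674 : Tw := [([],0),([1],0),([1,2],0),([1,2,4],0),([1,2,4,10],0),([4,2,1,8,16],0),([3,2,6,8,16,32],0),([11,2,14,8,85,32,64],0),([20,2,17,77,16,32,64,199],0)]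
noncomputable def D10675 : Tw := [([],0),([1],0),([1,2],0),([1,2,4],0),([1,2,4,10],0),([4,2,1,8,16],0),([3,2,6,8,16,32],0),([11,2,14,8,85,32,64],0),([20,2,17,77,16,32,64,199],2)]
noncomputable def D10676 : Tw := [([],0),([1],0),([1,2],0),([1,2,4],0),([1,2,4,10],0),([4,2,1,8,16],0),([3,2,6,8,16,32],0),([11,2,14,8,85,32,64],0),([20,2,17,77,16,32,64,199],5)]
noncomputable def D10677 : Tw := [([],0),([1],0),([1,2],0),([1,2,4],0),([1,2,4,10],0),([4,2,1,8,16],0),([3,2,6,8,16,32],0),([11,2,14,8,85,32,64],0),([20,2,17,77,16,32,64,199],7)]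
noncomputable def D10678 : Tw := [([],0),([1],0),([1,2],0),([1,2,4],0),([1,2,4,10],0),([4,2,1,8,16],0),([3,2,6,8,16,32],0),([11,2,14,8,85,32,64],0),([20,2,17,77,16,32,64,197],0)]
noncomputable def D10679 : Tw := [([],0),([1],0),([1,2],0),([1,2,4],0),([1,2,4,10],0),([4,2,1,8,16],0),([3,2,6,8,16,32],0),([11,2,14,8,85,32,64],0),([20,2,17,77,16,32,64,197],2)]
noncomputable def D10680 : Tw := [([],0),([1],0),([1,2],0),([1,2,4],0),([1,2,4,10],0),([4,2,1,8,16],0),([3,2,6,8,16,32],0),([11,2,14,8,85,32,64],0),([20,2,17,77,16,32,64,197],5)]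
noncomputable def D10681 : Tw := [([],0),([1],0),([1,2],0),([1,2,4],0),([1,2,4,10],0),([4,2,1,8,16],0),([3,2,6,8,16,32],0),([11,2,14,8,85,32,64],0),([20,2,17,77,16,32,64,197],7)]
noncomputable def D10682 : Tw := [([],0),([1],0),([1,2],0),([1,2,4],0),([1,2,4,10],0),([4,2,1,8,16],0),([3,2,6,8,16,32],0),([11,2,14,8,85,32,64],0),([20,2,17,77,16,32,64,194],0)]
noncomputable def D10683 : Tw := [([],0),([1],0),([1,2],0),([1,2,4],0),([1,2,4,10],0),([4,2,1,8,16],0),([3,2,6,8,16,32],0),([11,2,14,8,85,32,64],0),([20,2,17,77,16,32,64,194],2)]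
noncomputable def D10684 : Tw := [([],0),([1],0),([1,2],0),([1,2,4],0),([1,2,4,10],0),([4,2,1,8,16],0),([3,2,6,8,16,32],0),([11,2,14,8,85,32,64],0),([20,2,17,77,16,32,64,194],5)]
noncomputable def D10685 : Tw := [([],0),([1],0),([1,2],0),([1,2,4],0),([1,2,4,10],0),([4,2,1,8,16],0),([3,2,6,8,16,32],0),([11,2,14,8,85,32,64],0),([20,2,17,77,16,32,64,194],7)]
noncomputable def D10686 : Tw := [([],0),([1],0),([1,2],0),([1,2,4],0),([1,2,4,10],0),([4,2,1,8,16],0),([3,2,6,8,16,32],0),([11,2,14,8,85,32,64],0),([20,2,17,77,16,32,64,192],0)]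
noncomputable def D10687 : Tw := [([],0),([1],0),([1,2],0),([1,2,4],0),([1,2,4,10],0),([4,2,1,8,16],0),([3,2,6,8,16,32],0),([11,2,14,8,85,32,64],0),([20,2,17,77,16,32,64,192],2)]
noncomputable def D10688 : Tw := [([],0),([1],0),([1,2],0),([1,2,4],0),([1,2,4,10],0),([4,2,1,8,16],0),([3,2,6,8,16,32],0),([11,2,14,8,85,32,64],0),([20,2,17,77,16,32,64,192],5)]
noncomputable def D10689 : Tw := [([],0),([1],0),([1,2],0),([1,2,4],0),([1,2,4,10],0),([4,2,1,8,16],0),([3,2,6,8,16,32],0),([11,2,14,8,85,32,64],0),([20,2,17,77,16,32,64,192],7)]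
noncomputable def D10690 : Tw := [([],0),([1],0),([1,2],0),([1,2,4],0),([1,2,4,10],0),([4,2,1,8,16],0),([3,2,6,8,16,32],0),([11,2,14,8,85,32,64],0),([20,2,17,77,16,34,66,143],16)]
noncomputable def D10691 : Tw := [([],0),([1],0),([1,2],0),([1,2,4],0),([1,2,4,10],0),([4,2,1,8,16],0),([3,2,6,8,16,32],0),([11,2,14,8,85,32,64],0),([20,2,17,77,16,34,66,143],18)]
noncomputable def D10692 : Tw := [([],0),([1],0),([1,2],0),([1,2,4],0),([1,2,4,10],0),([4,2,1,8,16],0),([3,2,6,8,16,32],0),([11,2,14,8,85,32,64],0),([20,2,17,77,16,34,66,143],21)]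
noncomputable def D10693 : Tw := [([],0),([1],0),([1,2],0),([1,2,4],0),([1,2,4,10],0),([4,2,1,8,16],0),([3,2,6,8,16,32],0),([11,2,14,8,85,32,64],0),([20,2,17,77,16,34,66,143],23)]
noncomputable def D10694 : Tw := [([],0),([1],0),([1,2],0),([1,2,4],0),([1,2,4,10],0),([4,2,1,8,16],0),([3,2,6,8,16,32],0),([11,2,14,8,85,32,64],0),([20,2,17,77,16,34,66,141],16)]
noncomputable def D10695 : Tw := [([],0),([1],0),([1,2],0),([1,2,4],0),([1,2,4,10],0),([4,2,1,8,16],0),([3,2,6,8,16,32],0),([11,2,14,8,85,32,64],0),([20,2,17,77,16,34,66,141],18)]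
noncomputable def D10696 : Tw := [([],0),([1],0),([1,2],0),([1,2,4],0),([1,2,4,10],0),([4,2,1,8,16],0),([3,2,6,8,16,32],0),([11,2,14,8,85,32,64],0),([20,2,17,77,16,34,66,141],21)]
noncomputable def D10697 : Tw := [([],0),([1],0),([1,2],0),([1,2,4],0),([1,2,4,10],0),([4,2,1,8,16],0),([3,2,6,8,16,32],0),([11,2,14,8,85,32,64],0),([20,2,17,77,16,34,66,141],23)]
noncomputable def D10698 : Tw := [([],0),([1],0),([1,2],0),([1,2,4],0),([1,2,4,10],0),([4,2,1,8,16],0),([3,2,6,8,16,32],0),([11,2,14,8,85,32,64],0),([20,2,17,77,16,34,66,138],16)]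
noncomputable def D10699 : Tw := [([],0),([1],0),([1,2],0),([1,2,4],0),([1,2,4,10],0),([4,2,1,8,16],0),([3,2,6,8,16,32],0),([11,2,14,8,85,32,64],0),([20,2,17,77,16,34,66,138],18)]
noncomputable def D10700 : Tw := [([],0),([1],0),([1,2],0),([1,2,4],0),([1,2,4,10],0),([4,2,1,8,16],0),([3,2,6,8,16,32],0),([11,2,14,8,85,32,64],0),([20,2,17,77,16,34,66,138],21)]
noncomputable def D10701 : Tw := [([],0),([1],0),([1,2],0),([1,2,4],0),([1,2,4,10],0),([4,2,1,8,16],0),([3,2,6,8,16,32],0),([11,2,14,8,85,32,64],0),([20,2,17,77,16,34,66,138],23)]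
noncomputable def D10702 : Tw := [([],0),([1],0),([1,2],0),([1,2,4],0),([1,2,4,10],0),([4,2,1,8,16],0),([3,2,6,8,16,32],0),([11,2,14,8,85,32,64],0),([20,2,17,77,16,34,66,136],16)]
noncomputable def D10703 : Tw := [([],0),([1],0),([1,2],0),([1,2,4],0),([1,2,4,10],0),([4,2,1,8,16],0),([3,2,6,8,16,32],0),([11,2,14,8,85,32,64],0),([20,2,17,77,16,34,66,136],18)]
noncomputable def D10704 : Tw := [([],0),([1],0),([1,2],0),([1,2,4],0),([1,2,4,10],0),([4,2,1,8,16],0),([3,2,6,8,16,32],0),([11,2,14,8,85,32,64],0),([20,2,17,77,16,34,66,136],21)]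
noncomputable def D10705 : Tw := [([],0),([1],0),([1,2],0),([1,2,4],0),([1,2,4,10],0),([4,2,1,8,16],0),([3,2,6,8,16,32],0),([11,2,14,8,85,32,64],0),([20,2,17,77,16,34,66,136],23)]
noncomputable def Z10007468 : ℕ := 0x5a000000005a5a5a
noncomputable def Z10007519 : ℕ := 0xa500a500a500a50000a5a50000a5a50aa5a5a500f5f5f4
noncomputable def L10003072 : ℕ := 0x8822882288228822228822882288228822882288228822888822882288228822882288228822882222882288228822882288228822882288882288228822882222882288228822888822882288228822882288228822882222882288228822882288228822882288882288228822882288228822882288222288228822882288882288228822882222882288228822882288228822882288882288228822882288228822882288222288228822882288228822882288228888228822882288222288228822882288882288228822882288228822882288222288228822882288228822882288228888228822882288228822882288228822228822882288228888228822882288222288228822882288228822882288228888228822882288228822882288228822228822882288228822882288228822888822882288228822228822882288228888228822882288228822882288228822228822882288228822882288228822888822882288228822882288228822882222882288228822888822882288228822228822882288228822882288228822888822882288228822882288228822882222882288228822882288228822882288882288228822882222882288228822888822882288228822882288228822882222882288228822882288228822882288882288228822882288228822882288222288228822882288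
noncomputable def Z10003015 : ℕ := 0x5a00000000a5000000000000000000005a00000000a5000000005a5a0000a5a500a5a5a5005a0000000000000000000000a50000005a5a5a
noncomputable def Z10004925 : ℕ := 0x240024420042000000000000000000810081000018001800000000000000000000000000000000810081000042004200000000000000000081008142004200000000000000000000000000000000000000000000000000000000000000000000000000000000000000000000000000000000000000000000000000000000005a00000000000000000000000000000000000000a500000000000000000000000000000000000000000000000000a5a500000000000000005a00000000a5a5a4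
noncomputable def L10009607 : ℕ := 0x22882288228822882288228822882288228822882288228822882288228822882288228822882288228822882288228822882288228822882288228822882288
noncomputable def Z10009163 : ℕ := 0xa5a50000a5a50000a500a500a500a50000a5a50000a5a50aa5a5a500f5f5f4
noncomputable def Z10008132 : ℕ := 0xa500a500a500a50000a5a50000a5a500a5a5a500a5a5a5000000000000000000a500a500a500a50000a5a50000a5a500a5a5a500a5a5a4
noncomputable def L10009670 : ℕ := 0x2288228822882288228822882288228822882288228822882288228822882288228822882288228822882288228822882288228822882288228822882288228822882288228822882288228822882288228822882288228822882288228822882288228822882288228822882288228822882288228822882288228822882288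
noncomputable def Z10014711 : ℕ := 0xa500005a00000000a50000005a5a5a
noncomputable def Z10015033 : ℕ := 0x481200001212000012120000481200005a5a00a500a50000a50000a5a5a4
noncomputable def L10009993 : ℕ := 0x7777777777777777dddddddddddddddd7777777777777777dddddddddddddddddddddddddddddddd7777777777777777dddddddddddddddd7777777777777777aa00aa00aa00aa0000aa00aa00aa00aaaa00aa00aa00aa0000aa00aa00aa00aa00aa00aa00aa00aaaa00aa00aa00aa0000aa00aa00aa00aaaa00aa00aa00aa00
noncomputable def Z10009987 : ℕ := 0xa5a50000a5a50000a500a500a500a50000a5a50000a5a500a5a5a500a5a5a500a5a50000a5a50000a500a500a500a50000a5a50000a5a500a5a5a500a5a5a4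
noncomputable def L10009679 : ℕ := 0x7777777777777777dddddddddddddddddddddddddddddddd7777777777777777dddddddddddddddd77777777777777777777777777777777dddddddddddddddd00aa00aa00aa00aaaa00aa00aa00aa00aa00aa00aa00aa0000aa00aa00aa00aaaa00aa00aa00aa0000aa00aa00aa00aa00aa00aa00aa00aaaa00aa00aa00aa00
noncomputable def L10009696 : ℕ := 0x8888888888888888222222222222222222222222222222228888888888888888222222222222222288888888888888888888888888888888222222222222222200aa00aa00aa00aaaa00aa00aa00aa00aa00aa00aa00aa0000aa00aa00aa00aaaa00aa00aa00aa0000aa00aa00aa00aa00aa00aa00aa00aaaa00aa00aa00aa00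
noncomputable def V10009697 : ℕ := 0x13e00012600000012600013e01000000800000001000000800000000000000000000000000000000000000000000000013600012e00000012e00013601a00000000000001a00000000000000000000000000000000000000000000000000000012e00012e00000012e00012e00000000000000000000000012e00012e00000012e00012e00000000000000000000000012600012600000012600012600000000000000000000000012600012600000012600012600000000000000000000000000000000000000000000000001000001000000001000001001000001000000001000001000000000000000000000000000000000000000000000000000000000000000000000000000000000000000000000000000000000000000000000000016600016e00000016e00016609000008000000009000008000000000000000012600000000000000000000000000000012600012e00000012e000126010000000000000010000000126000000000000000000000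
noncomputable def Z10009673 : ℕ := 0xa5a50000a5a50000a500a500a500a50000a5a50000a5a500a5a5a500a5a5a4
noncomputable def Z10009682 : ℕ := 0xa5a50000a5a50000a500a500a500a50000a5a50000a5a500a5a50500a5a5a0
noncomputable def Z10015454 : ℕ := 0x5a0000005a5a5a
noncomputable def Z10015477 : ℕ := 0x24002481008100005aa5a500afffec
noncomputable def L10014828 : ℕ := 0x88228822882288222288228822882288882288228822882222882288228822888822882288228822228822882288228888228822882288222288228822882288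
noncomputable def Z10014742 : ℕ := 0x842100008484000084840000842100005a5a00a500a50000a50000a5a5a4
noncomputable def Z10012930 : ℕ := 0xa500a500a500a50000000000000000000000000000000000a500a500a500a500a5a5a500a5a5a50000a5a50000a5a50000a5a50000a5a500a5a5a500a5a5a4
noncomputable def Z10002486 : ℕ := 0xfafafa
noncomputable def Z10002497 : ℕ := 0xfffffc
noncomputable def Z10016838 : ℕ := 0x81008181008100005aa5a500afffec
noncomputable def E10000002 : Env := ⟨5,0,[],[]⟩
noncomputable def E10008114 : Env := ⟨5,0,[(1,Z10007468)],[]⟩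
noncomputable def E10007827 : Env := ⟨5,0,[(1,Z10007468),(2,Z10007519),(3,Z10007468),(5,Z10007519),(7,Z10007519),(8,Z10007519),(9,Z10007468),(10,Z10007519),(16,Z10007519),(17,Z10007468),(18,Z10007519),(32,Z10007519),(62,Z10007468),(64,Z10007519),(128,Z10007519)],[]⟩
noncomputable def E10003066 : Env := ⟨5,0,[(1,Z10003015)],[]⟩
noncomputable def E10004940 : Env := ⟨5,0,[(16,Z10004925),(18,Z10004925),(1153,Z10004925),(1033,Z10004925)],[]⟩
noncomputable def E10009218 : Env := ⟨5,0,[(34,Z10009163),(160,Z10009163),(104,Z10009163),(167,Z10009163),(111,Z10009163),(32,Z10009163),(2,Z10009163)],[]⟩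
noncomputable def E10009255 : Env := ⟨5,0,[(34,Z10009163),(239,Z10009163),(135,Z10009163),(74,Z10009163),(130,Z10009163),(79,Z10009163),(237,Z10009163),(32,Z10009163)],[]⟩
noncomputable def E10009600 : Env := ⟨5,0,[(1,Z10007468),(2,Z10009163),(3,Z10007468),(5,Z10009163),(7,Z10009163),(8,Z10009163),(9,Z10007468),(10,Z10009163),(16,Z10009163),(17,Z10007468),(18,Z10009163),(32,Z10009163),(62,Z10007468),(64,Z10009163),(128,Z10009163)],[]⟩
noncomputable def E10008140 : Env := ⟨5,261,[(309,Z10008132)],[]⟩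
noncomputable def E10011088 : Env := ⟨5,5,[],[]⟩
noncomputable def E10011092 : Env := ⟨5,261,[],[]⟩
noncomputable def E10015115 : Env := ⟨5,0,[(1,Z10014711),(2,Z10015033),(4,Z10014711),(5,Z10015033),(6,Z10014711),(7,Z10015033),(8,Z10015033),(10,Z10015033),(12,Z10014711),(16,Z10015033),(18,Z10015033),(20,Z10014711),(45,Z10015033),(64,Z10015033),(91,Z10014711),(139,Z10015033)],[]⟩
noncomputable def E10015133 : Env := ⟨5,0,[(8,Z10015033),(10,Z10015033),(17,Z10014711),(19,Z10014711)],[]⟩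
noncomputable def E10007868 : Env := ⟨5,0,[(74,Z10007519),(111,Z10007519),(66,Z10007519),(103,Z10007519),(42,Z10007519),(15,Z10007519),(160,Z10007519),(133,Z10007519)],[]⟩
noncomputable def E10009991 : Env := ⟨5,261,[(5,Z10009987),(1,Z10007468)],[]⟩
noncomputable def E10009677 : Env := ⟨5,5,[(5,Z10009673),(1,Z10007468)],[]⟩
noncomputable def E10009684 : Env := ⟨5,261,[(1,Z10007468)],[]⟩
noncomputable def E10009694 : Env := ⟨5,261,[(5,Z10009682)],[]⟩
noncomputable def E10015528 : Env := ⟨5,0,[(1,Z10015454),(2,Z10015477),(4,Z10015454),(5,Z10015477),(7,Z10015477),(8,Z10015477),(10,Z10015477),(16,Z10015477),(18,Z10015477),(20,Z10015454),(22,Z10015454),(32,Z10015477),(98,Z10015477)],[]⟩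
noncomputable def E10014820 : Env := ⟨5,0,[(1,Z10014711),(2,Z10014742),(4,Z10014711),(5,Z10014742),(6,Z10014711),(7,Z10014742),(8,Z10014742),(10,Z10014742),(12,Z10014711),(16,Z10014742),(18,Z10014742),(20,Z10014711),(45,Z10014742),(64,Z10014742),(91,Z10014711),(128,Z10014742)],[]⟩
noncomputable def E10014826 : Env := ⟨5,0,[(1,Z10014711)],[]⟩
noncomputable def E10012953 : Env := ⟨5,0,[(173,Z10012930),(111,Z10012930),(272,Z10012930),(466,Z10012930)],[]⟩
noncomputable def E10002515 : Env := ⟨5,0,[(1,Z10002486),(2,Z10002497),(8,Z10002497),(10,Z10002497),(16,Z10002497),(18,Z10002497)],[]⟩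
noncomputable def E10016886 : Env := ⟨5,0,[(1,Z10015454),(2,Z10016838),(4,Z10015454),(5,Z10016838),(7,Z10016838),(8,Z10016838),(10,Z10016838),(16,Z10016838),(18,Z10016838),(20,Z10015454),(22,Z10015454),(32,Z10016838),(96,Z10016838)],[]⟩

end Cfsg.Lib.D8
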