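import Cfsg.Agent.D8.R1C1
import Cfsg.Agent.D8.R1C2
import Cfsg.Agent.D8.R1C3
import Cfsg.Agent.D8.R1C4
import Cfsg.Agent.D8.R1C5
import Cfsg.Agent.D8.R1C6
import Cfsg.Agent.D8.R1C7
import Cfsg.Agent.D8.R1C8
import Cfsg.Agent.D8.R1C9
import Cfsg.Agent.D8.W2

set_option autoImplicit false
set_option maxRecDepth 100000
set_option linter.all false
set_option Elab.async false

namespace Cfsg.Lib.D8

theorem n20014246 {G : Type*} [Group G] [Finite G] {X : Subgroup G} {gs : List G} (S : St X 6 D20234 gs)
    (f1 : FusC gs ([1,2,4,8,16,96],[11,2,14,8,121,104]))
    (f2 : FusC gs ([1,2,4,8,16,96,160],[104,2,109,123,10,11,160]))
    (f3 : FusC gs ([104,2,109,123,9,128],[104,123,109,121,154,9]))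
    (f4 : FusC gs ([104,2,109,123,9,128,33,257],[106,123,111,121,225,9,319,206]))
    (f5 : FusC gs ([1,2,4,8,16,96,160,512],[104,2,109,123,10,11,160,619]))
    (f6 : FusC gs ([104,2,109,123,9,128,33,257,513],[106,123,111,121,225,9,319,206,634])) : Out X (evL gs 1) := by
  have C := W.ch ok20234 S.sat
  have h20014248 := W.big c20014247 S C
  have h20014250 := W.big c20014249 S C
  have h20014252 := W.big c20014251 S C
  have h20014254 := W.big c20014253 S C
  have h20014256 : FusC gs ([8],[2]) := W.der c20014255 C ⟨S.r1, trivial⟩
  have h20014257 : IsConj (evL gs 8) (evL gs 2) := FusC.conj h20014256
  have h20014258 : ¬ IsConj (evL gs 8) (evL gs 1) := nc_tr' h20014248 h20014257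
  have h20014260 : FusC gs ([13],[5]) := W.der c20014259 C ⟨S.r2, trivial⟩
  have h20014261 : IsConj (evL gs 13) (evL gs 5) := FusC.conj h20014260
  have h20014262 : ¬ IsConj (evL gs 13) (evL gs 1) := nc_tr' h20014250 h20014261
  have h20014264 : FusC gs ([121],[2]) := W.der c20014263 C ⟨f3, trivial⟩
  have h20014265 : IsConj (evL gs 121) (evL gs 2) := FusC.conj h20014264
  have h20014266 : ¬ IsConj (evL gs 121) (evL gs 1) := nc_tr' h20014248 h20014265
  have h20014268 : FusC gs ([173],[5]) := W.der c20014267 C ⟨f2, S.r2, trivial⟩
  have h20014269 : IsConj (evL gs 173) (evL gs 5) := FusC.conj h20014268
  have h20014270 : ¬ IsConj (evL gs 173) (evL gs 1) := nc_tr' h20014250 h20014269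
  have h20014272 : FusC gs ([257],[5]) := W.der c20014271 C ⟨f4, f2, S.r2, trivial⟩
  have h20014273 : IsConj (evL gs 257) (evL gs 5) := FusC.conj h20014272
  have h20014274 : ¬ IsConj (evL gs 257) (evL gs 1) := nc_tr' h20014250 h20014273
  have h20014276 : FusC gs ([284],[33]) := W.der c20014275 C ⟨f4, trivial⟩
  have h20014277 : IsConj (evL gs 284) (evL gs 33) := FusC.conj h20014276
  have h20014278 : ¬ IsConj (evL gs 284) (evL gs 1) := nc_tr' h20014252 h20014277
  have h20014280 : FusC gs ([512],[520]) := W.der c20014279 C ⟨f5, trivial⟩
  have h20014281 : IsConj (evL gs 512) (evL gs 520) := FusC.conj h20014280
  have h20014282 : ¬ IsConj (evL gs 512) (evL gs 1) := nc_tr' h20014254 h20014281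
  have h20014284 : FusC gs ([528],[520]) := W.der c20014283 C ⟨f5, trivial⟩
  have h20014285 : IsConj (evL gs 528) (evL gs 520) := FusC.conj h20014284
  have h20014286 : ¬ IsConj (evL gs 528) (evL gs 1) := nc_tr' h20014254 h20014285
  have h20014288 : FusC gs ([641],[520]) := W.der c20014287 C ⟨f6, trivial⟩
  have h20014289 : IsConj (evL gs 641) (evL gs 520) := FusC.conj h20014288
  have h20014290 : ¬ IsConj (evL gs 641) (evL gs 1) := nc_tr' h20014254 h20014289
  have h20014292 : FusC gs ([672],[520]) := W.der c20014291 C ⟨f5, trivial⟩
  have h20014293 : IsConj (evL gs 672) (evL gs 520) := FusC.conj h20014292
  have h20014294 : ¬ IsConj (evL gs 672) (evL gs 1) := nc_tr' h20014254 h20014293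
  have h20014296 : FusC gs ([788],[520]) := W.der c20014295 C ⟨f6, f5, trivial⟩
  have h20014297 : IsConj (evL gs 788) (evL gs 520) := FusC.conj h20014296
  have h20014298 : ¬ IsConj (evL gs 788) (evL gs 1) := nc_tr' h20014254 h20014297
  have h20014300 := W.cf c20014299 C ⟨h20014248, h20014250, h20014258, h20014262, h20014252, h20014266, h20014270, h20014274, h20014278, h20014282, h20014254, h20014286, h20014290, h20014294, h20014298, trivial⟩
  have h20014301 : EnvOK E20014166 gs := ⟨S.kap, xp0 gs, ⟨h20014300, trivial⟩, trivial⟩
  have h20014557 := nc_tr h20014258 (IsConj.refl _)
  have h20014559 : FusC gs ([9],[1]) := W.der c20014558 C ⟨f1, trivial⟩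
  have h20014560 : IsConj (evL gs 9) (evL gs 1) := FusC.conj h20014559
  have h20014561 := nc_tr h20014258 h20014560
  have h20014563 := W.cf c20014562 C ⟨h20014557, h20014561, trivial⟩
  have h20014564 := nc_tr h20014262 (IsConj.refl _)
  have h20014565 := nc_tr h20014262 h20014560
  have h20014567 := W.cf c20014566 C ⟨h20014564, h20014565, trivial⟩
  have h20014569 : FusC gs ([8],[16]) := W.der c20014568 C trivial
  have h20014570 : IsConj (evL gs 8) (evL gs 16) := FusC.conj h20014569
  have h20014571 := CF.fus h20014563 h20014570
  have h20014573 : FusC gs ([13],[21]) := W.der c20014572 C trivial
  have h20014574 : IsConj (evL gs 13) (evL gs 21) := FusC.conj h20014573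
  have h20014575 := CF.fus h20014567 h20014574
  have h20014577 : FusC gs ([1],[32]) := W.der c20014576 C trivial
  have h20014578 : IsConj (evL gs 1) (evL gs 32) := FusC.conj h20014577
  have h20014579 := CF.fus h20014300 h20014578
  have h20014581 : FusC gs ([1],[92]) := W.der c20014580 C trivial
  have h20014582 : IsConj (evL gs 1) (evL gs 92) := FusC.conj h20014581
  have h20014583 := CF.fus h20014300 h20014582
  have h20014584 := nc_tr h20014252 (IsConj.refl _)
  have h20014585 := nc_tr h20014252 h20014560
  have h20014587 := W.cf c20014586 C ⟨h20014584, h20014585, trivial⟩
  have h20016190 := nc_tr h20014250 (IsConj.refl _)
  have h20016192 : FusC gs ([8],[18]) := W.der c20016191 C trivial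
  have h20016193 : IsConj (evL gs 8) (evL gs 18) := FusC.conj h20016192
  have h20016194 := CF.fus h20014563 h20016193
  have h20016196 : FusC gs ([13],[23]) := W.der c20016195 C trivial
  have h20016197 : IsConj (evL gs 13) (evL gs 23) := FusC.conj h20016196
  have h20016198 := CF.fus h20014567 h20016197
  have h20016199 := nc_tr h20014248 (IsConj.refl _)
  have h20016200 := nc_tr h20014248 h20014560
  have h20016202 := W.cf c20016201 C ⟨h20016199, h20016200, trivial⟩
  have h20016203 := nc_tr h20014250 (IsConj.refl _)
  have h20016204 := nc_tr h20014250 h20014560
  have h20016206 := W.cf c20016205 C ⟨h20016203, h20016204, trivial⟩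
  have h20016208 : FusC gs ([5],[7]) := W.der c20016207 C trivial
  have h20016209 : IsConj (evL gs 5) (evL gs 7) := FusC.conj h20016208
  have h20016210 := CF.fus h20016206 h20016209
  have h20016216 := nc_tr h20014250 h20014560
  have h20016222 := nc_tr h20014290 (IsConj.refl _)
  have h20016223 := nc_tr h20014290 h20014560
  have h20016225 := W.cf c20016224 C ⟨h20016222, h20016223, trivial⟩
  have h20016227 : FusC gs ([641],[643]) := W.der c20016226 C trivial
  have h20016228 : IsConj (evL gs 641) (evL gs 643) := FusC.conj h20016227
  have h20016229 := CF.fus h20016225 h20016228
  have h20016231 : FusC gs ([641],[646]) := W.der c20016230 C trivial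
  have h20016232 : IsConj (evL gs 641) (evL gs 646) := FusC.conj h20016231
  have h20016233 := CF.fus h20016225 h20016232
  have h20016235 : FusC gs ([641],[741]) := W.der c20016234 C trivial
  have h20016236 : IsConj (evL gs 641) (evL gs 741) := FusC.conj h20016235
  have h20016237 := CF.fus h20016225 h20016236
  have h20016239 : FusC gs ([641],[736]) := W.der c20016238 C trivial
  have h20016240 : IsConj (evL gs 641) (evL gs 736) := FusC.conj h20016239
  have h20016241 := CF.fus h20016225 h20016240
  have h20016242 := nc_tr h20014266 (IsConj.refl _)
  have h20016243 := nc_tr h20014266 h20014560
  have h20016245 := W.cf c20016244 C ⟨h20016242, h20016243, trivial⟩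
  have h20016247 : FusC gs ([5],[124]) := W.der c20016246 C trivial
  have h20016248 : IsConj (evL gs 5) (evL gs 124) := FusC.conj h20016247
  have h20016249 := CF.fus h20016206 h20016248
  have h20016250 := nc_tr h20014286 (IsConj.refl _)
  have h20016251 := nc_tr h20014286 h20014560
  have h20016253 := W.cf c20016252 C ⟨h20016250, h20016251, trivial⟩
  have h20016255 : FusC gs ([528],[617]) := W.der c20016254 C trivial
  have h20016256 : IsConj (evL gs 528) (evL gs 617) := FusC.conj h20016255
  have h20016257 := CF.fus h20016253 h20016256
  have h20016259 : FusC gs ([528],[620]) := W.der c20016258 C trivial
  have h20016260 : IsConj (evL gs 528) (evL gs 620) := FusC.conj h20016259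
  have h20016261 := CF.fus h20016253 h20016260
  have h20016272 := nc_tr h20014282 (IsConj.refl _)
  have h20016273 := nc_tr h20014282 h20014560
  have h20016275 := W.cf c20016274 C ⟨h20016272, h20016273, trivial⟩
  have h20016277 : FusC gs ([33],[35]) := W.der c20016276 C trivial
  have h20016278 : IsConj (evL gs 33) (evL gs 35) := FusC.conj h20016277
  have h20016279 := CF.fus h20014587 h20016278
  have h20016281 : FusC gs ([641],[644]) := W.der c20016280 C trivial
  have h20016282 : IsConj (evL gs 641) (evL gs 644) := FusC.conj h20016281
  have h20016283 := CF.fus h20016225 h20016282
  have h20016284 := nc_tr h20014274 (IsConj.refl _)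
  have h20016285 := nc_tr h20014274 h20014560
  have h20016287 := W.cf c20016286 C ⟨h20016284, h20016285, trivial⟩
  have h20016289 : FusC gs ([257],[259]) := W.der c20016288 C trivial
  have h20016290 : IsConj (evL gs 257) (evL gs 259) := FusC.conj h20016289
  have h20016291 := CF.fus h20016287 h20016290
  have h20016324 : EnvOK E20016323 gs := ⟨S.kap, xp0 gs, ⟨h20014300, h20014563, h20014567, trivial⟩, trivial⟩
  have h20016354 : FusC gs ([1],[4]) := W.der c20016353 C trivial
  have h20016355 : IsConj (evL gs 1) (evL gs 4) := FusC.conj h20016354
  have h20016356 := CF.fus h20014300 h20016355
  have h20019859 : FusC gs ([1],[19]) := W.der c20019858 C ⟨S.r2, trivial⟩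
  have h20019860 : IsConj (evL gs 1) (evL gs 19) := FusC.conj h20019859
  have h20019861 := CF.fus h20014300 h20019860
  have h20019863 : FusC gs ([512],[519]) := W.der c20019862 C trivial
  have h20019864 : IsConj (evL gs 512) (evL gs 519) := FusC.conj h20019863
  have h20019865 := CF.fus h20016275 h20019864
  rcases W.sylm c20014302 S C h20014301 with h20014303 | hh | hh
  · skip
    have h20014543 := W.msy c20014542 C h20014303
    have h20016269 := W.msy c20016268 C h20014303
    have h20016322 := W.msy c20016321 C h20014303
    have h20016327 := W.msy c20016326 C h20014303
    have h20016350 := W.msy c20016349 C h20014303
    have hh := W.xs c20014304 S C ⟨S.r1, S.r2, f1, f3, f4, trivial⟩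
    rcases hh with h20014305 | hh
    · skip
      have hh := W.tt c20014307 S C h20014301 h20014303 h20014305
      exact False.elim hh
    rcases hh with h20014308 | hh
    · skip
      have h20014547 : EnvOK E20014546 gs := ⟨S.kap, XC.xp S h20014308, ⟨h20014300, trivial⟩, trivial⟩
      have h20014589 : EnvOK E20014588 gs := ⟨S.kap, XC.xp S h20014308, ⟨h20014300, h20014563, h20014567, h20014571, h20014575, h20014579, h20014583, h20014587, trivial⟩, trivial⟩
      have h20016212 : EnvOK E20016211 gs := ⟨S.kap, XC.xp S h20014308, ⟨h20016194, h20016198, h20016202, h20016210, trivial⟩, trivial⟩
      have h20016214 := W.ext2 c20016213 C h20016212 h20014303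
      have h20016215 : ¬ IsConj (evL gs 2) (evL gs 5) := nc2 h20016214 (IsConj.refl _) (IsConj.refl _)
      have h20016218 := W.ext2 c20016217 C h20016212 h20014303
      have h20016219 : ¬ IsConj (evL gs 121) (evL gs 5) := nc2 h20016218 (IsConj.refl _) (IsConj.refl _)
      have h20016221 := W.cf c20016220 C ⟨h20016190, h20016215, h20016216, h20016219, trivial⟩
      have h20016263 : EnvOK E20016262 gs := ⟨S.kap, XC.xp S h20014308, ⟨h20016221, h20016229, h20016233, h20016202, h20016210, h20016237, h20016241, h20016245, h20016249, h20016257, h20016261, trivial⟩, trivial⟩
      have h20016293 : EnvOK E20016292 gs := ⟨S.kap, XC.xp S h20014308, ⟨h20014563, h20016275, h20014571, h20014575, h20014587, h20016279, h20016225, h20016283, h20016287, h20016291, trivial⟩, trivial⟩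
      have h20016358 : EnvOK E20016357 gs := ⟨S.kap, XC.xp S h20014308, ⟨h20014300, h20016356, trivial⟩, trivial⟩
      have hh := W.tt c20016266 S C h20016263 h20014303 h20014308
      rcases hh with h20014541 | hh
      · skip
        have h20014545 : FusC gs ([5,7,124],[123,121,7]) := W.der c20014544 C ⟨h20014541, f5, trivial⟩
        have hh := W.frat c20014548 C h20014547 h20014543 h20014545
        exact False.elim hh
      rcases hh with h20014549 | hh
      · skip
        have h20014551 : FusC gs ([5,7,124],[121,123,5]) := W.der c20014550 C ⟨h20014549, f5, trivial⟩
        have hh := W.frat c20014552 C h20014547 h20014543 h20014551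
        exact False.elim hh
      rcases hh with h20014553 | hh
      · skip
        have h20014555 : FusC gs ([5,7,124],[124,126,121]) := W.der c20014554 C ⟨h20014553, trivial⟩
        have hh := W.frat c20014590 C h20014589 h20014543 h20014555
        exact False.elim hh
      rcases hh with h20014591 | hh
      · skip
        have h20014593 : FusC gs ([5,7,124],[124,126,123]) := W.der c20014592 C ⟨h20014591, trivial⟩
        have hh := W.frat c20014594 C h20014589 h20014543 h20014593
        exact False.elim hh
      rcases hh with h20014596 | hh
      · skip
        have h20014598 : FusC gs ([5,7,124],[123,121,7]) := W.der c20014597 C ⟨h20014596, f5, trivial⟩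
        have hh := W.frat c20014599 C h20014547 h20014543 h20014598
        exact False.elim hh
      rcases hh with h20014600 | hh
      · skip
        have h20014602 : FusC gs ([5,7,124],[121,123,5]) := W.der c20014601 C ⟨h20014600, f5, trivial⟩
        have hh := W.frat c20014603 C h20014547 h20014543 h20014602
        exact False.elim hh
      rcases hh with h20014604 | hh
      · skip
        have h20014606 : FusC gs ([5,7,124],[124,126,121]) := W.der c20014605 C ⟨h20014604, trivial⟩
        have hh := W.frat c20014607 C h20014589 h20014543 h20014606
        exact False.elim hh
      rcases hh with h20014608 | hh
      · skip
        have h20014610 : FusC gs ([5,7,124],[124,126,123]) := W.der c20014609 C ⟨h20014608, trivial⟩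
        have hh := W.frat c20014611 C h20014589 h20014543 h20014610
        exact False.elim hh
      rcases hh with h20014616 | hh
      · skip
        have h20014618 : FusC gs ([5,7,124],[124,126,121]) := W.der c20014617 C ⟨h20014616, trivial⟩
        have hh := W.frat c20014619 C h20014589 h20014543 h20014618
        exact False.elim hh
      rcases hh with h20014620 | hh
      · skip
        have h20014622 : FusC gs ([5,7,124],[124,126,123]) := W.der c20014621 C ⟨h20014620, trivial⟩
        have hh := W.frat c20014623 C h20014589 h20014543 h20014622
        exact False.elim hh
      rcases hh with h20014627 | hh
      · skip
        have h20014629 : FusC gs ([5,7,124],[124,126,121]) := W.der c20014628 C ⟨h20014627, trivial⟩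
        have hh := W.frat c20014630 C h20014589 h20014543 h20014629
        exact False.elim hh
      rcases hh with h20014631 | hh
      · skip
        have h20014633 : FusC gs ([5,7,124],[124,126,123]) := W.der c20014632 C ⟨h20014631, trivial⟩
        have hh := W.frat c20014634 C h20014589 h20014543 h20014633
        exact False.elim hh
      rcases hh with h20014884 | hh
      · skip
        have h20014886 : FusC gs ([5,7,124],[123,121,7]) := W.der c20014885 C ⟨h20014884, f5, trivial⟩
        have hh := W.frat c20014887 C h20014547 h20014543 h20014886
        exact False.elim hh
      rcases hh with h20014888 | hh
      · skip
        have h20014890 : FusC gs ([5,7,124],[121,123,5]) := W.der c20014889 C ⟨h20014888, f5, trivial⟩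
        have hh := W.frat c20014891 C h20014547 h20014543 h20014890
        exact False.elim hh
      rcases hh with h20014892 | hh
      · skip
        have h20014894 : FusC gs ([5,7,124],[124,126,121]) := W.der c20014893 C ⟨h20014892, trivial⟩
        have hh := W.frat c20014895 C h20014589 h20014543 h20014894
        exact False.elim hh
      rcases hh with h20014896 | hh
      · skip
        have h20014898 : FusC gs ([5,7,124],[124,126,123]) := W.der c20014897 C ⟨h20014896, trivial⟩
        have hh := W.frat c20014899 C h20014589 h20014543 h20014898
        exact False.elim hh
      rcases hh with h20014901 | hh
      · skip
        have h20014903 : FusC gs ([5,7,124],[123,121,7]) := W.der c20014902 C ⟨h20014901, f5, trivial⟩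
        have hh := W.frat c20014904 C h20014547 h20014543 h20014903
        exact False.elim hh
      rcases hh with h20014905 | hh
      · skip
        have h20014907 : FusC gs ([5,7,124],[121,123,5]) := W.der c20014906 C ⟨h20014905, f5, trivial⟩
        have hh := W.frat c20014908 C h20014547 h20014543 h20014907
        exact False.elim hh
      rcases hh with h20014909 | hh
      · skip
        have h20014911 : FusC gs ([5,7,124],[124,126,121]) := W.der c20014910 C ⟨h20014909, trivial⟩
        have hh := W.frat c20014912 C h20014589 h20014543 h20014911
        exact False.elim hh
      rcases hh with h20014913 | hh
      · skip
        have h20014915 : FusC gs ([5,7,124],[124,126,123]) := W.der c20014914 C ⟨h20014913, trivial⟩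
        have hh := W.frat c20014916 C h20014589 h20014543 h20014915
        exact False.elim hh
      rcases hh with h20014921 | hh
      · skip
        have h20014923 : FusC gs ([5,7,124],[124,126,121]) := W.der c20014922 C ⟨h20014921, trivial⟩
        have hh := W.frat c20014924 C h20014589 h20014543 h20014923
        exact False.elim hh
      rcases hh with h20014925 | hh
      · skip
        have h20014927 : FusC gs ([5,7,124],[124,126,123]) := W.der c20014926 C ⟨h20014925, trivial⟩
        have hh := W.frat c20014928 C h20014589 h20014543 h20014927
        exact False.elim hh
      rcases hh with h20014932 | hh
      · skip
        have h20014934 : FusC gs ([5,7,124],[124,126,121]) := W.der c20014933 C ⟨h20014932, trivial⟩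
        have hh := W.frat c20014935 C h20014589 h20014543 h20014934
        exact False.elim hh
      rcases hh with h20014936 | hh
      · skip
        have h20014938 : FusC gs ([5,7,124],[124,126,123]) := W.der c20014937 C ⟨h20014936, trivial⟩
        have hh := W.frat c20014939 C h20014589 h20014543 h20014938
        exact False.elim hh
      rcases hh with h20015193 | hh
      · skip
        have h20015195 : FusC gs ([5,7,124],[124,126,123]) := W.der c20015194 C ⟨h20015193, f5, trivial⟩
        have hh := W.frat c20015196 C h20014589 h20014543 h20015195
        exact False.elim hh
      rcases hh with h20015197 | hh
      · skip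
        have h20015199 : FusC gs ([5,7,124],[126,124,123]) := W.der c20015198 C ⟨h20015197, f5, trivial⟩
        have hh := W.frat c20015200 C h20014589 h20014543 h20015199
        exact False.elim hh
      rcases hh with h20015201 | hh
      · skip
        have h20015203 : FusC gs ([5,7,124],[124,126,121]) := W.der c20015202 C ⟨h20015201, trivial⟩
        have hh := W.frat c20015204 C h20014589 h20014543 h20015203
        exact False.elim hh
      rcases hh with h20015205 | hh
      · skip
        have h20015207 : FusC gs ([5,7,124],[124,126,123]) := W.der c20015206 C ⟨h20015205, trivial⟩
        have hh := W.frat c20015208 C h20014589 h20014543 h20015207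
        exact False.elim hh
      rcases hh with h20015210 | hh
      · skip
        have h20015212 : FusC gs ([5,7,124],[124,126,123]) := W.der c20015211 C ⟨h20015210, f5, trivial⟩
        have hh := W.frat c20015213 C h20014589 h20014543 h20015212
        exact False.elim hh
      rcases hh with h20015214 | hh
      · skip
        have h20015216 : FusC gs ([5,7,124],[126,124,123]) := W.der c20015215 C ⟨h20015214, f5, trivial⟩
        have hh := W.frat c20015217 C h20014589 h20014543 h20015216
        exact False.elim hh
      rcases hh with h20015218 | hh
      · skip
        have h20015220 : FusC gs ([5,7,124],[124,126,121]) := W.der c20015219 C ⟨h20015218, trivial⟩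
        have hh := W.frat c20015221 C h20014589 h20014543 h20015220
        exact False.elim hh
      rcases hh with h20015222 | hh
      · skip
        have h20015224 : FusC gs ([5,7,124],[124,126,123]) := W.der c20015223 C ⟨h20015222, trivial⟩
        have hh := W.frat c20015225 C h20014589 h20014543 h20015224
        exact False.elim hh
      rcases hh with h20015230 | hh
      · skip
        have h20015232 : FusC gs ([5,7,124],[124,126,121]) := W.der c20015231 C ⟨h20015230, trivial⟩
        have hh := W.frat c20015233 C h20014589 h20014543 h20015232
        exact False.elim hh
      rcases hh with h20015234 | hh
      · skip
        have h20015236 : FusC gs ([5,7,124],[124,126,123]) := W.der c20015235 C ⟨h20015234, trivial⟩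
        have hh := W.frat c20015237 C h20014589 h20014543 h20015236
        exact False.elim hh
      rcases hh with h20015241 | hh
      · skip
        have h20015243 : FusC gs ([5,7,124],[124,126,121]) := W.der c20015242 C ⟨h20015241, trivial⟩
        have hh := W.frat c20015244 C h20014589 h20014543 h20015243
        exact False.elim hh
      rcases hh with h20015245 | hh
      · skip
        have h20015247 : FusC gs ([5,7,124],[124,126,123]) := W.der c20015246 C ⟨h20015245, trivial⟩
        have hh := W.frat c20015248 C h20014589 h20014543 h20015247
        exact False.elim hh
      rcases hh with h20015498 | hh
      · skip
        have h20015500 : FusC gs ([5,7,124],[124,126,123]) := W.der c20015499 C ⟨h20015498, f5, trivial⟩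
        have hh := W.frat c20015501 C h20014589 h20014543 h20015500
        exact False.elim hh
      rcases hh with h20015502 | hh
      · skip
        have h20015504 : FusC gs ([5,7,124],[126,124,123]) := W.der c20015503 C ⟨h20015502, f5, trivial⟩
        have hh := W.frat c20015505 C h20014589 h20014543 h20015504
        exact False.elim hh
      rcases hh with h20015506 | hh
      · skip
        have h20015508 : FusC gs ([5,7,124],[124,126,121]) := W.der c20015507 C ⟨h20015506, trivial⟩
        have hh := W.frat c20015509 C h20014589 h20014543 h20015508
        exact False.elim hh
      rcases hh with h20015510 | hh
      · skip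
        have h20015512 : FusC gs ([5,7,124],[124,126,123]) := W.der c20015511 C ⟨h20015510, trivial⟩
        have hh := W.frat c20015513 C h20014589 h20014543 h20015512
        exact False.elim hh
      rcases hh with h20015515 | hh
      · skip
        have h20015517 : FusC gs ([5,7,124],[124,126,123]) := W.der c20015516 C ⟨h20015515, f5, trivial⟩
        have hh := W.frat c20015518 C h20014589 h20014543 h20015517
        exact False.elim hh
      rcases hh with h20015519 | hh
      · skip
        have h20015521 : FusC gs ([5,7,124],[126,124,123]) := W.der c20015520 C ⟨h20015519, f5, trivial⟩
        have hh := W.frat c20015522 C h20014589 h20014543 h20015521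
        exact False.elim hh
      rcases hh with h20015523 | hh
      · skip
        have h20015525 : FusC gs ([5,7,124],[124,126,121]) := W.der c20015524 C ⟨h20015523, trivial⟩
        have hh := W.frat c20015526 C h20014589 h20014543 h20015525
        exact False.elim hh
      rcases hh with h20015527 | hh
      · skip
        have h20015529 : FusC gs ([5,7,124],[124,126,123]) := W.der c20015528 C ⟨h20015527, trivial⟩
        have hh := W.frat c20015530 C h20014589 h20014543 h20015529
        exact False.elim hh
      rcases hh with h20015535 | hh
      · skip
        have h20015537 : FusC gs ([5,7,124],[124,126,121]) := W.der c20015536 C ⟨h20015535, trivial⟩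
        have hh := W.frat c20015538 C h20014589 h20014543 h20015537
        exact False.elim hh
      rcases hh with h20015539 | hh
      · skip
        have h20015541 : FusC gs ([5,7,124],[124,126,123]) := W.der c20015540 C ⟨h20015539, trivial⟩
        have hh := W.frat c20015542 C h20014589 h20014543 h20015541
        exact False.elim hh
      rcases hh with h20015546 | hh
      · skip
        have h20015548 : FusC gs ([5,7,124],[124,126,121]) := W.der c20015547 C ⟨h20015546, trivial⟩
        have hh := W.frat c20015549 C h20014589 h20014543 h20015548
        exact False.elim hh
      rcases hh with h20015550 | hh
      · skip
        have h20015552 : FusC gs ([5,7,124],[124,126,123]) := W.der c20015551 C ⟨h20015550, trivial⟩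
        have hh := W.frat c20015553 C h20014589 h20014543 h20015552
        exact False.elim hh
      rcases hh with h20015665 | hh
      · skip
        have h20015667 : FusC gs ([5,7,124],[124,126,121]) := W.der c20015666 C ⟨h20015665, trivial⟩
        have hh := W.frat c20015668 C h20014589 h20014543 h20015667
        exact False.elim hh
      rcases hh with h20015669 | hh
      · skip
        have h20015671 : FusC gs ([5,7,124],[124,126,123]) := W.der c20015670 C ⟨h20015669, trivial⟩
        have hh := W.frat c20015672 C h20014589 h20014543 h20015671
        exact False.elim hh
      rcases hh with h20015676 | hh
      · skip
        have h20015678 : FusC gs ([5,7,124],[124,126,121]) := W.der c20015677 C ⟨h20015676, trivial⟩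
        have hh := W.frat c20015679 C h20014589 h20014543 h20015678
        exact False.elim hh
      rcases hh with h20015680 | hh
      · skip
        have h20015682 : FusC gs ([5,7,124],[124,126,123]) := W.der c20015681 C ⟨h20015680, trivial⟩
        have hh := W.frat c20015683 C h20014589 h20014543 h20015682
        exact False.elim hh
      rcases hh with h20015686 | hh
      · skip
        have h20015688 : FusC gs ([5,7,124],[126,124,121]) := W.der c20015687 C ⟨h20015686, f5, trivial⟩
        have hh := W.frat c20015689 C h20014589 h20014543 h20015688
        exact False.elim hh
      rcases hh with h20015690 | hh
      · skip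
        have h20015692 : FusC gs ([5,7,124],[124,126,121]) := W.der c20015691 C ⟨h20015690, f5, trivial⟩
        have hh := W.frat c20015693 C h20014589 h20014543 h20015692
        exact False.elim hh
      rcases hh with h20015694 | hh
      · skip
        have h20015696 : FusC gs ([5,7,124],[124,126,121]) := W.der c20015695 C ⟨h20015694, trivial⟩
        have hh := W.frat c20015697 C h20014589 h20014543 h20015696
        exact False.elim hh
      rcases hh with h20015698 | hh
      · skip
        have h20015700 : FusC gs ([5,7,124],[124,126,123]) := W.der c20015699 C ⟨h20015698, trivial⟩
        have hh := W.frat c20015701 C h20014589 h20014543 h20015700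
        exact False.elim hh
      rcases hh with h20015703 | hh
      · skip
        have h20015705 : FusC gs ([5,7,124],[126,124,121]) := W.der c20015704 C ⟨h20015703, f5, trivial⟩
        have hh := W.frat c20015706 C h20014589 h20014543 h20015705
        exact False.elim hh
      rcases hh with h20015707 | hh
      · skip
        have h20015709 : FusC gs ([5,7,124],[124,126,121]) := W.der c20015708 C ⟨h20015707, f5, trivial⟩
        have hh := W.frat c20015710 C h20014589 h20014543 h20015709
        exact False.elim hh
      rcases hh with h20015711 | hh
      · skip
        have h20015713 : FusC gs ([5,7,124],[124,126,121]) := W.der c20015712 C ⟨h20015711, trivial⟩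
        have hh := W.frat c20015714 C h20014589 h20014543 h20015713
        exact False.elim hh
      rcases hh with h20015715 | hh
      · skip
        have h20015717 : FusC gs ([5,7,124],[124,126,123]) := W.der c20015716 C ⟨h20015715, trivial⟩
        have hh := W.frat c20015718 C h20014589 h20014543 h20015717
        exact False.elim hh
      rcases hh with h20015991 | hh
      · skip
        have h20015993 : FusC gs ([5,7,124],[124,126,121]) := W.der c20015992 C ⟨h20015991, trivial⟩
        have hh := W.frat c20015994 C h20014589 h20014543 h20015993
        exact False.elim hh
      rcases hh with h20015995 | hh
      · skip
        have h20015997 : FusC gs ([5,7,124],[124,126,123]) := W.der c20015996 C ⟨h20015995, trivial⟩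
        have hh := W.frat c20015998 C h20014589 h20014543 h20015997
        exact False.elim hh
      rcases hh with h20016002 | hh
      · skip
        have h20016004 : FusC gs ([5,7,124],[124,126,121]) := W.der c20016003 C ⟨h20016002, trivial⟩
        have hh := W.frat c20016005 C h20014589 h20014543 h20016004
        exact False.elim hh
      rcases hh with h20016006 | hh
      · skip
        have h20016008 : FusC gs ([5,7,124],[124,126,123]) := W.der c20016007 C ⟨h20016006, trivial⟩
        have hh := W.frat c20016009 C h20014589 h20014543 h20016008
        exact False.elim hh
      rcases hh with h20016012 | hh
      · skip
        have h20016014 : FusC gs ([5,7,124],[126,124,121]) := W.der c20016013 C ⟨h20016012, f5, trivial⟩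
        have hh := W.frat c20016015 C h20014589 h20014543 h20016014
        exact False.elim hh
      rcases hh with h20016016 | hh
      · skip
        have h20016018 : FusC gs ([5,7,124],[124,126,121]) := W.der c20016017 C ⟨h20016016, f5, trivial⟩
        have hh := W.frat c20016019 C h20014589 h20014543 h20016018
        exact False.elim hh
      rcases hh with h20016020 | hh
      · skip
        have h20016022 : FusC gs ([5,7,124],[124,126,121]) := W.der c20016021 C ⟨h20016020, trivial⟩
        have hh := W.frat c20016023 C h20014589 h20014543 h20016022
        exact False.elim hh
      rcases hh with h20016024 | hh
      · skip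
        have h20016026 : FusC gs ([5,7,124],[124,126,123]) := W.der c20016025 C ⟨h20016024, trivial⟩
        have hh := W.frat c20016027 C h20014589 h20014543 h20016026
        exact False.elim hh
      rcases hh with h20016029 | hh
      · skip
        have h20016031 : FusC gs ([5,7,124],[126,124,121]) := W.der c20016030 C ⟨h20016029, f5, trivial⟩
        have hh := W.frat c20016032 C h20014589 h20014543 h20016031
        exact False.elim hh
      rcases hh with h20016033 | hh
      · skip
        have h20016035 : FusC gs ([5,7,124],[124,126,121]) := W.der c20016034 C ⟨h20016033, f5, trivial⟩
        have hh := W.frat c20016036 C h20014589 h20014543 h20016035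
        exact False.elim hh
      rcases hh with h20016037 | hh
      · skip
        have h20016039 : FusC gs ([5,7,124],[124,126,121]) := W.der c20016038 C ⟨h20016037, trivial⟩
        have hh := W.frat c20016040 C h20014589 h20014543 h20016039
        exact False.elim hh
      rcases hh with h20016041 | hh
      · skip
        have h20016043 : FusC gs ([5,7,124],[124,126,123]) := W.der c20016042 C ⟨h20016041, trivial⟩
        have hh := W.frat c20016044 C h20014589 h20014543 h20016043
        exact False.elim hh
      rcases hh with h20016267 | hh
      · skip
        have h20016271 : FusC gs ([520,525,522,630],[630,124,628,5]) := W.der c20016270 C ⟨h20016267, trivial⟩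
        have hh := W.frat c20016294 C h20016293 h20016269 h20016271
        rcases hh with h20016295 | hh
        · skip
          have h20016312 : FusC gs ([5,7,124],[123,121,7]) := W.der c20016311 C ⟨f2, h20016267, h20016295, trivial⟩
          have hh := W.frat c20016313 C h20014547 h20014543 h20016312
          exact False.elim hh
        rcases hh with h20016296 | hh
        · skip
          have h20016315 : FusC gs ([5,7,124],[123,121,7]) := W.der c20016314 C ⟨f2, h20016267, h20016296, trivial⟩
          have hh := W.frat c20016316 C h20014547 h20014543 h20016315
          exact False.elim hh
        rcases hh with h20016297 | hh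
        · skip
          have h20016344 : FusC gs ([5,7,124],[123,121,7]) := W.der c20016343 C ⟨f2, h20016267, h20016297, trivial⟩
          have hh := W.frat c20016345 C h20014547 h20014543 h20016344
          exact False.elim hh
        rcases hh with h20016298 | hh
        · skip
          have h20016347 : FusC gs ([5,7,124],[123,121,7]) := W.der c20016346 C ⟨f2, h20016267, h20016298, trivial⟩
          have hh := W.frat c20016348 C h20014547 h20014543 h20016347
          exact False.elim hh
        rcases hh with h20016299 | hh
        · skip
          have h20016318 : FusC gs ([528,533,530,622,24,33,137,257],[59,463,57,436,1020,530,352,214]) := W.der c20016317 C ⟨h20016299, f6, trivial⟩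
          have h20016320 : FusC gs ([528,533,530,622,24,33,137,257],[530,535,528,620,24,35,137,378]) := W.der c20016319 C ⟨h20016318, trivial⟩
          rcases W.lift c20016325 S C h20016324 h20016322 h20016320 with hh | hh
          · skip
            exact False.elim hh
          exact False.elim hh
        rcases hh with h20016300 | hh
        · skip
          have h20016329 : FusC gs ([520,525,522,630,8,16,33,129,257],[627,628,625,527,16,8,33,224,257]) := W.der c20016328 C ⟨h20016300, trivial⟩
          rcases W.lift c20016330 S C h20014301 h20016327 h20016329 with hh | hh
          · skip
            exact False.elim hh
          exact False.elim hh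
        rcases hh with h20016301 | hh
        · skip
          have h20016352 : FusC gs ([528,533,530,622,24,33,137,257],[324,286,326,357,69,64,808,466]) := W.der c20016351 C ⟨f6, h20016301, trivial⟩
          have hh := W.frat c20016359 C h20016358 h20016350 h20016352
          exact False.elim hh
        rcases hh with h20016302 | hh
        · skip
          have h20016361 : FusC gs ([520,525,522,630,8,16,33,129,257],[627,628,625,527,16,8,35,224,378]) := W.der c20016360 C ⟨h20016302, trivial⟩
          rcases W.lift c20016362 S C h20014301 h20016327 h20016361 with hh | hh
          · skip
            exact False.elim hh
          exact False.elim hh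
        rcases hh with h20016303 | hh
        · skip
          have h20016364 : FusC gs ([5,7,124],[124,126,123]) := W.der c20016363 C ⟨f1, h20016303, f5, f2, trivial⟩
          have hh := W.frat c20016365 C h20014589 h20014543 h20016364
          exact False.elim hh
        rcases hh with h20016304 | hh
        · skip
          have h20016367 : FusC gs ([5,7,124],[124,126,123]) := W.der c20016366 C ⟨f1, h20016304, f5, f2, trivial⟩
          have hh := W.frat c20016368 C h20014589 h20014543 h20016367
          exact False.elim hh
        rcases hh with h20016305 | hh
        · skip
          have h20016332 : FusC gs ([5,7,124],[124,126,123]) := W.der c20016331 C ⟨f1, h20016305, f5, f2, trivial⟩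
          have hh := W.frat c20016333 C h20014589 h20014543 h20016332
          exact False.elim hh
        rcases hh with h20016306 | hh
        · skip
          have h20016335 : FusC gs ([5,7,124],[124,126,123]) := W.der c20016334 C ⟨f1, h20016306, f5, f2, trivial⟩
          have hh := W.frat c20016336 C h20014589 h20014543 h20016335
          exact False.elim hh
        rcases hh with h20016307 | hh
        · skip
          have h20016370 : FusC gs ([5,7,124],[123,121,7]) := W.der c20016369 C ⟨f1, h20016267, h20016307, trivial⟩
          have hh := W.frat c20016371 C h20014547 h20014543 h20016370
          exact False.elim hh
        rcases hh with h20016308 | hh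
        · skip
          have h20016373 : FusC gs ([5,7,124],[123,121,7]) := W.der c20016372 C ⟨f1, h20016267, h20016308, trivial⟩
          have hh := W.frat c20016374 C h20014547 h20014543 h20016373
          exact False.elim hh
        rcases hh with h20016309 | hh
        · skip
          have h20016338 : FusC gs ([5,7,124],[123,121,7]) := W.der c20016337 C ⟨f1, h20016267, h20016309, trivial⟩
          have hh := W.frat c20016339 C h20014547 h20014543 h20016338
          exact False.elim hh
        rcases hh with h20016310 | hh
        · skip
          have h20016341 : FusC gs ([5,7,124],[123,121,7]) := W.der c20016340 C ⟨f1, h20016267, h20016310, trivial⟩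
          have hh := W.frat c20016342 C h20014547 h20014543 h20016341
          exact False.elim hh
        exact False.elim hh
      rcases hh with h20016375 | hh
      · skip
        have h20016377 : FusC gs ([520,525,522,630],[628,126,630,7]) := W.der c20016376 C ⟨h20016375, trivial⟩
        have hh := W.frat c20016378 C h20016293 h20016269 h20016377
        rcases hh with h20016379 | hh
        · skip
          have h20016422 : FusC gs ([5,7,124],[121,123,7]) := W.der c20016421 C ⟨f2, h20016375, h20016379, trivial⟩
          have hh := W.frat c20016423 C h20014547 h20014543 h20016422
          exact False.elim hh
        rcases hh with h20016380 | hh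
        · skip
          have h20016425 : FusC gs ([5,7,124],[121,123,7]) := W.der c20016424 C ⟨f2, h20016375, h20016380, trivial⟩
          have hh := W.frat c20016426 C h20014547 h20014543 h20016425
          exact False.elim hh
        rcases hh with h20016381 | hh
        · skip
          have h20016396 : FusC gs ([5,7,124],[121,123,7]) := W.der c20016395 C ⟨f2, h20016375, h20016381, trivial⟩
          have hh := W.frat c20016397 C h20014547 h20014543 h20016396
          exact False.elim hh
        rcases hh with h20016382 | hh
        · skip
          have h20016399 : FusC gs ([5,7,124],[121,123,7]) := W.der c20016398 C ⟨f2, h20016375, h20016382, trivial⟩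
          have hh := W.frat c20016400 C h20014547 h20014543 h20016399
          exact False.elim hh
        rcases hh with h20016383 | hh
        · skip
          have h20016402 : FusC gs ([520,525,522,630,8,16,33,129,257],[625,630,627,525,16,8,33,224,259]) := W.der c20016401 C ⟨h20016383, trivial⟩
          rcases W.lift c20016403 S C h20014301 h20016327 h20016402 with hh | hh
          · skip
            exact False.elim hh
          exact False.elim hh
        rcases hh with h20016384 | hh
        · skip
          have h20016405 : FusC gs ([528,533,530,622,24,33,137,257],[57,438,59,461,903,528,281,173]) := W.der c20016404 C ⟨h20016384, f6, trivial⟩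
          have h20016407 : FusC gs ([528,533,530,622,24,33,137,257],[530,535,528,620,24,35,137,378]) := W.der c20016406 C ⟨h20016405, trivial⟩
          rcases W.lift c20016408 S C h20016324 h20016322 h20016407 with hh | hh
          · skip
            exact False.elim hh
          exact False.elim hh
        rcases hh with h20016385 | hh
        · skip
          have h20016428 : FusC gs ([520,525,522,630,8,16,33,129,257],[625,630,627,525,16,8,35,224,376]) := W.der c20016427 C ⟨h20016385, trivial⟩
          rcases W.lift c20016429 S C h20014301 h20016327 h20016428 with hh | hh
          · skip
            exact False.elim hh
          exact False.elim hh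
        rcases hh with h20016386 | hh
        · skip
          have h20016431 : FusC gs ([528,533,530,622,24,33,137,257],[317,359,319,284,71,64,851,464]) := W.der c20016430 C ⟨f6, h20016386, trivial⟩
          have hh := W.frat c20016432 C h20016358 h20016350 h20016431
          exact False.elim hh
        rcases hh with h20016387 | hh
        · skip
          have h20016434 : FusC gs ([5,7,124],[124,126,121]) := W.der c20016433 C ⟨f1, h20016387, f5, f2, trivial⟩
          have hh := W.frat c20016435 C h20014589 h20014543 h20016434
          exact False.elim hh
        rcases hh with h20016388 | hh
        · skip
          have h20016437 : FusC gs ([5,7,124],[124,126,121]) := W.der c20016436 C ⟨f1, h20016388, f5, f2, trivial⟩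
          have hh := W.frat c20016438 C h20014589 h20014543 h20016437
          exact False.elim hh
        rcases hh with h20016389 | hh
        · skip
          have h20016410 : FusC gs ([5,7,124],[124,126,121]) := W.der c20016409 C ⟨f1, h20016389, f5, f2, trivial⟩
          have hh := W.frat c20016411 C h20014589 h20014543 h20016410
          exact False.elim hh
        rcases hh with h20016390 | hh
        · skip
          have h20016413 : FusC gs ([5,7,124],[124,126,121]) := W.der c20016412 C ⟨f1, h20016390, f5, f2, trivial⟩
          have hh := W.frat c20016414 C h20014589 h20014543 h20016413
          exact False.elim hh
        rcases hh with h20016391 | hh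
        · skip
          have h20016416 : FusC gs ([5,7,124],[121,123,7]) := W.der c20016415 C ⟨f1, h20016375, h20016391, trivial⟩
          have hh := W.frat c20016417 C h20014547 h20014543 h20016416
          exact False.elim hh
        rcases hh with h20016392 | hh
        · skip
          have h20016419 : FusC gs ([5,7,124],[121,123,7]) := W.der c20016418 C ⟨f1, h20016375, h20016392, trivial⟩
          have hh := W.frat c20016420 C h20014547 h20014543 h20016419
          exact False.elim hh
        rcases hh with h20016393 | hh
        · skip
          have h20016440 : FusC gs ([5,7,124],[121,123,7]) := W.der c20016439 C ⟨f1, h20016375, h20016393, trivial⟩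
          have hh := W.frat c20016441 C h20014547 h20014543 h20016440
          exact False.elim hh
        rcases hh with h20016394 | hh
        · skip
          have h20016443 : FusC gs ([5,7,124],[121,123,7]) := W.der c20016442 C ⟨f1, h20016375, h20016394, trivial⟩
          have hh := W.frat c20016444 C h20014547 h20014543 h20016443
          exact False.elim hh
        exact False.elim hh
      rcases hh with h20016445 | hh
      · skip
        have h20016447 : FusC gs ([5,7,124],[126,124,123]) := W.der c20016446 C ⟨f1, h20016445, f5, trivial⟩
        have hh := W.frat c20016448 C h20014589 h20014543 h20016447
        exact False.elim hh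
      rcases hh with h20016449 | hh
      · skip
        have h20016451 : FusC gs ([5,7,124],[126,124,121]) := W.der c20016450 C ⟨f1, h20016449, f5, trivial⟩
        have hh := W.frat c20016452 C h20014589 h20014543 h20016451
        exact False.elim hh
      rcases hh with h20016453 | hh
      · skip
        have h20016455 : FusC gs ([520,525,522,630],[7,520,5,627]) := W.der c20016454 C ⟨h20016453, trivial⟩
        have hh := W.frat c20016456 C h20016293 h20016269 h20016455
        rcases hh with h20016457 | hh
        · skip
          have h20016474 : FusC gs ([528,533,530,622,24,33,137,257],[326,33,324,90,777,461,491,670]) := W.der c20016473 C ⟨h20016457, f6, trivial⟩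
          have h20016476 : FusC gs ([528,533,530,622,24,33,137,257],[528,533,530,622,24,33,137,259]) := W.der c20016475 C ⟨h20016474, trivial⟩
          rcases W.lift c20016477 S C h20016324 h20016322 h20016476 with hh | hh
          · skip
            exact False.elim hh
          exact False.elim hh
        rcases hh with h20016458 | hh
        · skip
          have h20016479 : FusC gs ([520,525,522,630,8,16,33,129,257],[520,525,522,630,8,16,33,129,259]) := W.der c20016478 C ⟨h20016458, trivial⟩
          rcases W.lift c20016480 S C h20014301 h20016327 h20016479 with hh | hh
          · skip
            exact False.elim hh
          exact False.elim hh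
        rcases hh with h20016459 | hh
        · skip
          have h20016482 : FusC gs ([528,533,530,622,24,33,137,257],[319,284,317,359,62,66,808,466]) := W.der c20016481 C ⟨f6, h20016459, trivial⟩
          have hh := W.frat c20016483 C h20016358 h20016350 h20016482
          exact False.elim hh
        rcases hh with h20016460 | hh
        · skip
          have h20016485 : FusC gs ([520,525,522,630,8,16,33,129,257],[520,525,522,630,8,16,35,129,376]) := W.der c20016484 C ⟨h20016460, trivial⟩
          rcases W.lift c20016486 S C h20014301 h20016327 h20016485 with hh | hh
          · skip
            exact False.elim hh
          exact False.elim hh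
        rcases hh with h20016461 | hh
        · skip
          have h20016488 : FusC gs ([5,7,124],[123,121,5]) := W.der c20016487 C ⟨f1, h20016453, h20016461, trivial⟩
          have hh := W.frat c20016489 C h20014547 h20014543 h20016488
          exact False.elim hh
        rcases hh with h20016462 | hh
        · skip
          have h20016491 : FusC gs ([5,7,124],[123,121,5]) := W.der c20016490 C ⟨f1, h20016453, h20016462, trivial⟩
          have hh := W.frat c20016492 C h20014547 h20014543 h20016491
          exact False.elim hh
        rcases hh with h20016463 | hh
        · skip
          have h20016494 : FusC gs ([5,7,124],[121,123,5]) := W.der c20016493 C ⟨f1, h20016453, h20016463, trivial⟩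
          have hh := W.frat c20016495 C h20014547 h20014543 h20016494
          exact False.elim hh
        rcases hh with h20016464 | hh
        · skip
          have h20016497 : FusC gs ([5,7,124],[121,123,5]) := W.der c20016496 C ⟨f1, h20016453, h20016464, trivial⟩
          have hh := W.frat c20016498 C h20014547 h20014543 h20016497
          exact False.elim hh
        rcases hh with h20016465 | hh
        · skip
          have h20016500 : FusC gs ([5,7,124],[124,126,123]) := W.der c20016499 C ⟨f2, h20016453, h20016465, f5, trivial⟩
          have hh := W.frat c20016501 C h20014589 h20014543 h20016500
          exact False.elim hh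
        rcases hh with h20016466 | hh
        · skip
          have h20016503 : FusC gs ([5,7,124],[124,126,123]) := W.der c20016502 C ⟨f2, h20016453, h20016466, f5, trivial⟩
          have hh := W.frat c20016504 C h20014589 h20014543 h20016503
          exact False.elim hh
        rcases hh with h20016467 | hh
        · skip
          have h20016506 : FusC gs ([5,7,124],[124,126,123]) := W.der c20016505 C ⟨f2, h20016453, h20016467, f5, trivial⟩
          have hh := W.frat c20016507 C h20014589 h20014543 h20016506
          exact False.elim hh
        rcases hh with h20016468 | hh
        · skip
          have h20016509 : FusC gs ([5,7,124],[124,126,123]) := W.der c20016508 C ⟨f2, h20016453, h20016468, f5, trivial⟩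
          have hh := W.frat c20016510 C h20014589 h20014543 h20016509
          exact False.elim hh
        rcases hh with h20016469 | hh
        · skip
          have h20016512 : FusC gs ([5,7,124],[126,124,121]) := W.der c20016511 C ⟨f2, h20016469, f5, h20016453, trivial⟩
          have hh := W.frat c20016513 C h20014589 h20014543 h20016512
          exact False.elim hh
        rcases hh with h20016470 | hh
        · skip
          have h20016515 : FusC gs ([5,7,124],[126,124,121]) := W.der c20016514 C ⟨f2, h20016470, f5, h20016453, trivial⟩
          have hh := W.frat c20016516 C h20014589 h20014543 h20016515
          exact False.elim hh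
        rcases hh with h20016471 | hh
        · skip
          have h20016518 : FusC gs ([5,7,124],[126,124,121]) := W.der c20016517 C ⟨f2, h20016471, f5, h20016453, trivial⟩
          have hh := W.frat c20016519 C h20014589 h20014543 h20016518
          exact False.elim hh
        rcases hh with h20016472 | hh
        · skip
          have h20016521 : FusC gs ([5,7,124],[126,124,121]) := W.der c20016520 C ⟨f2, h20016472, f5, h20016453, trivial⟩
          have hh := W.frat c20016522 C h20014589 h20014543 h20016521
          exact False.elim hh
        exact False.elim hh
      rcases hh with h20016523 | hh
      · skip
        have h20016525 : FusC gs ([520,525,522,630],[7,520,5,627]) := W.der c20016524 C ⟨h20016523, trivial⟩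
        have hh := W.frat c20016526 C h20016293 h20016269 h20016525
        rcases hh with h20016527 | hh
        · skip
          have h20016544 : FusC gs ([528,533,530,622,24,33,137,257],[326,33,324,90,777,461,491,670]) := W.der c20016543 C ⟨h20016527, f6, trivial⟩
          have h20016546 : FusC gs ([528,533,530,622,24,33,137,257],[528,533,530,622,24,33,137,259]) := W.der c20016545 C ⟨h20016544, trivial⟩
          rcases W.lift c20016547 S C h20016324 h20016322 h20016546 with hh | hh
          · skip
            exact False.elim hh
          exact False.elim hh
        rcases hh with h20016528 | hh
        · skip
          have h20016549 : FusC gs ([520,525,522,630,8,16,33,129,257],[520,525,522,630,8,16,33,129,259]) := W.der c20016548 C ⟨h20016528, trivial⟩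
          rcases W.lift c20016550 S C h20014301 h20016327 h20016549 with hh | hh
          · skip
            exact False.elim hh
          exact False.elim hh
        rcases hh with h20016529 | hh
        · skip
          have h20016552 : FusC gs ([528,533,530,622,24,33,137,257],[319,284,317,359,62,66,808,466]) := W.der c20016551 C ⟨f6, h20016529, trivial⟩
          have hh := W.frat c20016553 C h20016358 h20016350 h20016552
          exact False.elim hh
        rcases hh with h20016530 | hh
        · skip
          have h20016555 : FusC gs ([520,525,522,630,8,16,33,129,257],[520,525,522,630,8,16,35,129,376]) := W.der c20016554 C ⟨h20016530, trivial⟩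
          rcases W.lift c20016556 S C h20014301 h20016327 h20016555 with hh | hh
          · skip
            exact False.elim hh
          exact False.elim hh
        rcases hh with h20016531 | hh
        · skip
          have h20016558 : FusC gs ([5,7,124],[121,123,5]) := W.der c20016557 C ⟨f1, h20016523, h20016531, trivial⟩
          have hh := W.frat c20016559 C h20014547 h20014543 h20016558
          exact False.elim hh
        rcases hh with h20016532 | hh
        · skip
          have h20016561 : FusC gs ([5,7,124],[121,123,5]) := W.der c20016560 C ⟨f1, h20016523, h20016532, trivial⟩
          have hh := W.frat c20016562 C h20014547 h20014543 h20016561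
          exact False.elim hh
        rcases hh with h20016533 | hh
        · skip
          have h20016564 : FusC gs ([5,7,124],[123,121,5]) := W.der c20016563 C ⟨f1, h20016523, h20016533, trivial⟩
          have hh := W.frat c20016565 C h20014547 h20014543 h20016564
          exact False.elim hh
        rcases hh with h20016534 | hh
        · skip
          have h20016567 : FusC gs ([5,7,124],[123,121,5]) := W.der c20016566 C ⟨f1, h20016523, h20016534, trivial⟩
          have hh := W.frat c20016568 C h20014547 h20014543 h20016567
          exact False.elim hh
        rcases hh with h20016535 | hh
        · skip
          have h20016570 : FusC gs ([5,7,124],[126,124,121]) := W.der c20016569 C ⟨f2, h20016523, h20016535, f5, trivial⟩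
          have hh := W.frat c20016571 C h20014589 h20014543 h20016570
          exact False.elim hh
        rcases hh with h20016536 | hh
        · skip
          have h20016573 : FusC gs ([5,7,124],[126,124,121]) := W.der c20016572 C ⟨f2, h20016523, h20016536, f5, trivial⟩
          have hh := W.frat c20016574 C h20014589 h20014543 h20016573
          exact False.elim hh
        rcases hh with h20016537 | hh
        · skip
          have h20016576 : FusC gs ([5,7,124],[126,124,121]) := W.der c20016575 C ⟨f2, h20016523, h20016537, f5, trivial⟩
          have hh := W.frat c20016577 C h20014589 h20014543 h20016576
          exact False.elim hh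
        rcases hh with h20016538 | hh
        · skip
          have h20016579 : FusC gs ([5,7,124],[126,124,121]) := W.der c20016578 C ⟨f2, h20016523, h20016538, f5, trivial⟩
          have hh := W.frat c20016580 C h20014589 h20014543 h20016579
          exact False.elim hh
        rcases hh with h20016539 | hh
        · skip
          have h20016582 : FusC gs ([5,7,124],[124,126,121]) := W.der c20016581 C ⟨f2, h20016539, f5, h20016523, trivial⟩
          have hh := W.frat c20016583 C h20014589 h20014543 h20016582
          exact False.elim hh
        rcases hh with h20016540 | hh
        · skip
          have h20016585 : FusC gs ([5,7,124],[124,126,121]) := W.der c20016584 C ⟨f2, h20016540, f5, h20016523, trivial⟩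
          have hh := W.frat c20016586 C h20014589 h20014543 h20016585
          exact False.elim hh
        rcases hh with h20016541 | hh
        · skip
          have h20016588 : FusC gs ([5,7,124],[124,126,121]) := W.der c20016587 C ⟨f2, h20016541, f5, h20016523, trivial⟩
          have hh := W.frat c20016589 C h20014589 h20014543 h20016588
          exact False.elim hh
        rcases hh with h20016542 | hh
        · skip
          have h20016591 : FusC gs ([5,7,124],[124,126,121]) := W.der c20016590 C ⟨f2, h20016542, f5, h20016523, trivial⟩
          have hh := W.frat c20016592 C h20014589 h20014543 h20016591
          exact False.elim hh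
        exact False.elim hh
      rcases hh with h20016593 | hh
      · skip
        have h20016595 : FusC gs ([5,7,124],[124,126,123]) := W.der c20016594 C ⟨f2, h20016593, f5, trivial⟩
        have hh := W.frat c20016596 C h20014589 h20014543 h20016595
        exact False.elim hh
      rcases hh with h20016597 | hh
      · skip
        have h20016599 : FusC gs ([5,7,124],[126,124,121]) := W.der c20016598 C ⟨f2, h20016597, f5, trivial⟩
        have hh := W.frat c20016600 C h20014589 h20014543 h20016599
        exact False.elim hh
      rcases hh with h20016601 | hh
      · skip
        have h20016603 : FusC gs ([5,7,124],[126,124,123]) := W.der c20016602 C ⟨f1, h20016601, f5, trivial⟩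
        have hh := W.frat c20016604 C h20014589 h20014543 h20016603
        exact False.elim hh
      rcases hh with h20016605 | hh
      · skip
        have h20016607 : FusC gs ([5,7,124],[126,124,121]) := W.der c20016606 C ⟨f1, h20016605, f5, trivial⟩
        have hh := W.frat c20016608 C h20014589 h20014543 h20016607
        exact False.elim hh
      rcases hh with h20016609 | hh
      · skip
        have h20016611 : FusC gs ([520,525,522,630],[525,5,527,124]) := W.der c20016610 C ⟨h20016609, trivial⟩
        have hh := W.frat c20016612 C h20016293 h20016269 h20016611
        rcases hh with h20016613 | hh
        · skip
          have h20016630 : FusC gs ([520,525,522,630,8,16,33,129,257],[520,525,522,630,8,16,35,129,376]) := W.der c20016629 C ⟨h20016613, trivial⟩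
          rcases W.lift c20016631 S C h20014301 h20016327 h20016630 with hh | hh
          · skip
            exact False.elim hh
          exact False.elim hh
        rcases hh with h20016614 | hh
        · skip
          have h20016633 : FusC gs ([528,533,530,622,24,33,137,257],[59,461,57,438,1022,619,283,175]) := W.der c20016632 C ⟨h20016614, f6, trivial⟩
          have h20016635 : FusC gs ([528,533,530,622,24,33,137,257],[530,535,528,620,24,35,137,378]) := W.der c20016634 C ⟨h20016633, trivial⟩
          rcases W.lift c20016636 S C h20016324 h20016322 h20016635 with hh | hh
          · skip
            exact False.elim hh
          exact False.elim hh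
        rcases hh with h20016615 | hh
        · skip
          have h20016638 : FusC gs ([520,525,522,630,8,16,33,129,257],[520,525,522,630,8,16,33,129,259]) := W.der c20016637 C ⟨h20016615, trivial⟩
          rcases W.lift c20016639 S C h20014301 h20016327 h20016638 with hh | hh
          · skip
            exact False.elim hh
          exact False.elim hh
        rcases hh with h20016616 | hh
        · skip
          have h20016641 : FusC gs ([528,533,530,622,24,33,137,257],[324,286,326,357,69,64,808,466]) := W.der c20016640 C ⟨f6, h20016616, trivial⟩
          have hh := W.frat c20016642 C h20016358 h20016350 h20016641
          exact False.elim hh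
        rcases hh with h20016617 | hh
        · skip
          have h20016644 : FusC gs ([5,7,124],[121,123,7]) := W.der c20016643 C ⟨f1, h20016609, h20016617, f2, trivial⟩
          have hh := W.frat c20016645 C h20014547 h20014543 h20016644
          exact False.elim hh
        rcases hh with h20016618 | hh
        · skip
          have h20016647 : FusC gs ([5,7,124],[121,123,7]) := W.der c20016646 C ⟨f1, h20016609, h20016618, f2, trivial⟩
          have hh := W.frat c20016648 C h20014547 h20014543 h20016647
          exact False.elim hh
        rcases hh with h20016619 | hh
        · skip
          have h20016650 : FusC gs ([5,7,124],[121,123,7]) := W.der c20016649 C ⟨f1, h20016609, h20016619, f2, trivial⟩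
          have hh := W.frat c20016651 C h20014547 h20014543 h20016650
          exact False.elim hh
        rcases hh with h20016620 | hh
        · skip
          have h20016653 : FusC gs ([5,7,124],[121,123,7]) := W.der c20016652 C ⟨f1, h20016609, h20016620, f2, trivial⟩
          have hh := W.frat c20016654 C h20014547 h20014543 h20016653
          exact False.elim hh
        rcases hh with h20016621 | hh
        · skip
          have h20016656 : FusC gs ([5,7,124],[121,123,7]) := W.der c20016655 C ⟨f1, h20016609, h20016621, f2, trivial⟩
          have hh := W.frat c20016657 C h20014547 h20014543 h20016656
          exact False.elim hh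
        rcases hh with h20016622 | hh
        · skip
          have h20016659 : FusC gs ([5,7,124],[121,123,7]) := W.der c20016658 C ⟨f1, h20016609, h20016622, f2, trivial⟩
          have hh := W.frat c20016660 C h20014547 h20014543 h20016659
          exact False.elim hh
        rcases hh with h20016623 | hh
        · skip
          have h20016662 : FusC gs ([5,7,124],[121,123,7]) := W.der c20016661 C ⟨f1, h20016609, h20016623, f2, trivial⟩
          have hh := W.frat c20016663 C h20014547 h20014543 h20016662
          exact False.elim hh
        rcases hh with h20016624 | hh
        · skip
          have h20016665 : FusC gs ([5,7,124],[121,123,7]) := W.der c20016664 C ⟨f1, h20016609, h20016624, f2, trivial⟩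
          have hh := W.frat c20016666 C h20014547 h20014543 h20016665
          exact False.elim hh
        rcases hh with h20016625 | hh
        · skip
          have h20016668 : FusC gs ([5,7,124],[124,126,121]) := W.der c20016667 C ⟨f1, h20016625, f5, f2, trivial⟩
          have hh := W.frat c20016669 C h20014589 h20014543 h20016668
          exact False.elim hh
        rcases hh with h20016626 | hh
        · skip
          have h20016671 : FusC gs ([5,7,124],[124,126,121]) := W.der c20016670 C ⟨f1, h20016626, f5, f2, trivial⟩
          have hh := W.frat c20016672 C h20014589 h20014543 h20016671
          exact False.elim hh
        rcases hh with h20016627 | hh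
        · skip
          have h20016674 : FusC gs ([5,7,124],[126,124,121]) := W.der c20016673 C ⟨f1, h20016627, f5, f2, trivial⟩
          have hh := W.frat c20016675 C h20014589 h20014543 h20016674
          exact False.elim hh
        rcases hh with h20016628 | hh
        · skip
          have h20016677 : FusC gs ([5,7,124],[126,124,121]) := W.der c20016676 C ⟨f1, h20016628, f5, f2, trivial⟩
          have hh := W.frat c20016678 C h20014589 h20014543 h20016677
          exact False.elim hh
        exact False.elim hh
      rcases hh with h20016679 | hh
      · skip
        have h20016681 : FusC gs ([520,525,522,630],[527,7,525,126]) := W.der c20016680 C ⟨h20016679, trivial⟩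
        have hh := W.frat c20016682 C h20016293 h20016269 h20016681
        rcases hh with h20016683 | hh
        · skip
          have h20016700 : FusC gs ([528,533,530,622,24,33,137,257],[57,436,59,463,901,617,354,212]) := W.der c20016699 C ⟨h20016683, f6, trivial⟩
          have h20016702 : FusC gs ([528,533,530,622,24,33,137,257],[530,535,528,620,24,35,137,378]) := W.der c20016701 C ⟨h20016700, trivial⟩
          rcases W.lift c20016703 S C h20016324 h20016322 h20016702 with hh | hh
          · skip
            exact False.elim hh
          exact False.elim hh
        rcases hh with h20016684 | hh
        · skip
          have h20016705 : FusC gs ([520,525,522,630,8,16,33,129,257],[522,527,520,628,8,16,35,129,378]) := W.der c20016704 C ⟨h20016684, trivial⟩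
          rcases W.lift c20016706 S C h20014301 h20016327 h20016705 with hh | hh
          · skip
            exact False.elim hh
          exact False.elim hh
        rcases hh with h20016685 | hh
        · skip
          have h20016708 : FusC gs ([528,533,530,622,24,33,137,257],[317,359,319,284,71,64,851,464]) := W.der c20016707 C ⟨f6, h20016685, trivial⟩
          have hh := W.frat c20016709 C h20016358 h20016350 h20016708
          exact False.elim hh
        rcases hh with h20016686 | hh
        · skip
          have h20016711 : FusC gs ([520,525,522,630,8,16,33,129,257],[522,527,520,628,8,16,33,129,257]) := W.der c20016710 C ⟨h20016686, trivial⟩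
          rcases W.lift c20016712 S C h20014301 h20016327 h20016711 with hh | hh
          · skip
            exact False.elim hh
          exact False.elim hh
        rcases hh with h20016687 | hh
        · skip
          have h20016726 : FusC gs ([5,7,124],[121,123,5]) := W.der c20016725 C ⟨f1, h20016679, h20016687, f2, trivial⟩
          have hh := W.frat c20016727 C h20014547 h20014543 h20016726
          exact False.elim hh
        rcases hh with h20016688 | hh
        · skip
          have h20016729 : FusC gs ([5,7,124],[121,123,5]) := W.der c20016728 C ⟨f1, h20016679, h20016688, f2, trivial⟩
          have hh := W.frat c20016730 C h20014547 h20014543 h20016729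
          exact False.elim hh
        rcases hh with h20016689 | hh
        · skip
          have h20016732 : FusC gs ([5,7,124],[121,123,5]) := W.der c20016731 C ⟨f1, h20016679, h20016689, f2, trivial⟩
          have hh := W.frat c20016733 C h20014547 h20014543 h20016732
          exact False.elim hh
        rcases hh with h20016690 | hh
        · skip
          have h20016735 : FusC gs ([5,7,124],[121,123,5]) := W.der c20016734 C ⟨f1, h20016679, h20016690, f2, trivial⟩
          have hh := W.frat c20016736 C h20014547 h20014543 h20016735
          exact False.elim hh
        rcases hh with h20016691 | hh
        · skip
          have h20016738 : FusC gs ([5,7,124],[123,121,7]) := W.der c20016737 C ⟨f1, h20016679, h20016691, f2, trivial⟩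
          have hh := W.frat c20016739 C h20014547 h20014543 h20016738
          exact False.elim hh
        rcases hh with h20016692 | hh
        · skip
          have h20016741 : FusC gs ([5,7,124],[123,121,7]) := W.der c20016740 C ⟨f1, h20016679, h20016692, f2, trivial⟩
          have hh := W.frat c20016742 C h20014547 h20014543 h20016741
          exact False.elim hh
        rcases hh with h20016693 | hh
        · skip
          have h20016744 : FusC gs ([5,7,124],[123,121,7]) := W.der c20016743 C ⟨f1, h20016679, h20016693, f2, trivial⟩
          have hh := W.frat c20016745 C h20014547 h20014543 h20016744
          exact False.elim hh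
        rcases hh with h20016694 | hh
        · skip
          have h20016747 : FusC gs ([5,7,124],[123,121,7]) := W.der c20016746 C ⟨f1, h20016679, h20016694, f2, trivial⟩
          have hh := W.frat c20016748 C h20014547 h20014543 h20016747
          exact False.elim hh
        rcases hh with h20016695 | hh
        · skip
          have h20016714 : FusC gs ([5,7,124],[124,126,123]) := W.der c20016713 C ⟨f1, h20016695, f5, f2, trivial⟩
          have hh := W.frat c20016715 C h20014589 h20014543 h20016714
          exact False.elim hh
        rcases hh with h20016696 | hh
        · skip
          have h20016717 : FusC gs ([5,7,124],[124,126,123]) := W.der c20016716 C ⟨f1, h20016696, f5, f2, trivial⟩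
          have hh := W.frat c20016718 C h20014589 h20014543 h20016717
          exact False.elim hh
        rcases hh with h20016697 | hh
        · skip
          have h20016720 : FusC gs ([5,7,124],[126,124,123]) := W.der c20016719 C ⟨f1, h20016697, f5, f2, trivial⟩
          have hh := W.frat c20016721 C h20014589 h20014543 h20016720
          exact False.elim hh
        rcases hh with h20016698 | hh
        · skip
          have h20016723 : FusC gs ([5,7,124],[126,124,123]) := W.der c20016722 C ⟨f1, h20016698, f5, f2, trivial⟩
          have hh := W.frat c20016724 C h20014589 h20014543 h20016723
          exact False.elim hh
        exact False.elim hh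
      rcases hh with h20016749 | hh
      · skip
        have h20016751 : FusC gs ([5,7,124],[123,121,5]) := W.der c20016750 C ⟨h20016749, f5, f2, trivial⟩
        have hh := W.frat c20016752 C h20014547 h20014543 h20016751
        exact False.elim hh
      rcases hh with h20016753 | hh
      · skip
        have h20016755 : FusC gs ([5,7,124],[123,121,7]) := W.der c20016754 C ⟨h20016753, f5, f2, trivial⟩
        have hh := W.frat c20016756 C h20014547 h20014543 h20016755
        exact False.elim hh
      rcases hh with h20016757 | hh
      · skip
        have h20016759 : FusC gs ([520,525,522,630],[7,520,5,627]) := W.der c20016758 C ⟨h20016757, trivial⟩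
        have hh := W.frat c20016760 C h20016293 h20016269 h20016759
        rcases hh with h20016761 | hh
        · skip
          have h20016778 : FusC gs ([528,533,530,622,24,33,137,257],[326,33,324,90,777,461,491,670]) := W.der c20016777 C ⟨h20016761, f6, trivial⟩
          have h20016780 : FusC gs ([528,533,530,622,24,33,137,257],[528,533,530,622,24,33,137,259]) := W.der c20016779 C ⟨h20016778, trivial⟩
          rcases W.lift c20016781 S C h20016324 h20016322 h20016780 with hh | hh
          · skip
            exact False.elim hh
          exact False.elim hh
        rcases hh with h20016762 | hh
        · skip
          have h20016783 : FusC gs ([520,525,522,630,8,16,33,129,257],[520,525,522,630,8,16,33,129,259]) := W.der c20016782 C ⟨h20016762, trivial⟩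
          rcases W.lift c20016784 S C h20014301 h20016327 h20016783 with hh | hh
          · skip
            exact False.elim hh
          exact False.elim hh
        rcases hh with h20016763 | hh
        · skip
          have h20016786 : FusC gs ([528,533,530,622,24,33,137,257],[319,284,317,359,62,66,808,466]) := W.der c20016785 C ⟨f6, h20016763, trivial⟩
          have hh := W.frat c20016787 C h20016358 h20016350 h20016786
          exact False.elim hh
        rcases hh with h20016764 | hh
        · skip
          have h20016789 : FusC gs ([520,525,522,630,8,16,33,129,257],[520,525,522,630,8,16,35,129,376]) := W.der c20016788 C ⟨h20016764, trivial⟩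
          rcases W.lift c20016790 S C h20014301 h20016327 h20016789 with hh | hh
          · skip
            exact False.elim hh
          exact False.elim hh
        rcases hh with h20016765 | hh
        · skip
          have h20016792 : FusC gs ([5,7,124],[126,124,123]) := W.der c20016791 C ⟨f2, h20016765, f5, h20016757, trivial⟩
          have hh := W.frat c20016793 C h20014589 h20014543 h20016792
          exact False.elim hh
        rcases hh with h20016766 | hh
        · skip
          have h20016795 : FusC gs ([5,7,124],[126,124,123]) := W.der c20016794 C ⟨f2, h20016766, f5, h20016757, trivial⟩
          have hh := W.frat c20016796 C h20014589 h20014543 h20016795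
          exact False.elim hh
        rcases hh with h20016767 | hh
        · skip
          have h20016798 : FusC gs ([5,7,124],[126,124,123]) := W.der c20016797 C ⟨f2, h20016767, f5, h20016757, trivial⟩
          have hh := W.frat c20016799 C h20014589 h20014543 h20016798
          exact False.elim hh
        rcases hh with h20016768 | hh
        · skip
          have h20016801 : FusC gs ([5,7,124],[126,124,123]) := W.der c20016800 C ⟨f2, h20016768, f5, h20016757, trivial⟩
          have hh := W.frat c20016802 C h20014589 h20014543 h20016801
          exact False.elim hh
        rcases hh with h20016769 | hh
        · skip
          have h20016804 : FusC gs ([5,7,124],[123,121,5]) := W.der c20016803 C ⟨h20016757, f5, h20016769, f2, trivial⟩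
          have hh := W.frat c20016805 C h20014547 h20014543 h20016804
          exact False.elim hh
        rcases hh with h20016770 | hh
        · skip
          have h20016807 : FusC gs ([5,7,124],[123,121,5]) := W.der c20016806 C ⟨h20016757, f5, h20016770, f2, trivial⟩
          have hh := W.frat c20016808 C h20014547 h20014543 h20016807
          exact False.elim hh
        rcases hh with h20016771 | hh
        · skip
          have h20016810 : FusC gs ([5,7,124],[123,121,5]) := W.der c20016809 C ⟨h20016757, f5, h20016771, f2, trivial⟩
          have hh := W.frat c20016811 C h20014547 h20014543 h20016810
          exact False.elim hh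
        rcases hh with h20016772 | hh
        · skip
          have h20016813 : FusC gs ([5,7,124],[123,121,5]) := W.der c20016812 C ⟨h20016757, f5, h20016772, f2, trivial⟩
          have hh := W.frat c20016814 C h20014547 h20014543 h20016813
          exact False.elim hh
        rcases hh with h20016773 | hh
        · skip
          have h20016816 : FusC gs ([5,7,124],[121,123,7]) := W.der c20016815 C ⟨h20016757, f5, h20016773, f2, trivial⟩
          have hh := W.frat c20016817 C h20014547 h20014543 h20016816
          exact False.elim hh
        rcases hh with h20016774 | hh
        · skip
          have h20016819 : FusC gs ([5,7,124],[121,123,7]) := W.der c20016818 C ⟨h20016757, f5, h20016774, f2, trivial⟩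
          have hh := W.frat c20016820 C h20014547 h20014543 h20016819
          exact False.elim hh
        rcases hh with h20016775 | hh
        · skip
          have h20016822 : FusC gs ([5,7,124],[121,123,7]) := W.der c20016821 C ⟨h20016757, f5, h20016775, f2, trivial⟩
          have hh := W.frat c20016823 C h20014547 h20014543 h20016822
          exact False.elim hh
        rcases hh with h20016776 | hh
        · skip
          have h20016825 : FusC gs ([5,7,124],[121,123,7]) := W.der c20016824 C ⟨h20016757, f5, h20016776, f2, trivial⟩
          have hh := W.frat c20016826 C h20014547 h20014543 h20016825
          exact False.elim hh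
        exact False.elim hh
      rcases hh with h20016827 | hh
      · skip
        have h20016829 : FusC gs ([520,525,522,630],[7,520,5,627]) := W.der c20016828 C ⟨h20016827, trivial⟩
        have hh := W.frat c20016830 C h20016293 h20016269 h20016829
        rcases hh with h20016831 | hh
        · skip
          have h20016848 : FusC gs ([528,533,530,622,24,33,137,257],[326,33,324,90,777,461,491,670]) := W.der c20016847 C ⟨h20016831, f6, trivial⟩
          have h20016850 : FusC gs ([528,533,530,622,24,33,137,257],[528,533,530,622,24,33,137,259]) := W.der c20016849 C ⟨h20016848, trivial⟩
          rcases W.lift c20016851 S C h20016324 h20016322 h20016850 with hh | hh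
          · skip
            exact False.elim hh
          exact False.elim hh
        rcases hh with h20016832 | hh
        · skip
          have h20016853 : FusC gs ([520,525,522,630,8,16,33,129,257],[520,525,522,630,8,16,33,129,259]) := W.der c20016852 C ⟨h20016832, trivial⟩
          rcases W.lift c20016854 S C h20014301 h20016327 h20016853 with hh | hh
          · skip
            exact False.elim hh
          exact False.elim hh
        rcases hh with h20016833 | hh
        · skip
          have h20016856 : FusC gs ([528,533,530,622,24,33,137,257],[319,284,317,359,62,66,808,466]) := W.der c20016855 C ⟨f6, h20016833, trivial⟩
          have hh := W.frat c20016857 C h20016358 h20016350 h20016856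
          exact False.elim hh
        rcases hh with h20016834 | hh
        · skip
          have h20016859 : FusC gs ([520,525,522,630,8,16,33,129,257],[520,525,522,630,8,16,35,129,376]) := W.der c20016858 C ⟨h20016834, trivial⟩
          rcases W.lift c20016860 S C h20014301 h20016327 h20016859 with hh | hh
          · skip
            exact False.elim hh
          exact False.elim hh
        rcases hh with h20016835 | hh
        · skip
          have h20016862 : FusC gs ([5,7,124],[124,126,123]) := W.der c20016861 C ⟨f2, h20016835, f5, h20016827, trivial⟩
          have hh := W.frat c20016863 C h20014589 h20014543 h20016862
          exact False.elim hh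
        rcases hh with h20016836 | hh
        · skip
          have h20016865 : FusC gs ([5,7,124],[124,126,123]) := W.der c20016864 C ⟨f2, h20016836, f5, h20016827, trivial⟩
          have hh := W.frat c20016866 C h20014589 h20014543 h20016865
          exact False.elim hh
        rcases hh with h20016837 | hh
        · skip
          have h20016868 : FusC gs ([5,7,124],[124,126,123]) := W.der c20016867 C ⟨f2, h20016837, f5, h20016827, trivial⟩
          have hh := W.frat c20016869 C h20014589 h20014543 h20016868
          exact False.elim hh
        rcases hh with h20016838 | hh
        · skip
          have h20016871 : FusC gs ([5,7,124],[124,126,123]) := W.der c20016870 C ⟨f2, h20016838, f5, h20016827, trivial⟩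
          have hh := W.frat c20016872 C h20014589 h20014543 h20016871
          exact False.elim hh
        rcases hh with h20016839 | hh
        · skip
          have h20016874 : FusC gs ([5,7,124],[123,121,7]) := W.der c20016873 C ⟨h20016827, f5, h20016839, f2, trivial⟩
          have hh := W.frat c20016875 C h20014547 h20014543 h20016874
          exact False.elim hh
        rcases hh with h20016840 | hh
        · skip
          have h20016877 : FusC gs ([5,7,124],[123,121,7]) := W.der c20016876 C ⟨h20016827, f5, h20016840, f2, trivial⟩
          have hh := W.frat c20016878 C h20014547 h20014543 h20016877
          exact False.elim hh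
        rcases hh with h20016841 | hh
        · skip
          have h20016880 : FusC gs ([5,7,124],[123,121,7]) := W.der c20016879 C ⟨h20016827, f5, h20016841, f2, trivial⟩
          have hh := W.frat c20016881 C h20014547 h20014543 h20016880
          exact False.elim hh
        rcases hh with h20016842 | hh
        · skip
          have h20016883 : FusC gs ([5,7,124],[123,121,7]) := W.der c20016882 C ⟨h20016827, f5, h20016842, f2, trivial⟩
          have hh := W.frat c20016884 C h20014547 h20014543 h20016883
          exact False.elim hh
        rcases hh with h20016843 | hh
        · skip
          have h20016886 : FusC gs ([5,7,124],[123,121,5]) := W.der c20016885 C ⟨h20016827, f5, h20016843, f2, trivial⟩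
          have hh := W.frat c20016887 C h20014547 h20014543 h20016886
          exact False.elim hh
        rcases hh with h20016844 | hh
        · skip
          have h20016889 : FusC gs ([5,7,124],[123,121,5]) := W.der c20016888 C ⟨h20016827, f5, h20016844, f2, trivial⟩
          have hh := W.frat c20016890 C h20014547 h20014543 h20016889
          exact False.elim hh
        rcases hh with h20016845 | hh
        · skip
          have h20016892 : FusC gs ([5,7,124],[123,121,5]) := W.der c20016891 C ⟨h20016827, f5, h20016845, f2, trivial⟩
          have hh := W.frat c20016893 C h20014547 h20014543 h20016892
          exact False.elim hh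
        rcases hh with h20016846 | hh
        · skip
          have h20016895 : FusC gs ([5,7,124],[123,121,5]) := W.der c20016894 C ⟨h20016827, f5, h20016846, f2, trivial⟩
          have hh := W.frat c20016896 C h20014547 h20014543 h20016895
          exact False.elim hh
        exact False.elim hh
      rcases hh with h20016897 | hh
      · skip
        have h20016899 : FusC gs ([520,525,522,630],[7,520,5,627]) := W.der c20016898 C ⟨h20016897, trivial⟩
        have hh := W.frat c20016900 C h20016293 h20016269 h20016899
        rcases hh with h20016901 | hh
        · skip
          have h20016918 : FusC gs ([528,533,530,622,24,33,137,257],[326,33,324,90,777,461,491,670]) := W.der c20016917 C ⟨h20016901, f6, trivial⟩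
          have h20016920 : FusC gs ([528,533,530,622,24,33,137,257],[528,533,530,622,24,33,137,259]) := W.der c20016919 C ⟨h20016918, trivial⟩
          rcases W.lift c20016921 S C h20016324 h20016322 h20016920 with hh | hh
          · skip
            exact False.elim hh
          exact False.elim hh
        rcases hh with h20016902 | hh
        · skip
          have h20016923 : FusC gs ([520,525,522,630,8,16,33,129,257],[520,525,522,630,8,16,33,129,259]) := W.der c20016922 C ⟨h20016902, trivial⟩
          rcases W.lift c20016924 S C h20014301 h20016327 h20016923 with hh | hh
          · skip
            exact False.elim hh
          exact False.elim hh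
        rcases hh with h20016903 | hh
        · skip
          have h20016926 : FusC gs ([528,533,530,622,24,33,137,257],[319,284,317,359,62,66,808,466]) := W.der c20016925 C ⟨f6, h20016903, trivial⟩
          have hh := W.frat c20016927 C h20016358 h20016350 h20016926
          exact False.elim hh
        rcases hh with h20016904 | hh
        · skip
          have h20016929 : FusC gs ([520,525,522,630,8,16,33,129,257],[520,525,522,630,8,16,35,129,376]) := W.der c20016928 C ⟨h20016904, trivial⟩
          rcases W.lift c20016930 S C h20014301 h20016327 h20016929 with hh | hh
          · skip
            exact False.elim hh
          exact False.elim hh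
        rcases hh with h20016905 | hh
        · skip
          have h20016932 : FusC gs ([5,7,124],[123,121,5]) := W.der c20016931 C ⟨f1, h20016897, h20016905, trivial⟩
          have hh := W.frat c20016933 C h20014547 h20014543 h20016932
          exact False.elim hh
        rcases hh with h20016906 | hh
        · skip
          have h20016935 : FusC gs ([5,7,124],[123,121,5]) := W.der c20016934 C ⟨f1, h20016897, h20016906, trivial⟩
          have hh := W.frat c20016936 C h20014547 h20014543 h20016935
          exact False.elim hh
        rcases hh with h20016907 | hh
        · skip
          have h20016938 : FusC gs ([5,7,124],[121,123,5]) := W.der c20016937 C ⟨f1, h20016897, h20016907, trivial⟩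
          have hh := W.frat c20016939 C h20014547 h20014543 h20016938
          exact False.elim hh
        rcases hh with h20016908 | hh
        · skip
          have h20016941 : FusC gs ([5,7,124],[121,123,5]) := W.der c20016940 C ⟨f1, h20016897, h20016908, trivial⟩
          have hh := W.frat c20016942 C h20014547 h20014543 h20016941
          exact False.elim hh
        rcases hh with h20016909 | hh
        · skip
          have h20016944 : FusC gs ([5,7,124],[126,124,123]) := W.der c20016943 C ⟨f2, h20016897, h20016909, f5, trivial⟩
          have hh := W.frat c20016945 C h20014589 h20014543 h20016944
          exact False.elim hh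
        rcases hh with h20016910 | hh
        · skip
          have h20016947 : FusC gs ([5,7,124],[126,124,123]) := W.der c20016946 C ⟨f2, h20016897, h20016910, f5, trivial⟩
          have hh := W.frat c20016948 C h20014589 h20014543 h20016947
          exact False.elim hh
        rcases hh with h20016911 | hh
        · skip
          have h20016950 : FusC gs ([5,7,124],[126,124,123]) := W.der c20016949 C ⟨f2, h20016897, h20016911, f5, trivial⟩
          have hh := W.frat c20016951 C h20014589 h20014543 h20016950
          exact False.elim hh
        rcases hh with h20016912 | hh
        · skip
          have h20016953 : FusC gs ([5,7,124],[126,124,123]) := W.der c20016952 C ⟨f2, h20016897, h20016912, f5, trivial⟩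
          have hh := W.frat c20016954 C h20014589 h20014543 h20016953
          exact False.elim hh
        rcases hh with h20016913 | hh
        · skip
          have h20016956 : FusC gs ([5,7,124],[124,126,123]) := W.der c20016955 C ⟨f2, h20016913, f5, h20016897, trivial⟩
          have hh := W.frat c20016957 C h20014589 h20014543 h20016956
          exact False.elim hh
        rcases hh with h20016914 | hh
        · skip
          have h20016959 : FusC gs ([5,7,124],[124,126,123]) := W.der c20016958 C ⟨f2, h20016914, f5, h20016897, trivial⟩
          have hh := W.frat c20016960 C h20014589 h20014543 h20016959
          exact False.elim hh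
        rcases hh with h20016915 | hh
        · skip
          have h20016962 : FusC gs ([5,7,124],[124,126,123]) := W.der c20016961 C ⟨f2, h20016915, f5, h20016897, trivial⟩
          have hh := W.frat c20016963 C h20014589 h20014543 h20016962
          exact False.elim hh
        rcases hh with h20016916 | hh
        · skip
          have h20016965 : FusC gs ([5,7,124],[124,126,123]) := W.der c20016964 C ⟨f2, h20016916, f5, h20016897, trivial⟩
          have hh := W.frat c20016966 C h20014589 h20014543 h20016965
          exact False.elim hh
        exact False.elim hh
      rcases hh with h20016967 | hh
      · skip
        have h20016969 : FusC gs ([520,525,522,630],[7,520,5,627]) := W.der c20016968 C ⟨h20016967, trivial⟩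
        have hh := W.frat c20016970 C h20016293 h20016269 h20016969
        rcases hh with h20016971 | hh
        · skip
          have h20016988 : FusC gs ([528,533,530,622,24,33,137,257],[326,33,324,90,777,461,491,670]) := W.der c20016987 C ⟨h20016971, f6, trivial⟩
          have h20016990 : FusC gs ([528,533,530,622,24,33,137,257],[528,533,530,622,24,33,137,259]) := W.der c20016989 C ⟨h20016988, trivial⟩
          rcases W.lift c20016991 S C h20016324 h20016322 h20016990 with hh | hh
          · skip
            exact False.elim hh
          exact False.elim hh
        rcases hh with h20016972 | hh
        · skip
          have h20016993 : FusC gs ([520,525,522,630,8,16,33,129,257],[520,525,522,630,8,16,33,129,259]) := W.der c20016992 C ⟨h20016972, trivial⟩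
          rcases W.lift c20016994 S C h20014301 h20016327 h20016993 with hh | hh
          · skip
            exact False.elim hh
          exact False.elim hh
        rcases hh with h20016973 | hh
        · skip
          have h20016996 : FusC gs ([528,533,530,622,24,33,137,257],[319,284,317,359,62,66,808,466]) := W.der c20016995 C ⟨f6, h20016973, trivial⟩
          have hh := W.frat c20016997 C h20016358 h20016350 h20016996
          exact False.elim hh
        rcases hh with h20016974 | hh
        · skip
          have h20016999 : FusC gs ([520,525,522,630,8,16,33,129,257],[520,525,522,630,8,16,35,129,376]) := W.der c20016998 C ⟨h20016974, trivial⟩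
          rcases W.lift c20017000 S C h20014301 h20016327 h20016999 with hh | hh
          · skip
            exact False.elim hh
          exact False.elim hh
        rcases hh with h20016975 | hh
        · skip
          have h20017002 : FusC gs ([5,7,124],[121,123,5]) := W.der c20017001 C ⟨f1, h20016967, h20016975, trivial⟩
          have hh := W.frat c20017003 C h20014547 h20014543 h20017002
          exact False.elim hh
        rcases hh with h20016976 | hh
        · skip
          have h20017005 : FusC gs ([5,7,124],[121,123,5]) := W.der c20017004 C ⟨f1, h20016967, h20016976, trivial⟩
          have hh := W.frat c20017006 C h20014547 h20014543 h20017005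
          exact False.elim hh
        rcases hh with h20016977 | hh
        · skip
          have h20017008 : FusC gs ([5,7,124],[123,121,5]) := W.der c20017007 C ⟨f1, h20016967, h20016977, trivial⟩
          have hh := W.frat c20017009 C h20014547 h20014543 h20017008
          exact False.elim hh
        rcases hh with h20016978 | hh
        · skip
          have h20017011 : FusC gs ([5,7,124],[123,121,5]) := W.der c20017010 C ⟨f1, h20016967, h20016978, trivial⟩
          have hh := W.frat c20017012 C h20014547 h20014543 h20017011
          exact False.elim hh
        rcases hh with h20016979 | hh
        · skip
          have h20017014 : FusC gs ([5,7,124],[124,126,121]) := W.der c20017013 C ⟨f2, h20016967, h20016979, f5, trivial⟩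
          have hh := W.frat c20017015 C h20014589 h20014543 h20017014
          exact False.elim hh
        rcases hh with h20016980 | hh
        · skip
          have h20017017 : FusC gs ([5,7,124],[124,126,121]) := W.der c20017016 C ⟨f2, h20016967, h20016980, f5, trivial⟩
          have hh := W.frat c20017018 C h20014589 h20014543 h20017017
          exact False.elim hh
        rcases hh with h20016981 | hh
        · skip
          have h20017020 : FusC gs ([5,7,124],[124,126,121]) := W.der c20017019 C ⟨f2, h20016967, h20016981, f5, trivial⟩
          have hh := W.frat c20017021 C h20014589 h20014543 h20017020
          exact False.elim hh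
        rcases hh with h20016982 | hh
        · skip
          have h20017023 : FusC gs ([5,7,124],[124,126,121]) := W.der c20017022 C ⟨f2, h20016967, h20016982, f5, trivial⟩
          have hh := W.frat c20017024 C h20014589 h20014543 h20017023
          exact False.elim hh
        rcases hh with h20016983 | hh
        · skip
          have h20017026 : FusC gs ([5,7,124],[126,124,123]) := W.der c20017025 C ⟨f2, h20016983, f5, h20016967, trivial⟩
          have hh := W.frat c20017027 C h20014589 h20014543 h20017026
          exact False.elim hh
        rcases hh with h20016984 | hh
        · skip
          have h20017029 : FusC gs ([5,7,124],[126,124,123]) := W.der c20017028 C ⟨f2, h20016984, f5, h20016967, trivial⟩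
          have hh := W.frat c20017030 C h20014589 h20014543 h20017029
          exact False.elim hh
        rcases hh with h20016985 | hh
        · skip
          have h20017032 : FusC gs ([5,7,124],[126,124,123]) := W.der c20017031 C ⟨f2, h20016985, f5, h20016967, trivial⟩
          have hh := W.frat c20017033 C h20014589 h20014543 h20017032
          exact False.elim hh
        rcases hh with h20016986 | hh
        · skip
          have h20017035 : FusC gs ([5,7,124],[126,124,123]) := W.der c20017034 C ⟨f2, h20016986, f5, h20016967, trivial⟩
          have hh := W.frat c20017036 C h20014589 h20014543 h20017035
          exact False.elim hh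
        exact False.elim hh
      rcases hh with h20017037 | hh
      · skip
        have h20017039 : FusC gs ([5,7,124],[126,124,123]) := W.der c20017038 C ⟨f2, h20017037, f5, trivial⟩
        have hh := W.frat c20017040 C h20014589 h20014543 h20017039
        exact False.elim hh
      rcases hh with h20017041 | hh
      · skip
        have h20017043 : FusC gs ([5,7,124],[124,126,121]) := W.der c20017042 C ⟨f2, h20017041, f5, trivial⟩
        have hh := W.frat c20017044 C h20014589 h20014543 h20017043
        exact False.elim hh
      rcases hh with h20017045 | hh
      · skip
        have h20017047 : FusC gs ([520,525,522,630],[630,124,628,5]) := W.der c20017046 C ⟨h20017045, trivial⟩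
        have hh := W.frat c20017048 C h20016293 h20016269 h20017047
        rcases hh with h20017049 | hh
        · skip
          have h20017066 : FusC gs ([5,7,124],[121,123,5]) := W.der c20017065 C ⟨f2, h20017045, h20017049, trivial⟩
          have hh := W.frat c20017067 C h20014547 h20014543 h20017066
          exact False.elim hh
        rcases hh with h20017050 | hh
        · skip
          have h20017069 : FusC gs ([5,7,124],[121,123,5]) := W.der c20017068 C ⟨f2, h20017045, h20017050, trivial⟩
          have hh := W.frat c20017070 C h20014547 h20014543 h20017069
          exact False.elim hh
        rcases hh with h20017051 | hh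
        · skip
          have h20017092 : FusC gs ([5,7,124],[121,123,5]) := W.der c20017091 C ⟨f2, h20017045, h20017051, trivial⟩
          have hh := W.frat c20017093 C h20014547 h20014543 h20017092
          exact False.elim hh
        rcases hh with h20017052 | hh
        · skip
          have h20017095 : FusC gs ([5,7,124],[121,123,5]) := W.der c20017094 C ⟨f2, h20017045, h20017052, trivial⟩
          have hh := W.frat c20017096 C h20014547 h20014543 h20017095
          exact False.elim hh
        rcases hh with h20017053 | hh
        · skip
          have h20017072 : FusC gs ([528,533,530,622,24,33,137,257],[59,463,57,436,1020,530,352,214]) := W.der c20017071 C ⟨h20017053, f6, trivial⟩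
          have h20017074 : FusC gs ([528,533,530,622,24,33,137,257],[530,535,528,620,24,35,137,378]) := W.der c20017073 C ⟨h20017072, trivial⟩
          rcases W.lift c20017075 S C h20016324 h20016322 h20017074 with hh | hh
          · skip
            exact False.elim hh
          exact False.elim hh
        rcases hh with h20017054 | hh
        · skip
          have h20017077 : FusC gs ([520,525,522,630,8,16,33,129,257],[627,628,625,527,16,8,33,224,257]) := W.der c20017076 C ⟨h20017054, trivial⟩
          rcases W.lift c20017078 S C h20014301 h20016327 h20017077 with hh | hh
          · skip
            exact False.elim hh
          exact False.elim hh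
        rcases hh with h20017055 | hh
        · skip
          have h20017098 : FusC gs ([528,533,530,622,24,33,137,257],[324,286,326,357,69,64,808,466]) := W.der c20017097 C ⟨f6, h20017055, trivial⟩
          have hh := W.frat c20017099 C h20016358 h20016350 h20017098
          exact False.elim hh
        rcases hh with h20017056 | hh
        · skip
          have h20017101 : FusC gs ([520,525,522,630,8,16,33,129,257],[627,628,625,527,16,8,35,224,378]) := W.der c20017100 C ⟨h20017056, trivial⟩
          rcases W.lift c20017102 S C h20014301 h20016327 h20017101 with hh | hh
          · skip
            exact False.elim hh
          exact False.elim hh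
        rcases hh with h20017057 | hh
        · skip
          have h20017104 : FusC gs ([5,7,124],[124,126,123]) := W.der c20017103 C ⟨f1, h20017057, f5, f2, trivial⟩
          have hh := W.frat c20017105 C h20014589 h20014543 h20017104
          exact False.elim hh
        rcases hh with h20017058 | hh
        · skip
          have h20017107 : FusC gs ([5,7,124],[124,126,123]) := W.der c20017106 C ⟨f1, h20017058, f5, f2, trivial⟩
          have hh := W.frat c20017108 C h20014589 h20014543 h20017107
          exact False.elim hh
        rcases hh with h20017059 | hh
        · skip
          have h20017080 : FusC gs ([5,7,124],[124,126,123]) := W.der c20017079 C ⟨f1, h20017059, f5, f2, trivial⟩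
          have hh := W.frat c20017081 C h20014589 h20014543 h20017080
          exact False.elim hh
        rcases hh with h20017060 | hh
        · skip
          have h20017083 : FusC gs ([5,7,124],[124,126,123]) := W.der c20017082 C ⟨f1, h20017060, f5, f2, trivial⟩
          have hh := W.frat c20017084 C h20014589 h20014543 h20017083
          exact False.elim hh
        rcases hh with h20017061 | hh
        · skip
          have h20017110 : FusC gs ([5,7,124],[123,121,7]) := W.der c20017109 C ⟨f1, h20017045, h20017061, trivial⟩
          have hh := W.frat c20017111 C h20014547 h20014543 h20017110
          exact False.elim hh
        rcases hh with h20017062 | hh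
        · skip
          have h20017113 : FusC gs ([5,7,124],[123,121,7]) := W.der c20017112 C ⟨f1, h20017045, h20017062, trivial⟩
          have hh := W.frat c20017114 C h20014547 h20014543 h20017113
          exact False.elim hh
        rcases hh with h20017063 | hh
        · skip
          have h20017086 : FusC gs ([5,7,124],[123,121,7]) := W.der c20017085 C ⟨f1, h20017045, h20017063, trivial⟩
          have hh := W.frat c20017087 C h20014547 h20014543 h20017086
          exact False.elim hh
        rcases hh with h20017064 | hh
        · skip
          have h20017089 : FusC gs ([5,7,124],[123,121,7]) := W.der c20017088 C ⟨f1, h20017045, h20017064, trivial⟩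
          have hh := W.frat c20017090 C h20014547 h20014543 h20017089
          exact False.elim hh
        exact False.elim hh
      rcases hh with h20017115 | hh
      · skip
        have h20017117 : FusC gs ([520,525,522,630],[628,126,630,7]) := W.der c20017116 C ⟨h20017115, trivial⟩
        have hh := W.frat c20017118 C h20016293 h20016269 h20017117
        rcases hh with h20017119 | hh
        · skip
          have h20017162 : FusC gs ([5,7,124],[123,121,5]) := W.der c20017161 C ⟨f2, h20017115, h20017119, trivial⟩
          have hh := W.frat c20017163 C h20014547 h20014543 h20017162
          exact False.elim hh
        rcases hh with h20017120 | hh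
        · skip
          have h20017165 : FusC gs ([5,7,124],[123,121,5]) := W.der c20017164 C ⟨f2, h20017115, h20017120, trivial⟩
          have hh := W.frat c20017166 C h20014547 h20014543 h20017165
          exact False.elim hh
        rcases hh with h20017121 | hh
        · skip
          have h20017136 : FusC gs ([5,7,124],[123,121,5]) := W.der c20017135 C ⟨f2, h20017115, h20017121, trivial⟩
          have hh := W.frat c20017137 C h20014547 h20014543 h20017136
          exact False.elim hh
        rcases hh with h20017122 | hh
        · skip
          have h20017139 : FusC gs ([5,7,124],[123,121,5]) := W.der c20017138 C ⟨f2, h20017115, h20017122, trivial⟩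
          have hh := W.frat c20017140 C h20014547 h20014543 h20017139
          exact False.elim hh
        rcases hh with h20017123 | hh
        · skip
          have h20017142 : FusC gs ([520,525,522,630,8,16,33,129,257],[625,630,627,525,16,8,33,224,259]) := W.der c20017141 C ⟨h20017123, trivial⟩
          rcases W.lift c20017143 S C h20014301 h20016327 h20017142 with hh | hh
          · skip
            exact False.elim hh
          exact False.elim hh
        rcases hh with h20017124 | hh
        · skip
          have h20017145 : FusC gs ([528,533,530,622,24,33,137,257],[57,438,59,461,903,528,281,173]) := W.der c20017144 C ⟨h20017124, f6, trivial⟩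
          have h20017147 : FusC gs ([528,533,530,622,24,33,137,257],[530,535,528,620,24,35,137,378]) := W.der c20017146 C ⟨h20017145, trivial⟩
          rcases W.lift c20017148 S C h20016324 h20016322 h20017147 with hh | hh
          · skip
            exact False.elim hh
          exact False.elim hh
        rcases hh with h20017125 | hh
        · skip
          have h20017168 : FusC gs ([520,525,522,630,8,16,33,129,257],[625,630,627,525,16,8,35,224,376]) := W.der c20017167 C ⟨h20017125, trivial⟩
          rcases W.lift c20017169 S C h20014301 h20016327 h20017168 with hh | hh
          · skip
            exact False.elim hh
          exact False.elim hh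
        rcases hh with h20017126 | hh
        · skip
          have h20017171 : FusC gs ([528,533,530,622,24,33,137,257],[317,359,319,284,71,64,851,464]) := W.der c20017170 C ⟨f6, h20017126, trivial⟩
          have hh := W.frat c20017172 C h20016358 h20016350 h20017171
          exact False.elim hh
        rcases hh with h20017127 | hh
        · skip
          have h20017174 : FusC gs ([5,7,124],[124,126,121]) := W.der c20017173 C ⟨f1, h20017127, f5, f2, trivial⟩
          have hh := W.frat c20017175 C h20014589 h20014543 h20017174
          exact False.elim hh
        rcases hh with h20017128 | hh
        · skip
          have h20017177 : FusC gs ([5,7,124],[124,126,121]) := W.der c20017176 C ⟨f1, h20017128, f5, f2, trivial⟩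
          have hh := W.frat c20017178 C h20014589 h20014543 h20017177
          exact False.elim hh
        rcases hh with h20017129 | hh
        · skip
          have h20017150 : FusC gs ([5,7,124],[124,126,121]) := W.der c20017149 C ⟨f1, h20017129, f5, f2, trivial⟩
          have hh := W.frat c20017151 C h20014589 h20014543 h20017150
          exact False.elim hh
        rcases hh with h20017130 | hh
        · skip
          have h20017153 : FusC gs ([5,7,124],[124,126,121]) := W.der c20017152 C ⟨f1, h20017130, f5, f2, trivial⟩
          have hh := W.frat c20017154 C h20014589 h20014543 h20017153
          exact False.elim hh
        rcases hh with h20017131 | hh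
        · skip
          have h20017156 : FusC gs ([5,7,124],[121,123,7]) := W.der c20017155 C ⟨f1, h20017115, h20017131, trivial⟩
          have hh := W.frat c20017157 C h20014547 h20014543 h20017156
          exact False.elim hh
        rcases hh with h20017132 | hh
        · skip
          have h20017159 : FusC gs ([5,7,124],[121,123,7]) := W.der c20017158 C ⟨f1, h20017115, h20017132, trivial⟩
          have hh := W.frat c20017160 C h20014547 h20014543 h20017159
          exact False.elim hh
        rcases hh with h20017133 | hh
        · skip
          have h20017180 : FusC gs ([5,7,124],[121,123,7]) := W.der c20017179 C ⟨f1, h20017115, h20017133, trivial⟩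
          have hh := W.frat c20017181 C h20014547 h20014543 h20017180
          exact False.elim hh
        rcases hh with h20017134 | hh
        · skip
          have h20017183 : FusC gs ([5,7,124],[121,123,7]) := W.der c20017182 C ⟨f1, h20017115, h20017134, trivial⟩
          have hh := W.frat c20017184 C h20014547 h20014543 h20017183
          exact False.elim hh
        exact False.elim hh
      rcases hh with h20017185 | hh
      · skip
        have h20017187 : FusC gs ([5,7,124],[126,124,123]) := W.der c20017186 C ⟨f1, h20017185, f5, trivial⟩
        have hh := W.frat c20017188 C h20014589 h20014543 h20017187
        exact False.elim hh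
      rcases hh with h20017189 | hh
      · skip
        have h20017191 : FusC gs ([5,7,124],[126,124,121]) := W.der c20017190 C ⟨f1, h20017189, f5, trivial⟩
        have hh := W.frat c20017192 C h20014589 h20014543 h20017191
        exact False.elim hh
      rcases hh with h20017193 | hh
      · skip
        have h20017195 : FusC gs ([5,7,124],[121,123,7]) := W.der c20017194 C ⟨h20017193, f5, f2, trivial⟩
        have hh := W.frat c20017196 C h20014547 h20014543 h20017195
        exact False.elim hh
      rcases hh with h20017197 | hh
      · skip
        have h20017199 : FusC gs ([5,7,124],[121,123,5]) := W.der c20017198 C ⟨h20017197, f5, f2, trivial⟩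
        have hh := W.frat c20017200 C h20014547 h20014543 h20017199
        exact False.elim hh
      rcases hh with h20017201 | hh
      · skip
        have h20017203 : FusC gs ([520,525,522,630],[7,520,5,627]) := W.der c20017202 C ⟨h20017201, trivial⟩
        have hh := W.frat c20017204 C h20016293 h20016269 h20017203
        rcases hh with h20017205 | hh
        · skip
          have h20017222 : FusC gs ([528,533,530,622,24,33,137,257],[326,33,324,90,777,461,491,670]) := W.der c20017221 C ⟨h20017205, f6, trivial⟩
          have h20017224 : FusC gs ([528,533,530,622,24,33,137,257],[528,533,530,622,24,33,137,259]) := W.der c20017223 C ⟨h20017222, trivial⟩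
          rcases W.lift c20017225 S C h20016324 h20016322 h20017224 with hh | hh
          · skip
            exact False.elim hh
          exact False.elim hh
        rcases hh with h20017206 | hh
        · skip
          have h20017227 : FusC gs ([520,525,522,630,8,16,33,129,257],[520,525,522,630,8,16,33,129,259]) := W.der c20017226 C ⟨h20017206, trivial⟩
          rcases W.lift c20017228 S C h20014301 h20016327 h20017227 with hh | hh
          · skip
            exact False.elim hh
          exact False.elim hh
        rcases hh with h20017207 | hh
        · skip
          have h20017230 : FusC gs ([528,533,530,622,24,33,137,257],[319,284,317,359,62,66,808,466]) := W.der c20017229 C ⟨f6, h20017207, trivial⟩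
          have hh := W.frat c20017231 C h20016358 h20016350 h20017230
          exact False.elim hh
        rcases hh with h20017208 | hh
        · skip
          have h20017233 : FusC gs ([520,525,522,630,8,16,33,129,257],[520,525,522,630,8,16,35,129,376]) := W.der c20017232 C ⟨h20017208, trivial⟩
          rcases W.lift c20017234 S C h20014301 h20016327 h20017233 with hh | hh
          · skip
            exact False.elim hh
          exact False.elim hh
        rcases hh with h20017209 | hh
        · skip
          have h20017236 : FusC gs ([5,7,124],[124,126,121]) := W.der c20017235 C ⟨f2, h20017209, f5, h20017201, trivial⟩
          have hh := W.frat c20017237 C h20014589 h20014543 h20017236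
          exact False.elim hh
        rcases hh with h20017210 | hh
        · skip
          have h20017239 : FusC gs ([5,7,124],[124,126,121]) := W.der c20017238 C ⟨f2, h20017210, f5, h20017201, trivial⟩
          have hh := W.frat c20017240 C h20014589 h20014543 h20017239
          exact False.elim hh
        rcases hh with h20017211 | hh
        · skip
          have h20017242 : FusC gs ([5,7,124],[124,126,121]) := W.der c20017241 C ⟨f2, h20017211, f5, h20017201, trivial⟩
          have hh := W.frat c20017243 C h20014589 h20014543 h20017242
          exact False.elim hh
        rcases hh with h20017212 | hh
        · skip
          have h20017245 : FusC gs ([5,7,124],[124,126,121]) := W.der c20017244 C ⟨f2, h20017212, f5, h20017201, trivial⟩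
          have hh := W.frat c20017246 C h20014589 h20014543 h20017245
          exact False.elim hh
        rcases hh with h20017213 | hh
        · skip
          have h20017248 : FusC gs ([5,7,124],[121,123,7]) := W.der c20017247 C ⟨h20017201, f5, h20017213, f2, trivial⟩
          have hh := W.frat c20017249 C h20014547 h20014543 h20017248
          exact False.elim hh
        rcases hh with h20017214 | hh
        · skip
          have h20017251 : FusC gs ([5,7,124],[121,123,7]) := W.der c20017250 C ⟨h20017201, f5, h20017214, f2, trivial⟩
          have hh := W.frat c20017252 C h20014547 h20014543 h20017251
          exact False.elim hh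
        rcases hh with h20017215 | hh
        · skip
          have h20017254 : FusC gs ([5,7,124],[121,123,7]) := W.der c20017253 C ⟨h20017201, f5, h20017215, f2, trivial⟩
          have hh := W.frat c20017255 C h20014547 h20014543 h20017254
          exact False.elim hh
        rcases hh with h20017216 | hh
        · skip
          have h20017257 : FusC gs ([5,7,124],[121,123,7]) := W.der c20017256 C ⟨h20017201, f5, h20017216, f2, trivial⟩
          have hh := W.frat c20017258 C h20014547 h20014543 h20017257
          exact False.elim hh
        rcases hh with h20017217 | hh
        · skip
          have h20017260 : FusC gs ([5,7,124],[121,123,5]) := W.der c20017259 C ⟨h20017201, f5, h20017217, f2, trivial⟩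
          have hh := W.frat c20017261 C h20014547 h20014543 h20017260
          exact False.elim hh
        rcases hh with h20017218 | hh
        · skip
          have h20017263 : FusC gs ([5,7,124],[121,123,5]) := W.der c20017262 C ⟨h20017201, f5, h20017218, f2, trivial⟩
          have hh := W.frat c20017264 C h20014547 h20014543 h20017263
          exact False.elim hh
        rcases hh with h20017219 | hh
        · skip
          have h20017266 : FusC gs ([5,7,124],[121,123,5]) := W.der c20017265 C ⟨h20017201, f5, h20017219, f2, trivial⟩
          have hh := W.frat c20017267 C h20014547 h20014543 h20017266
          exact False.elim hh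
        rcases hh with h20017220 | hh
        · skip
          have h20017269 : FusC gs ([5,7,124],[121,123,5]) := W.der c20017268 C ⟨h20017201, f5, h20017220, f2, trivial⟩
          have hh := W.frat c20017270 C h20014547 h20014543 h20017269
          exact False.elim hh
        exact False.elim hh
      rcases hh with h20017271 | hh
      · skip
        have h20017273 : FusC gs ([520,525,522,630],[7,520,5,627]) := W.der c20017272 C ⟨h20017271, trivial⟩
        have hh := W.frat c20017274 C h20016293 h20016269 h20017273
        rcases hh with h20017275 | hh
        · skip
          have h20017292 : FusC gs ([528,533,530,622,24,33,137,257],[326,33,324,90,777,461,491,670]) := W.der c20017291 C ⟨h20017275, f6, trivial⟩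
          have h20017294 : FusC gs ([528,533,530,622,24,33,137,257],[528,533,530,622,24,33,137,259]) := W.der c20017293 C ⟨h20017292, trivial⟩
          rcases W.lift c20017295 S C h20016324 h20016322 h20017294 with hh | hh
          · skip
            exact False.elim hh
          exact False.elim hh
        rcases hh with h20017276 | hh
        · skip
          have h20017297 : FusC gs ([520,525,522,630,8,16,33,129,257],[520,525,522,630,8,16,33,129,259]) := W.der c20017296 C ⟨h20017276, trivial⟩
          rcases W.lift c20017298 S C h20014301 h20016327 h20017297 with hh | hh
          · skip
            exact False.elim hh
          exact False.elim hh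
        rcases hh with h20017277 | hh
        · skip
          have h20017300 : FusC gs ([528,533,530,622,24,33,137,257],[319,284,317,359,62,66,808,466]) := W.der c20017299 C ⟨f6, h20017277, trivial⟩
          have hh := W.frat c20017301 C h20016358 h20016350 h20017300
          exact False.elim hh
        rcases hh with h20017278 | hh
        · skip
          have h20017303 : FusC gs ([520,525,522,630,8,16,33,129,257],[520,525,522,630,8,16,35,129,376]) := W.der c20017302 C ⟨h20017278, trivial⟩
          rcases W.lift c20017304 S C h20014301 h20016327 h20017303 with hh | hh
          · skip
            exact False.elim hh
          exact False.elim hh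
        rcases hh with h20017279 | hh
        · skip
          have h20017306 : FusC gs ([5,7,124],[126,124,121]) := W.der c20017305 C ⟨f2, h20017279, f5, h20017271, trivial⟩
          have hh := W.frat c20017307 C h20014589 h20014543 h20017306
          exact False.elim hh
        rcases hh with h20017280 | hh
        · skip
          have h20017309 : FusC gs ([5,7,124],[126,124,121]) := W.der c20017308 C ⟨f2, h20017280, f5, h20017271, trivial⟩
          have hh := W.frat c20017310 C h20014589 h20014543 h20017309
          exact False.elim hh
        rcases hh with h20017281 | hh
        · skip
          have h20017312 : FusC gs ([5,7,124],[126,124,121]) := W.der c20017311 C ⟨f2, h20017281, f5, h20017271, trivial⟩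
          have hh := W.frat c20017313 C h20014589 h20014543 h20017312
          exact False.elim hh
        rcases hh with h20017282 | hh
        · skip
          have h20017315 : FusC gs ([5,7,124],[126,124,121]) := W.der c20017314 C ⟨f2, h20017282, f5, h20017271, trivial⟩
          have hh := W.frat c20017316 C h20014589 h20014543 h20017315
          exact False.elim hh
        rcases hh with h20017283 | hh
        · skip
          have h20017318 : FusC gs ([5,7,124],[121,123,5]) := W.der c20017317 C ⟨h20017271, f5, h20017283, f2, trivial⟩
          have hh := W.frat c20017319 C h20014547 h20014543 h20017318
          exact False.elim hh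
        rcases hh with h20017284 | hh
        · skip
          have h20017321 : FusC gs ([5,7,124],[121,123,5]) := W.der c20017320 C ⟨h20017271, f5, h20017284, f2, trivial⟩
          have hh := W.frat c20017322 C h20014547 h20014543 h20017321
          exact False.elim hh
        rcases hh with h20017285 | hh
        · skip
          have h20017324 : FusC gs ([5,7,124],[121,123,5]) := W.der c20017323 C ⟨h20017271, f5, h20017285, f2, trivial⟩
          have hh := W.frat c20017325 C h20014547 h20014543 h20017324
          exact False.elim hh
        rcases hh with h20017286 | hh
        · skip
          have h20017327 : FusC gs ([5,7,124],[121,123,5]) := W.der c20017326 C ⟨h20017271, f5, h20017286, f2, trivial⟩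
          have hh := W.frat c20017328 C h20014547 h20014543 h20017327
          exact False.elim hh
        rcases hh with h20017287 | hh
        · skip
          have h20017330 : FusC gs ([5,7,124],[123,121,7]) := W.der c20017329 C ⟨h20017271, f5, h20017287, f2, trivial⟩
          have hh := W.frat c20017331 C h20014547 h20014543 h20017330
          exact False.elim hh
        rcases hh with h20017288 | hh
        · skip
          have h20017333 : FusC gs ([5,7,124],[123,121,7]) := W.der c20017332 C ⟨h20017271, f5, h20017288, f2, trivial⟩
          have hh := W.frat c20017334 C h20014547 h20014543 h20017333
          exact False.elim hh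
        rcases hh with h20017289 | hh
        · skip
          have h20017336 : FusC gs ([5,7,124],[123,121,7]) := W.der c20017335 C ⟨h20017271, f5, h20017289, f2, trivial⟩
          have hh := W.frat c20017337 C h20014547 h20014543 h20017336
          exact False.elim hh
        rcases hh with h20017290 | hh
        · skip
          have h20017339 : FusC gs ([5,7,124],[123,121,7]) := W.der c20017338 C ⟨h20017271, f5, h20017290, f2, trivial⟩
          have hh := W.frat c20017340 C h20014547 h20014543 h20017339
          exact False.elim hh
        exact False.elim hh
      rcases hh with h20017341 | hh
      · skip
        have h20017343 : FusC gs ([5,7,124],[126,124,123]) := W.der c20017342 C ⟨f1, h20017341, f5, trivial⟩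
        have hh := W.frat c20017344 C h20014589 h20014543 h20017343
        exact False.elim hh
      rcases hh with h20017345 | hh
      · skip
        have h20017347 : FusC gs ([5,7,124],[126,124,121]) := W.der c20017346 C ⟨f1, h20017345, f5, trivial⟩
        have hh := W.frat c20017348 C h20014589 h20014543 h20017347
        exact False.elim hh
      rcases hh with h20017349 | hh
      · skip
        have h20017351 : FusC gs ([520,525,522,630],[628,126,630,7]) := W.der c20017350 C ⟨h20017349, trivial⟩
        have hh := W.frat c20017352 C h20016293 h20016269 h20017351
        rcases hh with h20017353 | hh
        · skip
          have h20017396 : FusC gs ([5,7,124],[123,121,5]) := W.der c20017395 C ⟨f1, h20017349, h20017353, f2, trivial⟩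
          have hh := W.frat c20017397 C h20014547 h20014543 h20017396
          exact False.elim hh
        rcases hh with h20017354 | hh
        · skip
          have h20017399 : FusC gs ([5,7,124],[123,121,5]) := W.der c20017398 C ⟨f1, h20017349, h20017354, f2, trivial⟩
          have hh := W.frat c20017400 C h20014547 h20014543 h20017399
          exact False.elim hh
        rcases hh with h20017355 | hh
        · skip
          have h20017370 : FusC gs ([5,7,124],[123,121,5]) := W.der c20017369 C ⟨f1, h20017349, h20017355, f2, trivial⟩
          have hh := W.frat c20017371 C h20014547 h20014543 h20017370
          exact False.elim hh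
        rcases hh with h20017356 | hh
        · skip
          have h20017373 : FusC gs ([5,7,124],[123,121,5]) := W.der c20017372 C ⟨f1, h20017349, h20017356, f2, trivial⟩
          have hh := W.frat c20017374 C h20014547 h20014543 h20017373
          exact False.elim hh
        rcases hh with h20017357 | hh
        · skip
          have h20017376 : FusC gs ([520,525,522,630,8,16,33,129,257],[625,630,627,525,16,8,33,224,259]) := W.der c20017375 C ⟨h20017357, trivial⟩
          rcases W.lift c20017377 S C h20014301 h20016327 h20017376 with hh | hh
          · skip
            exact False.elim hh
          exact False.elim hh
        rcases hh with h20017358 | hh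
        · skip
          have h20017379 : FusC gs ([528,533,530,622,24,33,137,257],[57,438,59,461,903,528,281,173]) := W.der c20017378 C ⟨h20017358, f6, trivial⟩
          have h20017381 : FusC gs ([528,533,530,622,24,33,137,257],[530,535,528,620,24,35,137,378]) := W.der c20017380 C ⟨h20017379, trivial⟩
          rcases W.lift c20017382 S C h20016324 h20016322 h20017381 with hh | hh
          · skip
            exact False.elim hh
          exact False.elim hh
        rcases hh with h20017359 | hh
        · skip
          have h20017402 : FusC gs ([520,525,522,630,8,16,33,129,257],[625,630,627,525,16,8,35,224,376]) := W.der c20017401 C ⟨h20017359, trivial⟩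
          rcases W.lift c20017403 S C h20014301 h20016327 h20017402 with hh | hh
          · skip
            exact False.elim hh
          exact False.elim hh
        rcases hh with h20017360 | hh
        · skip
          have h20017405 : FusC gs ([528,533,530,622,24,33,137,257],[317,359,319,284,71,64,851,464]) := W.der c20017404 C ⟨f6, h20017360, trivial⟩
          have hh := W.frat c20017406 C h20016358 h20016350 h20017405
          exact False.elim hh
        rcases hh with h20017361 | hh
        · skip
          have h20017408 : FusC gs ([5,7,124],[124,126,121]) := W.der c20017407 C ⟨f1, h20017361, f5, f2, trivial⟩
          have hh := W.frat c20017409 C h20014589 h20014543 h20017408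
          exact False.elim hh
        rcases hh with h20017362 | hh
        · skip
          have h20017411 : FusC gs ([5,7,124],[124,126,121]) := W.der c20017410 C ⟨f1, h20017362, f5, f2, trivial⟩
          have hh := W.frat c20017412 C h20014589 h20014543 h20017411
          exact False.elim hh
        rcases hh with h20017363 | hh
        · skip
          have h20017384 : FusC gs ([5,7,124],[124,126,121]) := W.der c20017383 C ⟨f1, h20017363, f5, f2, trivial⟩
          have hh := W.frat c20017385 C h20014589 h20014543 h20017384
          exact False.elim hh
        rcases hh with h20017364 | hh
        · skip
          have h20017387 : FusC gs ([5,7,124],[124,126,121]) := W.der c20017386 C ⟨f1, h20017364, f5, f2, trivial⟩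
          have hh := W.frat c20017388 C h20014589 h20014543 h20017387
          exact False.elim hh
        rcases hh with h20017365 | hh
        · skip
          have h20017390 : FusC gs ([5,7,124],[123,121,7]) := W.der c20017389 C ⟨f1, h20017349, h20017365, trivial⟩
          have hh := W.frat c20017391 C h20014547 h20014543 h20017390
          exact False.elim hh
        rcases hh with h20017366 | hh
        · skip
          have h20017393 : FusC gs ([5,7,124],[123,121,7]) := W.der c20017392 C ⟨f1, h20017349, h20017366, trivial⟩
          have hh := W.frat c20017394 C h20014547 h20014543 h20017393
          exact False.elim hh
        rcases hh with h20017367 | hh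
        · skip
          have h20017414 : FusC gs ([5,7,124],[123,121,7]) := W.der c20017413 C ⟨f1, h20017349, h20017367, trivial⟩
          have hh := W.frat c20017415 C h20014547 h20014543 h20017414
          exact False.elim hh
        rcases hh with h20017368 | hh
        · skip
          have h20017417 : FusC gs ([5,7,124],[123,121,7]) := W.der c20017416 C ⟨f1, h20017349, h20017368, trivial⟩
          have hh := W.frat c20017418 C h20014547 h20014543 h20017417
          exact False.elim hh
        exact False.elim hh
      rcases hh with h20017419 | hh
      · skip
        have h20017421 : FusC gs ([520,525,522,630],[630,124,628,5]) := W.der c20017420 C ⟨h20017419, trivial⟩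
        have hh := W.frat c20017422 C h20016293 h20016269 h20017421
        rcases hh with h20017423 | hh
        · skip
          have h20017440 : FusC gs ([5,7,124],[123,121,7]) := W.der c20017439 C ⟨f1, h20017419, h20017423, f2, trivial⟩
          have hh := W.frat c20017441 C h20014547 h20014543 h20017440
          exact False.elim hh
        rcases hh with h20017424 | hh
        · skip
          have h20017443 : FusC gs ([5,7,124],[123,121,7]) := W.der c20017442 C ⟨f1, h20017419, h20017424, f2, trivial⟩
          have hh := W.frat c20017444 C h20014547 h20014543 h20017443
          exact False.elim hh
        rcases hh with h20017425 | hh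
        · skip
          have h20017466 : FusC gs ([5,7,124],[123,121,7]) := W.der c20017465 C ⟨f1, h20017419, h20017425, f2, trivial⟩
          have hh := W.frat c20017467 C h20014547 h20014543 h20017466
          exact False.elim hh
        rcases hh with h20017426 | hh
        · skip
          have h20017469 : FusC gs ([5,7,124],[123,121,7]) := W.der c20017468 C ⟨f1, h20017419, h20017426, f2, trivial⟩
          have hh := W.frat c20017470 C h20014547 h20014543 h20017469
          exact False.elim hh
        rcases hh with h20017427 | hh
        · skip
          have h20017446 : FusC gs ([528,533,530,622,24,33,137,257],[59,463,57,436,1020,530,352,214]) := W.der c20017445 C ⟨h20017427, f6, trivial⟩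
          have h20017448 : FusC gs ([528,533,530,622,24,33,137,257],[530,535,528,620,24,35,137,378]) := W.der c20017447 C ⟨h20017446, trivial⟩
          rcases W.lift c20017449 S C h20016324 h20016322 h20017448 with hh | hh
          · skip
            exact False.elim hh
          exact False.elim hh
        rcases hh with h20017428 | hh
        · skip
          have h20017451 : FusC gs ([520,525,522,630,8,16,33,129,257],[627,628,625,527,16,8,33,224,257]) := W.der c20017450 C ⟨h20017428, trivial⟩
          rcases W.lift c20017452 S C h20014301 h20016327 h20017451 with hh | hh
          · skip
            exact False.elim hh
          exact False.elim hh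
        rcases hh with h20017429 | hh
        · skip
          have h20017472 : FusC gs ([528,533,530,622,24,33,137,257],[324,286,326,357,69,64,808,466]) := W.der c20017471 C ⟨f6, h20017429, trivial⟩
          have hh := W.frat c20017473 C h20016358 h20016350 h20017472
          exact False.elim hh
        rcases hh with h20017430 | hh
        · skip
          have h20017475 : FusC gs ([520,525,522,630,8,16,33,129,257],[627,628,625,527,16,8,35,224,378]) := W.der c20017474 C ⟨h20017430, trivial⟩
          rcases W.lift c20017476 S C h20014301 h20016327 h20017475 with hh | hh
          · skip
            exact False.elim hh
          exact False.elim hh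
        rcases hh with h20017431 | hh
        · skip
          have h20017478 : FusC gs ([5,7,124],[124,126,123]) := W.der c20017477 C ⟨f1, h20017431, f5, f2, trivial⟩
          have hh := W.frat c20017479 C h20014589 h20014543 h20017478
          exact False.elim hh
        rcases hh with h20017432 | hh
        · skip
          have h20017481 : FusC gs ([5,7,124],[124,126,123]) := W.der c20017480 C ⟨f1, h20017432, f5, f2, trivial⟩
          have hh := W.frat c20017482 C h20014589 h20014543 h20017481
          exact False.elim hh
        rcases hh with h20017433 | hh
        · skip
          have h20017454 : FusC gs ([5,7,124],[124,126,123]) := W.der c20017453 C ⟨f1, h20017433, f5, f2, trivial⟩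
          have hh := W.frat c20017455 C h20014589 h20014543 h20017454
          exact False.elim hh
        rcases hh with h20017434 | hh
        · skip
          have h20017457 : FusC gs ([5,7,124],[124,126,123]) := W.der c20017456 C ⟨f1, h20017434, f5, f2, trivial⟩
          have hh := W.frat c20017458 C h20014589 h20014543 h20017457
          exact False.elim hh
        rcases hh with h20017435 | hh
        · skip
          have h20017484 : FusC gs ([5,7,124],[121,123,7]) := W.der c20017483 C ⟨f1, h20017419, h20017435, trivial⟩
          have hh := W.frat c20017485 C h20014547 h20014543 h20017484
          exact False.elim hh
        rcases hh with h20017436 | hh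
        · skip
          have h20017487 : FusC gs ([5,7,124],[121,123,7]) := W.der c20017486 C ⟨f1, h20017419, h20017436, trivial⟩
          have hh := W.frat c20017488 C h20014547 h20014543 h20017487
          exact False.elim hh
        rcases hh with h20017437 | hh
        · skip
          have h20017460 : FusC gs ([5,7,124],[121,123,7]) := W.der c20017459 C ⟨f1, h20017419, h20017437, trivial⟩
          have hh := W.frat c20017461 C h20014547 h20014543 h20017460
          exact False.elim hh
        rcases hh with h20017438 | hh
        · skip
          have h20017463 : FusC gs ([5,7,124],[121,123,7]) := W.der c20017462 C ⟨f1, h20017419, h20017438, trivial⟩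
          have hh := W.frat c20017464 C h20014547 h20014543 h20017463
          exact False.elim hh
        exact False.elim hh
      rcases hh with h20017489 | hh
      · skip
        have h20017491 : FusC gs ([520,525,522,630],[5,627,7,520]) := W.der c20017490 C ⟨f5, h20017489, trivial⟩
        have hh := W.frat c20017492 C h20016293 h20016269 h20017491
        rcases hh with h20017493 | hh
        · skip
          have h20017534 : FusC gs ([520,525,522,630,8,16,33,129,257],[627,628,625,527,16,8,35,224,378]) := W.der c20017533 C ⟨h20017493, trivial⟩
          rcases W.lift c20017535 S C h20014301 h20016327 h20017534 with hh | hh
          · skip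
            exact False.elim hh
          exact False.elim hh
        rcases hh with h20017494 | hh
        · skip
          have h20017537 : FusC gs ([528,533,530,622,24,33,137,257],[317,33,319,90,882,436,402,668]) := W.der c20017536 C ⟨h20017494, f6, trivial⟩
          have h20017539 : FusC gs ([528,533,530,622,24,33,137,257],[528,533,530,622,24,33,137,259]) := W.der c20017538 C ⟨h20017537, trivial⟩
          rcases W.lift c20017540 S C h20016324 h20016322 h20017539 with hh | hh
          · skip
            exact False.elim hh
          exact False.elim hh
        rcases hh with h20017495 | hh
        · skip
          have h20017510 : FusC gs ([520,525,522,630,8,16,33,129,257],[627,628,625,527,16,8,33,224,257]) := W.der c20017509 C ⟨h20017495, trivial⟩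
          rcases W.lift c20017511 S C h20014301 h20016327 h20017510 with hh | hh
          · skip
            exact False.elim hh
          exact False.elim hh
        rcases hh with h20017496 | hh
        · skip
          have h20017513 : FusC gs ([528,533,530,622,24,33,137,257],[324,286,326,357,69,64,808,466]) := W.der c20017512 C ⟨f6, h20017496, trivial⟩
          have hh := W.frat c20017514 C h20016358 h20016350 h20017513
          exact False.elim hh
        rcases hh with h20017497 | hh
        · skip
          have h20017516 : FusC gs ([5,7,124],[123,121,7]) := W.der c20017515 C ⟨f1, h20017497, f5, h20017489, trivial⟩
          have hh := W.frat c20017517 C h20014547 h20014543 h20017516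
          exact False.elim hh
        rcases hh with h20017498 | hh
        · skip
          have h20017519 : FusC gs ([5,7,124],[123,121,7]) := W.der c20017518 C ⟨f1, h20017498, f5, h20017489, trivial⟩
          have hh := W.frat c20017520 C h20014547 h20014543 h20017519
          exact False.elim hh
        rcases hh with h20017499 | hh
        · skip
          have h20017542 : FusC gs ([5,7,124],[123,121,7]) := W.der c20017541 C ⟨f1, h20017499, f5, h20017489, trivial⟩
          have hh := W.frat c20017543 C h20014547 h20014543 h20017542
          exact False.elim hh
        rcases hh with h20017500 | hh
        · skip
          have h20017545 : FusC gs ([5,7,124],[123,121,7]) := W.der c20017544 C ⟨f1, h20017500, f5, h20017489, trivial⟩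
          have hh := W.frat c20017546 C h20014547 h20014543 h20017545
          exact False.elim hh
        rcases hh with h20017501 | hh
        · skip
          have h20017522 : FusC gs ([5,7,124],[124,126,121]) := W.der c20017521 C ⟨f1, h20017501, f5, f2, trivial⟩
          have hh := W.frat c20017523 C h20014589 h20014543 h20017522
          exact False.elim hh
        rcases hh with h20017502 | hh
        · skip
          have h20017525 : FusC gs ([5,7,124],[124,126,121]) := W.der c20017524 C ⟨f1, h20017502, f5, f2, trivial⟩
          have hh := W.frat c20017526 C h20014589 h20014543 h20017525
          exact False.elim hh
        rcases hh with h20017503 | hh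
        · skip
          have h20017548 : FusC gs ([5,7,124],[124,126,121]) := W.der c20017547 C ⟨f1, h20017503, f5, f2, trivial⟩
          have hh := W.frat c20017549 C h20014589 h20014543 h20017548
          exact False.elim hh
        rcases hh with h20017504 | hh
        · skip
          have h20017551 : FusC gs ([5,7,124],[124,126,121]) := W.der c20017550 C ⟨f1, h20017504, f5, f2, trivial⟩
          have hh := W.frat c20017552 C h20014589 h20014543 h20017551
          exact False.elim hh
        rcases hh with h20017505 | hh
        · skip
          have h20017528 : FusC gs ([5,7,124],[121,123,7]) := W.der c20017527 C ⟨f2, h20017505, f5, h20017489, trivial⟩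
          have hh := W.frat c20017529 C h20014547 h20014543 h20017528
          exact False.elim hh
        rcases hh with h20017506 | hh
        · skip
          have h20017531 : FusC gs ([5,7,124],[121,123,7]) := W.der c20017530 C ⟨f2, h20017506, f5, h20017489, trivial⟩
          have hh := W.frat c20017532 C h20014547 h20014543 h20017531
          exact False.elim hh
        rcases hh with h20017507 | hh
        · skip
          have h20017554 : FusC gs ([5,7,124],[121,123,7]) := W.der c20017553 C ⟨f2, h20017507, f5, h20017489, trivial⟩
          have hh := W.frat c20017555 C h20014547 h20014543 h20017554
          exact False.elim hh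
        rcases hh with h20017508 | hh
        · skip
          have h20017557 : FusC gs ([5,7,124],[121,123,7]) := W.der c20017556 C ⟨f2, h20017508, f5, h20017489, trivial⟩
          have hh := W.frat c20017558 C h20014547 h20014543 h20017557
          exact False.elim hh
        exact False.elim hh
      rcases hh with h20017559 | hh
      · skip
        have h20017561 : FusC gs ([520,525,522,630],[5,625,7,522]) := W.der c20017560 C ⟨f5, h20017559, trivial⟩
        have hh := W.frat c20017562 C h20016293 h20016269 h20017561
        rcases hh with h20017563 | hh
        · skip
          have h20017606 : FusC gs ([528,533,530,622,24,33,137,257],[324,286,326,357,69,64,808,466]) := W.der c20017605 C ⟨f6, h20017563, trivial⟩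
          have hh := W.frat c20017607 C h20016358 h20016350 h20017606
          exact False.elim hh
        rcases hh with h20017564 | hh
        · skip
          have h20017609 : FusC gs ([520,525,522,630,8,16,33,129,257],[625,630,627,525,16,8,35,224,376]) := W.der c20017608 C ⟨h20017564, trivial⟩
          rcases W.lift c20017610 S C h20014301 h20016327 h20017609 with hh | hh
          · skip
            exact False.elim hh
          exact False.elim hh
        rcases hh with h20017565 | hh
        · skip
          have h20017580 : FusC gs ([528,533,530,622,24,33,137,257],[319,90,317,33,777,436,489,741]) := W.der c20017579 C ⟨h20017565, f6, trivial⟩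
          have h20017582 : FusC gs ([528,533,530,622,24,33,137,257],[530,535,528,620,24,35,137,378]) := W.der c20017581 C ⟨h20017580, trivial⟩
          rcases W.lift c20017583 S C h20016324 h20016322 h20017582 with hh | hh
          · skip
            exact False.elim hh
          exact False.elim hh
        rcases hh with h20017566 | hh
        · skip
          have h20017585 : FusC gs ([520,525,522,630,8,16,33,129,257],[625,630,627,525,16,8,33,224,259]) := W.der c20017584 C ⟨h20017566, trivial⟩
          rcases W.lift c20017586 S C h20014301 h20016327 h20017585 with hh | hh
          · skip
            exact False.elim hh
          exact False.elim hh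
        rcases hh with h20017567 | hh
        · skip
          have h20017612 : FusC gs ([5,7,124],[123,121,7]) := W.der c20017611 C ⟨f1, h20017567, f5, h20017559, trivial⟩
          have hh := W.frat c20017613 C h20014547 h20014543 h20017612
          exact False.elim hh
        rcases hh with h20017568 | hh
        · skip
          have h20017615 : FusC gs ([5,7,124],[123,121,7]) := W.der c20017614 C ⟨f1, h20017568, f5, h20017559, trivial⟩
          have hh := W.frat c20017616 C h20014547 h20014543 h20017615
          exact False.elim hh
        rcases hh with h20017569 | hh
        · skip
          have h20017588 : FusC gs ([5,7,124],[123,121,7]) := W.der c20017587 C ⟨f1, h20017569, f5, h20017559, trivial⟩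
          have hh := W.frat c20017589 C h20014547 h20014543 h20017588
          exact False.elim hh
        rcases hh with h20017570 | hh
        · skip
          have h20017591 : FusC gs ([5,7,124],[123,121,7]) := W.der c20017590 C ⟨f1, h20017570, f5, h20017559, trivial⟩
          have hh := W.frat c20017592 C h20014547 h20014543 h20017591
          exact False.elim hh
        rcases hh with h20017571 | hh
        · skip
          have h20017618 : FusC gs ([5,7,124],[124,126,121]) := W.der c20017617 C ⟨f1, h20017571, f5, f2, trivial⟩
          have hh := W.frat c20017619 C h20014589 h20014543 h20017618
          exact False.elim hh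
        rcases hh with h20017572 | hh
        · skip
          have h20017621 : FusC gs ([5,7,124],[124,126,121]) := W.der c20017620 C ⟨f1, h20017572, f5, f2, trivial⟩
          have hh := W.frat c20017622 C h20014589 h20014543 h20017621
          exact False.elim hh
        rcases hh with h20017573 | hh
        · skip
          have h20017594 : FusC gs ([5,7,124],[124,126,121]) := W.der c20017593 C ⟨f1, h20017573, f5, f2, trivial⟩
          have hh := W.frat c20017595 C h20014589 h20014543 h20017594
          exact False.elim hh
        rcases hh with h20017574 | hh
        · skip
          have h20017597 : FusC gs ([5,7,124],[124,126,121]) := W.der c20017596 C ⟨f1, h20017574, f5, f2, trivial⟩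
          have hh := W.frat c20017598 C h20014589 h20014543 h20017597
          exact False.elim hh
        rcases hh with h20017575 | hh
        · skip
          have h20017600 : FusC gs ([5,7,124],[123,121,7]) := W.der c20017599 C ⟨f2, h20017575, f5, h20017559, trivial⟩
          have hh := W.frat c20017601 C h20014547 h20014543 h20017600
          exact False.elim hh
        rcases hh with h20017576 | hh
        · skip
          have h20017603 : FusC gs ([5,7,124],[123,121,7]) := W.der c20017602 C ⟨f2, h20017576, f5, h20017559, trivial⟩
          have hh := W.frat c20017604 C h20014547 h20014543 h20017603
          exact False.elim hh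
        rcases hh with h20017577 | hh
        · skip
          have h20017624 : FusC gs ([5,7,124],[123,121,7]) := W.der c20017623 C ⟨f2, h20017577, f5, h20017559, trivial⟩
          have hh := W.frat c20017625 C h20014547 h20014543 h20017624
          exact False.elim hh
        rcases hh with h20017578 | hh
        · skip
          have h20017627 : FusC gs ([5,7,124],[123,121,7]) := W.der c20017626 C ⟨f2, h20017578, f5, h20017559, trivial⟩
          have hh := W.frat c20017628 C h20014547 h20014543 h20017627
          exact False.elim hh
        exact False.elim hh
      rcases hh with h20017629 | hh
      · skip
        have h20017631 : FusC gs ([5,7,124],[126,124,123]) := W.der c20017630 C ⟨f2, h20017629, f5, trivial⟩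
        have hh := W.frat c20017632 C h20014589 h20014543 h20017631
        exact False.elim hh
      rcases hh with h20017633 | hh
      · skip
        have h20017635 : FusC gs ([5,7,124],[126,124,121]) := W.der c20017634 C ⟨f2, h20017633, f5, trivial⟩
        have hh := W.frat c20017636 C h20014589 h20014543 h20017635
        exact False.elim hh
      rcases hh with h20017637 | hh
      · skip
        have h20017639 : FusC gs ([520,525,522,630],[527,124,525,5]) := W.der c20017638 C ⟨h20017637, trivial⟩
        have hh := W.frat c20017640 C h20016293 h20016269 h20017639
        rcases hh with h20017641 | hh
        · skip
          have h20017658 : FusC gs ([520,525,522,630,8,16,33,129,257],[520,525,522,630,8,16,35,129,376]) := W.der c20017657 C ⟨h20017641, trivial⟩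
          rcases W.lift c20017659 S C h20014301 h20016327 h20017658 with hh | hh
          · skip
            exact False.elim hh
          exact False.elim hh
        rcases hh with h20017642 | hh
        · skip
          have h20017661 : FusC gs ([528,533,530,622,24,33,137,257],[405,436,407,461,38,7,991,625]) := W.der c20017660 C ⟨f6, h20017642, trivial⟩
          have hh := W.frat c20017662 C h20016358 h20016350 h20017661
          exact False.elim hh
        rcases hh with h20017643 | hh
        · skip
          have h20017664 : FusC gs ([520,525,522,630,8,16,33,129,257],[520,525,522,630,8,16,33,129,259]) := W.der c20017663 C ⟨h20017643, trivial⟩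
          rcases W.lift c20017665 S C h20014301 h20016327 h20017664 with hh | hh
          · skip
            exact False.elim hh
          exact False.elim hh
        rcases hh with h20017644 | hh
        · skip
          have h20017667 : FusC gs ([528,533,530,622,24,33,137,257],[622,124,620,5,168,407,397,760]) := W.der c20017666 C ⟨f6, h20017644, trivial⟩
          have h20017669 : FusC gs ([528,533,530,622,24,33,137,257],[530,535,528,620,24,33,137,257]) := W.der c20017668 C ⟨h20017667, trivial⟩
          rcases W.lift c20017670 S C h20016324 h20016322 h20017669 with hh | hh
          · skip
            exact False.elim hh
          exact False.elim hh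
        rcases hh with h20017645 | hh
        · skip
          have h20017684 : FusC gs ([5,7,124],[121,123,5]) := W.der c20017683 C ⟨f1, h20017637, h20017645, trivial⟩
          have hh := W.frat c20017685 C h20014547 h20014543 h20017684
          exact False.elim hh
        rcases hh with h20017646 | hh
        · skip
          have h20017687 : FusC gs ([5,7,124],[121,123,5]) := W.der c20017686 C ⟨f1, h20017637, h20017646, trivial⟩
          have hh := W.frat c20017688 C h20014547 h20014543 h20017687
          exact False.elim hh
        rcases hh with h20017647 | hh
        · skip
          have h20017690 : FusC gs ([5,7,124],[121,123,5]) := W.der c20017689 C ⟨f1, h20017637, h20017647, trivial⟩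
          have hh := W.frat c20017691 C h20014547 h20014543 h20017690
          exact False.elim hh
        rcases hh with h20017648 | hh
        · skip
          have h20017693 : FusC gs ([5,7,124],[121,123,5]) := W.der c20017692 C ⟨f1, h20017637, h20017648, trivial⟩
          have hh := W.frat c20017694 C h20014547 h20014543 h20017693
          exact False.elim hh
        rcases hh with h20017649 | hh
        · skip
          have h20017672 : FusC gs ([5,7,124],[124,126,121]) := W.der c20017671 C ⟨f1, h20017637, h20017649, f5, trivial⟩
          have hh := W.frat c20017673 C h20014589 h20014543 h20017672
          exact False.elim hh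
        rcases hh with h20017650 | hh
        · skip
          have h20017675 : FusC gs ([5,7,124],[124,126,121]) := W.der c20017674 C ⟨f1, h20017637, h20017650, f5, trivial⟩
          have hh := W.frat c20017676 C h20014589 h20014543 h20017675
          exact False.elim hh
        rcases hh with h20017651 | hh
        · skip
          have h20017678 : FusC gs ([5,7,124],[124,126,121]) := W.der c20017677 C ⟨f1, h20017637, h20017651, f5, trivial⟩
          have hh := W.frat c20017679 C h20014589 h20014543 h20017678
          exact False.elim hh
        rcases hh with h20017652 | hh
        · skip
          have h20017681 : FusC gs ([5,7,124],[124,126,121]) := W.der c20017680 C ⟨f1, h20017637, h20017652, f5, trivial⟩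
          have hh := W.frat c20017682 C h20014589 h20014543 h20017681
          exact False.elim hh
        rcases hh with h20017653 | hh
        · skip
          have h20017696 : FusC gs ([5,7,124],[126,124,123]) := W.der c20017695 C ⟨f1, h20017653, f5, h20017637, trivial⟩
          have hh := W.frat c20017697 C h20014589 h20014543 h20017696
          exact False.elim hh
        rcases hh with h20017654 | hh
        · skip
          have h20017699 : FusC gs ([5,7,124],[126,124,123]) := W.der c20017698 C ⟨f1, h20017654, f5, h20017637, trivial⟩
          have hh := W.frat c20017700 C h20014589 h20014543 h20017699
          exact False.elim hh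
        rcases hh with h20017655 | hh
        · skip
          have h20017702 : FusC gs ([5,7,124],[126,124,123]) := W.der c20017701 C ⟨f1, h20017655, f5, h20017637, trivial⟩
          have hh := W.frat c20017703 C h20014589 h20014543 h20017702
          exact False.elim hh
        rcases hh with h20017656 | hh
        · skip
          have h20017705 : FusC gs ([5,7,124],[126,124,123]) := W.der c20017704 C ⟨f1, h20017656, f5, h20017637, trivial⟩
          have hh := W.frat c20017706 C h20014589 h20014543 h20017705
          exact False.elim hh
        exact False.elim hh
      rcases hh with h20017707 | hh
      · skip
        have h20017709 : FusC gs ([520,525,522,630],[527,126,525,7]) := W.der c20017708 C ⟨h20017707, trivial⟩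
        have hh := W.frat c20017710 C h20016293 h20016269 h20017709
        rcases hh with h20017711 | hh
        · skip
          have h20017728 : FusC gs ([520,525,522,630,8,16,33,129,257],[520,525,522,630,8,16,35,129,376]) := W.der c20017727 C ⟨h20017711, trivial⟩
          rcases W.lift c20017729 S C h20014301 h20016327 h20017728 with hh | hh
          · skip
            exact False.elim hh
          exact False.elim hh
        rcases hh with h20017712 | hh
        · skip
          have h20017731 : FusC gs ([528,533,530,622,24,33,137,257],[622,124,620,5,170,494,502,760]) := W.der c20017730 C ⟨f6, h20017712, trivial⟩
          have h20017733 : FusC gs ([528,533,530,622,24,33,137,257],[530,535,528,620,24,33,137,257]) := W.der c20017732 C ⟨h20017731, trivial⟩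
          rcases W.lift c20017734 S C h20016324 h20016322 h20017733 with hh | hh
          · skip
            exact False.elim hh
          exact False.elim hh
        rcases hh with h20017713 | hh
        · skip
          have h20017736 : FusC gs ([520,525,522,630,8,16,33,129,257],[520,525,522,630,8,16,33,129,259]) := W.der c20017735 C ⟨h20017713, trivial⟩
          rcases W.lift c20017737 S C h20014301 h20016327 h20017736 with hh | hh
          · skip
            exact False.elim hh
          exact False.elim hh
        rcases hh with h20017714 | hh
        · skip
          have h20017739 : FusC gs ([528,533,530,622,24,33,137,257],[407,463,405,438,95,126,991,520]) := W.der c20017738 C ⟨f6, h20017714, trivial⟩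
          have hh := W.frat c20017740 C h20016358 h20016350 h20017739
          exact False.elim hh
        rcases hh with h20017715 | hh
        · skip
          have h20017754 : FusC gs ([5,7,124],[123,121,5]) := W.der c20017753 C ⟨f1, h20017707, h20017715, trivial⟩
          have hh := W.frat c20017755 C h20014547 h20014543 h20017754
          exact False.elim hh
        rcases hh with h20017716 | hh
        · skip
          have h20017757 : FusC gs ([5,7,124],[123,121,5]) := W.der c20017756 C ⟨f1, h20017707, h20017716, trivial⟩
          have hh := W.frat c20017758 C h20014547 h20014543 h20017757
          exact False.elim hh
        rcases hh with h20017717 | hh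
        · skip
          have h20017760 : FusC gs ([5,7,124],[123,121,5]) := W.der c20017759 C ⟨f1, h20017707, h20017717, trivial⟩
          have hh := W.frat c20017761 C h20014547 h20014543 h20017760
          exact False.elim hh
        rcases hh with h20017718 | hh
        · skip
          have h20017763 : FusC gs ([5,7,124],[123,121,5]) := W.der c20017762 C ⟨f1, h20017707, h20017718, trivial⟩
          have hh := W.frat c20017764 C h20014547 h20014543 h20017763
          exact False.elim hh
        rcases hh with h20017719 | hh
        · skip
          have h20017766 : FusC gs ([5,7,124],[126,124,121]) := W.der c20017765 C ⟨f1, h20017707, h20017719, f5, trivial⟩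
          have hh := W.frat c20017767 C h20014589 h20014543 h20017766
          exact False.elim hh
        rcases hh with h20017720 | hh
        · skip
          have h20017769 : FusC gs ([5,7,124],[126,124,121]) := W.der c20017768 C ⟨f1, h20017707, h20017720, f5, trivial⟩
          have hh := W.frat c20017770 C h20014589 h20014543 h20017769
          exact False.elim hh
        rcases hh with h20017721 | hh
        · skip
          have h20017772 : FusC gs ([5,7,124],[126,124,121]) := W.der c20017771 C ⟨f1, h20017707, h20017721, f5, trivial⟩
          have hh := W.frat c20017773 C h20014589 h20014543 h20017772
          exact False.elim hh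
        rcases hh with h20017722 | hh
        · skip
          have h20017775 : FusC gs ([5,7,124],[126,124,121]) := W.der c20017774 C ⟨f1, h20017707, h20017722, f5, trivial⟩
          have hh := W.frat c20017776 C h20014589 h20014543 h20017775
          exact False.elim hh
        rcases hh with h20017723 | hh
        · skip
          have h20017742 : FusC gs ([5,7,124],[124,126,121]) := W.der c20017741 C ⟨f1, h20017723, f5, h20017707, trivial⟩
          have hh := W.frat c20017743 C h20014589 h20014543 h20017742
          exact False.elim hh
        rcases hh with h20017724 | hh
        · skip
          have h20017745 : FusC gs ([5,7,124],[124,126,121]) := W.der c20017744 C ⟨f1, h20017724, f5, h20017707, trivial⟩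
          have hh := W.frat c20017746 C h20014589 h20014543 h20017745
          exact False.elim hh
        rcases hh with h20017725 | hh
        · skip
          have h20017748 : FusC gs ([5,7,124],[124,126,121]) := W.der c20017747 C ⟨f1, h20017725, f5, h20017707, trivial⟩
          have hh := W.frat c20017749 C h20014589 h20014543 h20017748
          exact False.elim hh
        rcases hh with h20017726 | hh
        · skip
          have h20017751 : FusC gs ([5,7,124],[124,126,121]) := W.der c20017750 C ⟨f1, h20017726, f5, h20017707, trivial⟩
          have hh := W.frat c20017752 C h20014589 h20014543 h20017751
          exact False.elim hh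
        exact False.elim hh
      rcases hh with h20017777 | hh
      · skip
        have h20017779 : FusC gs ([5,7,124],[126,124,123]) := W.der c20017778 C ⟨f1, h20017777, f5, trivial⟩
        have hh := W.frat c20017780 C h20014589 h20014543 h20017779
        exact False.elim hh
      rcases hh with h20017781 | hh
      · skip
        have h20017783 : FusC gs ([5,7,124],[124,126,121]) := W.der c20017782 C ⟨f1, h20017781, f5, trivial⟩
        have hh := W.frat c20017784 C h20014589 h20014543 h20017783
        exact False.elim hh
      rcases hh with h20017785 | hh
      · skip
        have h20017787 : FusC gs ([5,7,124],[123,121,5]) := W.der c20017786 C ⟨h20017785, f5, f1, trivial⟩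
        have hh := W.frat c20017788 C h20014547 h20014543 h20017787
        exact False.elim hh
      rcases hh with h20017789 | hh
      · skip
        have h20017791 : FusC gs ([5,7,124],[123,121,7]) := W.der c20017790 C ⟨h20017789, f5, f1, trivial⟩
        have hh := W.frat c20017792 C h20014547 h20014543 h20017791
        exact False.elim hh
      rcases hh with h20017793 | hh
      · skip
        have h20017795 : FusC gs ([520,525,522,630],[527,126,525,7]) := W.der c20017794 C ⟨f5, h20017793, trivial⟩
        have hh := W.frat c20017796 C h20016293 h20016269 h20017795
        rcases hh with h20017797 | hh
        · skip
          have h20017814 : FusC gs ([520,525,522,630,8,16,33,129,257],[520,525,522,630,8,16,35,129,376]) := W.der c20017813 C ⟨h20017797, trivial⟩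
          rcases W.lift c20017815 S C h20014301 h20016327 h20017814 with hh | hh
          · skip
            exact False.elim hh
          exact False.elim hh
        rcases hh with h20017798 | hh
        · skip
          have h20017817 : FusC gs ([528,533,530,622,24,33,137,257],[622,124,620,5,170,494,502,760]) := W.der c20017816 C ⟨f6, h20017798, trivial⟩
          have h20017819 : FusC gs ([528,533,530,622,24,33,137,257],[530,535,528,620,24,33,137,257]) := W.der c20017818 C ⟨h20017817, trivial⟩
          rcases W.lift c20017820 S C h20016324 h20016322 h20017819 with hh | hh
          · skip
            exact False.elim hh
          exact False.elim hh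
        rcases hh with h20017799 | hh
        · skip
          have h20017822 : FusC gs ([520,525,522,630,8,16,33,129,257],[520,525,522,630,8,16,33,129,259]) := W.der c20017821 C ⟨h20017799, trivial⟩
          rcases W.lift c20017823 S C h20014301 h20016327 h20017822 with hh | hh
          · skip
            exact False.elim hh
          exact False.elim hh
        rcases hh with h20017800 | hh
        · skip
          have h20017825 : FusC gs ([528,533,530,622,24,33,137,257],[407,463,405,438,95,126,991,520]) := W.der c20017824 C ⟨f6, h20017800, trivial⟩
          have hh := W.frat c20017826 C h20016358 h20016350 h20017825
          exact False.elim hh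
        rcases hh with h20017801 | hh
        · skip
          have h20017840 : FusC gs ([5,7,124],[121,123,7]) := W.der c20017839 C ⟨h20017793, f5, h20017801, f1, trivial⟩
          have hh := W.frat c20017841 C h20014547 h20014543 h20017840
          exact False.elim hh
        rcases hh with h20017802 | hh
        · skip
          have h20017843 : FusC gs ([5,7,124],[121,123,7]) := W.der c20017842 C ⟨h20017793, f5, h20017802, f1, trivial⟩
          have hh := W.frat c20017844 C h20014547 h20014543 h20017843
          exact False.elim hh
        rcases hh with h20017803 | hh
        · skip
          have h20017846 : FusC gs ([5,7,124],[121,123,7]) := W.der c20017845 C ⟨h20017793, f5, h20017803, f1, trivial⟩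
          have hh := W.frat c20017847 C h20014547 h20014543 h20017846
          exact False.elim hh
        rcases hh with h20017804 | hh
        · skip
          have h20017849 : FusC gs ([5,7,124],[121,123,7]) := W.der c20017848 C ⟨h20017793, f5, h20017804, f1, trivial⟩
          have hh := W.frat c20017850 C h20014547 h20014543 h20017849
          exact False.elim hh
        rcases hh with h20017805 | hh
        · skip
          have h20017852 : FusC gs ([5,7,124],[121,123,7]) := W.der c20017851 C ⟨h20017793, f5, h20017805, trivial⟩
          have hh := W.frat c20017853 C h20014547 h20014543 h20017852
          exact False.elim hh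
        rcases hh with h20017806 | hh
        · skip
          have h20017855 : FusC gs ([5,7,124],[121,123,7]) := W.der c20017854 C ⟨h20017793, f5, h20017806, trivial⟩
          have hh := W.frat c20017856 C h20014547 h20014543 h20017855
          exact False.elim hh
        rcases hh with h20017807 | hh
        · skip
          have h20017858 : FusC gs ([5,7,124],[121,123,7]) := W.der c20017857 C ⟨h20017793, f5, h20017807, trivial⟩
          have hh := W.frat c20017859 C h20014547 h20014543 h20017858
          exact False.elim hh
        rcases hh with h20017808 | hh
        · skip
          have h20017861 : FusC gs ([5,7,124],[121,123,7]) := W.der c20017860 C ⟨h20017793, f5, h20017808, trivial⟩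
          have hh := W.frat c20017862 C h20014547 h20014543 h20017861
          exact False.elim hh
        rcases hh with h20017809 | hh
        · skip
          have h20017828 : FusC gs ([5,7,124],[126,124,123]) := W.der c20017827 C ⟨f1, h20017809, f5, h20017793, trivial⟩
          have hh := W.frat c20017829 C h20014589 h20014543 h20017828
          exact False.elim hh
        rcases hh with h20017810 | hh
        · skip
          have h20017831 : FusC gs ([5,7,124],[126,124,123]) := W.der c20017830 C ⟨f1, h20017810, f5, h20017793, trivial⟩
          have hh := W.frat c20017832 C h20014589 h20014543 h20017831
          exact False.elim hh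
        rcases hh with h20017811 | hh
        · skip
          have h20017834 : FusC gs ([5,7,124],[126,124,123]) := W.der c20017833 C ⟨f1, h20017811, f5, h20017793, trivial⟩
          have hh := W.frat c20017835 C h20014589 h20014543 h20017834
          exact False.elim hh
        rcases hh with h20017812 | hh
        · skip
          have h20017837 : FusC gs ([5,7,124],[126,124,123]) := W.der c20017836 C ⟨f1, h20017812, f5, h20017793, trivial⟩
          have hh := W.frat c20017838 C h20014589 h20014543 h20017837
          exact False.elim hh
        exact False.elim hh
      rcases hh with h20017863 | hh
      · skip
        have h20017865 : FusC gs ([520,525,522,630],[628,5,630,124]) := W.der c20017864 C ⟨f5, h20017863, trivial⟩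
        have hh := W.frat c20017866 C h20016293 h20016269 h20017865
        rcases hh with h20017867 | hh
        · skip
          have h20017884 : FusC gs ([528,533,530,622,24,33,137,257],[407,436,405,461,36,126,932,627]) := W.der c20017883 C ⟨f6, h20017867, trivial⟩
          have hh := W.frat c20017885 C h20016358 h20016350 h20017884
          exact False.elim hh
        rcases hh with h20017868 | hh
        · skip
          have h20017887 : FusC gs ([520,525,522,630,8,16,33,129,257],[627,628,625,527,16,8,33,224,257]) := W.der c20017886 C ⟨h20017868, trivial⟩
          rcases W.lift c20017888 S C h20014301 h20016327 h20017887 with hh | hh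
          · skip
            exact False.elim hh
          exact False.elim hh
        rcases hh with h20017869 | hh
        · skip
          have h20017908 : FusC gs ([528,533,530,622,24,33,137,257],[59,438,57,461,901,619,354,175]) := W.der c20017907 C ⟨h20017869, f6, trivial⟩
          have h20017910 : FusC gs ([528,533,530,622,24,33,137,257],[530,535,528,620,24,35,137,378]) := W.der c20017909 C ⟨h20017908, trivial⟩
          rcases W.lift c20017911 S C h20016324 h20016322 h20017910 with hh | hh
          · skip
            exact False.elim hh
          exact False.elim hh
        rcases hh with h20017870 | hh
        · skip
          have h20017913 : FusC gs ([520,525,522,630,8,16,33,129,257],[627,628,625,527,16,8,35,224,378]) := W.der c20017912 C ⟨h20017870, trivial⟩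
          rcases W.lift c20017914 S C h20014301 h20016327 h20017913 with hh | hh
          · skip
            exact False.elim hh
          exact False.elim hh
        rcases hh with h20017871 | hh
        · skip
          have h20017890 : FusC gs ([5,7,124],[121,123,5]) := W.der c20017889 C ⟨h20017863, f5, h20017871, f1, trivial⟩
          have hh := W.frat c20017891 C h20014547 h20014543 h20017890
          exact False.elim hh
        rcases hh with h20017872 | hh
        · skip
          have h20017893 : FusC gs ([5,7,124],[121,123,5]) := W.der c20017892 C ⟨h20017863, f5, h20017872, f1, trivial⟩
          have hh := W.frat c20017894 C h20014547 h20014543 h20017893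
          exact False.elim hh
        rcases hh with h20017873 | hh
        · skip
          have h20017916 : FusC gs ([5,7,124],[121,123,5]) := W.der c20017915 C ⟨h20017863, f5, h20017873, f1, trivial⟩
          have hh := W.frat c20017917 C h20014547 h20014543 h20017916
          exact False.elim hh
        rcases hh with h20017874 | hh
        · skip
          have h20017919 : FusC gs ([5,7,124],[121,123,5]) := W.der c20017918 C ⟨h20017863, f5, h20017874, f1, trivial⟩
          have hh := W.frat c20017920 C h20014547 h20014543 h20017919
          exact False.elim hh
        rcases hh with h20017875 | hh
        · skip
          have h20017922 : FusC gs ([5,7,124],[124,126,123]) := W.der c20017921 C ⟨f2, h20017875, f5, h20017863, trivial⟩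
          have hh := W.frat c20017923 C h20014589 h20014543 h20017922
          exact False.elim hh
        rcases hh with h20017876 | hh
        · skip
          have h20017925 : FusC gs ([5,7,124],[124,126,123]) := W.der c20017924 C ⟨f2, h20017876, f5, h20017863, trivial⟩
          have hh := W.frat c20017926 C h20014589 h20014543 h20017925
          exact False.elim hh
        rcases hh with h20017877 | hh
        · skip
          have h20017896 : FusC gs ([5,7,124],[124,126,123]) := W.der c20017895 C ⟨f2, h20017877, f5, h20017863, trivial⟩
          have hh := W.frat c20017897 C h20014589 h20014543 h20017896
          exact False.elim hh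
        rcases hh with h20017878 | hh
        · skip
          have h20017899 : FusC gs ([5,7,124],[124,126,123]) := W.der c20017898 C ⟨f2, h20017878, f5, h20017863, trivial⟩
          have hh := W.frat c20017900 C h20014589 h20014543 h20017899
          exact False.elim hh
        rcases hh with h20017879 | hh
        · skip
          have h20017902 : FusC gs ([5,7,124],[124,126,121]) := W.der c20017901 C ⟨f1, h20017879, f5, f2, trivial⟩
          have hh := W.frat c20017903 C h20014589 h20014543 h20017902
          exact False.elim hh
        rcases hh with h20017880 | hh
        · skip
          have h20017905 : FusC gs ([5,7,124],[124,126,121]) := W.der c20017904 C ⟨f1, h20017880, f5, f2, trivial⟩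
          have hh := W.frat c20017906 C h20014589 h20014543 h20017905
          exact False.elim hh
        rcases hh with h20017881 | hh
        · skip
          have h20017928 : FusC gs ([5,7,124],[124,126,121]) := W.der c20017927 C ⟨f1, h20017881, f5, f2, trivial⟩
          have hh := W.frat c20017929 C h20014589 h20014543 h20017928
          exact False.elim hh
        rcases hh with h20017882 | hh
        · skip
          have h20017931 : FusC gs ([5,7,124],[124,126,121]) := W.der c20017930 C ⟨f1, h20017882, f5, f2, trivial⟩
          have hh := W.frat c20017932 C h20014589 h20014543 h20017931
          exact False.elim hh
        exact False.elim hh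
      rcases hh with h20017933 | hh
      · skip
        have h20017935 : FusC gs ([5,7,124],[123,121,5]) := W.der c20017934 C ⟨h20017933, f5, f1, trivial⟩
        have hh := W.frat c20017936 C h20014547 h20014543 h20017935
        exact False.elim hh
      rcases hh with h20017937 | hh
      · skip
        have h20017939 : FusC gs ([5,7,124],[123,121,7]) := W.der c20017938 C ⟨h20017937, f5, f1, trivial⟩
        have hh := W.frat c20017940 C h20014547 h20014543 h20017939
        exact False.elim hh
      rcases hh with h20017941 | hh
      · skip
        have h20017943 : FusC gs ([520,525,522,630],[126,522,124,625]) := W.der c20017942 C ⟨h20017941, trivial⟩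
        have hh := W.frat c20017944 C h20016293 h20016269 h20017943
        rcases hh with h20017945 | hh
        · skip
          have h20017988 : FusC gs ([5,7,124],[126,124,123]) := W.der c20017987 C ⟨f1, h20017945, f5, h20017941, trivial⟩
          have hh := W.frat c20017989 C h20014589 h20014543 h20017988
          exact False.elim hh
        rcases hh with h20017946 | hh
        · skip
          have h20017991 : FusC gs ([5,7,124],[126,124,123]) := W.der c20017990 C ⟨f1, h20017946, f5, h20017941, trivial⟩
          have hh := W.frat c20017992 C h20014589 h20014543 h20017991
          exact False.elim hh
        rcases hh with h20017947 | hh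
        · skip
          have h20017994 : FusC gs ([5,7,124],[126,124,123]) := W.der c20017993 C ⟨f1, h20017947, f5, h20017941, trivial⟩
          have hh := W.frat c20017995 C h20014589 h20014543 h20017994
          exact False.elim hh
        rcases hh with h20017948 | hh
        · skip
          have h20017997 : FusC gs ([5,7,124],[126,124,123]) := W.der c20017996 C ⟨f1, h20017948, f5, h20017941, trivial⟩
          have hh := W.frat c20017998 C h20014589 h20014543 h20017997
          exact False.elim hh
        rcases hh with h20017949 | hh
        · skip
          have h20017962 : FusC gs ([528,533,530,622,24,33,137,257],[627,701,625,710,168,920,898,668]) := W.der c20017961 C ⟨f6, h20017949, trivial⟩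
          have h20017964 : FusC gs ([528,533,530,622,24,33,137,257],[619,620,617,535,24,35,139,378]) := W.der c20017963 C ⟨h20017962, trivial⟩
          rcases W.lift c20017965 S C h20016324 h20016322 h20017964 with hh | hh
          · skip
            exact False.elim hh
          exact False.elim hh
        rcases hh with h20017950 | hh
        · skip
          have h20017967 : FusC gs ([520,525,522,630,8,16,33,129,257],[520,525,522,630,8,16,33,129,259]) := W.der c20017966 C ⟨h20017950, trivial⟩
          rcases W.lift c20017968 S C h20014301 h20016327 h20017967 with hh | hh
          · skip
            exact False.elim hh
          exact False.elim hh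
        rcases hh with h20017951 | hh
        · skip
          have h20017970 : FusC gs ([528,533,530,622,24,33,137,257],[324,357,326,286,62,59,808,466]) := W.der c20017969 C ⟨f6, h20017951, trivial⟩
          have hh := W.frat c20017971 C h20016358 h20016350 h20017970
          exact False.elim hh
        rcases hh with h20017952 | hh
        · skip
          have h20017973 : FusC gs ([520,525,522,630,8,16,33,129,257],[520,525,522,630,8,16,35,129,376]) := W.der c20017972 C ⟨h20017952, trivial⟩
          rcases W.lift c20017974 S C h20014301 h20016327 h20017973 with hh | hh
          · skip
            exact False.elim hh
          exact False.elim hh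
        rcases hh with h20017953 | hh
        · skip
          have h20017976 : FusC gs ([5,7,124],[121,123,7]) := W.der c20017975 C ⟨h20017941, f5, h20017953, f1, trivial⟩
          have hh := W.frat c20017977 C h20014547 h20014543 h20017976
          exact False.elim hh
        rcases hh with h20017954 | hh
        · skip
          have h20017979 : FusC gs ([5,7,124],[121,123,7]) := W.der c20017978 C ⟨h20017941, f5, h20017954, f1, trivial⟩
          have hh := W.frat c20017980 C h20014547 h20014543 h20017979
          exact False.elim hh
        rcases hh with h20017955 | hh
        · skip
          have h20017982 : FusC gs ([5,7,124],[121,123,7]) := W.der c20017981 C ⟨h20017941, f5, h20017955, f1, trivial⟩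
          have hh := W.frat c20017983 C h20014547 h20014543 h20017982
          exact False.elim hh
        rcases hh with h20017956 | hh
        · skip
          have h20017985 : FusC gs ([5,7,124],[121,123,7]) := W.der c20017984 C ⟨h20017941, f5, h20017956, f1, trivial⟩
          have hh := W.frat c20017986 C h20014547 h20014543 h20017985
          exact False.elim hh
        rcases hh with h20017957 | hh
        · skip
          have h20018000 : FusC gs ([5,7,124],[123,121,5]) := W.der c20017999 C ⟨h20017941, f5, h20017957, f1, trivial⟩
          have hh := W.frat c20018001 C h20014547 h20014543 h20018000
          exact False.elim hh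
        rcases hh with h20017958 | hh
        · skip
          have h20018003 : FusC gs ([5,7,124],[123,121,5]) := W.der c20018002 C ⟨h20017941, f5, h20017958, f1, trivial⟩
          have hh := W.frat c20018004 C h20014547 h20014543 h20018003
          exact False.elim hh
        rcases hh with h20017959 | hh
        · skip
          have h20018006 : FusC gs ([5,7,124],[123,121,5]) := W.der c20018005 C ⟨h20017941, f5, h20017959, f1, trivial⟩
          have hh := W.frat c20018007 C h20014547 h20014543 h20018006
          exact False.elim hh
        rcases hh with h20017960 | hh
        · skip
          have h20018009 : FusC gs ([5,7,124],[123,121,5]) := W.der c20018008 C ⟨h20017941, f5, h20017960, f1, trivial⟩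
          have hh := W.frat c20018010 C h20014547 h20014543 h20018009
          exact False.elim hh
        exact False.elim hh
      rcases hh with h20018011 | hh
      · skip
        have h20018013 : FusC gs ([520,525,522,630],[124,522,126,625]) := W.der c20018012 C ⟨h20018011, trivial⟩
        have hh := W.frat c20018014 C h20016293 h20016269 h20018013
        rcases hh with h20018015 | hh
        · skip
          have h20018058 : FusC gs ([5,7,124],[124,126,123]) := W.der c20018057 C ⟨f1, h20018015, f5, h20018011, trivial⟩
          have hh := W.frat c20018059 C h20014589 h20014543 h20018058
          exact False.elim hh
        rcases hh with h20018016 | hh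
        · skip
          have h20018061 : FusC gs ([5,7,124],[124,126,123]) := W.der c20018060 C ⟨f1, h20018016, f5, h20018011, trivial⟩
          have hh := W.frat c20018062 C h20014589 h20014543 h20018061
          exact False.elim hh
        rcases hh with h20018017 | hh
        · skip
          have h20018064 : FusC gs ([5,7,124],[124,126,123]) := W.der c20018063 C ⟨f1, h20018017, f5, h20018011, trivial⟩
          have hh := W.frat c20018065 C h20014589 h20014543 h20018064
          exact False.elim hh
        rcases hh with h20018018 | hh
        · skip
          have h20018067 : FusC gs ([5,7,124],[124,126,123]) := W.der c20018066 C ⟨f1, h20018018, f5, h20018011, trivial⟩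
          have hh := W.frat c20018068 C h20014589 h20014543 h20018067
          exact False.elim hh
        rcases hh with h20018019 | hh
        · skip
          have h20018032 : FusC gs ([528,533,530,622,24,33,137,257],[319,359,317,284,69,57,808,466]) := W.der c20018031 C ⟨f6, h20018019, trivial⟩
          have hh := W.frat c20018033 C h20016358 h20016350 h20018032
          exact False.elim hh
        rcases hh with h20018020 | hh
        · skip
          have h20018035 : FusC gs ([520,525,522,630,8,16,33,129,257],[520,525,522,630,8,16,33,129,259]) := W.der c20018034 C ⟨h20018020, trivial⟩
          rcases W.lift c20018036 S C h20014301 h20016327 h20018035 with hh | hh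
          · skip
            exact False.elim hh
          exact False.elim hh
        rcases hh with h20018021 | hh
        · skip
          have h20018038 : FusC gs ([528,533,530,622,24,33,137,257],[625,703,627,708,168,922,898,741]) := W.der c20018037 C ⟨f6, h20018021, trivial⟩
          have h20018040 : FusC gs ([528,533,530,622,24,33,137,257],[619,620,617,535,24,35,139,378]) := W.der c20018039 C ⟨h20018038, trivial⟩
          rcases W.lift c20018041 S C h20016324 h20016322 h20018040 with hh | hh
          · skip
            exact False.elim hh
          exact False.elim hh
        rcases hh with h20018022 | hh
        · skip
          have h20018043 : FusC gs ([520,525,522,630,8,16,33,129,257],[520,525,522,630,8,16,35,129,376]) := W.der c20018042 C ⟨h20018022, trivial⟩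
          rcases W.lift c20018044 S C h20014301 h20016327 h20018043 with hh | hh
          · skip
            exact False.elim hh
          exact False.elim hh
        rcases hh with h20018023 | hh
        · skip
          have h20018070 : FusC gs ([5,7,124],[121,123,5]) := W.der c20018069 C ⟨h20018011, f5, h20018023, f1, trivial⟩
          have hh := W.frat c20018071 C h20014547 h20014543 h20018070
          exact False.elim hh
        rcases hh with h20018024 | hh
        · skip
          have h20018073 : FusC gs ([5,7,124],[121,123,5]) := W.der c20018072 C ⟨h20018011, f5, h20018024, f1, trivial⟩
          have hh := W.frat c20018074 C h20014547 h20014543 h20018073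
          exact False.elim hh
        rcases hh with h20018025 | hh
        · skip
          have h20018076 : FusC gs ([5,7,124],[121,123,5]) := W.der c20018075 C ⟨h20018011, f5, h20018025, f1, trivial⟩
          have hh := W.frat c20018077 C h20014547 h20014543 h20018076
          exact False.elim hh
        rcases hh with h20018026 | hh
        · skip
          have h20018079 : FusC gs ([5,7,124],[121,123,5]) := W.der c20018078 C ⟨h20018011, f5, h20018026, f1, trivial⟩
          have hh := W.frat c20018080 C h20014547 h20014543 h20018079
          exact False.elim hh
        rcases hh with h20018027 | hh
        · skip
          have h20018046 : FusC gs ([5,7,124],[121,123,7]) := W.der c20018045 C ⟨h20018011, f5, h20018027, f1, trivial⟩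
          have hh := W.frat c20018047 C h20014547 h20014543 h20018046
          exact False.elim hh
        rcases hh with h20018028 | hh
        · skip
          have h20018049 : FusC gs ([5,7,124],[121,123,7]) := W.der c20018048 C ⟨h20018011, f5, h20018028, f1, trivial⟩
          have hh := W.frat c20018050 C h20014547 h20014543 h20018049
          exact False.elim hh
        rcases hh with h20018029 | hh
        · skip
          have h20018052 : FusC gs ([5,7,124],[121,123,7]) := W.der c20018051 C ⟨h20018011, f5, h20018029, f1, trivial⟩
          have hh := W.frat c20018053 C h20014547 h20014543 h20018052
          exact False.elim hh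
        rcases hh with h20018030 | hh
        · skip
          have h20018055 : FusC gs ([5,7,124],[121,123,7]) := W.der c20018054 C ⟨h20018011, f5, h20018030, f1, trivial⟩
          have hh := W.frat c20018056 C h20014547 h20014543 h20018055
          exact False.elim hh
        exact False.elim hh
      rcases hh with h20018081 | hh
      · skip
        have h20018083 : FusC gs ([520,525,522,630],[525,5,527,124]) := W.der c20018082 C ⟨h20018081, trivial⟩
        have hh := W.frat c20018084 C h20016293 h20016269 h20018083
        rcases hh with h20018085 | hh
        · skip
          have h20018102 : FusC gs ([520,525,522,630,8,16,33,129,257],[520,525,522,630,8,16,35,129,376]) := W.der c20018101 C ⟨h20018085, trivial⟩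
          rcases W.lift c20018103 S C h20014301 h20016327 h20018102 with hh | hh
          · skip
            exact False.elim hh
          exact False.elim hh
        rcases hh with h20018086 | hh
        · skip
          have h20018105 : FusC gs ([528,533,530,622,24,33,137,257],[59,461,57,438,1022,619,283,175]) := W.der c20018104 C ⟨h20018086, f6, trivial⟩
          have h20018107 : FusC gs ([528,533,530,622,24,33,137,257],[530,535,528,620,24,35,137,378]) := W.der c20018106 C ⟨h20018105, trivial⟩
          rcases W.lift c20018108 S C h20016324 h20016322 h20018107 with hh | hh
          · skip
            exact False.elim hh
          exact False.elim hh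
        rcases hh with h20018087 | hh
        · skip
          have h20018110 : FusC gs ([520,525,522,630,8,16,33,129,257],[520,525,522,630,8,16,33,129,259]) := W.der c20018109 C ⟨h20018087, trivial⟩
          rcases W.lift c20018111 S C h20014301 h20016327 h20018110 with hh | hh
          · skip
            exact False.elim hh
          exact False.elim hh
        rcases hh with h20018088 | hh
        · skip
          have h20018113 : FusC gs ([528,533,530,622,24,33,137,257],[324,286,326,357,69,64,808,466]) := W.der c20018112 C ⟨f6, h20018088, trivial⟩
          have hh := W.frat c20018114 C h20016358 h20016350 h20018113
          exact False.elim hh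
        rcases hh with h20018089 | hh
        · skip
          have h20018116 : FusC gs ([5,7,124],[121,123,7]) := W.der c20018115 C ⟨f1, h20018081, h20018089, f2, trivial⟩
          have hh := W.frat c20018117 C h20014547 h20014543 h20018116
          exact False.elim hh
        rcases hh with h20018090 | hh
        · skip
          have h20018119 : FusC gs ([5,7,124],[121,123,7]) := W.der c20018118 C ⟨f1, h20018081, h20018090, f2, trivial⟩
          have hh := W.frat c20018120 C h20014547 h20014543 h20018119
          exact False.elim hh
        rcases hh with h20018091 | hh
        · skip
          have h20018122 : FusC gs ([5,7,124],[121,123,7]) := W.der c20018121 C ⟨f1, h20018081, h20018091, f2, trivial⟩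
          have hh := W.frat c20018123 C h20014547 h20014543 h20018122
          exact False.elim hh
        rcases hh with h20018092 | hh
        · skip
          have h20018125 : FusC gs ([5,7,124],[121,123,7]) := W.der c20018124 C ⟨f1, h20018081, h20018092, f2, trivial⟩
          have hh := W.frat c20018126 C h20014547 h20014543 h20018125
          exact False.elim hh
        rcases hh with h20018093 | hh
        · skip
          have h20018128 : FusC gs ([5,7,124],[121,123,7]) := W.der c20018127 C ⟨f2, h20018093, f5, h20018081, trivial⟩
          have hh := W.frat c20018129 C h20014547 h20014543 h20018128
          exact False.elim hh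
        rcases hh with h20018094 | hh
        · skip
          have h20018131 : FusC gs ([5,7,124],[121,123,7]) := W.der c20018130 C ⟨f2, h20018094, f5, h20018081, trivial⟩
          have hh := W.frat c20018132 C h20014547 h20014543 h20018131
          exact False.elim hh
        rcases hh with h20018095 | hh
        · skip
          have h20018134 : FusC gs ([5,7,124],[121,123,7]) := W.der c20018133 C ⟨f2, h20018095, f5, h20018081, trivial⟩
          have hh := W.frat c20018135 C h20014547 h20014543 h20018134
          exact False.elim hh
        rcases hh with h20018096 | hh
        · skip
          have h20018137 : FusC gs ([5,7,124],[121,123,7]) := W.der c20018136 C ⟨f2, h20018096, f5, h20018081, trivial⟩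
          have hh := W.frat c20018138 C h20014547 h20014543 h20018137
          exact False.elim hh
        rcases hh with h20018097 | hh
        · skip
          have h20018140 : FusC gs ([5,7,124],[121,123,7]) := W.der c20018139 C ⟨f1, h20018081, h20018097, f5, trivial⟩
          have hh := W.frat c20018141 C h20014547 h20014543 h20018140
          exact False.elim hh
        rcases hh with h20018098 | hh
        · skip
          have h20018143 : FusC gs ([5,7,124],[121,123,7]) := W.der c20018142 C ⟨f1, h20018081, h20018098, f5, trivial⟩
          have hh := W.frat c20018144 C h20014547 h20014543 h20018143
          exact False.elim hh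
        rcases hh with h20018099 | hh
        · skip
          have h20018146 : FusC gs ([5,7,124],[121,123,7]) := W.der c20018145 C ⟨f1, h20018081, h20018099, f5, trivial⟩
          have hh := W.frat c20018147 C h20014547 h20014543 h20018146
          exact False.elim hh
        rcases hh with h20018100 | hh
        · skip
          have h20018149 : FusC gs ([5,7,124],[121,123,7]) := W.der c20018148 C ⟨f1, h20018081, h20018100, f5, trivial⟩
          have hh := W.frat c20018150 C h20014547 h20014543 h20018149
          exact False.elim hh
        exact False.elim hh
      rcases hh with h20018151 | hh
      · skip
        have h20018153 : FusC gs ([520,525,522,630],[525,7,527,126]) := W.der c20018152 C ⟨h20018151, trivial⟩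
        have hh := W.frat c20018154 C h20016293 h20016269 h20018153
        rcases hh with h20018155 | hh
        · skip
          have h20018172 : FusC gs ([520,525,522,630,8,16,33,129,257],[520,525,522,630,8,16,35,129,376]) := W.der c20018171 C ⟨h20018155, trivial⟩
          rcases W.lift c20018173 S C h20014301 h20016327 h20018172 with hh | hh
          · skip
            exact False.elim hh
          exact False.elim hh
        rcases hh with h20018156 | hh
        · skip
          have h20018175 : FusC gs ([528,533,530,622,24,33,137,257],[326,357,324,286,60,66,851,464]) := W.der c20018174 C ⟨f6, h20018156, trivial⟩
          have hh := W.frat c20018176 C h20016358 h20016350 h20018175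
          exact False.elim hh
        rcases hh with h20018157 | hh
        · skip
          have h20018178 : FusC gs ([520,525,522,630,8,16,33,129,257],[520,525,522,630,8,16,33,129,259]) := W.der c20018177 C ⟨h20018157, trivial⟩
          rcases W.lift c20018179 S C h20014301 h20016327 h20018178 with hh | hh
          · skip
            exact False.elim hh
          exact False.elim hh
        rcases hh with h20018158 | hh
        · skip
          have h20018181 : FusC gs ([528,533,530,622,24,33,137,257],[64,438,66,461,1022,530,281,175]) := W.der c20018180 C ⟨h20018158, f6, trivial⟩
          have h20018183 : FusC gs ([528,533,530,622,24,33,137,257],[528,533,530,622,24,33,137,259]) := W.der c20018182 C ⟨h20018181, trivial⟩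
          rcases W.lift c20018184 S C h20016324 h20016322 h20018183 with hh | hh
          · skip
            exact False.elim hh
          exact False.elim hh
        rcases hh with h20018159 | hh
        · skip
          have h20018186 : FusC gs ([5,7,124],[123,121,7]) := W.der c20018185 C ⟨f1, h20018151, h20018159, f2, trivial⟩
          have hh := W.frat c20018187 C h20014547 h20014543 h20018186
          exact False.elim hh
        rcases hh with h20018160 | hh
        · skip
          have h20018189 : FusC gs ([5,7,124],[123,121,7]) := W.der c20018188 C ⟨f1, h20018151, h20018160, f2, trivial⟩
          have hh := W.frat c20018190 C h20014547 h20014543 h20018189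
          exact False.elim hh
        rcases hh with h20018161 | hh
        · skip
          have h20018192 : FusC gs ([5,7,124],[123,121,7]) := W.der c20018191 C ⟨f1, h20018151, h20018161, f2, trivial⟩
          have hh := W.frat c20018193 C h20014547 h20014543 h20018192
          exact False.elim hh
        rcases hh with h20018162 | hh
        · skip
          have h20018195 : FusC gs ([5,7,124],[123,121,7]) := W.der c20018194 C ⟨f1, h20018151, h20018162, f2, trivial⟩
          have hh := W.frat c20018196 C h20014547 h20014543 h20018195
          exact False.elim hh
        rcases hh with h20018163 | hh
        · skip
          have h20018198 : FusC gs ([5,7,124],[123,121,5]) := W.der c20018197 C ⟨f2, h20018163, f5, h20018151, trivial⟩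
          have hh := W.frat c20018199 C h20014547 h20014543 h20018198
          exact False.elim hh
        rcases hh with h20018164 | hh
        · skip
          have h20018201 : FusC gs ([5,7,124],[123,121,5]) := W.der c20018200 C ⟨f2, h20018164, f5, h20018151, trivial⟩
          have hh := W.frat c20018202 C h20014547 h20014543 h20018201
          exact False.elim hh
        rcases hh with h20018165 | hh
        · skip
          have h20018204 : FusC gs ([5,7,124],[123,121,5]) := W.der c20018203 C ⟨f2, h20018165, f5, h20018151, trivial⟩
          have hh := W.frat c20018205 C h20014547 h20014543 h20018204
          exact False.elim hh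
        rcases hh with h20018166 | hh
        · skip
          have h20018207 : FusC gs ([5,7,124],[123,121,5]) := W.der c20018206 C ⟨f2, h20018166, f5, h20018151, trivial⟩
          have hh := W.frat c20018208 C h20014547 h20014543 h20018207
          exact False.elim hh
        rcases hh with h20018167 | hh
        · skip
          have h20018210 : FusC gs ([5,7,124],[121,123,5]) := W.der c20018209 C ⟨f1, h20018151, h20018167, f5, trivial⟩
          have hh := W.frat c20018211 C h20014547 h20014543 h20018210
          exact False.elim hh
        rcases hh with h20018168 | hh
        · skip
          have h20018213 : FusC gs ([5,7,124],[121,123,5]) := W.der c20018212 C ⟨f1, h20018151, h20018168, f5, trivial⟩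
          have hh := W.frat c20018214 C h20014547 h20014543 h20018213
          exact False.elim hh
        rcases hh with h20018169 | hh
        · skip
          have h20018216 : FusC gs ([5,7,124],[121,123,5]) := W.der c20018215 C ⟨f1, h20018151, h20018169, f5, trivial⟩
          have hh := W.frat c20018217 C h20014547 h20014543 h20018216
          exact False.elim hh
        rcases hh with h20018170 | hh
        · skip
          have h20018219 : FusC gs ([5,7,124],[121,123,5]) := W.der c20018218 C ⟨f1, h20018151, h20018170, f5, trivial⟩
          have hh := W.frat c20018220 C h20014547 h20014543 h20018219
          exact False.elim hh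
        exact False.elim hh
      rcases hh with h20018221 | hh
      · skip
        have h20018223 : FusC gs ([5,7,124],[123,121,5]) := W.der c20018222 C ⟨f2, h20018221, f5, trivial⟩
        have hh := W.frat c20018224 C h20014547 h20014543 h20018223
        exact False.elim hh
      rcases hh with h20018225 | hh
      · skip
        have h20018227 : FusC gs ([5,7,124],[121,123,7]) := W.der c20018226 C ⟨f2, h20018225, f5, trivial⟩
        have hh := W.frat c20018228 C h20014547 h20014543 h20018227
        exact False.elim hh
      rcases hh with h20018229 | hh
      · skip
        have h20018231 : FusC gs ([520,525,522,630],[525,5,527,124]) := W.der c20018230 C ⟨f5, h20018229, trivial⟩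
        have hh := W.frat c20018232 C h20016293 h20016269 h20018231
        rcases hh with h20018233 | hh
        · skip
          have h20018250 : FusC gs ([520,525,522,630,8,16,33,129,257],[520,525,522,630,8,16,35,129,376]) := W.der c20018249 C ⟨h20018233, trivial⟩
          rcases W.lift c20018251 S C h20014301 h20016327 h20018250 with hh | hh
          · skip
            exact False.elim hh
          exact False.elim hh
        rcases hh with h20018234 | hh
        · skip
          have h20018253 : FusC gs ([528,533,530,622,24,33,137,257],[59,461,57,438,1022,619,283,175]) := W.der c20018252 C ⟨h20018234, f6, trivial⟩
          have h20018255 : FusC gs ([528,533,530,622,24,33,137,257],[530,535,528,620,24,35,137,378]) := W.der c20018254 C ⟨h20018253, trivial⟩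
          rcases W.lift c20018256 S C h20016324 h20016322 h20018255 with hh | hh
          · skip
            exact False.elim hh
          exact False.elim hh
        rcases hh with h20018235 | hh
        · skip
          have h20018258 : FusC gs ([520,525,522,630,8,16,33,129,257],[520,525,522,630,8,16,33,129,259]) := W.der c20018257 C ⟨h20018235, trivial⟩
          rcases W.lift c20018259 S C h20014301 h20016327 h20018258 with hh | hh
          · skip
            exact False.elim hh
          exact False.elim hh
        rcases hh with h20018236 | hh
        · skip
          have h20018261 : FusC gs ([528,533,530,622,24,33,137,257],[324,286,326,357,69,64,808,466]) := W.der c20018260 C ⟨f6, h20018236, trivial⟩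
          have hh := W.frat c20018262 C h20016358 h20016350 h20018261
          exact False.elim hh
        rcases hh with h20018237 | hh
        · skip
          have h20018264 : FusC gs ([5,7,124],[123,121,7]) := W.der c20018263 C ⟨f2, h20018237, f5, h20018229, trivial⟩
          have hh := W.frat c20018265 C h20014547 h20014543 h20018264
          exact False.elim hh
        rcases hh with h20018238 | hh
        · skip
          have h20018267 : FusC gs ([5,7,124],[123,121,7]) := W.der c20018266 C ⟨f2, h20018238, f5, h20018229, trivial⟩
          have hh := W.frat c20018268 C h20014547 h20014543 h20018267
          exact False.elim hh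
        rcases hh with h20018239 | hh
        · skip
          have h20018270 : FusC gs ([5,7,124],[123,121,7]) := W.der c20018269 C ⟨f2, h20018239, f5, h20018229, trivial⟩
          have hh := W.frat c20018271 C h20014547 h20014543 h20018270
          exact False.elim hh
        rcases hh with h20018240 | hh
        · skip
          have h20018273 : FusC gs ([5,7,124],[123,121,7]) := W.der c20018272 C ⟨f2, h20018240, f5, h20018229, trivial⟩
          have hh := W.frat c20018274 C h20014547 h20014543 h20018273
          exact False.elim hh
        rcases hh with h20018241 | hh
        · skip
          have h20018276 : FusC gs ([5,7,124],[123,121,7]) := W.der c20018275 C ⟨f2, h20018241, f5, h20018229, trivial⟩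
          have hh := W.frat c20018277 C h20014547 h20014543 h20018276
          exact False.elim hh
        rcases hh with h20018242 | hh
        · skip
          have h20018279 : FusC gs ([5,7,124],[123,121,7]) := W.der c20018278 C ⟨f2, h20018242, f5, h20018229, trivial⟩
          have hh := W.frat c20018280 C h20014547 h20014543 h20018279
          exact False.elim hh
        rcases hh with h20018243 | hh
        · skip
          have h20018282 : FusC gs ([5,7,124],[123,121,7]) := W.der c20018281 C ⟨f2, h20018243, f5, h20018229, trivial⟩
          have hh := W.frat c20018283 C h20014547 h20014543 h20018282
          exact False.elim hh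
        rcases hh with h20018244 | hh
        · skip
          have h20018285 : FusC gs ([5,7,124],[123,121,7]) := W.der c20018284 C ⟨f2, h20018244, f5, h20018229, trivial⟩
          have hh := W.frat c20018286 C h20014547 h20014543 h20018285
          exact False.elim hh
        rcases hh with h20018245 | hh
        · skip
          have h20018288 : FusC gs ([5,7,124],[121,123,7]) := W.der c20018287 C ⟨h20018229, f5, h20018245, trivial⟩
          have hh := W.frat c20018289 C h20014547 h20014543 h20018288
          exact False.elim hh
        rcases hh with h20018246 | hh
        · skip
          have h20018291 : FusC gs ([5,7,124],[121,123,7]) := W.der c20018290 C ⟨h20018229, f5, h20018246, trivial⟩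
          have hh := W.frat c20018292 C h20014547 h20014543 h20018291
          exact False.elim hh
        rcases hh with h20018247 | hh
        · skip
          have h20018294 : FusC gs ([5,7,124],[121,123,7]) := W.der c20018293 C ⟨h20018229, f5, h20018247, trivial⟩
          have hh := W.frat c20018295 C h20014547 h20014543 h20018294
          exact False.elim hh
        rcases hh with h20018248 | hh
        · skip
          have h20018297 : FusC gs ([5,7,124],[121,123,7]) := W.der c20018296 C ⟨h20018229, f5, h20018248, trivial⟩
          have hh := W.frat c20018298 C h20014547 h20014543 h20018297
          exact False.elim hh
        exact False.elim hh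
      rcases hh with h20018299 | hh
      · skip
        have h20018301 : FusC gs ([520,525,522,630],[527,7,525,126]) := W.der c20018300 C ⟨f5, h20018299, trivial⟩
        have hh := W.frat c20018302 C h20016293 h20016269 h20018301
        rcases hh with h20018303 | hh
        · skip
          have h20018320 : FusC gs ([528,533,530,622,24,33,137,257],[57,436,59,463,901,617,354,212]) := W.der c20018319 C ⟨h20018303, f6, trivial⟩
          have h20018322 : FusC gs ([528,533,530,622,24,33,137,257],[530,535,528,620,24,35,137,378]) := W.der c20018321 C ⟨h20018320, trivial⟩
          rcases W.lift c20018323 S C h20016324 h20016322 h20018322 with hh | hh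
          · skip
            exact False.elim hh
          exact False.elim hh
        rcases hh with h20018304 | hh
        · skip
          have h20018325 : FusC gs ([520,525,522,630,8,16,33,129,257],[522,527,520,628,8,16,35,129,378]) := W.der c20018324 C ⟨h20018304, trivial⟩
          rcases W.lift c20018326 S C h20014301 h20016327 h20018325 with hh | hh
          · skip
            exact False.elim hh
          exact False.elim hh
        rcases hh with h20018305 | hh
        · skip
          have h20018328 : FusC gs ([528,533,530,622,24,33,137,257],[317,359,319,284,71,64,851,464]) := W.der c20018327 C ⟨f6, h20018305, trivial⟩
          have hh := W.frat c20018329 C h20016358 h20016350 h20018328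
          exact False.elim hh
        rcases hh with h20018306 | hh
        · skip
          have h20018331 : FusC gs ([520,525,522,630,8,16,33,129,257],[522,527,520,628,8,16,33,129,257]) := W.der c20018330 C ⟨h20018306, trivial⟩
          rcases W.lift c20018332 S C h20014301 h20016327 h20018331 with hh | hh
          · skip
            exact False.elim hh
          exact False.elim hh
        rcases hh with h20018307 | hh
        · skip
          have h20018346 : FusC gs ([5,7,124],[123,121,7]) := W.der c20018345 C ⟨f2, h20018307, f5, h20018299, trivial⟩
          have hh := W.frat c20018347 C h20014547 h20014543 h20018346
          exact False.elim hh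
        rcases hh with h20018308 | hh
        · skip
          have h20018349 : FusC gs ([5,7,124],[123,121,7]) := W.der c20018348 C ⟨f2, h20018308, f5, h20018299, trivial⟩
          have hh := W.frat c20018350 C h20014547 h20014543 h20018349
          exact False.elim hh
        rcases hh with h20018309 | hh
        · skip
          have h20018352 : FusC gs ([5,7,124],[123,121,7]) := W.der c20018351 C ⟨f2, h20018309, f5, h20018299, trivial⟩
          have hh := W.frat c20018353 C h20014547 h20014543 h20018352
          exact False.elim hh
        rcases hh with h20018310 | hh
        · skip
          have h20018355 : FusC gs ([5,7,124],[123,121,7]) := W.der c20018354 C ⟨f2, h20018310, f5, h20018299, trivial⟩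
          have hh := W.frat c20018356 C h20014547 h20014543 h20018355
          exact False.elim hh
        rcases hh with h20018311 | hh
        · skip
          have h20018358 : FusC gs ([5,7,124],[123,121,7]) := W.der c20018357 C ⟨f2, h20018311, f5, h20018299, trivial⟩
          have hh := W.frat c20018359 C h20014547 h20014543 h20018358
          exact False.elim hh
        rcases hh with h20018312 | hh
        · skip
          have h20018361 : FusC gs ([5,7,124],[123,121,7]) := W.der c20018360 C ⟨f2, h20018312, f5, h20018299, trivial⟩
          have hh := W.frat c20018362 C h20014547 h20014543 h20018361
          exact False.elim hh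
        rcases hh with h20018313 | hh
        · skip
          have h20018364 : FusC gs ([5,7,124],[123,121,7]) := W.der c20018363 C ⟨f2, h20018313, f5, h20018299, trivial⟩
          have hh := W.frat c20018365 C h20014547 h20014543 h20018364
          exact False.elim hh
        rcases hh with h20018314 | hh
        · skip
          have h20018367 : FusC gs ([5,7,124],[123,121,7]) := W.der c20018366 C ⟨f2, h20018314, f5, h20018299, trivial⟩
          have hh := W.frat c20018368 C h20014547 h20014543 h20018367
          exact False.elim hh
        rcases hh with h20018315 | hh
        · skip
          have h20018334 : FusC gs ([5,7,124],[123,121,7]) := W.der c20018333 C ⟨h20018299, f5, h20018315, trivial⟩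
          have hh := W.frat c20018335 C h20014547 h20014543 h20018334
          exact False.elim hh
        rcases hh with h20018316 | hh
        · skip
          have h20018337 : FusC gs ([5,7,124],[123,121,7]) := W.der c20018336 C ⟨h20018299, f5, h20018316, trivial⟩
          have hh := W.frat c20018338 C h20014547 h20014543 h20018337
          exact False.elim hh
        rcases hh with h20018317 | hh
        · skip
          have h20018340 : FusC gs ([5,7,124],[123,121,7]) := W.der c20018339 C ⟨h20018299, f5, h20018317, trivial⟩
          have hh := W.frat c20018341 C h20014547 h20014543 h20018340
          exact False.elim hh
        rcases hh with h20018318 | hh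
        · skip
          have h20018343 : FusC gs ([5,7,124],[123,121,7]) := W.der c20018342 C ⟨h20018299, f5, h20018318, trivial⟩
          have hh := W.frat c20018344 C h20014547 h20014543 h20018343
          exact False.elim hh
        exact False.elim hh
      rcases hh with h20018369 | hh
      · skip
        have h20018371 : FusC gs ([5,7,124],[126,124,123]) := W.der c20018370 C ⟨f1, h20018369, f5, trivial⟩
        have hh := W.frat c20018372 C h20014589 h20014543 h20018371
        exact False.elim hh
      rcases hh with h20018373 | hh
      · skip
        have h20018375 : FusC gs ([5,7,124],[126,124,121]) := W.der c20018374 C ⟨f1, h20018373, f5, trivial⟩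
        have hh := W.frat c20018376 C h20014589 h20014543 h20018375
        exact False.elim hh
      rcases hh with h20018377 | hh
      · skip
        have h20018379 : FusC gs ([5,7,124],[121,123,5]) := W.der c20018378 C ⟨h20018377, f5, f2, trivial⟩
        have hh := W.frat c20018380 C h20014547 h20014543 h20018379
        exact False.elim hh
      rcases hh with h20018381 | hh
      · skip
        have h20018383 : FusC gs ([5,7,124],[121,123,7]) := W.der c20018382 C ⟨h20018381, f5, f2, trivial⟩
        have hh := W.frat c20018384 C h20014547 h20014543 h20018383
        exact False.elim hh
      rcases hh with h20018385 | hh
      · skip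
        have h20018387 : FusC gs ([520,525,522,630],[7,520,5,627]) := W.der c20018386 C ⟨h20018385, trivial⟩
        have hh := W.frat c20018388 C h20016293 h20016269 h20018387
        rcases hh with h20018389 | hh
        · skip
          have h20018406 : FusC gs ([528,533,530,622,24,33,137,257],[326,33,324,90,777,461,491,670]) := W.der c20018405 C ⟨h20018389, f6, trivial⟩
          have h20018408 : FusC gs ([528,533,530,622,24,33,137,257],[528,533,530,622,24,33,137,259]) := W.der c20018407 C ⟨h20018406, trivial⟩
          rcases W.lift c20018409 S C h20016324 h20016322 h20018408 with hh | hh
          · skip
            exact False.elim hh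
          exact False.elim hh
        rcases hh with h20018390 | hh
        · skip
          have h20018411 : FusC gs ([520,525,522,630,8,16,33,129,257],[520,525,522,630,8,16,33,129,259]) := W.der c20018410 C ⟨h20018390, trivial⟩
          rcases W.lift c20018412 S C h20014301 h20016327 h20018411 with hh | hh
          · skip
            exact False.elim hh
          exact False.elim hh
        rcases hh with h20018391 | hh
        · skip
          have h20018414 : FusC gs ([528,533,530,622,24,33,137,257],[319,284,317,359,62,66,808,466]) := W.der c20018413 C ⟨f6, h20018391, trivial⟩
          have hh := W.frat c20018415 C h20016358 h20016350 h20018414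
          exact False.elim hh
        rcases hh with h20018392 | hh
        · skip
          have h20018417 : FusC gs ([520,525,522,630,8,16,33,129,257],[520,525,522,630,8,16,35,129,376]) := W.der c20018416 C ⟨h20018392, trivial⟩
          rcases W.lift c20018418 S C h20014301 h20016327 h20018417 with hh | hh
          · skip
            exact False.elim hh
          exact False.elim hh
        rcases hh with h20018393 | hh
        · skip
          have h20018420 : FusC gs ([5,7,124],[121,123,7]) := W.der c20018419 C ⟨f1, h20018385, h20018393, f2, trivial⟩
          have hh := W.frat c20018421 C h20014547 h20014543 h20018420
          exact False.elim hh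
        rcases hh with h20018394 | hh
        · skip
          have h20018423 : FusC gs ([5,7,124],[121,123,7]) := W.der c20018422 C ⟨f1, h20018385, h20018394, f2, trivial⟩
          have hh := W.frat c20018424 C h20014547 h20014543 h20018423
          exact False.elim hh
        rcases hh with h20018395 | hh
        · skip
          have h20018426 : FusC gs ([5,7,124],[121,123,7]) := W.der c20018425 C ⟨f1, h20018385, h20018395, f2, trivial⟩
          have hh := W.frat c20018427 C h20014547 h20014543 h20018426
          exact False.elim hh
        rcases hh with h20018396 | hh
        · skip
          have h20018429 : FusC gs ([5,7,124],[121,123,7]) := W.der c20018428 C ⟨f1, h20018385, h20018396, f2, trivial⟩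
          have hh := W.frat c20018430 C h20014547 h20014543 h20018429
          exact False.elim hh
        rcases hh with h20018397 | hh
        · skip
          have h20018432 : FusC gs ([5,7,124],[123,121,5]) := W.der c20018431 C ⟨h20018385, f5, h20018397, trivial⟩
          have hh := W.frat c20018433 C h20014547 h20014543 h20018432
          exact False.elim hh
        rcases hh with h20018398 | hh
        · skip
          have h20018435 : FusC gs ([5,7,124],[123,121,5]) := W.der c20018434 C ⟨h20018385, f5, h20018398, trivial⟩
          have hh := W.frat c20018436 C h20014547 h20014543 h20018435
          exact False.elim hh
        rcases hh with h20018399 | hh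
        · skip
          have h20018438 : FusC gs ([5,7,124],[123,121,5]) := W.der c20018437 C ⟨h20018385, f5, h20018399, trivial⟩
          have hh := W.frat c20018439 C h20014547 h20014543 h20018438
          exact False.elim hh
        rcases hh with h20018400 | hh
        · skip
          have h20018441 : FusC gs ([5,7,124],[123,121,5]) := W.der c20018440 C ⟨h20018385, f5, h20018400, trivial⟩
          have hh := W.frat c20018442 C h20014547 h20014543 h20018441
          exact False.elim hh
        rcases hh with h20018401 | hh
        · skip
          have h20018444 : FusC gs ([5,7,124],[123,121,7]) := W.der c20018443 C ⟨h20018385, f5, h20018401, f2, trivial⟩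
          have hh := W.frat c20018445 C h20014547 h20014543 h20018444
          exact False.elim hh
        rcases hh with h20018402 | hh
        · skip
          have h20018447 : FusC gs ([5,7,124],[123,121,7]) := W.der c20018446 C ⟨h20018385, f5, h20018402, f2, trivial⟩
          have hh := W.frat c20018448 C h20014547 h20014543 h20018447
          exact False.elim hh
        rcases hh with h20018403 | hh
        · skip
          have h20018450 : FusC gs ([5,7,124],[123,121,7]) := W.der c20018449 C ⟨h20018385, f5, h20018403, f2, trivial⟩
          have hh := W.frat c20018451 C h20014547 h20014543 h20018450
          exact False.elim hh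
        rcases hh with h20018404 | hh
        · skip
          have h20018453 : FusC gs ([5,7,124],[123,121,7]) := W.der c20018452 C ⟨h20018385, f5, h20018404, f2, trivial⟩
          have hh := W.frat c20018454 C h20014547 h20014543 h20018453
          exact False.elim hh
        exact False.elim hh
      rcases hh with h20018455 | hh
      · skip
        have h20018457 : FusC gs ([520,525,522,630],[5,520,7,627]) := W.der c20018456 C ⟨h20018455, trivial⟩
        have hh := W.frat c20018458 C h20016293 h20016269 h20018457
        rcases hh with h20018459 | hh
        · skip
          have h20018476 : FusC gs ([528,533,530,622,24,33,137,257],[324,286,326,357,69,64,808,466]) := W.der c20018475 C ⟨f6, h20018459, trivial⟩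
          have hh := W.frat c20018477 C h20016358 h20016350 h20018476
          exact False.elim hh
        rcases hh with h20018460 | hh
        · skip
          have h20018479 : FusC gs ([520,525,522,630,8,16,33,129,257],[520,525,522,630,8,16,33,129,259]) := W.der c20018478 C ⟨h20018460, trivial⟩
          rcases W.lift c20018480 S C h20014301 h20016327 h20018479 with hh | hh
          · skip
            exact False.elim hh
          exact False.elim hh
        rcases hh with h20018461 | hh
        · skip
          have h20018482 : FusC gs ([528,533,530,622,24,33,137,257],[317,88,319,35,777,438,489,668]) := W.der c20018481 C ⟨h20018461, f6, trivial⟩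
          have h20018484 : FusC gs ([528,533,530,622,24,33,137,257],[530,535,528,620,24,35,137,378]) := W.der c20018483 C ⟨h20018482, trivial⟩
          rcases W.lift c20018485 S C h20016324 h20016322 h20018484 with hh | hh
          · skip
            exact False.elim hh
          exact False.elim hh
        rcases hh with h20018462 | hh
        · skip
          have h20018487 : FusC gs ([520,525,522,630,8,16,33,129,257],[520,525,522,630,8,16,35,129,376]) := W.der c20018486 C ⟨h20018462, trivial⟩
          rcases W.lift c20018488 S C h20014301 h20016327 h20018487 with hh | hh
          · skip
            exact False.elim hh
          exact False.elim hh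
        rcases hh with h20018463 | hh
        · skip
          have h20018490 : FusC gs ([5,7,124],[123,121,7]) := W.der c20018489 C ⟨f1, h20018455, h20018463, f2, trivial⟩
          have hh := W.frat c20018491 C h20014547 h20014543 h20018490
          exact False.elim hh
        rcases hh with h20018464 | hh
        · skip
          have h20018493 : FusC gs ([5,7,124],[123,121,7]) := W.der c20018492 C ⟨f1, h20018455, h20018464, f2, trivial⟩
          have hh := W.frat c20018494 C h20014547 h20014543 h20018493
          exact False.elim hh
        rcases hh with h20018465 | hh
        · skip
          have h20018496 : FusC gs ([5,7,124],[123,121,7]) := W.der c20018495 C ⟨f1, h20018455, h20018465, f2, trivial⟩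
          have hh := W.frat c20018497 C h20014547 h20014543 h20018496
          exact False.elim hh
        rcases hh with h20018466 | hh
        · skip
          have h20018499 : FusC gs ([5,7,124],[123,121,7]) := W.der c20018498 C ⟨f1, h20018455, h20018466, f2, trivial⟩
          have hh := W.frat c20018500 C h20014547 h20014543 h20018499
          exact False.elim hh
        rcases hh with h20018467 | hh
        · skip
          have h20018502 : FusC gs ([5,7,124],[123,121,5]) := W.der c20018501 C ⟨h20018455, f5, h20018467, trivial⟩
          have hh := W.frat c20018503 C h20014547 h20014543 h20018502
          exact False.elim hh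
        rcases hh with h20018468 | hh
        · skip
          have h20018505 : FusC gs ([5,7,124],[123,121,5]) := W.der c20018504 C ⟨h20018455, f5, h20018468, trivial⟩
          have hh := W.frat c20018506 C h20014547 h20014543 h20018505
          exact False.elim hh
        rcases hh with h20018469 | hh
        · skip
          have h20018508 : FusC gs ([5,7,124],[123,121,5]) := W.der c20018507 C ⟨h20018455, f5, h20018469, trivial⟩
          have hh := W.frat c20018509 C h20014547 h20014543 h20018508
          exact False.elim hh
        rcases hh with h20018470 | hh
        · skip
          have h20018511 : FusC gs ([5,7,124],[123,121,5]) := W.der c20018510 C ⟨h20018455, f5, h20018470, trivial⟩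
          have hh := W.frat c20018512 C h20014547 h20014543 h20018511
          exact False.elim hh
        rcases hh with h20018471 | hh
        · skip
          have h20018514 : FusC gs ([5,7,124],[123,121,5]) := W.der c20018513 C ⟨h20018455, f5, h20018471, f2, trivial⟩
          have hh := W.frat c20018515 C h20014547 h20014543 h20018514
          exact False.elim hh
        rcases hh with h20018472 | hh
        · skip
          have h20018517 : FusC gs ([5,7,124],[123,121,5]) := W.der c20018516 C ⟨h20018455, f5, h20018472, f2, trivial⟩
          have hh := W.frat c20018518 C h20014547 h20014543 h20018517
          exact False.elim hh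
        rcases hh with h20018473 | hh
        · skip
          have h20018520 : FusC gs ([5,7,124],[123,121,5]) := W.der c20018519 C ⟨h20018455, f5, h20018473, f2, trivial⟩
          have hh := W.frat c20018521 C h20014547 h20014543 h20018520
          exact False.elim hh
        rcases hh with h20018474 | hh
        · skip
          have h20018523 : FusC gs ([5,7,124],[123,121,5]) := W.der c20018522 C ⟨h20018455, f5, h20018474, f2, trivial⟩
          have hh := W.frat c20018524 C h20014547 h20014543 h20018523
          exact False.elim hh
        exact False.elim hh
      rcases hh with h20018525 | hh
      · skip
        have h20018527 : FusC gs ([5,7,124],[126,124,121]) := W.der c20018526 C ⟨f1, h20018525, f5, trivial⟩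
        have hh := W.frat c20018528 C h20014589 h20014543 h20018527
        exact False.elim hh
      rcases hh with h20018529 | hh
      · skip
        have h20018531 : FusC gs ([5,7,124],[126,124,123]) := W.der c20018530 C ⟨f1, h20018529, f5, trivial⟩
        have hh := W.frat c20018532 C h20014589 h20014543 h20018531
        exact False.elim hh
      rcases hh with h20018533 | hh
      · skip
        have h20018535 : FusC gs ([520,525,522,630],[525,5,527,124]) := W.der c20018534 C ⟨f5, h20018533, trivial⟩
        have hh := W.frat c20018536 C h20016293 h20016269 h20018535
        rcases hh with h20018537 | hh
        · skip
          have h20018554 : FusC gs ([520,525,522,630,8,16,33,129,257],[520,525,522,630,8,16,35,129,376]) := W.der c20018553 C ⟨h20018537, trivial⟩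
          rcases W.lift c20018555 S C h20014301 h20016327 h20018554 with hh | hh
          · skip
            exact False.elim hh
          exact False.elim hh
        rcases hh with h20018538 | hh
        · skip
          have h20018557 : FusC gs ([528,533,530,622,24,33,137,257],[59,461,57,438,1022,619,283,175]) := W.der c20018556 C ⟨h20018538, f6, trivial⟩
          have h20018559 : FusC gs ([528,533,530,622,24,33,137,257],[530,535,528,620,24,35,137,378]) := W.der c20018558 C ⟨h20018557, trivial⟩
          rcases W.lift c20018560 S C h20016324 h20016322 h20018559 with hh | hh
          · skip
            exact False.elim hh
          exact False.elim hh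
        rcases hh with h20018539 | hh
        · skip
          have h20018562 : FusC gs ([520,525,522,630,8,16,33,129,257],[520,525,522,630,8,16,33,129,259]) := W.der c20018561 C ⟨h20018539, trivial⟩
          rcases W.lift c20018563 S C h20014301 h20016327 h20018562 with hh | hh
          · skip
            exact False.elim hh
          exact False.elim hh
        rcases hh with h20018540 | hh
        · skip
          have h20018565 : FusC gs ([528,533,530,622,24,33,137,257],[324,286,326,357,69,64,808,466]) := W.der c20018564 C ⟨f6, h20018540, trivial⟩
          have hh := W.frat c20018566 C h20016358 h20016350 h20018565
          exact False.elim hh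
        rcases hh with h20018541 | hh
        · skip
          have h20018568 : FusC gs ([5,7,124],[123,121,7]) := W.der c20018567 C ⟨h20018533, f5, h20018541, f2, trivial⟩
          have hh := W.frat c20018569 C h20014547 h20014543 h20018568
          exact False.elim hh
        rcases hh with h20018542 | hh
        · skip
          have h20018571 : FusC gs ([5,7,124],[123,121,7]) := W.der c20018570 C ⟨h20018533, f5, h20018542, f2, trivial⟩
          have hh := W.frat c20018572 C h20014547 h20014543 h20018571
          exact False.elim hh
        rcases hh with h20018543 | hh
        · skip
          have h20018574 : FusC gs ([5,7,124],[123,121,7]) := W.der c20018573 C ⟨h20018533, f5, h20018543, f2, trivial⟩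
          have hh := W.frat c20018575 C h20014547 h20014543 h20018574
          exact False.elim hh
        rcases hh with h20018544 | hh
        · skip
          have h20018577 : FusC gs ([5,7,124],[123,121,7]) := W.der c20018576 C ⟨h20018533, f5, h20018544, f2, trivial⟩
          have hh := W.frat c20018578 C h20014547 h20014543 h20018577
          exact False.elim hh
        rcases hh with h20018545 | hh
        · skip
          have h20018580 : FusC gs ([5,7,124],[123,121,7]) := W.der c20018579 C ⟨f2, h20018545, f5, h20018533, trivial⟩
          have hh := W.frat c20018581 C h20014547 h20014543 h20018580
          exact False.elim hh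
        rcases hh with h20018546 | hh
        · skip
          have h20018583 : FusC gs ([5,7,124],[123,121,7]) := W.der c20018582 C ⟨f2, h20018546, f5, h20018533, trivial⟩
          have hh := W.frat c20018584 C h20014547 h20014543 h20018583
          exact False.elim hh
        rcases hh with h20018547 | hh
        · skip
          have h20018586 : FusC gs ([5,7,124],[123,121,7]) := W.der c20018585 C ⟨f2, h20018547, f5, h20018533, trivial⟩
          have hh := W.frat c20018587 C h20014547 h20014543 h20018586
          exact False.elim hh
        rcases hh with h20018548 | hh
        · skip
          have h20018589 : FusC gs ([5,7,124],[123,121,7]) := W.der c20018588 C ⟨f2, h20018548, f5, h20018533, trivial⟩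
          have hh := W.frat c20018590 C h20014547 h20014543 h20018589
          exact False.elim hh
        rcases hh with h20018549 | hh
        · skip
          have h20018592 : FusC gs ([5,7,124],[121,123,7]) := W.der c20018591 C ⟨h20018533, f5, h20018549, trivial⟩
          have hh := W.frat c20018593 C h20014547 h20014543 h20018592
          exact False.elim hh
        rcases hh with h20018550 | hh
        · skip
          have h20018595 : FusC gs ([5,7,124],[121,123,7]) := W.der c20018594 C ⟨h20018533, f5, h20018550, trivial⟩
          have hh := W.frat c20018596 C h20014547 h20014543 h20018595
          exact False.elim hh
        rcases hh with h20018551 | hh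
        · skip
          have h20018598 : FusC gs ([5,7,124],[121,123,7]) := W.der c20018597 C ⟨h20018533, f5, h20018551, trivial⟩
          have hh := W.frat c20018599 C h20014547 h20014543 h20018598
          exact False.elim hh
        rcases hh with h20018552 | hh
        · skip
          have h20018601 : FusC gs ([5,7,124],[121,123,7]) := W.der c20018600 C ⟨h20018533, f5, h20018552, trivial⟩
          have hh := W.frat c20018602 C h20014547 h20014543 h20018601
          exact False.elim hh
        exact False.elim hh
      rcases hh with h20018603 | hh
      · skip
        have h20018605 : FusC gs ([520,525,522,630],[630,124,628,5]) := W.der c20018604 C ⟨f5, h20018603, trivial⟩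
        have hh := W.frat c20018606 C h20016293 h20016269 h20018605
        rcases hh with h20018607 | hh
        · skip
          have h20018624 : FusC gs ([5,7,124],[121,123,7]) := W.der c20018623 C ⟨h20018603, f5, h20018607, f2, trivial⟩
          have hh := W.frat c20018625 C h20014547 h20014543 h20018624
          exact False.elim hh
        rcases hh with h20018608 | hh
        · skip
          have h20018627 : FusC gs ([5,7,124],[121,123,7]) := W.der c20018626 C ⟨h20018603, f5, h20018608, f2, trivial⟩
          have hh := W.frat c20018628 C h20014547 h20014543 h20018627
          exact False.elim hh
        rcases hh with h20018609 | hh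
        · skip
          have h20018650 : FusC gs ([5,7,124],[121,123,7]) := W.der c20018649 C ⟨h20018603, f5, h20018609, f2, trivial⟩
          have hh := W.frat c20018651 C h20014547 h20014543 h20018650
          exact False.elim hh
        rcases hh with h20018610 | hh
        · skip
          have h20018653 : FusC gs ([5,7,124],[121,123,7]) := W.der c20018652 C ⟨h20018603, f5, h20018610, f2, trivial⟩
          have hh := W.frat c20018654 C h20014547 h20014543 h20018653
          exact False.elim hh
        rcases hh with h20018611 | hh
        · skip
          have h20018630 : FusC gs ([528,533,530,622,24,33,137,257],[59,463,57,436,1020,530,352,214]) := W.der c20018629 C ⟨h20018611, f6, trivial⟩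
          have h20018632 : FusC gs ([528,533,530,622,24,33,137,257],[530,535,528,620,24,35,137,378]) := W.der c20018631 C ⟨h20018630, trivial⟩
          rcases W.lift c20018633 S C h20016324 h20016322 h20018632 with hh | hh
          · skip
            exact False.elim hh
          exact False.elim hh
        rcases hh with h20018612 | hh
        · skip
          have h20018635 : FusC gs ([520,525,522,630,8,16,33,129,257],[627,628,625,527,16,8,33,224,257]) := W.der c20018634 C ⟨h20018612, trivial⟩
          rcases W.lift c20018636 S C h20014301 h20016327 h20018635 with hh | hh
          · skip
            exact False.elim hh
          exact False.elim hh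
        rcases hh with h20018613 | hh
        · skip
          have h20018656 : FusC gs ([528,533,530,622,24,33,137,257],[324,286,326,357,69,64,808,466]) := W.der c20018655 C ⟨f6, h20018613, trivial⟩
          have hh := W.frat c20018657 C h20016358 h20016350 h20018656
          exact False.elim hh
        rcases hh with h20018614 | hh
        · skip
          have h20018659 : FusC gs ([520,525,522,630,8,16,33,129,257],[627,628,625,527,16,8,35,224,378]) := W.der c20018658 C ⟨h20018614, trivial⟩
          rcases W.lift c20018660 S C h20014301 h20016327 h20018659 with hh | hh
          · skip
            exact False.elim hh
          exact False.elim hh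
        rcases hh with h20018615 | hh
        · skip
          have h20018662 : FusC gs ([5,7,124],[124,126,123]) := W.der c20018661 C ⟨f1, h20018615, f5, f2, trivial⟩
          have hh := W.frat c20018663 C h20014589 h20014543 h20018662
          exact False.elim hh
        rcases hh with h20018616 | hh
        · skip
          have h20018665 : FusC gs ([5,7,124],[124,126,123]) := W.der c20018664 C ⟨f1, h20018616, f5, f2, trivial⟩
          have hh := W.frat c20018666 C h20014589 h20014543 h20018665
          exact False.elim hh
        rcases hh with h20018617 | hh
        · skip
          have h20018638 : FusC gs ([5,7,124],[124,126,123]) := W.der c20018637 C ⟨f1, h20018617, f5, f2, trivial⟩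
          have hh := W.frat c20018639 C h20014589 h20014543 h20018638
          exact False.elim hh
        rcases hh with h20018618 | hh
        · skip
          have h20018641 : FusC gs ([5,7,124],[124,126,123]) := W.der c20018640 C ⟨f1, h20018618, f5, f2, trivial⟩
          have hh := W.frat c20018642 C h20014589 h20014543 h20018641
          exact False.elim hh
        rcases hh with h20018619 | hh
        · skip
          have h20018668 : FusC gs ([5,7,124],[121,123,5]) := W.der c20018667 C ⟨f1, h20018619, f5, h20018603, trivial⟩
          have hh := W.frat c20018669 C h20014547 h20014543 h20018668
          exact False.elim hh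
        rcases hh with h20018620 | hh
        · skip
          have h20018671 : FusC gs ([5,7,124],[121,123,5]) := W.der c20018670 C ⟨f1, h20018620, f5, h20018603, trivial⟩
          have hh := W.frat c20018672 C h20014547 h20014543 h20018671
          exact False.elim hh
        rcases hh with h20018621 | hh
        · skip
          have h20018644 : FusC gs ([5,7,124],[121,123,5]) := W.der c20018643 C ⟨f1, h20018621, f5, h20018603, trivial⟩
          have hh := W.frat c20018645 C h20014547 h20014543 h20018644
          exact False.elim hh
        rcases hh with h20018622 | hh
        · skip
          have h20018647 : FusC gs ([5,7,124],[121,123,5]) := W.der c20018646 C ⟨f1, h20018622, f5, h20018603, trivial⟩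
          have hh := W.frat c20018648 C h20014547 h20014543 h20018647
          exact False.elim hh
        exact False.elim hh
      rcases hh with h20018673 | hh
      · skip
        have h20018675 : FusC gs ([520,525,522,630],[628,126,630,7]) := W.der c20018674 C ⟨f5, h20018673, trivial⟩
        have hh := W.frat c20018676 C h20016293 h20016269 h20018675
        rcases hh with h20018677 | hh
        · skip
          have h20018720 : FusC gs ([5,7,124],[126,124,123]) := W.der c20018719 C ⟨f2, h20018677, f5, h20018673, trivial⟩
          have hh := W.frat c20018721 C h20014589 h20014543 h20018720
          exact False.elim hh
        rcases hh with h20018678 | hh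
        · skip
          have h20018723 : FusC gs ([5,7,124],[126,124,123]) := W.der c20018722 C ⟨f2, h20018678, f5, h20018673, trivial⟩
          have hh := W.frat c20018724 C h20014589 h20014543 h20018723
          exact False.elim hh
        rcases hh with h20018679 | hh
        · skip
          have h20018694 : FusC gs ([5,7,124],[124,126,123]) := W.der c20018693 C ⟨f2, h20018679, f5, h20018673, trivial⟩
          have hh := W.frat c20018695 C h20014589 h20014543 h20018694
          exact False.elim hh
        rcases hh with h20018680 | hh
        · skip
          have h20018697 : FusC gs ([5,7,124],[124,126,123]) := W.der c20018696 C ⟨f2, h20018680, f5, h20018673, trivial⟩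
          have hh := W.frat c20018698 C h20014589 h20014543 h20018697
          exact False.elim hh
        rcases hh with h20018681 | hh
        · skip
          have h20018700 : FusC gs ([520,525,522,630,8,16,33,129,257],[625,630,627,525,16,8,33,224,259]) := W.der c20018699 C ⟨h20018681, trivial⟩
          rcases W.lift c20018701 S C h20014301 h20016327 h20018700 with hh | hh
          · skip
            exact False.elim hh
          exact False.elim hh
        rcases hh with h20018682 | hh
        · skip
          have h20018703 : FusC gs ([528,533,530,622,24,33,137,257],[57,438,59,461,903,528,281,173]) := W.der c20018702 C ⟨h20018682, f6, trivial⟩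
          have h20018705 : FusC gs ([528,533,530,622,24,33,137,257],[530,535,528,620,24,35,137,378]) := W.der c20018704 C ⟨h20018703, trivial⟩
          rcases W.lift c20018706 S C h20016324 h20016322 h20018705 with hh | hh
          · skip
            exact False.elim hh
          exact False.elim hh
        rcases hh with h20018683 | hh
        · skip
          have h20018726 : FusC gs ([520,525,522,630,8,16,33,129,257],[625,630,627,525,16,8,35,224,376]) := W.der c20018725 C ⟨h20018683, trivial⟩
          rcases W.lift c20018727 S C h20014301 h20016327 h20018726 with hh | hh
          · skip
            exact False.elim hh
          exact False.elim hh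
        rcases hh with h20018684 | hh
        · skip
          have h20018729 : FusC gs ([528,533,530,622,24,33,137,257],[317,359,319,284,71,64,851,464]) := W.der c20018728 C ⟨f6, h20018684, trivial⟩
          have hh := W.frat c20018730 C h20016358 h20016350 h20018729
          exact False.elim hh
        rcases hh with h20018685 | hh
        · skip
          have h20018732 : FusC gs ([5,7,124],[123,121,5]) := W.der c20018731 C ⟨f1, h20018673, h20018685, f5, trivial⟩
          have hh := W.frat c20018733 C h20014547 h20014543 h20018732
          exact False.elim hh
        rcases hh with h20018686 | hh
        · skip
          have h20018735 : FusC gs ([5,7,124],[123,121,5]) := W.der c20018734 C ⟨f1, h20018673, h20018686, f5, trivial⟩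
          have hh := W.frat c20018736 C h20014547 h20014543 h20018735
          exact False.elim hh
        rcases hh with h20018687 | hh
        · skip
          have h20018708 : FusC gs ([5,7,124],[123,121,7]) := W.der c20018707 C ⟨f1, h20018673, h20018687, f5, trivial⟩
          have hh := W.frat c20018709 C h20014547 h20014543 h20018708
          exact False.elim hh
        rcases hh with h20018688 | hh
        · skip
          have h20018711 : FusC gs ([5,7,124],[123,121,7]) := W.der c20018710 C ⟨f1, h20018673, h20018688, f5, trivial⟩
          have hh := W.frat c20018712 C h20014547 h20014543 h20018711
          exact False.elim hh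
        rcases hh with h20018689 | hh
        · skip
          have h20018714 : FusC gs ([5,7,124],[121,123,5]) := W.der c20018713 C ⟨f1, h20018673, f5, h20018689, f2, trivial⟩
          have hh := W.frat c20018715 C h20014547 h20014543 h20018714
          exact False.elim hh
        rcases hh with h20018690 | hh
        · skip
          have h20018717 : FusC gs ([5,7,124],[121,123,5]) := W.der c20018716 C ⟨f1, h20018673, f5, h20018690, f2, trivial⟩
          have hh := W.frat c20018718 C h20014547 h20014543 h20018717
          exact False.elim hh
        rcases hh with h20018691 | hh
        · skip
          have h20018738 : FusC gs ([5,7,124],[121,123,5]) := W.der c20018737 C ⟨f1, h20018673, f5, h20018691, f2, trivial⟩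
          have hh := W.frat c20018739 C h20014547 h20014543 h20018738
          exact False.elim hh
        rcases hh with h20018692 | hh
        · skip
          have h20018741 : FusC gs ([5,7,124],[121,123,5]) := W.der c20018740 C ⟨f1, h20018673, f5, h20018692, f2, trivial⟩
          have hh := W.frat c20018742 C h20014547 h20014543 h20018741
          exact False.elim hh
        exact False.elim hh
      rcases hh with h20018743 | hh
      · skip
        have h20018745 : FusC gs ([520,525,522,630],[628,126,630,7]) := W.der c20018744 C ⟨f5, h20018743, trivial⟩
        have hh := W.frat c20018746 C h20016293 h20016269 h20018745
        rcases hh with h20018747 | hh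
        · skip
          have h20018790 : FusC gs ([5,7,124],[126,124,123]) := W.der c20018789 C ⟨f2, h20018747, f5, h20018743, trivial⟩
          have hh := W.frat c20018791 C h20014589 h20014543 h20018790
          exact False.elim hh
        rcases hh with h20018748 | hh
        · skip
          have h20018793 : FusC gs ([5,7,124],[126,124,123]) := W.der c20018792 C ⟨f2, h20018748, f5, h20018743, trivial⟩
          have hh := W.frat c20018794 C h20014589 h20014543 h20018793
          exact False.elim hh
        rcases hh with h20018749 | hh
        · skip
          have h20018764 : FusC gs ([5,7,124],[124,126,123]) := W.der c20018763 C ⟨f2, h20018749, f5, h20018743, trivial⟩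
          have hh := W.frat c20018765 C h20014589 h20014543 h20018764
          exact False.elim hh
        rcases hh with h20018750 | hh
        · skip
          have h20018767 : FusC gs ([5,7,124],[124,126,123]) := W.der c20018766 C ⟨f2, h20018750, f5, h20018743, trivial⟩
          have hh := W.frat c20018768 C h20014589 h20014543 h20018767
          exact False.elim hh
        rcases hh with h20018751 | hh
        · skip
          have h20018770 : FusC gs ([520,525,522,630,8,16,33,129,257],[625,630,627,525,16,8,33,224,259]) := W.der c20018769 C ⟨h20018751, trivial⟩
          rcases W.lift c20018771 S C h20014301 h20016327 h20018770 with hh | hh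
          · skip
            exact False.elim hh
          exact False.elim hh
        rcases hh with h20018752 | hh
        · skip
          have h20018773 : FusC gs ([528,533,530,622,24,33,137,257],[57,438,59,461,903,528,281,173]) := W.der c20018772 C ⟨h20018752, f6, trivial⟩
          have h20018775 : FusC gs ([528,533,530,622,24,33,137,257],[530,535,528,620,24,35,137,378]) := W.der c20018774 C ⟨h20018773, trivial⟩
          rcases W.lift c20018776 S C h20016324 h20016322 h20018775 with hh | hh
          · skip
            exact False.elim hh
          exact False.elim hh
        rcases hh with h20018753 | hh
        · skip
          have h20018796 : FusC gs ([520,525,522,630,8,16,33,129,257],[625,630,627,525,16,8,35,224,376]) := W.der c20018795 C ⟨h20018753, trivial⟩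
          rcases W.lift c20018797 S C h20014301 h20016327 h20018796 with hh | hh
          · skip
            exact False.elim hh
          exact False.elim hh
        rcases hh with h20018754 | hh
        · skip
          have h20018799 : FusC gs ([528,533,530,622,24,33,137,257],[317,359,319,284,71,64,851,464]) := W.der c20018798 C ⟨f6, h20018754, trivial⟩
          have hh := W.frat c20018800 C h20016358 h20016350 h20018799
          exact False.elim hh
        rcases hh with h20018755 | hh
        · skip
          have h20018802 : FusC gs ([5,7,124],[121,123,5]) := W.der c20018801 C ⟨f1, h20018743, h20018755, f5, trivial⟩
          have hh := W.frat c20018803 C h20014547 h20014543 h20018802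
          exact False.elim hh
        rcases hh with h20018756 | hh
        · skip
          have h20018805 : FusC gs ([5,7,124],[121,123,5]) := W.der c20018804 C ⟨f1, h20018743, h20018756, f5, trivial⟩
          have hh := W.frat c20018806 C h20014547 h20014543 h20018805
          exact False.elim hh
        rcases hh with h20018757 | hh
        · skip
          have h20018778 : FusC gs ([5,7,124],[121,123,7]) := W.der c20018777 C ⟨f1, h20018743, h20018757, f5, trivial⟩
          have hh := W.frat c20018779 C h20014547 h20014543 h20018778
          exact False.elim hh
        rcases hh with h20018758 | hh
        · skip
          have h20018781 : FusC gs ([5,7,124],[121,123,7]) := W.der c20018780 C ⟨f1, h20018743, h20018758, f5, trivial⟩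
          have hh := W.frat c20018782 C h20014547 h20014543 h20018781
          exact False.elim hh
        rcases hh with h20018759 | hh
        · skip
          have h20018784 : FusC gs ([5,7,124],[121,123,7]) := W.der c20018783 C ⟨f1, h20018743, f5, h20018759, f2, trivial⟩
          have hh := W.frat c20018785 C h20014547 h20014543 h20018784
          exact False.elim hh
        rcases hh with h20018760 | hh
        · skip
          have h20018787 : FusC gs ([5,7,124],[121,123,7]) := W.der c20018786 C ⟨f1, h20018743, f5, h20018760, f2, trivial⟩
          have hh := W.frat c20018788 C h20014547 h20014543 h20018787
          exact False.elim hh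
        rcases hh with h20018761 | hh
        · skip
          have h20018808 : FusC gs ([5,7,124],[121,123,7]) := W.der c20018807 C ⟨f1, h20018743, f5, h20018761, f2, trivial⟩
          have hh := W.frat c20018809 C h20014547 h20014543 h20018808
          exact False.elim hh
        rcases hh with h20018762 | hh
        · skip
          have h20018811 : FusC gs ([5,7,124],[121,123,7]) := W.der c20018810 C ⟨f1, h20018743, f5, h20018762, f2, trivial⟩
          have hh := W.frat c20018812 C h20014547 h20014543 h20018811
          exact False.elim hh
        exact False.elim hh
      rcases hh with h20018813 | hh
      · skip
        have h20018815 : FusC gs ([5,7,124],[123,121,7]) := W.der c20018814 C ⟨h20018813, f5, f2, trivial⟩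
        have hh := W.frat c20018816 C h20014547 h20014543 h20018815
        exact False.elim hh
      rcases hh with h20018817 | hh
      · skip
        have h20018819 : FusC gs ([5,7,124],[121,123,7]) := W.der c20018818 C ⟨h20018817, f5, f2, trivial⟩
        have hh := W.frat c20018820 C h20014547 h20014543 h20018819
        exact False.elim hh
      rcases hh with h20018821 | hh
      · skip
        have h20018823 : FusC gs ([520,525,522,630],[5,522,7,625]) := W.der c20018822 C ⟨f5, h20018821, trivial⟩
        have hh := W.frat c20018824 C h20016293 h20016269 h20018823
        rcases hh with h20018825 | hh
        · skip
          have h20018842 : FusC gs ([520,525,522,630,8,16,33,129,257],[522,527,520,628,8,16,33,129,257]) := W.der c20018841 C ⟨h20018825, trivial⟩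
          rcases W.lift c20018843 S C h20014301 h20016327 h20018842 with hh | hh
          · skip
            exact False.elim hh
          exact False.elim hh
        rcases hh with h20018826 | hh
        · skip
          have h20018845 : FusC gs ([528,533,530,622,24,33,137,257],[319,35,317,88,882,438,402,741]) := W.der c20018844 C ⟨h20018826, f6, trivial⟩
          have h20018847 : FusC gs ([528,533,530,622,24,33,137,257],[528,533,530,622,24,33,137,259]) := W.der c20018846 C ⟨h20018845, trivial⟩
          rcases W.lift c20018848 S C h20016324 h20016322 h20018847 with hh | hh
          · skip
            exact False.elim hh
          exact False.elim hh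
        rcases hh with h20018827 | hh
        · skip
          have h20018850 : FusC gs ([520,525,522,630,8,16,33,129,257],[522,527,520,628,8,16,35,129,378]) := W.der c20018849 C ⟨h20018827, trivial⟩
          rcases W.lift c20018851 S C h20014301 h20016327 h20018850 with hh | hh
          · skip
            exact False.elim hh
          exact False.elim hh
        rcases hh with h20018828 | hh
        · skip
          have h20018853 : FusC gs ([528,533,530,622,24,33,137,257],[324,286,326,357,69,64,808,466]) := W.der c20018852 C ⟨f6, h20018828, trivial⟩
          have hh := W.frat c20018854 C h20016358 h20016350 h20018853
          exact False.elim hh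
        rcases hh with h20018829 | hh
        · skip
          have h20018868 : FusC gs ([5,7,124],[126,124,121]) := W.der c20018867 C ⟨f1, h20018829, f5, h20018821, f2, trivial⟩
          have hh := W.frat c20018869 C h20014589 h20014543 h20018868
          exact False.elim hh
        rcases hh with h20018830 | hh
        · skip
          have h20018871 : FusC gs ([5,7,124],[126,124,121]) := W.der c20018870 C ⟨f1, h20018830, f5, h20018821, f2, trivial⟩
          have hh := W.frat c20018872 C h20014589 h20014543 h20018871
          exact False.elim hh
        rcases hh with h20018831 | hh
        · skip
          have h20018874 : FusC gs ([5,7,124],[126,124,123]) := W.der c20018873 C ⟨f1, h20018831, f5, h20018821, f2, trivial⟩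
          have hh := W.frat c20018875 C h20014589 h20014543 h20018874
          exact False.elim hh
        rcases hh with h20018832 | hh
        · skip
          have h20018877 : FusC gs ([5,7,124],[126,124,123]) := W.der c20018876 C ⟨f1, h20018832, f5, h20018821, f2, trivial⟩
          have hh := W.frat c20018878 C h20014589 h20014543 h20018877
          exact False.elim hh
        rcases hh with h20018833 | hh
        · skip
          have h20018880 : FusC gs ([5,7,124],[126,124,121]) := W.der c20018879 C ⟨f1, h20018821, h20018833, f5, trivial⟩
          have hh := W.frat c20018881 C h20014589 h20014543 h20018880
          exact False.elim hh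
        rcases hh with h20018834 | hh
        · skip
          have h20018883 : FusC gs ([5,7,124],[126,124,121]) := W.der c20018882 C ⟨f1, h20018821, h20018834, f5, trivial⟩
          have hh := W.frat c20018884 C h20014589 h20014543 h20018883
          exact False.elim hh
        rcases hh with h20018835 | hh
        · skip
          have h20018886 : FusC gs ([5,7,124],[126,124,121]) := W.der c20018885 C ⟨f1, h20018821, h20018835, f5, trivial⟩
          have hh := W.frat c20018887 C h20014589 h20014543 h20018886
          exact False.elim hh
        rcases hh with h20018836 | hh
        · skip
          have h20018889 : FusC gs ([5,7,124],[126,124,121]) := W.der c20018888 C ⟨f1, h20018821, h20018836, f5, trivial⟩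
          have hh := W.frat c20018890 C h20014589 h20014543 h20018889
          exact False.elim hh
        rcases hh with h20018837 | hh
        · skip
          have h20018856 : FusC gs ([5,7,124],[124,126,121]) := W.der c20018855 C ⟨f2, h20018837, f5, h20018821, trivial⟩
          have hh := W.frat c20018857 C h20014589 h20014543 h20018856
          exact False.elim hh
        rcases hh with h20018838 | hh
        · skip
          have h20018859 : FusC gs ([5,7,124],[124,126,121]) := W.der c20018858 C ⟨f2, h20018838, f5, h20018821, trivial⟩
          have hh := W.frat c20018860 C h20014589 h20014543 h20018859
          exact False.elim hh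
        rcases hh with h20018839 | hh
        · skip
          have h20018862 : FusC gs ([5,7,124],[124,126,121]) := W.der c20018861 C ⟨f2, h20018839, f5, h20018821, trivial⟩
          have hh := W.frat c20018863 C h20014589 h20014543 h20018862
          exact False.elim hh
        rcases hh with h20018840 | hh
        · skip
          have h20018865 : FusC gs ([5,7,124],[124,126,121]) := W.der c20018864 C ⟨f2, h20018840, f5, h20018821, trivial⟩
          have hh := W.frat c20018866 C h20014589 h20014543 h20018865
          exact False.elim hh
        exact False.elim hh
      rcases hh with h20018891 | hh
      · skip
        have h20018893 : FusC gs ([520,525,522,630],[126,520,124,627]) := W.der c20018892 C ⟨f5, h20018891, trivial⟩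
        have hh := W.frat c20018894 C h20016293 h20016269 h20018893
        rcases hh with h20018895 | hh
        · skip
          have h20018912 : FusC gs ([5,7,124],[123,121,7]) := W.der c20018911 C ⟨f1, h20018891, f5, h20018895, f2, trivial⟩
          have hh := W.frat c20018913 C h20014547 h20014543 h20018912
          exact False.elim hh
        rcases hh with h20018896 | hh
        · skip
          have h20018915 : FusC gs ([5,7,124],[123,121,7]) := W.der c20018914 C ⟨f1, h20018891, f5, h20018896, f2, trivial⟩
          have hh := W.frat c20018916 C h20014547 h20014543 h20018915
          exact False.elim hh
        rcases hh with h20018897 | hh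
        · skip
          have h20018918 : FusC gs ([5,7,124],[121,123,7]) := W.der c20018917 C ⟨f1, h20018891, f5, h20018897, f2, trivial⟩
          have hh := W.frat c20018919 C h20014547 h20014543 h20018918
          exact False.elim hh
        rcases hh with h20018898 | hh
        · skip
          have h20018921 : FusC gs ([5,7,124],[121,123,7]) := W.der c20018920 C ⟨f1, h20018891, f5, h20018898, f2, trivial⟩
          have hh := W.frat c20018922 C h20014547 h20014543 h20018921
          exact False.elim hh
        rcases hh with h20018899 | hh
        · skip
          have h20018924 : FusC gs ([520,525,522,630,8,16,33,129,257],[522,527,520,628,8,16,33,129,257]) := W.der c20018923 C ⟨h20018899, trivial⟩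
          rcases W.lift c20018925 S C h20014301 h20016327 h20018924 with hh | hh
          · skip
            exact False.elim hh
          exact False.elim hh
        rcases hh with h20018900 | hh
        · skip
          have h20018927 : FusC gs ([528,533,530,622,24,33,137,257],[324,357,326,286,62,59,808,466]) := W.der c20018926 C ⟨f6, h20018900, trivial⟩
          have hh := W.frat c20018928 C h20016358 h20016350 h20018927
          exact False.elim hh
        rcases hh with h20018901 | hh
        · skip
          have h20018930 : FusC gs ([520,525,522,630,8,16,33,129,257],[522,527,520,628,8,16,35,129,378]) := W.der c20018929 C ⟨h20018901, trivial⟩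
          rcases W.lift c20018931 S C h20014301 h20016327 h20018930 with hh | hh
          · skip
            exact False.elim hh
          exact False.elim hh
        rcases hh with h20018902 | hh
        · skip
          have h20018933 : FusC gs ([528,533,530,622,24,33,137,257],[625,710,627,701,211,993,896,670]) := W.der c20018932 C ⟨f6, h20018902, trivial⟩
          have h20018935 : FusC gs ([528,533,530,622,24,33,137,257],[617,622,619,533,24,35,139,376]) := W.der c20018934 C ⟨h20018933, trivial⟩
          rcases W.lift c20018936 S C h20016324 h20016322 h20018935 with hh | hh
          · skip
            exact False.elim hh
          exact False.elim hh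
        rcases hh with h20018903 | hh
        · skip
          have h20018938 : FusC gs ([5,7,124],[124,126,123]) := W.der c20018937 C ⟨f1, h20018903, f5, h20018891, trivial⟩
          have hh := W.frat c20018939 C h20014589 h20014543 h20018938
          exact False.elim hh
        rcases hh with h20018904 | hh
        · skip
          have h20018941 : FusC gs ([5,7,124],[124,126,123]) := W.der c20018940 C ⟨f1, h20018904, f5, h20018891, trivial⟩
          have hh := W.frat c20018942 C h20014589 h20014543 h20018941
          exact False.elim hh
        rcases hh with h20018905 | hh
        · skip
          have h20018944 : FusC gs ([5,7,124],[124,126,123]) := W.der c20018943 C ⟨f1, h20018905, f5, h20018891, trivial⟩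
          have hh := W.frat c20018945 C h20014589 h20014543 h20018944
          exact False.elim hh
        rcases hh with h20018906 | hh
        · skip
          have h20018947 : FusC gs ([5,7,124],[124,126,123]) := W.der c20018946 C ⟨f1, h20018906, f5, h20018891, trivial⟩
          have hh := W.frat c20018948 C h20014589 h20014543 h20018947
          exact False.elim hh
        rcases hh with h20018907 | hh
        · skip
          have h20018950 : FusC gs ([5,7,124],[124,126,121]) := W.der c20018949 C ⟨f2, h20018891, h20018907, f5, trivial⟩
          have hh := W.frat c20018951 C h20014589 h20014543 h20018950
          exact False.elim hh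
        rcases hh with h20018908 | hh
        · skip
          have h20018953 : FusC gs ([5,7,124],[124,126,121]) := W.der c20018952 C ⟨f2, h20018891, h20018908, f5, trivial⟩
          have hh := W.frat c20018954 C h20014589 h20014543 h20018953
          exact False.elim hh
        rcases hh with h20018909 | hh
        · skip
          have h20018956 : FusC gs ([5,7,124],[124,126,121]) := W.der c20018955 C ⟨f2, h20018891, h20018909, f5, trivial⟩
          have hh := W.frat c20018957 C h20014589 h20014543 h20018956
          exact False.elim hh
        rcases hh with h20018910 | hh
        · skip
          have h20018959 : FusC gs ([5,7,124],[124,126,121]) := W.der c20018958 C ⟨f2, h20018891, h20018910, f5, trivial⟩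
          have hh := W.frat c20018960 C h20014589 h20014543 h20018959
          exact False.elim hh
        exact False.elim hh
      rcases hh with h20018961 | hh
      · skip
        have h20018963 : FusC gs ([5,7,124],[121,123,5]) := W.der c20018962 C ⟨h20018961, f5, f1, trivial⟩
        have hh := W.frat c20018964 C h20014547 h20014543 h20018963
        exact False.elim hh
      rcases hh with h20018965 | hh
      · skip
        have h20018967 : FusC gs ([5,7,124],[123,121,5]) := W.der c20018966 C ⟨h20018965, f5, f1, trivial⟩
        have hh := W.frat c20018968 C h20014547 h20014543 h20018967
        exact False.elim hh
      rcases hh with h20018969 | hh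
      · skip
        have h20018971 : FusC gs ([5,7,124],[123,121,7]) := W.der c20018970 C ⟨h20018969, f5, f2, trivial⟩
        have hh := W.frat c20018972 C h20014547 h20014543 h20018971
        exact False.elim hh
      rcases hh with h20018973 | hh
      · skip
        have h20018975 : FusC gs ([5,7,124],[121,123,7]) := W.der c20018974 C ⟨h20018973, f5, f2, trivial⟩
        have hh := W.frat c20018976 C h20014547 h20014543 h20018975
        exact False.elim hh
      rcases hh with h20018977 | hh
      · skip
        have h20018979 : FusC gs ([520,525,522,630],[126,625,124,522]) := W.der c20018978 C ⟨f5, h20018977, trivial⟩
        have hh := W.frat c20018980 C h20016293 h20016269 h20018979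
        rcases hh with h20018981 | hh
        · skip
          have h20019024 : FusC gs ([520,525,522,630,8,16,33,129,257],[627,628,625,527,16,8,35,224,378]) := W.der c20019023 C ⟨h20018981, trivial⟩
          rcases W.lift c20019025 S C h20014301 h20016327 h20019024 with hh | hh
          · skip
            exact False.elim hh
          exact False.elim hh
        rcases hh with h20018982 | hh
        · skip
          have h20019027 : FusC gs ([528,533,530,622,24,33,137,257],[407,436,405,461,36,126,932,627]) := W.der c20019026 C ⟨f6, h20018982, trivial⟩
          have hh := W.frat c20019028 C h20016358 h20016350 h20019027
          exact False.elim hh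
        rcases hh with h20018983 | hh
        · skip
          have h20018998 : FusC gs ([520,525,522,630,8,16,33,129,257],[627,628,625,527,16,8,33,224,257]) := W.der c20018997 C ⟨h20018983, trivial⟩
          rcases W.lift c20018999 S C h20014301 h20016327 h20018998 with hh | hh
          · skip
            exact False.elim hh
          exact False.elim hh
        rcases hh with h20018984 | hh
        · skip
          have h20019001 : FusC gs ([528,533,530,622,24,33,137,257],[326,90,324,33,880,436,491,741]) := W.der c20019000 C ⟨h20018984, f6, trivial⟩
          have h20019003 : FusC gs ([528,533,530,622,24,33,137,257],[530,535,528,620,24,35,137,378]) := W.der c20019002 C ⟨h20019001, trivial⟩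
          rcases W.lift c20019004 S C h20016324 h20016322 h20019003 with hh | hh
          · skip
            exact False.elim hh
          exact False.elim hh
        rcases hh with h20018985 | hh
        · skip
          have h20019030 : FusC gs ([5,7,124],[126,124,121]) := W.der c20019029 C ⟨f1, h20018985, f5, h20018977, f2, trivial⟩
          have hh := W.frat c20019031 C h20014589 h20014543 h20019030
          exact False.elim hh
        rcases hh with h20018986 | hh
        · skip
          have h20019033 : FusC gs ([5,7,124],[126,124,121]) := W.der c20019032 C ⟨f1, h20018986, f5, h20018977, f2, trivial⟩
          have hh := W.frat c20019034 C h20014589 h20014543 h20019033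
          exact False.elim hh
        rcases hh with h20018987 | hh
        · skip
          have h20019006 : FusC gs ([5,7,124],[126,124,123]) := W.der c20019005 C ⟨f1, h20018987, f5, h20018977, f2, trivial⟩
          have hh := W.frat c20019007 C h20014589 h20014543 h20019006
          exact False.elim hh
        rcases hh with h20018988 | hh
        · skip
          have h20019009 : FusC gs ([5,7,124],[126,124,123]) := W.der c20019008 C ⟨f1, h20018988, f5, h20018977, f2, trivial⟩
          have hh := W.frat c20019010 C h20014589 h20014543 h20019009
          exact False.elim hh
        rcases hh with h20018989 | hh
        · skip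
          have h20019012 : FusC gs ([5,7,124],[124,126,123]) := W.der c20019011 C ⟨f1, h20018989, f5, h20018977, trivial⟩
          have hh := W.frat c20019013 C h20014589 h20014543 h20019012
          exact False.elim hh
        rcases hh with h20018990 | hh
        · skip
          have h20019015 : FusC gs ([5,7,124],[124,126,123]) := W.der c20019014 C ⟨f1, h20018990, f5, h20018977, trivial⟩
          have hh := W.frat c20019016 C h20014589 h20014543 h20019015
          exact False.elim hh
        rcases hh with h20018991 | hh
        · skip
          have h20019036 : FusC gs ([5,7,124],[124,126,123]) := W.der c20019035 C ⟨f1, h20018991, f5, h20018977, trivial⟩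
          have hh := W.frat c20019037 C h20014589 h20014543 h20019036
          exact False.elim hh
        rcases hh with h20018992 | hh
        · skip
          have h20019039 : FusC gs ([5,7,124],[124,126,123]) := W.der c20019038 C ⟨f1, h20018992, f5, h20018977, trivial⟩
          have hh := W.frat c20019040 C h20014589 h20014543 h20019039
          exact False.elim hh
        rcases hh with h20018993 | hh
        · skip
          have h20019018 : FusC gs ([5,7,124],[124,126,121]) := W.der c20019017 C ⟨f1, h20018993, f5, f2, trivial⟩
          have hh := W.frat c20019019 C h20014589 h20014543 h20019018
          exact False.elim hh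
        rcases hh with h20018994 | hh
        · skip
          have h20019021 : FusC gs ([5,7,124],[124,126,121]) := W.der c20019020 C ⟨f1, h20018994, f5, f2, trivial⟩
          have hh := W.frat c20019022 C h20014589 h20014543 h20019021
          exact False.elim hh
        rcases hh with h20018995 | hh
        · skip
          have h20019042 : FusC gs ([5,7,124],[124,126,121]) := W.der c20019041 C ⟨f1, h20018995, f5, f2, trivial⟩
          have hh := W.frat c20019043 C h20014589 h20014543 h20019042
          exact False.elim hh
        rcases hh with h20018996 | hh
        · skip
          have h20019045 : FusC gs ([5,7,124],[124,126,121]) := W.der c20019044 C ⟨f1, h20018996, f5, f2, trivial⟩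
          have hh := W.frat c20019046 C h20014589 h20014543 h20019045
          exact False.elim hh
        exact False.elim hh
      rcases hh with h20019047 | hh
      · skip
        have h20019049 : FusC gs ([520,525,522,630],[126,625,124,522]) := W.der c20019048 C ⟨f5, h20019047, trivial⟩
        have hh := W.frat c20019050 C h20016293 h20016269 h20019049
        rcases hh with h20019051 | hh
        · skip
          have h20019094 : FusC gs ([520,525,522,630,8,16,33,129,257],[627,628,625,527,16,8,35,224,378]) := W.der c20019093 C ⟨h20019051, trivial⟩
          rcases W.lift c20019095 S C h20014301 h20016327 h20019094 with hh | hh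
          · skip
            exact False.elim hh
          exact False.elim hh
        rcases hh with h20019052 | hh
        · skip
          have h20019097 : FusC gs ([528,533,530,622,24,33,137,257],[407,436,405,461,36,126,932,627]) := W.der c20019096 C ⟨f6, h20019052, trivial⟩
          have hh := W.frat c20019098 C h20016358 h20016350 h20019097
          exact False.elim hh
        rcases hh with h20019053 | hh
        · skip
          have h20019068 : FusC gs ([520,525,522,630,8,16,33,129,257],[627,628,625,527,16,8,33,224,257]) := W.der c20019067 C ⟨h20019053, trivial⟩
          rcases W.lift c20019069 S C h20014301 h20016327 h20019068 with hh | hh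
          · skip
            exact False.elim hh
          exact False.elim hh
        rcases hh with h20019054 | hh
        · skip
          have h20019071 : FusC gs ([528,533,530,622,24,33,137,257],[326,90,324,33,880,436,491,741]) := W.der c20019070 C ⟨h20019054, f6, trivial⟩
          have h20019073 : FusC gs ([528,533,530,622,24,33,137,257],[530,535,528,620,24,35,137,378]) := W.der c20019072 C ⟨h20019071, trivial⟩
          rcases W.lift c20019074 S C h20016324 h20016322 h20019073 with hh | hh
          · skip
            exact False.elim hh
          exact False.elim hh
        rcases hh with h20019055 | hh
        · skip
          have h20019100 : FusC gs ([5,7,124],[124,126,123]) := W.der c20019099 C ⟨f1, h20019055, f5, h20019047, f2, trivial⟩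
          have hh := W.frat c20019101 C h20014589 h20014543 h20019100
          exact False.elim hh
        rcases hh with h20019056 | hh
        · skip
          have h20019103 : FusC gs ([5,7,124],[124,126,123]) := W.der c20019102 C ⟨f1, h20019056, f5, h20019047, f2, trivial⟩
          have hh := W.frat c20019104 C h20014589 h20014543 h20019103
          exact False.elim hh
        rcases hh with h20019057 | hh
        · skip
          have h20019076 : FusC gs ([5,7,124],[124,126,121]) := W.der c20019075 C ⟨f1, h20019057, f5, h20019047, f2, trivial⟩
          have hh := W.frat c20019077 C h20014589 h20014543 h20019076
          exact False.elim hh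
        rcases hh with h20019058 | hh
        · skip
          have h20019079 : FusC gs ([5,7,124],[124,126,121]) := W.der c20019078 C ⟨f1, h20019058, f5, h20019047, f2, trivial⟩
          have hh := W.frat c20019080 C h20014589 h20014543 h20019079
          exact False.elim hh
        rcases hh with h20019059 | hh
        · skip
          have h20019082 : FusC gs ([5,7,124],[124,126,123]) := W.der c20019081 C ⟨f1, h20019059, f5, h20019047, trivial⟩
          have hh := W.frat c20019083 C h20014589 h20014543 h20019082
          exact False.elim hh
        rcases hh with h20019060 | hh
        · skip
          have h20019085 : FusC gs ([5,7,124],[124,126,123]) := W.der c20019084 C ⟨f1, h20019060, f5, h20019047, trivial⟩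
          have hh := W.frat c20019086 C h20014589 h20014543 h20019085
          exact False.elim hh
        rcases hh with h20019061 | hh
        · skip
          have h20019106 : FusC gs ([5,7,124],[124,126,123]) := W.der c20019105 C ⟨f1, h20019061, f5, h20019047, trivial⟩
          have hh := W.frat c20019107 C h20014589 h20014543 h20019106
          exact False.elim hh
        rcases hh with h20019062 | hh
        · skip
          have h20019109 : FusC gs ([5,7,124],[124,126,123]) := W.der c20019108 C ⟨f1, h20019062, f5, h20019047, trivial⟩
          have hh := W.frat c20019110 C h20014589 h20014543 h20019109
          exact False.elim hh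
        rcases hh with h20019063 | hh
        · skip
          have h20019088 : FusC gs ([5,7,124],[124,126,121]) := W.der c20019087 C ⟨f1, h20019063, f5, f2, trivial⟩
          have hh := W.frat c20019089 C h20014589 h20014543 h20019088
          exact False.elim hh
        rcases hh with h20019064 | hh
        · skip
          have h20019091 : FusC gs ([5,7,124],[124,126,121]) := W.der c20019090 C ⟨f1, h20019064, f5, f2, trivial⟩
          have hh := W.frat c20019092 C h20014589 h20014543 h20019091
          exact False.elim hh
        rcases hh with h20019065 | hh
        · skip
          have h20019112 : FusC gs ([5,7,124],[124,126,121]) := W.der c20019111 C ⟨f1, h20019065, f5, f2, trivial⟩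
          have hh := W.frat c20019113 C h20014589 h20014543 h20019112
          exact False.elim hh
        rcases hh with h20019066 | hh
        · skip
          have h20019115 : FusC gs ([5,7,124],[124,126,121]) := W.der c20019114 C ⟨f1, h20019066, f5, f2, trivial⟩
          have hh := W.frat c20019116 C h20014589 h20014543 h20019115
          exact False.elim hh
        exact False.elim hh
      rcases hh with h20019117 | hh
      · skip
        have h20019119 : FusC gs ([5,7,124],[121,123,5]) := W.der c20019118 C ⟨h20019117, f5, f1, trivial⟩
        have hh := W.frat c20019120 C h20014547 h20014543 h20019119
        exact False.elim hh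
      rcases hh with h20019121 | hh
      · skip
        have h20019123 : FusC gs ([5,7,124],[123,121,5]) := W.der c20019122 C ⟨h20019121, f5, f1, trivial⟩
        have hh := W.frat c20019124 C h20014547 h20014543 h20019123
        exact False.elim hh
      rcases hh with h20019125 | hh
      · skip
        have h20019127 : FusC gs ([520,525,522,630],[527,124,525,5]) := W.der c20019126 C ⟨f5, h20019125, trivial⟩
        have hh := W.frat c20019128 C h20016293 h20016269 h20019127
        rcases hh with h20019129 | hh
        · skip
          have h20019146 : FusC gs ([520,525,522,630,8,16,33,129,257],[520,525,522,630,8,16,35,129,376]) := W.der c20019145 C ⟨h20019129, trivial⟩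
          rcases W.lift c20019147 S C h20014301 h20016327 h20019146 with hh | hh
          · skip
            exact False.elim hh
          exact False.elim hh
        rcases hh with h20019130 | hh
        · skip
          have h20019149 : FusC gs ([528,533,530,622,24,33,137,257],[405,436,407,461,38,7,991,625]) := W.der c20019148 C ⟨f6, h20019130, trivial⟩
          have hh := W.frat c20019150 C h20016358 h20016350 h20019149
          exact False.elim hh
        rcases hh with h20019131 | hh
        · skip
          have h20019152 : FusC gs ([520,525,522,630,8,16,33,129,257],[520,525,522,630,8,16,33,129,259]) := W.der c20019151 C ⟨h20019131, trivial⟩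
          rcases W.lift c20019153 S C h20014301 h20016327 h20019152 with hh | hh
          · skip
            exact False.elim hh
          exact False.elim hh
        rcases hh with h20019132 | hh
        · skip
          have h20019155 : FusC gs ([528,533,530,622,24,33,137,257],[622,124,620,5,168,407,397,760]) := W.der c20019154 C ⟨f6, h20019132, trivial⟩
          have h20019157 : FusC gs ([528,533,530,622,24,33,137,257],[530,535,528,620,24,33,137,257]) := W.der c20019156 C ⟨h20019155, trivial⟩
          rcases W.lift c20019158 S C h20016324 h20016322 h20019157 with hh | hh
          · skip
            exact False.elim hh
          exact False.elim hh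
        rcases hh with h20019133 | hh
        · skip
          have h20019172 : FusC gs ([5,7,124],[126,124,123]) := W.der c20019171 C ⟨f1, h20019133, f5, h20019125, trivial⟩
          have hh := W.frat c20019173 C h20014589 h20014543 h20019172
          exact False.elim hh
        rcases hh with h20019134 | hh
        · skip
          have h20019175 : FusC gs ([5,7,124],[126,124,123]) := W.der c20019174 C ⟨f1, h20019134, f5, h20019125, trivial⟩
          have hh := W.frat c20019176 C h20014589 h20014543 h20019175
          exact False.elim hh
        rcases hh with h20019135 | hh
        · skip
          have h20019178 : FusC gs ([5,7,124],[126,124,123]) := W.der c20019177 C ⟨f1, h20019135, f5, h20019125, trivial⟩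
          have hh := W.frat c20019179 C h20014589 h20014543 h20019178
          exact False.elim hh
        rcases hh with h20019136 | hh
        · skip
          have h20019181 : FusC gs ([5,7,124],[126,124,123]) := W.der c20019180 C ⟨f1, h20019136, f5, h20019125, trivial⟩
          have hh := W.frat c20019182 C h20014589 h20014543 h20019181
          exact False.elim hh
        rcases hh with h20019137 | hh
        · skip
          have h20019160 : FusC gs ([5,7,124],[124,126,121]) := W.der c20019159 C ⟨f2, h20019125, h20019137, f5, trivial⟩
          have hh := W.frat c20019161 C h20014589 h20014543 h20019160
          exact False.elim hh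
        rcases hh with h20019138 | hh
        · skip
          have h20019163 : FusC gs ([5,7,124],[124,126,121]) := W.der c20019162 C ⟨f2, h20019125, h20019138, f5, trivial⟩
          have hh := W.frat c20019164 C h20014589 h20014543 h20019163
          exact False.elim hh
        rcases hh with h20019139 | hh
        · skip
          have h20019166 : FusC gs ([5,7,124],[126,124,121]) := W.der c20019165 C ⟨f2, h20019125, h20019139, f5, trivial⟩
          have hh := W.frat c20019167 C h20014589 h20014543 h20019166
          exact False.elim hh
        rcases hh with h20019140 | hh
        · skip
          have h20019169 : FusC gs ([5,7,124],[126,124,121]) := W.der c20019168 C ⟨f2, h20019125, h20019140, f5, trivial⟩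
          have hh := W.frat c20019170 C h20014589 h20014543 h20019169
          exact False.elim hh
        rcases hh with h20019141 | hh
        · skip
          have h20019184 : FusC gs ([5,7,124],[121,123,5]) := W.der c20019183 C ⟨f1, h20019125, f5, h20019141, f2, trivial⟩
          have hh := W.frat c20019185 C h20014547 h20014543 h20019184
          exact False.elim hh
        rcases hh with h20019142 | hh
        · skip
          have h20019187 : FusC gs ([5,7,124],[121,123,5]) := W.der c20019186 C ⟨f1, h20019125, f5, h20019142, f2, trivial⟩
          have hh := W.frat c20019188 C h20014547 h20014543 h20019187
          exact False.elim hh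
        rcases hh with h20019143 | hh
        · skip
          have h20019190 : FusC gs ([5,7,124],[121,123,5]) := W.der c20019189 C ⟨f1, h20019125, f5, h20019143, f2, trivial⟩
          have hh := W.frat c20019191 C h20014547 h20014543 h20019190
          exact False.elim hh
        rcases hh with h20019144 | hh
        · skip
          have h20019193 : FusC gs ([5,7,124],[121,123,5]) := W.der c20019192 C ⟨f1, h20019125, f5, h20019144, f2, trivial⟩
          have hh := W.frat c20019194 C h20014547 h20014543 h20019193
          exact False.elim hh
        exact False.elim hh
      rcases hh with h20019195 | hh
      · skip
        have h20019197 : FusC gs ([520,525,522,630],[527,5,525,124]) := W.der c20019196 C ⟨f5, h20019195, trivial⟩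
        have hh := W.frat c20019198 C h20016293 h20016269 h20019197
        rcases hh with h20019199 | hh
        · skip
          have h20019216 : FusC gs ([528,533,530,622,24,33,137,257],[319,284,317,359,62,66,808,466]) := W.der c20019215 C ⟨f6, h20019199, trivial⟩
          have hh := W.frat c20019217 C h20016358 h20016350 h20019216
          exact False.elim hh
        rcases hh with h20019200 | hh
        · skip
          have h20019219 : FusC gs ([520,525,522,630,8,16,33,129,257],[522,527,520,628,8,16,35,129,378]) := W.der c20019218 C ⟨h20019200, trivial⟩
          rcases W.lift c20019220 S C h20014301 h20016327 h20019219 with hh | hh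
          · skip
            exact False.elim hh
          exact False.elim hh
        rcases hh with h20019201 | hh
        · skip
          have h20019222 : FusC gs ([528,533,530,622,24,33,137,257],[66,463,64,436,901,528,352,212]) := W.der c20019221 C ⟨h20019201, f6, trivial⟩
          have h20019224 : FusC gs ([528,533,530,622,24,33,137,257],[528,533,530,622,24,33,137,259]) := W.der c20019223 C ⟨h20019222, trivial⟩
          rcases W.lift c20019225 S C h20016324 h20016322 h20019224 with hh | hh
          · skip
            exact False.elim hh
          exact False.elim hh
        rcases hh with h20019202 | hh
        · skip
          have h20019227 : FusC gs ([520,525,522,630,8,16,33,129,257],[522,527,520,628,8,16,33,129,257]) := W.der c20019226 C ⟨h20019202, trivial⟩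
          rcases W.lift c20019228 S C h20014301 h20016327 h20019227 with hh | hh
          · skip
            exact False.elim hh
          exact False.elim hh
        rcases hh with h20019203 | hh
        · skip
          have h20019242 : FusC gs ([5,7,124],[124,126,123]) := W.der c20019241 C ⟨f2, h20019203, f5, h20019195, trivial⟩
          have hh := W.frat c20019243 C h20014589 h20014543 h20019242
          exact False.elim hh
        rcases hh with h20019204 | hh
        · skip
          have h20019245 : FusC gs ([5,7,124],[124,126,123]) := W.der c20019244 C ⟨f2, h20019204, f5, h20019195, trivial⟩
          have hh := W.frat c20019246 C h20014589 h20014543 h20019245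
          exact False.elim hh
        rcases hh with h20019205 | hh
        · skip
          have h20019248 : FusC gs ([5,7,124],[124,126,123]) := W.der c20019247 C ⟨f2, h20019205, f5, h20019195, trivial⟩
          have hh := W.frat c20019249 C h20014589 h20014543 h20019248
          exact False.elim hh
        rcases hh with h20019206 | hh
        · skip
          have h20019251 : FusC gs ([5,7,124],[124,126,123]) := W.der c20019250 C ⟨f2, h20019206, f5, h20019195, trivial⟩
          have hh := W.frat c20019252 C h20014589 h20014543 h20019251
          exact False.elim hh
        rcases hh with h20019207 | hh
        · skip
          have h20019230 : FusC gs ([5,7,124],[126,124,121]) := W.der c20019229 C ⟨f1, h20019207, f5, h20019195, f2, trivial⟩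
          have hh := W.frat c20019231 C h20014589 h20014543 h20019230
          exact False.elim hh
        rcases hh with h20019208 | hh
        · skip
          have h20019233 : FusC gs ([5,7,124],[126,124,121]) := W.der c20019232 C ⟨f1, h20019208, f5, h20019195, f2, trivial⟩
          have hh := W.frat c20019234 C h20014589 h20014543 h20019233
          exact False.elim hh
        rcases hh with h20019209 | hh
        · skip
          have h20019236 : FusC gs ([5,7,124],[126,124,121]) := W.der c20019235 C ⟨f1, h20019209, f5, h20019195, f2, trivial⟩
          have hh := W.frat c20019237 C h20014589 h20014543 h20019236
          exact False.elim hh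
        rcases hh with h20019210 | hh
        · skip
          have h20019239 : FusC gs ([5,7,124],[126,124,121]) := W.der c20019238 C ⟨f1, h20019210, f5, h20019195, f2, trivial⟩
          have hh := W.frat c20019240 C h20014589 h20014543 h20019239
          exact False.elim hh
        rcases hh with h20019211 | hh
        · skip
          have h20019254 : FusC gs ([5,7,124],[124,126,121]) := W.der c20019253 C ⟨f1, h20019195, h20019211, f5, trivial⟩
          have hh := W.frat c20019255 C h20014589 h20014543 h20019254
          exact False.elim hh
        rcases hh with h20019212 | hh
        · skip
          have h20019257 : FusC gs ([5,7,124],[124,126,121]) := W.der c20019256 C ⟨f1, h20019195, h20019212, f5, trivial⟩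
          have hh := W.frat c20019258 C h20014589 h20014543 h20019257
          exact False.elim hh
        rcases hh with h20019213 | hh
        · skip
          have h20019260 : FusC gs ([5,7,124],[126,124,121]) := W.der c20019259 C ⟨f1, h20019195, h20019213, f5, trivial⟩
          have hh := W.frat c20019261 C h20014589 h20014543 h20019260
          exact False.elim hh
        rcases hh with h20019214 | hh
        · skip
          have h20019263 : FusC gs ([5,7,124],[126,124,121]) := W.der c20019262 C ⟨f1, h20019195, h20019214, f5, trivial⟩
          have hh := W.frat c20019264 C h20014589 h20014543 h20019263
          exact False.elim hh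
        exact False.elim hh
      rcases hh with h20019265 | hh
      · skip
        have h20019267 : FusC gs ([520,525,522,630],[628,126,630,7]) := W.der c20019266 C ⟨f5, h20019265, trivial⟩
        have hh := W.frat c20019268 C h20016293 h20016269 h20019267
        rcases hh with h20019269 | hh
        · skip
          have h20019312 : FusC gs ([5,7,124],[126,124,123]) := W.der c20019311 C ⟨f2, h20019269, f5, h20019265, trivial⟩
          have hh := W.frat c20019313 C h20014589 h20014543 h20019312
          exact False.elim hh
        rcases hh with h20019270 | hh
        · skip
          have h20019315 : FusC gs ([5,7,124],[126,124,123]) := W.der c20019314 C ⟨f2, h20019270, f5, h20019265, trivial⟩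
          have hh := W.frat c20019316 C h20014589 h20014543 h20019315
          exact False.elim hh
        rcases hh with h20019271 | hh
        · skip
          have h20019286 : FusC gs ([5,7,124],[124,126,123]) := W.der c20019285 C ⟨f2, h20019271, f5, h20019265, trivial⟩
          have hh := W.frat c20019287 C h20014589 h20014543 h20019286
          exact False.elim hh
        rcases hh with h20019272 | hh
        · skip
          have h20019289 : FusC gs ([5,7,124],[124,126,123]) := W.der c20019288 C ⟨f2, h20019272, f5, h20019265, trivial⟩
          have hh := W.frat c20019290 C h20014589 h20014543 h20019289
          exact False.elim hh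
        rcases hh with h20019273 | hh
        · skip
          have h20019292 : FusC gs ([520,525,522,630,8,16,33,129,257],[625,630,627,525,16,8,33,224,259]) := W.der c20019291 C ⟨h20019273, trivial⟩
          rcases W.lift c20019293 S C h20014301 h20016327 h20019292 with hh | hh
          · skip
            exact False.elim hh
          exact False.elim hh
        rcases hh with h20019274 | hh
        · skip
          have h20019295 : FusC gs ([528,533,530,622,24,33,137,257],[57,438,59,461,903,528,281,173]) := W.der c20019294 C ⟨h20019274, f6, trivial⟩
          have h20019297 : FusC gs ([528,533,530,622,24,33,137,257],[530,535,528,620,24,35,137,378]) := W.der c20019296 C ⟨h20019295, trivial⟩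
          rcases W.lift c20019298 S C h20016324 h20016322 h20019297 with hh | hh
          · skip
            exact False.elim hh
          exact False.elim hh
        rcases hh with h20019275 | hh
        · skip
          have h20019318 : FusC gs ([520,525,522,630,8,16,33,129,257],[625,630,627,525,16,8,35,224,376]) := W.der c20019317 C ⟨h20019275, trivial⟩
          rcases W.lift c20019319 S C h20014301 h20016327 h20019318 with hh | hh
          · skip
            exact False.elim hh
          exact False.elim hh
        rcases hh with h20019276 | hh
        · skip
          have h20019321 : FusC gs ([528,533,530,622,24,33,137,257],[317,359,319,284,71,64,851,464]) := W.der c20019320 C ⟨f6, h20019276, trivial⟩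
          have hh := W.frat c20019322 C h20016358 h20016350 h20019321
          exact False.elim hh
        rcases hh with h20019277 | hh
        · skip
          have h20019324 : FusC gs ([5,7,124],[123,121,5]) := W.der c20019323 C ⟨f1, h20019265, h20019277, f5, trivial⟩
          have hh := W.frat c20019325 C h20014547 h20014543 h20019324
          exact False.elim hh
        rcases hh with h20019278 | hh
        · skip
          have h20019327 : FusC gs ([5,7,124],[123,121,5]) := W.der c20019326 C ⟨f1, h20019265, h20019278, f5, trivial⟩
          have hh := W.frat c20019328 C h20014547 h20014543 h20019327
          exact False.elim hh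
        rcases hh with h20019279 | hh
        · skip
          have h20019300 : FusC gs ([5,7,124],[123,121,7]) := W.der c20019299 C ⟨f1, h20019265, h20019279, f5, trivial⟩
          have hh := W.frat c20019301 C h20014547 h20014543 h20019300
          exact False.elim hh
        rcases hh with h20019280 | hh
        · skip
          have h20019303 : FusC gs ([5,7,124],[123,121,7]) := W.der c20019302 C ⟨f1, h20019265, h20019280, f5, trivial⟩
          have hh := W.frat c20019304 C h20014547 h20014543 h20019303
          exact False.elim hh
        rcases hh with h20019281 | hh
        · skip
          have h20019306 : FusC gs ([5,7,124],[121,123,5]) := W.der c20019305 C ⟨f1, h20019265, f5, h20019281, f2, trivial⟩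
          have hh := W.frat c20019307 C h20014547 h20014543 h20019306
          exact False.elim hh
        rcases hh with h20019282 | hh
        · skip
          have h20019309 : FusC gs ([5,7,124],[121,123,5]) := W.der c20019308 C ⟨f1, h20019265, f5, h20019282, f2, trivial⟩
          have hh := W.frat c20019310 C h20014547 h20014543 h20019309
          exact False.elim hh
        rcases hh with h20019283 | hh
        · skip
          have h20019330 : FusC gs ([5,7,124],[121,123,5]) := W.der c20019329 C ⟨f1, h20019265, f5, h20019283, f2, trivial⟩
          have hh := W.frat c20019331 C h20014547 h20014543 h20019330
          exact False.elim hh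
        rcases hh with h20019284 | hh
        · skip
          have h20019333 : FusC gs ([5,7,124],[121,123,5]) := W.der c20019332 C ⟨f1, h20019265, f5, h20019284, f2, trivial⟩
          have hh := W.frat c20019334 C h20014547 h20014543 h20019333
          exact False.elim hh
        exact False.elim hh
      rcases hh with h20019335 | hh
      · skip
        have h20019337 : FusC gs ([520,525,522,630],[628,126,630,7]) := W.der c20019336 C ⟨f5, h20019335, trivial⟩
        have hh := W.frat c20019338 C h20016293 h20016269 h20019337
        rcases hh with h20019339 | hh
        · skip
          have h20019382 : FusC gs ([5,7,124],[126,124,123]) := W.der c20019381 C ⟨f2, h20019339, f5, h20019335, trivial⟩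
          have hh := W.frat c20019383 C h20014589 h20014543 h20019382
          exact False.elim hh
        rcases hh with h20019340 | hh
        · skip
          have h20019385 : FusC gs ([5,7,124],[126,124,123]) := W.der c20019384 C ⟨f2, h20019340, f5, h20019335, trivial⟩
          have hh := W.frat c20019386 C h20014589 h20014543 h20019385
          exact False.elim hh
        rcases hh with h20019341 | hh
        · skip
          have h20019356 : FusC gs ([5,7,124],[124,126,123]) := W.der c20019355 C ⟨f2, h20019341, f5, h20019335, trivial⟩
          have hh := W.frat c20019357 C h20014589 h20014543 h20019356
          exact False.elim hh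
        rcases hh with h20019342 | hh
        · skip
          have h20019359 : FusC gs ([5,7,124],[124,126,123]) := W.der c20019358 C ⟨f2, h20019342, f5, h20019335, trivial⟩
          have hh := W.frat c20019360 C h20014589 h20014543 h20019359
          exact False.elim hh
        rcases hh with h20019343 | hh
        · skip
          have h20019362 : FusC gs ([520,525,522,630,8,16,33,129,257],[625,630,627,525,16,8,33,224,259]) := W.der c20019361 C ⟨h20019343, trivial⟩
          rcases W.lift c20019363 S C h20014301 h20016327 h20019362 with hh | hh
          · skip
            exact False.elim hh
          exact False.elim hh
        rcases hh with h20019344 | hh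
        · skip
          have h20019365 : FusC gs ([528,533,530,622,24,33,137,257],[57,438,59,461,903,528,281,173]) := W.der c20019364 C ⟨h20019344, f6, trivial⟩
          have h20019367 : FusC gs ([528,533,530,622,24,33,137,257],[530,535,528,620,24,35,137,378]) := W.der c20019366 C ⟨h20019365, trivial⟩
          rcases W.lift c20019368 S C h20016324 h20016322 h20019367 with hh | hh
          · skip
            exact False.elim hh
          exact False.elim hh
        rcases hh with h20019345 | hh
        · skip
          have h20019388 : FusC gs ([520,525,522,630,8,16,33,129,257],[625,630,627,525,16,8,35,224,376]) := W.der c20019387 C ⟨h20019345, trivial⟩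
          rcases W.lift c20019389 S C h20014301 h20016327 h20019388 with hh | hh
          · skip
            exact False.elim hh
          exact False.elim hh
        rcases hh with h20019346 | hh
        · skip
          have h20019391 : FusC gs ([528,533,530,622,24,33,137,257],[317,359,319,284,71,64,851,464]) := W.der c20019390 C ⟨f6, h20019346, trivial⟩
          have hh := W.frat c20019392 C h20016358 h20016350 h20019391
          exact False.elim hh
        rcases hh with h20019347 | hh
        · skip
          have h20019394 : FusC gs ([5,7,124],[121,123,5]) := W.der c20019393 C ⟨f1, h20019335, h20019347, f5, trivial⟩
          have hh := W.frat c20019395 C h20014547 h20014543 h20019394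
          exact False.elim hh
        rcases hh with h20019348 | hh
        · skip
          have h20019397 : FusC gs ([5,7,124],[121,123,5]) := W.der c20019396 C ⟨f1, h20019335, h20019348, f5, trivial⟩
          have hh := W.frat c20019398 C h20014547 h20014543 h20019397
          exact False.elim hh
        rcases hh with h20019349 | hh
        · skip
          have h20019370 : FusC gs ([5,7,124],[121,123,7]) := W.der c20019369 C ⟨f1, h20019335, h20019349, f5, trivial⟩
          have hh := W.frat c20019371 C h20014547 h20014543 h20019370
          exact False.elim hh
        rcases hh with h20019350 | hh
        · skip
          have h20019373 : FusC gs ([5,7,124],[121,123,7]) := W.der c20019372 C ⟨f1, h20019335, h20019350, f5, trivial⟩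
          have hh := W.frat c20019374 C h20014547 h20014543 h20019373
          exact False.elim hh
        rcases hh with h20019351 | hh
        · skip
          have h20019376 : FusC gs ([5,7,124],[121,123,7]) := W.der c20019375 C ⟨f1, h20019335, f5, h20019351, f2, trivial⟩
          have hh := W.frat c20019377 C h20014547 h20014543 h20019376
          exact False.elim hh
        rcases hh with h20019352 | hh
        · skip
          have h20019379 : FusC gs ([5,7,124],[121,123,7]) := W.der c20019378 C ⟨f1, h20019335, f5, h20019352, f2, trivial⟩
          have hh := W.frat c20019380 C h20014547 h20014543 h20019379
          exact False.elim hh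
        rcases hh with h20019353 | hh
        · skip
          have h20019400 : FusC gs ([5,7,124],[121,123,7]) := W.der c20019399 C ⟨f1, h20019335, f5, h20019353, f2, trivial⟩
          have hh := W.frat c20019401 C h20014547 h20014543 h20019400
          exact False.elim hh
        rcases hh with h20019354 | hh
        · skip
          have h20019403 : FusC gs ([5,7,124],[121,123,7]) := W.der c20019402 C ⟨f1, h20019335, f5, h20019354, f2, trivial⟩
          have hh := W.frat c20019404 C h20014547 h20014543 h20019403
          exact False.elim hh
        exact False.elim hh
      rcases hh with h20019405 | hh
      · skip
        have h20019407 : FusC gs ([5,7,124],[123,121,7]) := W.der c20019406 C ⟨h20019405, f5, f2, trivial⟩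
        have hh := W.frat c20019408 C h20014547 h20014543 h20019407
        exact False.elim hh
      rcases hh with h20019409 | hh
      · skip
        have h20019411 : FusC gs ([5,7,124],[121,123,7]) := W.der c20019410 C ⟨h20019409, f5, f2, trivial⟩
        have hh := W.frat c20019412 C h20014547 h20014543 h20019411
        exact False.elim hh
      rcases hh with h20019413 | hh
      · skip
        have h20019415 : FusC gs ([520,525,522,630],[5,522,7,625]) := W.der c20019414 C ⟨f5, h20019413, trivial⟩
        have hh := W.frat c20019416 C h20016293 h20016269 h20019415
        rcases hh with h20019417 | hh
        · skip
          have h20019434 : FusC gs ([520,525,522,630,8,16,33,129,257],[522,527,520,628,8,16,33,129,257]) := W.der c20019433 C ⟨h20019417, trivial⟩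
          rcases W.lift c20019435 S C h20014301 h20016327 h20019434 with hh | hh
          · skip
            exact False.elim hh
          exact False.elim hh
        rcases hh with h20019418 | hh
        · skip
          have h20019437 : FusC gs ([528,533,530,622,24,33,137,257],[319,35,317,88,882,438,402,741]) := W.der c20019436 C ⟨h20019418, f6, trivial⟩
          have h20019439 : FusC gs ([528,533,530,622,24,33,137,257],[528,533,530,622,24,33,137,259]) := W.der c20019438 C ⟨h20019437, trivial⟩
          rcases W.lift c20019440 S C h20016324 h20016322 h20019439 with hh | hh
          · skip
            exact False.elim hh
          exact False.elim hh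
        rcases hh with h20019419 | hh
        · skip
          have h20019442 : FusC gs ([520,525,522,630,8,16,33,129,257],[522,527,520,628,8,16,35,129,378]) := W.der c20019441 C ⟨h20019419, trivial⟩
          rcases W.lift c20019443 S C h20014301 h20016327 h20019442 with hh | hh
          · skip
            exact False.elim hh
          exact False.elim hh
        rcases hh with h20019420 | hh
        · skip
          have h20019445 : FusC gs ([528,533,530,622,24,33,137,257],[324,286,326,357,69,64,808,466]) := W.der c20019444 C ⟨f6, h20019420, trivial⟩
          have hh := W.frat c20019446 C h20016358 h20016350 h20019445
          exact False.elim hh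
        rcases hh with h20019421 | hh
        · skip
          have h20019460 : FusC gs ([5,7,124],[126,124,121]) := W.der c20019459 C ⟨f1, h20019421, f5, h20019413, f2, trivial⟩
          have hh := W.frat c20019461 C h20014589 h20014543 h20019460
          exact False.elim hh
        rcases hh with h20019422 | hh
        · skip
          have h20019463 : FusC gs ([5,7,124],[126,124,121]) := W.der c20019462 C ⟨f1, h20019422, f5, h20019413, f2, trivial⟩
          have hh := W.frat c20019464 C h20014589 h20014543 h20019463
          exact False.elim hh
        rcases hh with h20019423 | hh
        · skip
          have h20019466 : FusC gs ([5,7,124],[126,124,123]) := W.der c20019465 C ⟨f1, h20019423, f5, h20019413, f2, trivial⟩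
          have hh := W.frat c20019467 C h20014589 h20014543 h20019466
          exact False.elim hh
        rcases hh with h20019424 | hh
        · skip
          have h20019469 : FusC gs ([5,7,124],[126,124,123]) := W.der c20019468 C ⟨f1, h20019424, f5, h20019413, f2, trivial⟩
          have hh := W.frat c20019470 C h20014589 h20014543 h20019469
          exact False.elim hh
        rcases hh with h20019425 | hh
        · skip
          have h20019472 : FusC gs ([5,7,124],[126,124,121]) := W.der c20019471 C ⟨f1, h20019413, h20019425, f5, trivial⟩
          have hh := W.frat c20019473 C h20014589 h20014543 h20019472
          exact False.elim hh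
        rcases hh with h20019426 | hh
        · skip
          have h20019475 : FusC gs ([5,7,124],[126,124,121]) := W.der c20019474 C ⟨f1, h20019413, h20019426, f5, trivial⟩
          have hh := W.frat c20019476 C h20014589 h20014543 h20019475
          exact False.elim hh
        rcases hh with h20019427 | hh
        · skip
          have h20019478 : FusC gs ([5,7,124],[126,124,121]) := W.der c20019477 C ⟨f1, h20019413, h20019427, f5, trivial⟩
          have hh := W.frat c20019479 C h20014589 h20014543 h20019478
          exact False.elim hh
        rcases hh with h20019428 | hh
        · skip
          have h20019481 : FusC gs ([5,7,124],[126,124,121]) := W.der c20019480 C ⟨f1, h20019413, h20019428, f5, trivial⟩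
          have hh := W.frat c20019482 C h20014589 h20014543 h20019481
          exact False.elim hh
        rcases hh with h20019429 | hh
        · skip
          have h20019448 : FusC gs ([5,7,124],[124,126,121]) := W.der c20019447 C ⟨f2, h20019429, f5, h20019413, trivial⟩
          have hh := W.frat c20019449 C h20014589 h20014543 h20019448
          exact False.elim hh
        rcases hh with h20019430 | hh
        · skip
          have h20019451 : FusC gs ([5,7,124],[124,126,121]) := W.der c20019450 C ⟨f2, h20019430, f5, h20019413, trivial⟩
          have hh := W.frat c20019452 C h20014589 h20014543 h20019451
          exact False.elim hh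
        rcases hh with h20019431 | hh
        · skip
          have h20019454 : FusC gs ([5,7,124],[124,126,121]) := W.der c20019453 C ⟨f2, h20019431, f5, h20019413, trivial⟩
          have hh := W.frat c20019455 C h20014589 h20014543 h20019454
          exact False.elim hh
        rcases hh with h20019432 | hh
        · skip
          have h20019457 : FusC gs ([5,7,124],[124,126,121]) := W.der c20019456 C ⟨f2, h20019432, f5, h20019413, trivial⟩
          have hh := W.frat c20019458 C h20014589 h20014543 h20019457
          exact False.elim hh
        exact False.elim hh
      rcases hh with h20019483 | hh
      · skip
        have h20019485 : FusC gs ([520,525,522,630],[126,520,124,627]) := W.der c20019484 C ⟨f5, h20019483, trivial⟩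
        have hh := W.frat c20019486 C h20016293 h20016269 h20019485
        rcases hh with h20019487 | hh
        · skip
          have h20019504 : FusC gs ([5,7,124],[123,121,7]) := W.der c20019503 C ⟨f1, h20019483, f5, h20019487, f2, trivial⟩
          have hh := W.frat c20019505 C h20014547 h20014543 h20019504
          exact False.elim hh
        rcases hh with h20019488 | hh
        · skip
          have h20019507 : FusC gs ([5,7,124],[123,121,7]) := W.der c20019506 C ⟨f1, h20019483, f5, h20019488, f2, trivial⟩
          have hh := W.frat c20019508 C h20014547 h20014543 h20019507
          exact False.elim hh
        rcases hh with h20019489 | hh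
        · skip
          have h20019510 : FusC gs ([5,7,124],[121,123,7]) := W.der c20019509 C ⟨f1, h20019483, f5, h20019489, f2, trivial⟩
          have hh := W.frat c20019511 C h20014547 h20014543 h20019510
          exact False.elim hh
        rcases hh with h20019490 | hh
        · skip
          have h20019513 : FusC gs ([5,7,124],[121,123,7]) := W.der c20019512 C ⟨f1, h20019483, f5, h20019490, f2, trivial⟩
          have hh := W.frat c20019514 C h20014547 h20014543 h20019513
          exact False.elim hh
        rcases hh with h20019491 | hh
        · skip
          have h20019516 : FusC gs ([520,525,522,630,8,16,33,129,257],[522,527,520,628,8,16,33,129,257]) := W.der c20019515 C ⟨h20019491, trivial⟩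
          rcases W.lift c20019517 S C h20014301 h20016327 h20019516 with hh | hh
          · skip
            exact False.elim hh
          exact False.elim hh
        rcases hh with h20019492 | hh
        · skip
          have h20019519 : FusC gs ([528,533,530,622,24,33,137,257],[324,357,326,286,62,59,808,466]) := W.der c20019518 C ⟨f6, h20019492, trivial⟩
          have hh := W.frat c20019520 C h20016358 h20016350 h20019519
          exact False.elim hh
        rcases hh with h20019493 | hh
        · skip
          have h20019522 : FusC gs ([520,525,522,630,8,16,33,129,257],[522,527,520,628,8,16,35,129,378]) := W.der c20019521 C ⟨h20019493, trivial⟩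
          rcases W.lift c20019523 S C h20014301 h20016327 h20019522 with hh | hh
          · skip
            exact False.elim hh
          exact False.elim hh
        rcases hh with h20019494 | hh
        · skip
          have h20019525 : FusC gs ([528,533,530,622,24,33,137,257],[625,710,627,701,211,993,896,670]) := W.der c20019524 C ⟨f6, h20019494, trivial⟩
          have h20019527 : FusC gs ([528,533,530,622,24,33,137,257],[617,622,619,533,24,35,139,376]) := W.der c20019526 C ⟨h20019525, trivial⟩
          rcases W.lift c20019528 S C h20016324 h20016322 h20019527 with hh | hh
          · skip
            exact False.elim hh
          exact False.elim hh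
        rcases hh with h20019495 | hh
        · skip
          have h20019530 : FusC gs ([5,7,124],[124,126,123]) := W.der c20019529 C ⟨f1, h20019495, f5, h20019483, trivial⟩
          have hh := W.frat c20019531 C h20014589 h20014543 h20019530
          exact False.elim hh
        rcases hh with h20019496 | hh
        · skip
          have h20019533 : FusC gs ([5,7,124],[124,126,123]) := W.der c20019532 C ⟨f1, h20019496, f5, h20019483, trivial⟩
          have hh := W.frat c20019534 C h20014589 h20014543 h20019533
          exact False.elim hh
        rcases hh with h20019497 | hh
        · skip
          have h20019536 : FusC gs ([5,7,124],[124,126,123]) := W.der c20019535 C ⟨f1, h20019497, f5, h20019483, trivial⟩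
          have hh := W.frat c20019537 C h20014589 h20014543 h20019536
          exact False.elim hh
        rcases hh with h20019498 | hh
        · skip
          have h20019539 : FusC gs ([5,7,124],[124,126,123]) := W.der c20019538 C ⟨f1, h20019498, f5, h20019483, trivial⟩
          have hh := W.frat c20019540 C h20014589 h20014543 h20019539
          exact False.elim hh
        rcases hh with h20019499 | hh
        · skip
          have h20019542 : FusC gs ([5,7,124],[124,126,121]) := W.der c20019541 C ⟨f2, h20019483, h20019499, f5, trivial⟩
          have hh := W.frat c20019543 C h20014589 h20014543 h20019542
          exact False.elim hh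
        rcases hh with h20019500 | hh
        · skip
          have h20019545 : FusC gs ([5,7,124],[124,126,121]) := W.der c20019544 C ⟨f2, h20019483, h20019500, f5, trivial⟩
          have hh := W.frat c20019546 C h20014589 h20014543 h20019545
          exact False.elim hh
        rcases hh with h20019501 | hh
        · skip
          have h20019548 : FusC gs ([5,7,124],[124,126,121]) := W.der c20019547 C ⟨f2, h20019483, h20019501, f5, trivial⟩
          have hh := W.frat c20019549 C h20014589 h20014543 h20019548
          exact False.elim hh
        rcases hh with h20019502 | hh
        · skip
          have h20019551 : FusC gs ([5,7,124],[124,126,121]) := W.der c20019550 C ⟨f2, h20019483, h20019502, f5, trivial⟩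
          have hh := W.frat c20019552 C h20014589 h20014543 h20019551
          exact False.elim hh
        exact False.elim hh
      rcases hh with h20019553 | hh
      · skip
        have h20019555 : FusC gs ([5,7,124],[121,123,5]) := W.der c20019554 C ⟨h20019553, f5, f1, trivial⟩
        have hh := W.frat c20019556 C h20014547 h20014543 h20019555
        exact False.elim hh
      rcases hh with h20019557 | hh
      · skip
        have h20019559 : FusC gs ([5,7,124],[123,121,5]) := W.der c20019558 C ⟨h20019557, f5, f1, trivial⟩
        have hh := W.frat c20019560 C h20014547 h20014543 h20019559
        exact False.elim hh
      rcases hh with h20019561 | hh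
      · skip
        have h20019563 : FusC gs ([5,7,124],[123,121,7]) := W.der c20019562 C ⟨h20019561, f5, f2, trivial⟩
        have hh := W.frat c20019564 C h20014547 h20014543 h20019563
        exact False.elim hh
      rcases hh with h20019565 | hh
      · skip
        have h20019567 : FusC gs ([5,7,124],[121,123,7]) := W.der c20019566 C ⟨h20019565, f5, f2, trivial⟩
        have hh := W.frat c20019568 C h20014547 h20014543 h20019567
        exact False.elim hh
      rcases hh with h20019569 | hh
      · skip
        have h20019571 : FusC gs ([520,525,522,630],[126,625,124,522]) := W.der c20019570 C ⟨f5, h20019569, trivial⟩
        have hh := W.frat c20019572 C h20016293 h20016269 h20019571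
        rcases hh with h20019573 | hh
        · skip
          have h20019616 : FusC gs ([520,525,522,630,8,16,33,129,257],[627,628,625,527,16,8,35,224,378]) := W.der c20019615 C ⟨h20019573, trivial⟩
          rcases W.lift c20019617 S C h20014301 h20016327 h20019616 with hh | hh
          · skip
            exact False.elim hh
          exact False.elim hh
        rcases hh with h20019574 | hh
        · skip
          have h20019619 : FusC gs ([528,533,530,622,24,33,137,257],[407,436,405,461,36,126,932,627]) := W.der c20019618 C ⟨f6, h20019574, trivial⟩
          have hh := W.frat c20019620 C h20016358 h20016350 h20019619
          exact False.elim hh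
        rcases hh with h20019575 | hh
        · skip
          have h20019590 : FusC gs ([520,525,522,630,8,16,33,129,257],[627,628,625,527,16,8,33,224,257]) := W.der c20019589 C ⟨h20019575, trivial⟩
          rcases W.lift c20019591 S C h20014301 h20016327 h20019590 with hh | hh
          · skip
            exact False.elim hh
          exact False.elim hh
        rcases hh with h20019576 | hh
        · skip
          have h20019593 : FusC gs ([528,533,530,622,24,33,137,257],[326,90,324,33,880,436,491,741]) := W.der c20019592 C ⟨h20019576, f6, trivial⟩
          have h20019595 : FusC gs ([528,533,530,622,24,33,137,257],[530,535,528,620,24,35,137,378]) := W.der c20019594 C ⟨h20019593, trivial⟩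
          rcases W.lift c20019596 S C h20016324 h20016322 h20019595 with hh | hh
          · skip
            exact False.elim hh
          exact False.elim hh
        rcases hh with h20019577 | hh
        · skip
          have h20019622 : FusC gs ([5,7,124],[126,124,121]) := W.der c20019621 C ⟨f1, h20019577, f5, h20019569, f2, trivial⟩
          have hh := W.frat c20019623 C h20014589 h20014543 h20019622
          exact False.elim hh
        rcases hh with h20019578 | hh
        · skip
          have h20019625 : FusC gs ([5,7,124],[126,124,121]) := W.der c20019624 C ⟨f1, h20019578, f5, h20019569, f2, trivial⟩
          have hh := W.frat c20019626 C h20014589 h20014543 h20019625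
          exact False.elim hh
        rcases hh with h20019579 | hh
        · skip
          have h20019598 : FusC gs ([5,7,124],[126,124,123]) := W.der c20019597 C ⟨f1, h20019579, f5, h20019569, f2, trivial⟩
          have hh := W.frat c20019599 C h20014589 h20014543 h20019598
          exact False.elim hh
        rcases hh with h20019580 | hh
        · skip
          have h20019601 : FusC gs ([5,7,124],[126,124,123]) := W.der c20019600 C ⟨f1, h20019580, f5, h20019569, f2, trivial⟩
          have hh := W.frat c20019602 C h20014589 h20014543 h20019601
          exact False.elim hh
        rcases hh with h20019581 | hh
        · skip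
          have h20019604 : FusC gs ([5,7,124],[124,126,123]) := W.der c20019603 C ⟨f1, h20019581, f5, h20019569, trivial⟩
          have hh := W.frat c20019605 C h20014589 h20014543 h20019604
          exact False.elim hh
        rcases hh with h20019582 | hh
        · skip
          have h20019607 : FusC gs ([5,7,124],[124,126,123]) := W.der c20019606 C ⟨f1, h20019582, f5, h20019569, trivial⟩
          have hh := W.frat c20019608 C h20014589 h20014543 h20019607
          exact False.elim hh
        rcases hh with h20019583 | hh
        · skip
          have h20019628 : FusC gs ([5,7,124],[124,126,123]) := W.der c20019627 C ⟨f1, h20019583, f5, h20019569, trivial⟩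
          have hh := W.frat c20019629 C h20014589 h20014543 h20019628
          exact False.elim hh
        rcases hh with h20019584 | hh
        · skip
          have h20019631 : FusC gs ([5,7,124],[124,126,123]) := W.der c20019630 C ⟨f1, h20019584, f5, h20019569, trivial⟩
          have hh := W.frat c20019632 C h20014589 h20014543 h20019631
          exact False.elim hh
        rcases hh with h20019585 | hh
        · skip
          have h20019610 : FusC gs ([5,7,124],[124,126,121]) := W.der c20019609 C ⟨f1, h20019585, f5, f2, trivial⟩
          have hh := W.frat c20019611 C h20014589 h20014543 h20019610
          exact False.elim hh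
        rcases hh with h20019586 | hh
        · skip
          have h20019613 : FusC gs ([5,7,124],[124,126,121]) := W.der c20019612 C ⟨f1, h20019586, f5, f2, trivial⟩
          have hh := W.frat c20019614 C h20014589 h20014543 h20019613
          exact False.elim hh
        rcases hh with h20019587 | hh
        · skip
          have h20019634 : FusC gs ([5,7,124],[124,126,121]) := W.der c20019633 C ⟨f1, h20019587, f5, f2, trivial⟩
          have hh := W.frat c20019635 C h20014589 h20014543 h20019634
          exact False.elim hh
        rcases hh with h20019588 | hh
        · skip
          have h20019637 : FusC gs ([5,7,124],[124,126,121]) := W.der c20019636 C ⟨f1, h20019588, f5, f2, trivial⟩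
          have hh := W.frat c20019638 C h20014589 h20014543 h20019637
          exact False.elim hh
        exact False.elim hh
      rcases hh with h20019639 | hh
      · skip
        have h20019641 : FusC gs ([520,525,522,630],[126,625,124,522]) := W.der c20019640 C ⟨f5, h20019639, trivial⟩
        have hh := W.frat c20019642 C h20016293 h20016269 h20019641
        rcases hh with h20019643 | hh
        · skip
          have h20019686 : FusC gs ([520,525,522,630,8,16,33,129,257],[627,628,625,527,16,8,35,224,378]) := W.der c20019685 C ⟨h20019643, trivial⟩
          rcases W.lift c20019687 S C h20014301 h20016327 h20019686 with hh | hh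
          · skip
            exact False.elim hh
          exact False.elim hh
        rcases hh with h20019644 | hh
        · skip
          have h20019689 : FusC gs ([528,533,530,622,24,33,137,257],[407,436,405,461,36,126,932,627]) := W.der c20019688 C ⟨f6, h20019644, trivial⟩
          have hh := W.frat c20019690 C h20016358 h20016350 h20019689
          exact False.elim hh
        rcases hh with h20019645 | hh
        · skip
          have h20019660 : FusC gs ([520,525,522,630,8,16,33,129,257],[627,628,625,527,16,8,33,224,257]) := W.der c20019659 C ⟨h20019645, trivial⟩
          rcases W.lift c20019661 S C h20014301 h20016327 h20019660 with hh | hh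
          · skip
            exact False.elim hh
          exact False.elim hh
        rcases hh with h20019646 | hh
        · skip
          have h20019663 : FusC gs ([528,533,530,622,24,33,137,257],[326,90,324,33,880,436,491,741]) := W.der c20019662 C ⟨h20019646, f6, trivial⟩
          have h20019665 : FusC gs ([528,533,530,622,24,33,137,257],[530,535,528,620,24,35,137,378]) := W.der c20019664 C ⟨h20019663, trivial⟩
          rcases W.lift c20019666 S C h20016324 h20016322 h20019665 with hh | hh
          · skip
            exact False.elim hh
          exact False.elim hh
        rcases hh with h20019647 | hh
        · skip
          have h20019692 : FusC gs ([5,7,124],[124,126,123]) := W.der c20019691 C ⟨f1, h20019647, f5, h20019639, f2, trivial⟩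
          have hh := W.frat c20019693 C h20014589 h20014543 h20019692
          exact False.elim hh
        rcases hh with h20019648 | hh
        · skip
          have h20019695 : FusC gs ([5,7,124],[124,126,123]) := W.der c20019694 C ⟨f1, h20019648, f5, h20019639, f2, trivial⟩
          have hh := W.frat c20019696 C h20014589 h20014543 h20019695
          exact False.elim hh
        rcases hh with h20019649 | hh
        · skip
          have h20019668 : FusC gs ([5,7,124],[124,126,121]) := W.der c20019667 C ⟨f1, h20019649, f5, h20019639, f2, trivial⟩
          have hh := W.frat c20019669 C h20014589 h20014543 h20019668
          exact False.elim hh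
        rcases hh with h20019650 | hh
        · skip
          have h20019671 : FusC gs ([5,7,124],[124,126,121]) := W.der c20019670 C ⟨f1, h20019650, f5, h20019639, f2, trivial⟩
          have hh := W.frat c20019672 C h20014589 h20014543 h20019671
          exact False.elim hh
        rcases hh with h20019651 | hh
        · skip
          have h20019674 : FusC gs ([5,7,124],[124,126,123]) := W.der c20019673 C ⟨f1, h20019651, f5, h20019639, trivial⟩
          have hh := W.frat c20019675 C h20014589 h20014543 h20019674
          exact False.elim hh
        rcases hh with h20019652 | hh
        · skip
          have h20019677 : FusC gs ([5,7,124],[124,126,123]) := W.der c20019676 C ⟨f1, h20019652, f5, h20019639, trivial⟩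
          have hh := W.frat c20019678 C h20014589 h20014543 h20019677
          exact False.elim hh
        rcases hh with h20019653 | hh
        · skip
          have h20019698 : FusC gs ([5,7,124],[124,126,123]) := W.der c20019697 C ⟨f1, h20019653, f5, h20019639, trivial⟩
          have hh := W.frat c20019699 C h20014589 h20014543 h20019698
          exact False.elim hh
        rcases hh with h20019654 | hh
        · skip
          have h20019701 : FusC gs ([5,7,124],[124,126,123]) := W.der c20019700 C ⟨f1, h20019654, f5, h20019639, trivial⟩
          have hh := W.frat c20019702 C h20014589 h20014543 h20019701
          exact False.elim hh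
        rcases hh with h20019655 | hh
        · skip
          have h20019680 : FusC gs ([5,7,124],[124,126,121]) := W.der c20019679 C ⟨f1, h20019655, f5, f2, trivial⟩
          have hh := W.frat c20019681 C h20014589 h20014543 h20019680
          exact False.elim hh
        rcases hh with h20019656 | hh
        · skip
          have h20019683 : FusC gs ([5,7,124],[124,126,121]) := W.der c20019682 C ⟨f1, h20019656, f5, f2, trivial⟩
          have hh := W.frat c20019684 C h20014589 h20014543 h20019683
          exact False.elim hh
        rcases hh with h20019657 | hh
        · skip
          have h20019704 : FusC gs ([5,7,124],[124,126,121]) := W.der c20019703 C ⟨f1, h20019657, f5, f2, trivial⟩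
          have hh := W.frat c20019705 C h20014589 h20014543 h20019704
          exact False.elim hh
        rcases hh with h20019658 | hh
        · skip
          have h20019707 : FusC gs ([5,7,124],[124,126,121]) := W.der c20019706 C ⟨f1, h20019658, f5, f2, trivial⟩
          have hh := W.frat c20019708 C h20014589 h20014543 h20019707
          exact False.elim hh
        exact False.elim hh
      rcases hh with h20019709 | hh
      · skip
        have h20019711 : FusC gs ([5,7,124],[121,123,5]) := W.der c20019710 C ⟨h20019709, f5, f1, trivial⟩
        have hh := W.frat c20019712 C h20014547 h20014543 h20019711
        exact False.elim hh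
      rcases hh with h20019713 | hh
      · skip
        have h20019715 : FusC gs ([5,7,124],[123,121,5]) := W.der c20019714 C ⟨h20019713, f5, f1, trivial⟩
        have hh := W.frat c20019716 C h20014547 h20014543 h20019715
        exact False.elim hh
      rcases hh with h20019717 | hh
      · skip
        have h20019719 : FusC gs ([520,525,522,630],[527,124,525,5]) := W.der c20019718 C ⟨f5, h20019717, trivial⟩
        have hh := W.frat c20019720 C h20016293 h20016269 h20019719
        rcases hh with h20019721 | hh
        · skip
          have h20019738 : FusC gs ([520,525,522,630,8,16,33,129,257],[520,525,522,630,8,16,35,129,376]) := W.der c20019737 C ⟨h20019721, trivial⟩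
          rcases W.lift c20019739 S C h20014301 h20016327 h20019738 with hh | hh
          · skip
            exact False.elim hh
          exact False.elim hh
        rcases hh with h20019722 | hh
        · skip
          have h20019741 : FusC gs ([528,533,530,622,24,33,137,257],[405,436,407,461,38,7,991,625]) := W.der c20019740 C ⟨f6, h20019722, trivial⟩
          have hh := W.frat c20019742 C h20016358 h20016350 h20019741
          exact False.elim hh
        rcases hh with h20019723 | hh
        · skip
          have h20019744 : FusC gs ([520,525,522,630,8,16,33,129,257],[520,525,522,630,8,16,33,129,259]) := W.der c20019743 C ⟨h20019723, trivial⟩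
          rcases W.lift c20019745 S C h20014301 h20016327 h20019744 with hh | hh
          · skip
            exact False.elim hh
          exact False.elim hh
        rcases hh with h20019724 | hh
        · skip
          have h20019747 : FusC gs ([528,533,530,622,24,33,137,257],[622,124,620,5,168,407,397,760]) := W.der c20019746 C ⟨f6, h20019724, trivial⟩
          have h20019749 : FusC gs ([528,533,530,622,24,33,137,257],[530,535,528,620,24,33,137,257]) := W.der c20019748 C ⟨h20019747, trivial⟩
          rcases W.lift c20019750 S C h20016324 h20016322 h20019749 with hh | hh
          · skip
            exact False.elim hh
          exact False.elim hh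
        rcases hh with h20019725 | hh
        · skip
          have h20019764 : FusC gs ([5,7,124],[126,124,123]) := W.der c20019763 C ⟨f1, h20019725, f5, h20019717, trivial⟩
          have hh := W.frat c20019765 C h20014589 h20014543 h20019764
          exact False.elim hh
        rcases hh with h20019726 | hh
        · skip
          have h20019767 : FusC gs ([5,7,124],[126,124,123]) := W.der c20019766 C ⟨f1, h20019726, f5, h20019717, trivial⟩
          have hh := W.frat c20019768 C h20014589 h20014543 h20019767
          exact False.elim hh
        rcases hh with h20019727 | hh
        · skip
          have h20019770 : FusC gs ([5,7,124],[126,124,123]) := W.der c20019769 C ⟨f1, h20019727, f5, h20019717, trivial⟩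
          have hh := W.frat c20019771 C h20014589 h20014543 h20019770
          exact False.elim hh
        rcases hh with h20019728 | hh
        · skip
          have h20019773 : FusC gs ([5,7,124],[126,124,123]) := W.der c20019772 C ⟨f1, h20019728, f5, h20019717, trivial⟩
          have hh := W.frat c20019774 C h20014589 h20014543 h20019773
          exact False.elim hh
        rcases hh with h20019729 | hh
        · skip
          have h20019752 : FusC gs ([5,7,124],[124,126,121]) := W.der c20019751 C ⟨f2, h20019717, h20019729, f5, trivial⟩
          have hh := W.frat c20019753 C h20014589 h20014543 h20019752
          exact False.elim hh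
        rcases hh with h20019730 | hh
        · skip
          have h20019755 : FusC gs ([5,7,124],[124,126,121]) := W.der c20019754 C ⟨f2, h20019717, h20019730, f5, trivial⟩
          have hh := W.frat c20019756 C h20014589 h20014543 h20019755
          exact False.elim hh
        rcases hh with h20019731 | hh
        · skip
          have h20019758 : FusC gs ([5,7,124],[126,124,121]) := W.der c20019757 C ⟨f2, h20019717, h20019731, f5, trivial⟩
          have hh := W.frat c20019759 C h20014589 h20014543 h20019758
          exact False.elim hh
        rcases hh with h20019732 | hh
        · skip
          have h20019761 : FusC gs ([5,7,124],[126,124,121]) := W.der c20019760 C ⟨f2, h20019717, h20019732, f5, trivial⟩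
          have hh := W.frat c20019762 C h20014589 h20014543 h20019761
          exact False.elim hh
        rcases hh with h20019733 | hh
        · skip
          have h20019776 : FusC gs ([5,7,124],[121,123,5]) := W.der c20019775 C ⟨f1, h20019717, f5, h20019733, f2, trivial⟩
          have hh := W.frat c20019777 C h20014547 h20014543 h20019776
          exact False.elim hh
        rcases hh with h20019734 | hh
        · skip
          have h20019779 : FusC gs ([5,7,124],[121,123,5]) := W.der c20019778 C ⟨f1, h20019717, f5, h20019734, f2, trivial⟩
          have hh := W.frat c20019780 C h20014547 h20014543 h20019779
          exact False.elim hh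
        rcases hh with h20019735 | hh
        · skip
          have h20019782 : FusC gs ([5,7,124],[121,123,5]) := W.der c20019781 C ⟨f1, h20019717, f5, h20019735, f2, trivial⟩
          have hh := W.frat c20019783 C h20014547 h20014543 h20019782
          exact False.elim hh
        rcases hh with h20019736 | hh
        · skip
          have h20019785 : FusC gs ([5,7,124],[121,123,5]) := W.der c20019784 C ⟨f1, h20019717, f5, h20019736, f2, trivial⟩
          have hh := W.frat c20019786 C h20014547 h20014543 h20019785
          exact False.elim hh
        exact False.elim hh
      rcases hh with h20019787 | hh
      · skip
        have h20019789 : FusC gs ([520,525,522,630],[527,5,525,124]) := W.der c20019788 C ⟨f5, h20019787, trivial⟩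
        have hh := W.frat c20019790 C h20016293 h20016269 h20019789
        rcases hh with h20019791 | hh
        · skip
          have h20019808 : FusC gs ([528,533,530,622,24,33,137,257],[319,284,317,359,62,66,808,466]) := W.der c20019807 C ⟨f6, h20019791, trivial⟩
          have hh := W.frat c20019809 C h20016358 h20016350 h20019808
          exact False.elim hh
        rcases hh with h20019792 | hh
        · skip
          have h20019811 : FusC gs ([520,525,522,630,8,16,33,129,257],[522,527,520,628,8,16,35,129,378]) := W.der c20019810 C ⟨h20019792, trivial⟩
          rcases W.lift c20019812 S C h20014301 h20016327 h20019811 with hh | hh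
          · skip
            exact False.elim hh
          exact False.elim hh
        rcases hh with h20019793 | hh
        · skip
          have h20019814 : FusC gs ([528,533,530,622,24,33,137,257],[66,463,64,436,901,528,352,212]) := W.der c20019813 C ⟨h20019793, f6, trivial⟩
          have h20019816 : FusC gs ([528,533,530,622,24,33,137,257],[528,533,530,622,24,33,137,259]) := W.der c20019815 C ⟨h20019814, trivial⟩
          rcases W.lift c20019817 S C h20016324 h20016322 h20019816 with hh | hh
          · skip
            exact False.elim hh
          exact False.elim hh
        rcases hh with h20019794 | hh
        · skip
          have h20019819 : FusC gs ([520,525,522,630,8,16,33,129,257],[522,527,520,628,8,16,33,129,257]) := W.der c20019818 C ⟨h20019794, trivial⟩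
          rcases W.lift c20019820 S C h20014301 h20016327 h20019819 with hh | hh
          · skip
            exact False.elim hh
          exact False.elim hh
        rcases hh with h20019795 | hh
        · skip
          have h20019834 : FusC gs ([5,7,124],[124,126,123]) := W.der c20019833 C ⟨f2, h20019795, f5, h20019787, trivial⟩
          have hh := W.frat c20019835 C h20014589 h20014543 h20019834
          exact False.elim hh
        rcases hh with h20019796 | hh
        · skip
          have h20019837 : FusC gs ([5,7,124],[124,126,123]) := W.der c20019836 C ⟨f2, h20019796, f5, h20019787, trivial⟩
          have hh := W.frat c20019838 C h20014589 h20014543 h20019837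
          exact False.elim hh
        rcases hh with h20019797 | hh
        · skip
          have h20019840 : FusC gs ([5,7,124],[124,126,123]) := W.der c20019839 C ⟨f2, h20019797, f5, h20019787, trivial⟩
          have hh := W.frat c20019841 C h20014589 h20014543 h20019840
          exact False.elim hh
        rcases hh with h20019798 | hh
        · skip
          have h20019843 : FusC gs ([5,7,124],[124,126,123]) := W.der c20019842 C ⟨f2, h20019798, f5, h20019787, trivial⟩
          have hh := W.frat c20019844 C h20014589 h20014543 h20019843
          exact False.elim hh
        rcases hh with h20019799 | hh
        · skip
          have h20019822 : FusC gs ([5,7,124],[126,124,121]) := W.der c20019821 C ⟨f1, h20019799, f5, h20019787, f2, trivial⟩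
          have hh := W.frat c20019823 C h20014589 h20014543 h20019822
          exact False.elim hh
        rcases hh with h20019800 | hh
        · skip
          have h20019825 : FusC gs ([5,7,124],[126,124,121]) := W.der c20019824 C ⟨f1, h20019800, f5, h20019787, f2, trivial⟩
          have hh := W.frat c20019826 C h20014589 h20014543 h20019825
          exact False.elim hh
        rcases hh with h20019801 | hh
        · skip
          have h20019828 : FusC gs ([5,7,124],[126,124,121]) := W.der c20019827 C ⟨f1, h20019801, f5, h20019787, f2, trivial⟩
          have hh := W.frat c20019829 C h20014589 h20014543 h20019828
          exact False.elim hh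
        rcases hh with h20019802 | hh
        · skip
          have h20019831 : FusC gs ([5,7,124],[126,124,121]) := W.der c20019830 C ⟨f1, h20019802, f5, h20019787, f2, trivial⟩
          have hh := W.frat c20019832 C h20014589 h20014543 h20019831
          exact False.elim hh
        rcases hh with h20019803 | hh
        · skip
          have h20019846 : FusC gs ([5,7,124],[124,126,121]) := W.der c20019845 C ⟨f1, h20019787, h20019803, f5, trivial⟩
          have hh := W.frat c20019847 C h20014589 h20014543 h20019846
          exact False.elim hh
        rcases hh with h20019804 | hh
        · skip
          have h20019849 : FusC gs ([5,7,124],[124,126,121]) := W.der c20019848 C ⟨f1, h20019787, h20019804, f5, trivial⟩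
          have hh := W.frat c20019850 C h20014589 h20014543 h20019849
          exact False.elim hh
        rcases hh with h20019805 | hh
        · skip
          have h20019852 : FusC gs ([5,7,124],[126,124,121]) := W.der c20019851 C ⟨f1, h20019787, h20019805, f5, trivial⟩
          have hh := W.frat c20019853 C h20014589 h20014543 h20019852
          exact False.elim hh
        rcases hh with h20019806 | hh
        · skip
          have h20019855 : FusC gs ([5,7,124],[126,124,121]) := W.der c20019854 C ⟨f1, h20019787, h20019806, f5, trivial⟩
          have hh := W.frat c20019856 C h20014589 h20014543 h20019855
          exact False.elim hh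
        exact False.elim hh
      exact False.elim hh
    rcases hh with h20019857 | hh
    · skip
      have h20019867 : EnvOK E20019866 gs := ⟨S.kap, XC.xp S h20019857, ⟨h20016206, h20019861, h20019865, trivial⟩, trivial⟩
      have hh := W.tt2 c20019869 S C h20019867 h20014303 h20019857
      exact False.elim hh
    exact False.elim hh
  · skip
    exact False.elim hh
  exact False.elim hh

end Cfsg.Lib.D8
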