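import Cfsg.Agent.D8.Chk3

set_option autoImplicit false
set_option maxRecDepth 100000
set_option linter.all false

namespace Cfsg.Lib.D8

noncomputable def D30001 : Tw := [([],0),([1],0),([1,2],0),([1,2,4],0),([1,2,4,10],0),([1,2,6,16,8],1)]
noncomputable def D30002 : Tw := [([],0),([1],0),([1,2],0),([1,2,4],0),([1,2,4,10],0),([1,2,6,16,8],1),([3,2,4,21,13,60],31)]
noncomputable def D30003 : Tw := [([],0),([1],0),([1,2],0),([1,2,4],0),([1,2,4,10],0),([1,2,6,16,8],1),([3,2,4,21,13,61],27)]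
noncomputable def D30004 : Tw := [([],0),([1],0),([1,2],0),([1,2,4],0),([1,2,4,10],0),([1,2,6,16,8],1),([3,2,4,16,8,36],0)]
noncomputable def D30005 : Tw := [([],0),([1],0),([1,2],0),([1,2,4],0),([1,2,4,10],0),([1,2,6,16,8],1),([3,2,4,16,8,37],4)]
noncomputable def D30006 : Tw := [([],0),([1],0),([1,2],0),([1,2,4],0),([1,2,4,10],0),([1,2,6,16,8],1),([3,2,4,21,13,61],27),([6,2,3,15,16,80,48],0)]
noncomputable def D30007 : Tw := [([],0),([1],0),([1,2],0),([1,2,4],0),([1,2,4,10],0),([1,2,6,16,8],1),([3,2,4,21,13,61],27),([6,2,3,15,16,80,48],2)]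
noncomputable def D30008 : Tw := [([],0),([1],0),([1,2],0),([1,2,4],0),([1,2,4,10],0),([1,2,6,16,8],1),([3,2,4,21,13,61],27),([6,2,3,15,16,84,51],0)]
noncomputable def D30009 : Tw := [([],0),([1],0),([1,2],0),([1,2,4],0),([1,2,4,10],0),([1,2,6,16,8],1),([3,2,4,21,13,61],27),([6,2,3,15,16,84,51],2)]
noncomputable def D30010 : Tw := [([],0),([1],0),([1,2],0),([1,2,4],0),([1,2,4,10],0),([1,2,6,16,8],1),([3,2,4,21,13,61],27),([6,2,3,15,16,84,51],0),([110,2,105,224,144,201,41,133],232)]
noncomputable def D30011 : Tw := [([],0),([1],0),([1,2],0),([1,2,4],0),([1,2,4,10],0),([1,2,6,16,8],1),([3,2,4,21,13,61],27),([6,2,3,15,16,84,51],0),([110,2,105,224,144,201,41,133],234)]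
noncomputable def D30012 : Tw := [([],0),([1],0),([1,2],0),([1,2,4],0),([1,2,4,10],0),([1,2,6,16,8],1),([3,2,4,21,13,61],27),([6,2,3,15,16,84,51],0),([110,2,105,224,146,208,50,128],128)]
noncomputable def D30013 : Tw := [([],0),([1],0),([1,2],0),([1,2,4],0),([1,2,4,10],0),([1,2,6,16,8],1),([3,2,4,21,13,61],27),([6,2,3,15,16,84,51],0),([110,2,105,224,146,208,50,128],130)]
noncomputable def D30014 : Tw := [([],0),([1],0),([1,2],0),([1,2,4],0),([1,2,4,10],0),([1,2,6,16,8],1),([3,2,4,16,8,37],4),([6,2,1,18,10,69,32],98)]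
noncomputable def D30015 : Tw := [([],0),([1],0),([1,2],0),([1,2,4],0),([1,2,4,10],0),([1,2,6,16,8],1),([3,2,4,16,8,37],4),([6,2,1,18,10,69,32],96)]
noncomputable def D30016 : Tw := [([],0),([1],0),([1,2],0),([1,2,4],0),([1,2,4,10],0),([1,2,6,16,8],1),([3,2,4,16,8,37],4),([6,2,1,18,10,69,32],98),([120,2,127,113,110,149,244,82],114)]
noncomputable def D30017 : Tw := [([],0),([1],0),([1,2],0),([1,2,4],0),([1,2,4,10],0),([1,2,6,16,8],1),([3,2,4,16,8,37],4),([6,2,1,18,10,69,32],98),([120,2,127,113,110,149,244,82],114),([11,2,14,8,113,381,283,477,46],8)]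
noncomputable def D30018 : Tw := [([],0),([1],0),([1,2],0),([1,2,4],0),([1,2,4,10],0),([1,2,6,16,8],1),([3,2,4,16,8,37],4),([6,2,1,18,10,69,32],98),([120,2,127,113,110,149,244,82],114),([11,2,14,8,113,381,283,477,46],10)]
noncomputable def D30019 : Tw := [([],0),([1],0),([1,2],0),([1,2,4],0),([1,2,4,10],0),([1,2,6,16,8],1),([3,2,4,16,8,37],4),([6,2,1,18,10,69,32],98),([120,2,127,113,110,149,244,82],114),([11,2,14,8,113,381,283,477,44],13)]
noncomputable def D30020 : Tw := [([],0),([1],0),([1,2],0),([1,2,4],0),([1,2,4,10],0),([1,2,6,16,8],1),([3,2,4,16,8,37],4),([6,2,1,18,10,69,32],98),([120,2,127,113,110,149,244,82],114),([11,2,14,8,113,381,283,477,44],15)]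
noncomputable def D30021 : Tw := [([],0),([1],0),([1,2],0),([1,2,4],0),([1,2,4,10],0),([1,2,6,16,8],1),([3,2,4,16,8,37],4),([6,2,1,18,10,65,35],100)]
noncomputable def D30022 : Tw := [([],0),([1],0),([1,2],0),([1,2,4],0),([1,2,4,10],0),([1,2,6,16,8],1),([3,2,4,16,8,37],4),([6,2,1,18,10,65,35],102)]
noncomputable def D30023 : Tw := [([],0),([1],0),([1,2],0),([1,2,4],0),([1,2,4,10],0),([1,2,6,16,8],1),([3,2,4,16,8,37],4),([6,2,1,18,10,65,35],102),([102,2,99,21,15,252,253,59],26)]
noncomputable def D30024 : Tw := [([],0),([1],0),([1,2],0),([1,2,4],0),([1,2,4,10],0),([1,2,6,16,8],1),([3,2,4,16,8,37],4),([6,2,1,18,10,65,35],102),([102,2,99,21,15,252,253,59],24)]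
noncomputable def D30025 : Tw := [([],0),([1],0),([1,2],0),([1,2,4],0),([1,2,4,10],0),([1,2,6,16,8],1),([3,2,4,16,8,37],4),([6,2,1,18,10,65,35],102),([102,2,99,21,15,252,253,57],31)]
noncomputable def D30026 : Tw := [([],0),([1],0),([1,2],0),([1,2,4],0),([1,2,4,10],0),([1,2,6,16,8],1),([3,2,4,16,8,37],4),([6,2,1,18,10,65,35],102),([102,2,99,21,15,252,253,57],29)]
noncomputable def Z30000830 : ℕ := 0x5a5a0000a5a5000000000000a5a500000000000000000000a5a50000000000a5a5a5005a5a5a0000000000a5000000000000000000000000a5a5a4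
noncomputable def Z30000882 : ℕ := 0x5a5a0000a5a5000000000000a5a500000000000000000000a5a50000000000000000000000000000000000005a5a5a0000000000000000005a5a5a
noncomputable def Z30000436 : ℕ := 0x5aa5005a0000a5000000000000000000a55a00a500005a000000005a000000000000000000000000005a0000005a000000000000000000005a5a5a
noncomputable def L30000339 : ℕ := 0x2288228822882288dd77dd77dd77dd7777dd77dd77dd77dd22882288228822882288228822882288dd77dd77dd77dd7777dd77dd77dd77dd22882288228822882288228822882288dd77dd77dd77dd7777dd77dd77dd77dd22882288228822882288228822882288dd77dd77dd77dd7777dd77dd77dd77dd2288228822882288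
noncomputable def Z30000310 : ℕ := 0x5a000000000000000000000000005a0000005a000000000000000000005a5a5a
noncomputable def L30000703 : ℕ := 0x882288228822882277dd77dd77dd77dd77dd77dd77dd77dd228822882288228877dd77dd77dd77dd22882288228822882288228822882288dd77dd77dd77dd77dd77dd77dd77dd778822882288228822882288228822882277dd77dd77dd77dd882288228822882277dd77dd77dd77dd77dd77dd77dd77dd2288228822882288882288228822882277dd77dd77dd77dd77dd77dd77dd77dd228822882288228877dd77dd77dd77dd22882288228822882288228822882288dd77dd77dd77dd77dd77dd77dd77dd778822882288228822882288228822882277dd77dd77dd77dd882288228822882277dd77dd77dd77dd77dd77dd77dd77dd2288228822882288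
noncomputable def Z30000617 : ℕ := 0xa500a50000000000000000005a005a000000005a005a005a005a000000000000000000a5a50000a5a50000000000000000a5a5000000000000000000005a5a0000000000000000000000000000000000000000000000000000000000000000000000005a5a5a005a5a5a0000000000005a5a5a000000000000000000a5a5a4
noncomputable def Z30000690 : ℕ := 0xa50000000000000000000000005a5a5a
noncomputable def Z30000114 : ℕ := 0xfafafa
noncomputable def Z30000121 : ℕ := 0xfffffc
noncomputable def E30000878 : Env := ⟨6,0,[(125,Z30000830),(122,Z30000830),(7,Z30000830),(5,Z30000830),(120,Z30000830),(21,Z30000830),(18,Z30000830)],[]⟩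
noncomputable def E30000893 : Env := ⟨6,0,[(1,Z30000882)],[]⟩
noncomputable def E30000919 : Env := ⟨6,0,[(1,Z30000882),(8,Z30000830),(13,Z30000830),(9,Z30000882),(16,Z30000830),(21,Z30000830),(17,Z30000882)],[]⟩
noncomputable def E30000459 : Env := ⟨6,0,[(1,Z30000436)],[]⟩
noncomputable def E30000473 : Env := ⟨6,0,[(1,Z30000436),(4,Z30000436)],[]⟩
noncomputable def E30000004 : Env := ⟨6,0,[],[]⟩
noncomputable def E30000333 : Env := ⟨6,0,[(1,Z30000310)],[]⟩
noncomputable def E30000632 : Env := ⟨6,0,[(18,Z30000617),(185,Z30000617)],[]⟩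
noncomputable def E30000657 : Env := ⟨6,0,[(2,Z30000617),(5,Z30000617),(7,Z30000617),(8,Z30000617),(10,Z30000617),(97,Z30000617),(99,Z30000617)],[]⟩
noncomputable def E30000664 : Env := ⟨6,0,[(2,Z30000617),(513,Z30000617)],[]⟩
noncomputable def E30000679 : Env := ⟨6,0,[(690,Z30000617),(179,Z30000617)],[]⟩
noncomputable def E30000686 : Env := ⟨6,0,[(2,Z30000617),(516,Z30000617)],[]⟩
noncomputable def E30000697 : Env := ⟨6,0,[(1,Z30000690)],[]⟩
noncomputable def E30000140 : Env := ⟨6,0,[(1,Z30000114),(2,Z30000121),(8,Z30000121),(10,Z30000121),(16,Z30000121),(18,Z30000121)],[]⟩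

end Cfsg.Lib.D8
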