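import Cfsg.Agent.D8.Chk3

set_option autoImplicit false
set_option maxRecDepth 100000
set_option linter.all false

namespace Cfsg.Lib.D8

noncomputable def D40001 : Tw := [([],0),([1],0),([1,2],0),([1,2,4],0),([1,2,4,10],0),([1,2,7,16,8],0)]
noncomputable def Z40000010 : ℕ := 0xf00000f00f0f0f2
noncomputable def E40000004 : Env := ⟨6,0,[],[]⟩
noncomputable def E40000021 : Env := ⟨6,0,[(1,Z40000010)],[]⟩

end Cfsg.Lib.D8
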