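import Cfsg.Agent.D8.R5D

set_option autoImplicit false
set_option maxRecDepth 100000
set_option linter.all false

namespace Cfsg.Lib.D8

noncomputable def M60001 : Md := ⟨5, 32, 2, 3,
(.n (.n (.l 0x1f01e01d01c01b01a01901801701601501401301201101000f00e00d00c00b00a009008007006005004003002001000) (.l 0x1d01c01f01e01901801b01a01501401701601101001301200d00c00f00e00900800b00a005004007006001000003002)) (.n (.l 0x1e01f01c01d01a01b01801901601701401501201301001100e00f00c00d00a00b008009006007004005002003000001) (.l 0x1c01d01e01f01801901a01b01401501601701001101201300c00d00e00f00800900a00b004005006007000001002003))),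
(.n (.n (.n (.l 0x1f01e01d01c01b01a01901801701601501401301201101000f00e00d00c00b00a009008007006005004003002001000) (.l 0xf00e00d00c00b00a00900800700600500400300200100001f01e01d01c01b01a019018017016015014013012011010)) (.n (.l 0x1501401701601101001301201d01c01f01e01901801b01a00700600500400300200100000f00e00d00c00b00a009008) (.l 0x500400700600100000300200d00c00f00e00900800b00a01701601501401301201101001f01e01d01c01b01a019018))) (.n (.n (.l 0x1a01b01801901f01e01d01c01201301001101701601501400a00b00800900f00e00d00c002003000001007006005004) (.l 0xa00b00800900f00e00d00c00200300000100700600500401a01b01801901f01e01d01c012013010011017016015014)) (.n (.l 0x1001101201301501401701601801901a01b01d01c01f01e00200300000100700600500400a00b00800900f00e00d00c) (.l 0x100200300500400700600800900a00b00d00c00f00e01201301001101701601501401a01b01801901f01e01d01c)))),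
0x1c01d01e01f01901801b01a01601701401501301201101000e00f00c00d00b00a009008006007004005003002001000,
0x7006007006000000000000005004005004000000000000003002001000,
0x8008000000000000000000010010000000000000000000000000000000⟩
theorem ok60001 : chkMd M60001 D60001 = true := by decide +kernel

theorem c60000004 : chkExtr M60001 E60000002 [2,11,18] [⟨3,0,[⟨1,0,0,0⟩,⟨2,0,0,0⟩,⟨2,1,0,0⟩],1,2,false⟩,⟨3,0,[⟨0,2,3,0⟩],2,3,false⟩] [] = true := by decide +kernel
theorem c60000007 : chkDer M60001 [([1,2,6,16],[1,16,6,18])] [(2,0,[2])] ([16],[2]) = true := by decide +kernel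
theorem c60000012 : chkCF M60001 (16,Z60000006) [1] = true := by decide +kernel
theorem c60000014 : chkDer M60001 [] [(0,8,[])] ([16],[18]) = true := by decide +kernel
theorem c60000019 : chkCF M60001 (2,Z60000006) [1] = true := by decide +kernel
theorem c60000022 : chkDer M60001 [([1,2,4,8],[1,8,4,10])] [(2,0,[2])] ([8],[2]) = true := by decide +kernel
theorem c60000026 : chkCF M60001 (1,Z60000021) [2,8,16] = true := by decide +kernel
theorem c60000029 : chkCF M60001 (8,Z60000006) [1] = true := by decide +kernel
theorem c60000031 : chkDer M60001 [] [(0,16,[])] ([8],[10]) = true := by decide +kernel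
theorem c60000037 : chkExtr M60001 E60000035 [3,19,17,10,5] [⟨3,0,[⟨4,1,0,0⟩],1,2,false⟩,⟨4,0,[⟨4,1,0,1⟩,⟨4,2,0,2⟩,⟨4,3,0,3⟩],0,0,false⟩,⟨3,0,[⟨4,0,0,4⟩,⟨4,6,0,5⟩,⟨0,2,4,0⟩],2,3,false⟩,⟨5,0,[⟨1,0,7,0⟩],0,0,false⟩] [] = true := by decide +kernel
theorem c60000040 : chkDer M60001 [([1,2,4,8],[1,8,4,10])] [(2,0,[3])] ([9],[3]) = true := by decide +kernel
theorem c60000044 : chkDer M60001 [([1,2,6,16],[1,16,6,18])] [(2,0,[3])] ([17],[3]) = true := by decide +kernel
theorem c60000048 : chkCF M60001 (1,Z60000039) [2,3,8,9,16,17] = true := by decide +kernel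
theorem c60000052 : chkSyl M60001 D60001 E60000050 [1,2,4,8,16] 0 [] [⟨3,0,[],0,0,false⟩,⟨3,0,[],0,0,false⟩,⟨3,0,[],1,0,false⟩,⟨3,0,[],1,0,false⟩] [] [1,2,4,8,16] [] [] = true := by decide +kernel
theorem c60000054 : chkRc M60001 0 [(13,2),(15,1),(20,1),(16,1)] = true := by decide +kernel

end Cfsg.Lib.D8
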