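import Cfsg.Agent.D8.Chk3

set_option autoImplicit false
set_option maxRecDepth 100000
set_option linter.all false

namespace Cfsg.Lib.D8

noncomputable def D60001 : Tw := [([],0),([1],0),([1,2],1),([1,2,4],0),([1,2,4,10],0)]
noncomputable def Z60000006 : ℕ := 0xf0f0c
noncomputable def Z60000021 : ℕ := 0xa0a0a
noncomputable def Z60000039 : ℕ := 0x2
noncomputable def E60000002 : Env := ⟨5,0,[],[]⟩
noncomputable def E60000035 : Env := ⟨5,0,[(16,Z60000006),(18,Z60000006),(2,Z60000006),(1,Z60000021),(10,Z60000006),(8,Z60000006)],[]⟩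
noncomputable def E60000050 : Env := ⟨5,0,[(1,Z60000039)],[]⟩

end Cfsg.Lib.D8
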