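import Cfsg.Agent.D8.Chk3

set_option autoImplicit false
set_option maxRecDepth 100000
set_option linter.all false

namespace Cfsg.Lib.D8

noncomputable def D70001 : Tw := [([],0),([1],0),([1,2],1),([1,2,4],0),([1,2,4,10],0),([1,2,6,16,8],0)]
noncomputable def D70002 : Tw := [([],0),([1],0),([1,2],1),([1,2,4],0),([1,2,4,10],0),([1,2,6,16,8],0),([3,2,28,57,33,9],48)]
noncomputable def Z70000062 : ℕ := 0xf00000f000a0a0a
noncomputable def Z70000069 : ℕ := 0xf00000f000f0f0c
noncomputable def Z70000096 : ℕ := 0x5000005000a0a00005000005000a0a0a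
noncomputable def E70000004 : Env := ⟨6,0,[],[]⟩
noncomputable def E70000088 : Env := ⟨6,0,[(1,Z70000062),(2,Z70000069),(8,Z70000069),(10,Z70000069),(16,Z70000069),(18,Z70000069)],[]⟩
noncomputable def E70000103 : Env := ⟨6,0,[(1,Z70000096)],[]⟩

end Cfsg.Lib.D8
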