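import Cfsg.Agent.D8.Chk3

set_option autoImplicit false
set_option maxRecDepth 100000
set_option linter.all false

namespace Cfsg.Lib.D8

noncomputable def D80001 : Tw := [([],0),([1],0),([1,2],1),([1,2,4],0),([1,2,4,10],0),([1,2,6,16,8],1)]
noncomputable def Z80000008 : ℕ := 0xf0f0c
noncomputable def Z80000027 : ℕ := 0xa0a0a
noncomputable def Z80000038 : ℕ := 0x2
noncomputable def E80000004 : Env := ⟨6,0,[],[]⟩
noncomputable def E80000034 : Env := ⟨6,0,[(16,Z80000008),(18,Z80000008),(2,Z80000008),(1,Z80000027),(8,Z80000008),(10,Z80000008)],[]⟩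
noncomputable def E80000045 : Env := ⟨6,0,[(1,Z80000038)],[]⟩

end Cfsg.Lib.D8
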