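import Cfsg.Agent.D8.Chk3

set_option autoImplicit false
set_option maxRecDepth 100000
set_option linter.all false

namespace Cfsg.Lib.D8

noncomputable def D90001 : Tw := [([],0),([1],0),([1,2],1),([1,2,4],0),([1,2,4,10],0),([1,2,7,16,8],0)]
noncomputable def Z90000008 : ℕ := 0xf00000f000f0f0c
noncomputable def Z90000027 : ℕ := 0xf00000f000a0a0a
noncomputable def Z90000038 : ℕ := 0xf00000f00000002
noncomputable def E90000004 : Env := ⟨6,0,[],[]⟩
noncomputable def E90000034 : Env := ⟨6,0,[(16,Z90000008),(18,Z90000008),(2,Z90000008),(1,Z90000027),(8,Z90000008),(10,Z90000008)],[]⟩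
noncomputable def E90000045 : Env := ⟨6,0,[(1,Z90000038)],[]⟩

end Cfsg.Lib.D8
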