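import Cfsg.Agent.D8.Rk
import Cfsg.Agent.Solv.Conj
import Cfsg.Agent.Solv.CoprimeBasic

/-! Exit by sectional rank: a series with four cyclic factors. -/

set_option autoImplicit false

namespace Cfsg.Lib.D8

open Subgroup Cfsg.Lib.Solv.PG

variable {G : Type*} [Group G] {M : Md} {gs : List G} {X : Subgroup G} {s : ℕ} {D : Tw}

namespace Rc

theorem step {N : Subgroup G} {x : G} {k : ℕ} (h : SectionalPRankLE 2 k N)
    (hx : x ∈ normalizer (N : Set G)) :
    SectionalPRankLE 2 (k + 1) (N ⊔ zpowers x : Subgroup G) := by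
  have hn : (N.subgroupOf (N ⊔ zpowers x)).Normal :=
    normal_subgroupOf_of_le_normalizer (sup_le le_normalizer (zpowers_le.2 hx))
  refine secRank_of_normal (N.subgroupOf (N ⊔ zpowers x))
    (secRank_of_mulEquiv (subgroupOfEquivOfLe le_sup_left) h) ?_
  have : IsCyclic ((N ⊔ zpowers x : Subgroup G) ⧸ N.subgroupOf (N ⊔ zpowers x)) := by
    refine ⟨⟨((⟨x, mem_sup_right (mem_zpowers x)⟩ : (N ⊔ zpowers x : Subgroup G)) : _ ⧸ _),
      fun q => ?_⟩⟩
    obtain ⟨⟨g, hg⟩, rfl⟩ := QuotientGroup.mk_surjective q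
    obtain ⟨n, hn, _, ⟨j, rfl⟩, rfl⟩ := (Solv.Coprime.mem_sup_iff (zpowers_le.2 hx)).1 hg
    refine ⟨j, ?_⟩
    simp only [← QuotientGroup.mk_zpow]
    symm
    rw [QuotientGroup.eq, mem_subgroupOf]
    simpa [mul_assoc] using Trans.mem_normalizer_conj' (zpow_mem hx j) (inv_mem hn)
  exact secRank_of_isCyclic two_pos

theorem seg_mem (C : Ch M gs) (k : ℕ) : ∀ x < M.N, ∀ y ∈ seg M k x,
    y < M.N ∧ evL gs y ∈ zpowers (evL gs x) := by
  induction k with
  | zero => exact fun _ _ _ h => absurd h List.not_mem_nil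
  | succ k ih =>
    intro x hx y hy
    rcases List.mem_append.1 (show y ∈ seg M k (M.mul x x) ++ [x] from hy) with h | h
    · obtain ⟨h1, h2⟩ := ih _ (C.lt _ _ hx hx) y h
      rw [C.mul _ _ hx hx] at h2
      exact ⟨h1, zpowers_le.2 (mul_mem (mem_zpowers _) (mem_zpowers _)) h2⟩
    · rw [List.mem_singleton.1 h]
      exact ⟨hx, mem_zpowers _⟩

theorem nrm [Finite G] {xs : List G} {x : G} (h : ∀ y ∈ xs, x⁻¹ * y * x ∈ gen xs) :
    x ∈ normalizer (gen xs : Set G) := by
  refine inv_mem_iff.1 (Solv.mem_normalizer_of_conj_mem fun y hy => ?_)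
  rw [inv_inv]
  induction hy using closure_induction with
  | mem y hy => exact h y hy
  | one => simp
  | mul a b _ _ h1 h2 => simpa [mul_assoc] using mul_mem h1 h2
  | inv a _ h1 => simpa [mul_assoc] using inv_mem h1

theorem ser [Finite G] (C : Ch M gs) (c : ℕ) (cs : List (ℕ × ℕ)) : ∀ (pre : List ℕ) (k : ℕ),
    (∀ x ∈ pre, x < M.N) → SectionalPRankLE 2 k (gen (pre.map (evL gs))) →
    List.rec (motive := fun _ => List ℕ → Bool)
      (fun pre => M.spanL pre fun l => frc (maskL l) fun m => filN (inT c) M.N (allL (bit m)))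
      (fun x _ ih pre => Nat.blt x.1 M.N && M.spanL pre (fun l => frc (maskL l) fun m =>
        allL (fun y => bit m (M.cj y x.1)) pre) && mapK id (pre ++ seg M x.2 x.1) ih) cs pre = true →
    ∃ H : Subgroup G, SectionalPRankLE 2 (k + cs.length) H ∧
      ∀ x < M.N, inT c x = true → evL gs x ∈ H := by
  induction cs with
  | nil =>
    intro pre k hb hk h
    obtain ⟨m, h1, h2⟩ := C.span_mask hb h
    rw [filN_eq, allL_iff] at h1
    exact ⟨_, hk, fun x hx e => (h2 x (h1 x (List.mem_filter.2 ⟨List.mem_range.2 hx, e⟩))).2⟩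
  | cons x cs ih =>
    intro pre k hb hk h
    obtain ⟨h0, h2⟩ := Bool.and_eq_true_iff.1 h
    obtain ⟨hx, h1⟩ := Bool.and_eq_true_iff.1 h0
    rw [Nat.blt_eq] at hx
    rw [mapK_eq, List.map_id] at h2
    obtain ⟨m, h3, h4⟩ := C.span_mask hb h1
    rw [allL_iff] at h3
    have hn : evL gs x.1 ∈ normalizer (gen (pre.map (evL gs)) : Set G) := nrm fun y hy => by
      obtain ⟨y, hy', rfl⟩ := List.mem_map.1 hy
      rw [← C.cj_eq (hb y hy') hx]
      exact (h4 _ (h3 y hy')).2
    rw [List.length_cons, ← add_assoc, add_right_comm]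
    refine ih _ _ (fun y hy => (List.mem_append.1 hy).elim (hb y) fun hy => (seg_mem C _ _ hx y hy).1)
      (secRank_of_subgroup_le ((closure_le _).2 fun g hg => ?_) (step hk hn)) h2
    obtain ⟨y, hy, rfl⟩ := List.mem_map.1 hg
    exact (List.mem_append.1 hy).elim
      (fun hy => mem_sup_left (subset_closure (List.mem_map_of_mem hy)))
      fun hy => mem_sup_right (seg_mem C _ _ hx y hy).2

end Rc

theorem rkc [Finite G] (S : St X s D gs) (C : Ch M gs) (hs : Syl gs) {c : ℕ}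
    (hc : c = 0 ∨ XC X gs c) {cs : List (ℕ × ℕ)} (h : chkRc M c cs = true) : False := by
  obtain ⟨R, -, hR, k⟩ := rk_core S C hs hc
  rw [chkRc, Bool.and_eq_true, Nat.ble_eq] at h
  obtain ⟨H, h1, h2⟩ := Rc.ser C c cs [] 0 (by simp) (secRank_of_card_le (by simp [gen])) h.2
  refine k H (fun g hg => ?_) (secRank_mono two_pos (by simpa using h.1) h1)
  obtain ⟨x, hx, e, rfl⟩ := (hR g).1 hg
  exact h2 x hx e

end Cfsg.Lib.D8
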