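import Cfsg.Agent.D8.Dfs
import Cfsg.Agent.D8.Xs
import Cfsg.Agent.S1233
import Cfsg.Agent.Solv.Quaternion
import Cfsg.Agent.Trans.SylowIn

/-! Exits by sectional rank: self-centralising `E₈` and `Q₈ ∗ Q₈`. -/

set_option autoImplicit false

namespace Cfsg.Lib.D8

open Subgroup Cfsg.Lib.Solv.PG

variable {G : Type*} [Group G] {M : Md} {gs : List G} {X : Subgroup G} {s : ℕ} {D : Tw}

/-- the subgroup selected by `c`; its sectional rank is at least five -/
theorem rk_core [Finite G] (S : St X s D gs) (C : Ch M gs) (hs : Syl gs) {c : ℕ}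
    (hc : c = 0 ∨ XC X gs c) : ∃ R : Subgroup G, IsPGroup 2 R ∧
      (∀ g, g ∈ R ↔ ∃ x < M.N, inT c x = true ∧ evL gs x = g) ∧
      ∀ R' : Subgroup G, R ≤ R' → ¬ Cfsg.SectionalPRankLE 2 4 R' := by
  have := Fact.mk Nat.prime_two
  have := S.amb.nrm
  obtain ⟨P, hP⟩ := hs
  have key : ∀ R' : Subgroup G, gen gs ⊓ X ≤ R' → ¬ Cfsg.SectionalPRankLE 2 4 R' := fun R' h k =>
    S.amb.h5 (secRank_of_sylow (Trans.isSylowIn_inf_of_normal P X).toSylow
      (secRank_of_mulEquiv (subgroupOfEquivOfLe inf_le_right)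
        (secRank_of_subgroup_le (hP ▸ h) k)))
  rcases hc with rfl | hc
  · exact ⟨gen gs, C.isP, fun g => C.mem_iff.trans (exists_congr fun x => and_congr_right fun _ =>
      (and_iff_right (by simp [inT]; rfl)).symm),
      fun R' h => key R' (inf_le_left.trans h)⟩
  · refine ⟨gen gs ⊓ X, C.isP.to_inf_left, fun g => ⟨fun ⟨h1, h2⟩ => ?_, ?_⟩, key⟩
    · obtain ⟨x, hx, rfl⟩ := C.mem_iff.1 h1
      exact ⟨x, hx, Nat.beq_eq ▸ (hc.2 x ((Xs.lt_pow C).2 hx)).1 h2, rfl⟩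
    · rintro ⟨x, hx, h, rfl⟩
      exact ⟨evL_mem _ _, (hc.2 x ((Xs.lt_pow C).2 hx)).2 (Nat.eq_of_beq_eq_true h)⟩

namespace Rk

theorem sub_card [Finite G] (C : Ch M gs) {xs : List ℕ} {k : List ℕ → ℕ → Bool}
    (h : M.sub xs k = true) : Nat.card (gen (xs.map (evL gs))) ≤ 2 ^ xs.length := by
  have h' : M.sub xs (fun l m => Nat.beq l.length (2 ^ xs.length) && Nat.beq m (maskL l)) = true := by
    obtain ⟨l, h1, h2, -⟩ := Ch.spanL_eq (G := G) M xs List.length
    simp only [Md.sub, spanL_foldl, frc_eq, Bool.and_eq_true, Nat.beq_eq] at h h1 ⊢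
    exact ⟨h.1, h.2.1, h1.trans h2, trivial⟩
  obtain ⟨-, l, m, h1, h2⟩ := C.sub h'
  simp only [Bool.and_eq_true, Nat.beq_eq] at h1
  rw [← h1.1]
  refine card_le_of_codes gs 1 fun u hu => ?_
  obtain ⟨x, hx, rfl⟩ := C.mem_iff.1 (Xs.gen_le hu)
  exact ⟨x, (bit_maskL _ _).1 (h1.2 ▸ (h2 x).2 ⟨hx, hu⟩), by simp⟩

theorem self [Finite G] (C : Ch M gs) {c : ℕ} {as : List ℕ} {R : Subgroup G}
    (hR : ∀ g, g ∈ R ↔ ∃ x < M.N, inT c x = true ∧ evL gs x = g) (h : selfC M c as = true) :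
    M.low as = true ∧ gen (as.map (evL gs)) ≤ R ∧
      Nat.card ((gen (as.map (evL gs))).subgroupOf R) = 2 ^ as.length ∧
      centralizer ((gen (as.map (evL gs))).subgroupOf R : Set R) ≤
        (gen (as.map (evL gs))).subgroupOf R := by
  simp only [selfC, Bool.and_eq_true, allL_iff] at h
  obtain ⟨⟨h1, h2⟩, h3⟩ := h
  obtain ⟨hb, l, m, h4, h5⟩ := C.sub h3
  have mem : ∀ x ∈ as, evL gs x ∈ gen (as.map (evL gs)) := fun x hx =>
    subset_closure (List.mem_map_of_mem hx)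
  have le : gen (as.map (evL gs)) ≤ R := (closure_le _).2 fun g hg => by
    obtain ⟨x, hx, rfl⟩ := List.mem_map.1 hg
    exact (hR _).2 ⟨x, hb x hx, h1 x hx, rfl⟩
  refine ⟨h2, le, ?_, fun g hg => ?_⟩
  · rw [Nat.card_congr (subgroupOfEquivOfLe le).toEquiv]
    exact le_antisymm (sub_card C h3) (C.low_card h2 mem)
  · obtain ⟨x, hx, k1, k2⟩ := (hR g).1 g.2
    obtain ⟨V, e1, e2⟩ := C.filC_self hb (U := (List.range M.N).filter (inT c))
      (fun u hu => List.mem_range.1 (List.mem_of_mem_filter hu)) (allL (bit m))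
    rw [filN_eq, e1, allL_iff] at h4
    rw [mem_subgroupOf, ← k2]
    refine ((h5 x).1 (h4 x ((e2 x).2 ⟨List.mem_filter.2 ⟨List.mem_range.2 hx, k1⟩,
      fun a ha => ?_⟩))).2
    rw [k2]
    exact (congrArg Subtype.val (hg ⟨_, le (mem a ha)⟩ (mem a ha))).symm

theorem q8 {z i j : G} (z1 : z ≠ 1) (z2 : z * z = 1) (h1 : i * i = z) (h2 : j * j = z)
    (h3 : i * j * i = j) :
    Nonempty ((zpowers i ⊔ zpowers j : Subgroup G) ≃* QuaternionGroup 2) := by
  have := Fact.mk Nat.prime_two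
  refine nonempty_sup_mulEquiv_quaternionGroup
    (orderOf_eq_prime_pow (p := 2) (n := 1) (by rwa [pow_one, pow_two, h1])
      (by rw [show 2 ^ (1 + 1) = 2 * 2 from rfl, pow_mul, pow_two i, h1, pow_two, z2]))
    (by rw [h2, pow_two, h1]) (by
      calc _ = i⁻¹ * (i * j * i) * j⁻¹ := by group
        _ = _ := by rw [h3]; group) ?_
  rintro ⟨n, rfl⟩
  simp only at h3
  rw [mul_assoc, ((Commute.refl i).zpow_left n).eq, ← mul_assoc, h1, mul_eq_right] at h3
  exact z1 h3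

end Rk

theorem rk32 [Finite G] (S : St X s D gs) (C : Ch M gs) (hs : Syl gs) {c : ℕ}
    (hc : c = 0 ∨ XC X gs c) {as : List ℕ} (h : chkR32 M c as = true) : False := by
  obtain ⟨R, hp, hR, k⟩ := rk_core S C hs hc
  simp only [chkR32, Bool.and_eq_true, allL_iff, Nat.beq_eq] at h
  obtain ⟨⟨h1, h2⟩, h3⟩ := h
  obtain ⟨low, -, card, cen⟩ := Rk.self C hR h3
  have hb := (C.low low).1
  refine k R le_rfl (secRank_four_of_selfCentralizing hp (fun a ha => Subtype.ext ?_)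
    (by rw [card, h1]; rfl) cen)
  have com : ∀ x ∈ as.map (evL gs), ∀ y ∈ as.map (evL gs), Commute x y := by
    simp only [List.forall_mem_map]
    exact fun x hx y hy => (C.cm_iff (hb x hx) (hb y hy)).1 ((h2 x hx).2 y hy)
  rw [mem_subgroupOf] at ha
  rw [SubgroupClass.coe_pow, coe_one]
  generalize (a : G) = g at ha
  induction ha using closure_induction with
  | mem g hg =>
    obtain ⟨x, hx, rfl⟩ := List.mem_map.1 hg
    rw [pow_two, ← C.mul _ _ (hb x hx) (hb x hx), (h2 x hx).1, evL_zero]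
  | one => exact one_pow _
  | mul a b ha hb h4 h5 =>
    rw [(Xs.comm_gen (fun x hx => (Xs.comm_gen (fun y hy => com y hy x hx) hb).symm) ha).mul_pow,
      h4, h5, one_mul]
  | inv a _ h4 => rw [inv_pow, h4, inv_one]

theorem rk33 [Finite G] (S : St X s D gs) (C : Ch M gs) (hs : Syl gs) {c : ℕ}
    (hc : c = 0 ∨ XC X gs c) {z i j i' j' : ℕ} (h : chkR33 M c z i j i' j' = true) : False := by
  obtain ⟨R, hp, hR, k⟩ := rk_core S C hs hc
  simp only [chkR33, q8T, Bool.and_eq_true, Nat.beq_eq] at h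
  obtain ⟨⟨⟨⟨⟨⟨⟨zz, ⟨a1, a2⟩, a3⟩, ⟨b1, b2⟩, b3⟩, c1⟩, c2⟩, c3⟩, c4⟩, h3⟩ := h
  obtain ⟨low, le, card, cen⟩ := Rk.self C hR h3
  obtain ⟨hb, inj⟩ := C.low low
  simp only [List.forall_mem_cons] at hb
  obtain ⟨lz, li, lj, li', lj', -⟩ := hb
  have z1 : evL gs z ≠ 1 := fun e =>
    absurd (inj 1 (by simp) 0 (by simp) (by simp [evL_cons, evL_zero, e])) one_ne_zero
  have z2 : evL gs z * evL gs z = 1 := by rw [← C.mul _ _ lz lz, zz, evL_zero]
  have ii : evL gs i * evL gs i = evL gs z := by rw [← C.mul _ _ li li, a1]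
  obtain ⟨e1⟩ := Rk.q8 z1 z2 ii (by rw [← C.mul _ _ lj lj, a2])
    (by rw [← C.mul _ _ li lj, ← C.mul _ _ (C.lt _ _ li lj) li, a3])
  obtain ⟨e2⟩ := Rk.q8 z1 z2 (by rw [← C.mul _ _ li' li', b1]) (by rw [← C.mul _ _ lj' lj', b2])
    (by rw [← C.mul _ _ li' lj', ← C.mul _ _ (C.lt _ _ li' lj') li', b3])
  have e : zpowers (evL gs i) ⊔ zpowers (evL gs j) ⊔ (zpowers (evL gs i') ⊔ zpowers (evL gs j')) =
      gen ([z, i, j, i', j'].map (evL gs)) := by
    refine le_antisymm ?_ ((closure_le _).2 fun g hg => ?_)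
    · simp only [sup_le_iff, zpowers_le]
      refine ⟨⟨?_, ?_⟩, ?_, ?_⟩ <;> exact subset_closure (by simp)
    · have m := mem_zpowers (evL gs i)
      simp only [List.map_cons, List.map_nil, List.mem_cons, List.not_mem_nil, or_false,
        Set.mem_ofPred_eq] at hg
      rcases hg with rfl | rfl | rfl | rfl | rfl
      exacts [mem_sup_left (mem_sup_left (ii ▸ mul_mem m m)), mem_sup_left (mem_sup_left m),
        mem_sup_left (mem_sup_right (mem_zpowers _)), mem_sup_right (mem_sup_left (mem_zpowers _)),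
        mem_sup_right (mem_sup_right (mem_zpowers _))]
  have l1 := le_sup_left.trans (e.le.trans le)
  have l2 := le_sup_right.trans (e.le.trans le)
  have zp : ∀ {a b : G}, Commute a b → ∀ x ∈ zpowers a, Commute x b := by
    rintro a b h _ ⟨n, rfl⟩
    exact h.zpow_left n
  refine k R le_rfl (Cfsg.Agent.S1233.result hp _ _ _ ((subgroupOfEquivOfLe l1).trans e1)
    ((subgroupOfEquivOfLe l2).trans e2) (fun a ha b hb => Subtype.ext ?_)
    (by rw [← subgroupOf_sup l1 l2, e]) card cen)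
  refine (Xs.comm_sup (zp ?_) (zp ?_) ha).eq <;> refine (Xs.comm_sup (zp ?_) (zp ?_) hb).symm
  exacts [((C.cm_iff li li').1 c1).symm, ((C.cm_iff li lj').1 c2).symm,
    ((C.cm_iff lj li').1 c3).symm, ((C.cm_iff lj lj').1 c4).symm]

end Cfsg.Lib.D8
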