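import Cfsg.Agent.D8.Hom
import Cfsg.Agent.D8.Dfs

/-!
# The certified climb: the transfer step
-/

set_option autoImplicit false

namespace Cfsg.Lib.D8

variable {G : Type*} [Group G] {M : Md} {gs : List G} {X : Subgroup G} {D : Tw} {E : Env}

theorem anyL_of_pre {xs : List ℕ} {outs : List Pr} (h : preOK xs outs = true) {g : G} {o : List ℕ}
    (ho : o ∈ outs.map Prod.snd) (hc : Cj g ((xs.take o.length).map (evL gs)) (o.map (evL gs))) :
    AnyL outs (FusC gs) := by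
  obtain ⟨F, hF, rfl⟩ := List.mem_map.1 ho
  exact AnyL_iff.2 ⟨F, hF, g, eqL_iff.1 (allL_iff.1 h F hF) ▸ hc⟩

theorem tt [Finite G] (S : St X E.s D gs) (C : Ch M gs) (hE : EnvOK E gs) (hs : Syl gs)
    (hX : XC X gs E.c) {c La om Wt : ℕ} {xs lbs reps : List ℕ} {zi zj : ℕ} {Ls : List Lv}
    {outs : List Pr} (h : chkTT M E c La om Wt xs lbs reps zi zj Ls outs = true) :
    AnyL outs (FusC gs) := by
  simp only [chkTT, frc_eq, filN_eq, Bool.and_eq_true, Bool.or_eq_true, Nat.beq_eq, Nat.blt_eq,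
    allL_iff, allN_iff, bnd_iff, Bool.not_eq_true', ← Bool.not_eq_true, memN_iff, pw_eq] at h
  obtain ⟨⟨⟨⟨⟨hc, hpre⟩, hb⟩, hlow⟩, hh⟩, ⟨⟨⟨pu, hr⟩, hsig⟩, hst⟩, hd⟩ := h
  obtain ⟨H, -, -, -, hp, hadd⟩ := exists_sel S C hX hc
  have hu : xs.headD 0 < M.N := by
    cases xs with
    | nil => exact C.pos
    | cons a l => exact hb a List.mem_cons_self
  have htake : xs.take 1 = [xs.headD 0] := by
    simp only [dfs, Bool.and_eq_true, Nat.ble_eq] at hd
    obtain ⟨a, l, rfl⟩ := List.exists_cons_of_length_pos hd.1.1.1.2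
    rfl
  generalize hue : xs.headD 0 = u at *
  have hlt : ∀ r ∈ xs ++ lbs, r < M.N := List.forall_mem_append.2 ⟨hb, (C.low hlow).1⟩
  have hcm : ∀ r ∈ xs ++ lbs, Commute (evL gs r) (evL gs u) := fun r h =>
    ((C.cm_iff hu (hlt r h)).1 (hr r h).2).symm
  have l0 : l2 La 0 = 0 := Nat.eq_of_beq_eq_true (Bool.and_eq_true_iff.1 hh).1
  have hz : ∀ y < M.N, evL gs y = 1 → y = 0 := fun y hy e =>
    C.inj _ _ hy C.pos (e.trans (evL_zero _).symm)
  obtain ⟨g, -, g1, e, he, pe, ee, le⟩ := tt_code S C hs hX hc hh hu pu (rs := xs ++ lbs) (by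
      rcases hsig with h | h
      · rw [← orderOf_dvd_iff_pow_eq_one, (C.sig_one hu).1 h]
        decide
      · rw [← (C.sig_two hu).1 h.1.1.1, pow_orderOf_eq_one])
    (fun g y hy py e => by
      rcases hsig with h | h
      · have := hom_of C hh hy hy py hadd
        rw [hz _ (C.lt _ _ hy hy) (by
          rw [C.mul _ _ hy hy, ← e, conj_mul', ← sq, ← (C.sig_one hu).1 h, pow_orderOf_eq_one]
          simp), l0] at this
        omega
      · exact (Nat.and_one_is_mod _).symm.trans ((h.2 y hy).resolve_left (not_not.2 py)).1)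
    (fun g y hy py e => by
      rcases hsig with h | h
      · rw [hz y hy (by rw [← e, ← sq, ← (C.sig_one hu).1 h, pow_orderOf_eq_one]; simp), l0]
      · exact ((h.2 y hy).resolve_left (not_not.2 py)).2.resolve_left (not_not.2
          (AllL_iff.1 hE.2.2.1 _ (getD_mem h.1.1.2 _) g y ((Xs.lt_pow C).2 hy)
            (by rw [h.1.2, C.mul _ _ hu hu, e]))))
    fun r h => ⟨hlt r h, (hr r h).1, hcm r h⟩
  have hm : ∀ x, bit (maskL ((List.range M.N).filter fun x => Nat.beq (par (Nat.land x c)) 0)) x =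
      true ↔ x < M.N ∧ par (Nat.land x c) = 0 := fun x => by
    rw [bit_maskL, List.mem_filter, List.mem_range, Nat.beq_eq]
  have hA : ∀ g w, w < M.N → par (Nat.land w c) = 0 → (∀ r ∈ gen ((xs ++ lbs).map (evL gs)),
      ∃ y < M.N, par (Nat.land y c) = 0 ∧ g⁻¹ * r * g = evL gs y) →
      ∀ r ∈ gen ((xs ++ lbs).map (evL gs)), ∃ y < M.N, par (Nat.land y c) = 0 ∧
        (g * evL gs w)⁻¹ * r * (g * evL gs w) = evL gs y := fun g w hw pw hg r hr => by
    obtain ⟨y, hy, py, e⟩ := hg r hr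
    refine ⟨_, C.cj_lt hy hw, (hp _ (C.cj_lt hy hw)).1 ?_, by rw [C.cj_eq hy hw, ← e]; group⟩
    rw [C.cj_eq hy hw]
    exact mul_mem (mul_mem (inv_mem ((hp w hw).2 pw)) ((hp y hy).2 py)) ((hp w hw).2 pw)
  obtain ⟨⟨w1, w2⟩, w3⟩ := (hst e he).resolve_left (by
    simp only [not_or, not_not]
    refine ⟨⟨⟨le, (hE.2.1 g u e ((Xs.lt_pow C).2 hu) ((Xs.lt_pow C).2 he) ee).symm.trans pu⟩, ?_⟩,
      (C.sig_eq hu he (isConj_iff.2 ⟨g⁻¹, by rw [inv_inv, ee]⟩)).symm⟩
    cases hj : Nat.blt zj E.cf.length && Nat.beq (E.cf.getD zj (0, 0)).1 u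
    · exact (bit_full _ _).2 he
    · rw [Bool.and_eq_true, Nat.blt_eq, Nat.beq_eq] at hj
      exact AllL_iff.1 hE.2.2.1 _ (getD_mem hj.1 _) g e ((Xs.lt_pow C).2 he) (hj.2.symm ▸ ee))
  obtain ⟨g', -, o, ho, hc⟩ := dfs_sound C hE (fun g => ∀ r ∈ gen ((xs ++ lbs).map (evL gs)),
      ∃ y < M.N, par (Nat.land y c) = 0 ∧ g⁻¹ * r * g = evL gs y)
    (fun a b ha hb' pa pb => (hm _).2 ⟨C.lt _ _ (C.ilt _ ha) hb',
      (hp _ (C.lt _ _ (C.ilt _ ha) hb')).1 (by
        rw [C.mul _ _ (C.ilt _ ha) hb', C.inv _ ha]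
        exact mul_mem (inv_mem ((hp a ha).2 ((hm a).1 pa).2)) ((hp b hb').2 ((hm b).1 pb).2))⟩)
    (fun g hg x hx => by
      obtain ⟨y, hy, py, e⟩ := hg _ (Subgroup.subset_closure
        (List.mem_map_of_mem (List.mem_append_left _ hx)))
      exact ⟨y, hy, e, (hm y).2 ⟨hy, py⟩⟩)
    (fun g w hw pw => hA g w hw ((hm w).1 pw).2)
    (fun g hg y hy e => (C.low_card hlow (U := gen (lbs.map (evL gs))) fun x hx =>
      Subgroup.subset_closure (List.mem_map_of_mem hx)).trans (card_le_of_codes gs g fun r hr => by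
        have hr' : r ∈ gen ((xs ++ lbs).map (evL gs)) := Subgroup.closure_mono
          (fun _ h => List.map_subset _ (List.subset_append_right _ _) h) hr
        obtain ⟨z, hz, pz, e'⟩ := hg r hr'
        refine ⟨z, List.mem_filter.2 ⟨List.mem_range.2 hz, Bool.and_eq_true_iff.2
          ⟨(hm z).2 ⟨hz, pz⟩, (C.cm_iff hz hy).2 ?_⟩⟩, e'⟩
        rw [← e, ← e', hue]
        exact Xs.comm_conj (Xs.comm_gen (List.forall_mem_map.2 hcm) hr') g))
    hd (hA g _ w1 w2 g1) (List.mem_map_of_mem w3)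
    (htake ▸ .cons (by rw [C.cj_eq he w1, ← ee]; group) .nil)
  exact anyL_of_pre hpre ho hc

end Cfsg.Lib.D8
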