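import Cfsg.Agent.D8.TT
import Cfsg.Agent.D8.Ext2

/-!
# The certified climb: transfer in the normal subgroup, fixed points of a 2-subgroup of the whole group
-/

set_option autoImplicit false

namespace Cfsg.Lib.D8

open Cfsg.Lib.Trans MulAction

variable {G : Type*} [Group G] {M : Md} {gs : List G} {X : Subgroup G} {D : Tw} {E : Env}

theorem tt2_abs [Finite G] {T : Subgroup G} [hn : X.Normal] (hT : ¬ 2 ∣ T.index)
    (hXT : ∀ g, ∃ t ∈ T, g * t ∈ X) (f : G → Multiplicative (ZMod 4))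
    (hf : ∀ a ∈ T, ∀ b ∈ T, a ∈ X → b ∈ X → f (a * b) = f a * f b)
    (hK : ∀ a ∈ T, a ∈ X → ∀ t ∈ T, f a = 1 → f (t⁻¹ * a * t) = 1)
    {u : G} (hu : u ∈ ⁅X, X⁆) (h2 : u * u = 1) {R : Subgroup G} (hR : IsPGroup 2 R)
    (hc : ∀ r ∈ R, Commute r u) :
    ∃ g : G, (∀ r ∈ R, g⁻¹ * r * g ∈ T) ∧ g⁻¹ * u * g ∈ T ∧ f (g⁻¹ * u * g) = 1 := by
  classical
  have : Fact (Nat.Prime 2) := ⟨Nat.prime_two⟩
  have : Fintype (G ⧸ T) := Fintype.ofFinite _
  have : Fintype (X ⧸ T.subgroupOf X) := Fintype.ofFinite _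
  have huX : u ∈ X := Subgroup.commutator_le_left X X hu
  have hX : ∀ g, g⁻¹ * u * g ∈ X := fun g => hn.conj_mem' u huX g
  have hsq : ∀ g, g⁻¹ * u * g ∈ T → f (g⁻¹ * u * g) = 1 ∨
      f (g⁻¹ * u * g) = Multiplicative.ofAdd (2 : ZMod 4) := fun g hg => by
    have e := hf _ hg _ hg (hX g) (hX g)
    rw [conj_mul', h2, mul_one, inv_mul_cancel,
      left_eq_mul.1 ((congrArg f (mul_one 1)).symm.trans
        (hf 1 (one_mem _) 1 (one_mem _) (one_mem _) (one_mem _)))] at e
    revert e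
    generalize f (g⁻¹ * u * g) = z
    revert z
    decide
  let F : G → Multiplicative (ZMod 4) := fun g => if g⁻¹ * u * g ∈ T then f (g⁻¹ * u * g) else 1
  have hF : ∀ g, ∀ t ∈ T, F g = 1 → F (g * t) = 1 := fun g t ht e => by
    have e1 : (g * t)⁻¹ * u * (g * t) = t⁻¹ * (g⁻¹ * u * g) * t := by group
    simp only [F, e1, ite_eq_right_iff, mul_mem_cancel_right ht,
      mul_mem_cancel_left (inv_mem ht)] at e ⊢
    exact fun h => hK _ h (hX g) t ht (e h)
  have hF2 : ∀ g, F g ≠ 1 → F g = Multiplicative.ofAdd (2 : ZMod 4) ∧ g⁻¹ * u * g ∈ T :=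
    fun g e => by
      by_cases h : g⁻¹ * u * g ∈ T <;> simp only [F, h, if_true, if_false] at e ⊢
      exacts [⟨(hsq g h).resolve_left e, trivial⟩, absurd rfl e]
  have hF3 : ∀ g : G, F (g : G ⧸ T).out = F g := fun g => by
    obtain ⟨t, ht⟩ := QuotientGroup.mk_out_eq_mul T g
    rw [ht]
    by_cases h : F g = 1
    · rw [h, hF g t t.2 h]
    · rw [(hF2 g h).1, (hF2 _ fun e => h (by simpa using hF _ _ (inv_mem t.2) e)).1]
  let la : T.subgroupOf X →* Multiplicative (ZMod 4) :=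
    MonoidHom.mk' (fun t => f t) fun a b => hf _ a.2 _ b.2 a.1.2 b.1.2
  have hprod : ∏ z : G ⧸ T, F z.out = 1 := by
    obtain ⟨v, hv, rfl⟩ := (Subgroup.map_subtype_commutator X).ge hu
    have v2 : v ^ 2 = 1 := Subtype.ext (by simpa [sq] using h2)
    rw [← show MonoidHom.transfer la v = 1 from commutator_le_ker_transfer la hv,
      transfer_eq_prod_extOne la v fun m hm h1 a ha => by
        obtain rfl := ((Nat.dvd_prime Nat.prime_two).1
          (hm.trans (orderOf_dvd_of_pow_eq_one v2))).resolve_left h1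
        rw [← map_one la]
        exact congrArg la (Subtype.ext (by simp [v2]))]
    refine (Fintype.prod_bijective (fun x => ((x.out : G) : G ⧸ T)) ⟨fun x y e => ?_, fun z => ?_⟩
      _ _ fun x => ?_).symm
    · rw [← x.out_eq, ← y.out_eq]
      exact QuotientGroup.eq.2 ((QuotientGroup.eq (s := T) (a := (x.out : G)) (b := (y.out : G))).1 e)
    · obtain ⟨t, ht, h⟩ := hXT z.out
      refine ⟨((⟨_, h⟩ : X) : X ⧸ T.subgroupOf X), ?_⟩
      obtain ⟨s, hs⟩ := QuotientGroup.mk_out_eq_mul (T.subgroupOf X) ⟨_, h⟩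
      simp only [hs, Subgroup.coe_mul]
      rw [QuotientGroup.mk_mul_of_mem _ (show ((s : X) : G) ∈ T from s.2),
        QuotientGroup.mk_mul_of_mem _ ht, QuotientGroup.out_eq']
    · rw [hF3]
      rfl
  let A : Finset (G ⧸ T) := Finset.univ.filter fun x => u • x = x
  have hA : ¬ 2 ∣ A.card := by
    have hp : IsPGroup 2 (Subgroup.zpowers u) := IsPGroup.of_card_dvd_pow (n := 1) (by
      rw [Nat.card_zpowers, pow_one]; exact orderOf_dvd_of_pow_eq_one (by rwa [sq]))
    have h3 : Nat.card (fixedPoints (Subgroup.zpowers u) (G ⧸ T)) = A.card := by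
      rw [← Nat.card_eq_finsetCard]
      refine Nat.card_congr (Equiv.subtypeEquivRight fun x => ?_)
      simp only [A, Finset.mem_filter, Finset.mem_univ, true_and, mem_fixedPoints]
      exact ⟨fun h => h ⟨u, Subgroup.mem_zpowers u⟩,
        fun h z => (Subgroup.zpowers_le (H := stabilizer G x)).mpr h z.2⟩
    exact fun hd => hT (Nat.modEq_zero_iff_dvd.1 ((hp.card_modEq_card_fixedPoints (G ⧸ T)).trans
      (h3 ▸ Nat.modEq_zero_iff_dvd.2 hd)))
  have hA2 : 2 ∣ (A.filter fun x => ¬ F x.out = 1).card := by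
    rw [← show orderOf (Multiplicative.ofAdd (2 : ZMod 4)) = 2 from
      orderOf_eq_prime (by decide) (by decide), orderOf_dvd_iff_pow_eq_one, ← Finset.prod_const]
    refine (Finset.prod_congr rfl fun x hx => (hF2 _ (Finset.mem_filter.1 hx).2).1.symm).trans
      ((Finset.prod_subset (f := fun x : G ⧸ T => F x.out) (Finset.subset_univ _)
        fun x _ hx => ?_).trans hprod)
    by_contra e
    exact hx (Finset.mem_filter.2 ⟨Finset.mem_filter.2 ⟨Finset.mem_univ _,
      (smul_eq_iff_out_conj_mem u x).2 (hF2 _ e).2⟩, e⟩)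
  let Y : SubMulAction R (G ⧸ T) :=
    { carrier := {x | u • x = x ∧ F x.out = 1}
      smul_mem' := by
        rintro ⟨r, hr⟩ x ⟨hx1, hx2⟩
        refine ⟨?_, ?_⟩
        · change u • r • x = r • x
          rw [smul_smul, ← (hc r hr).eq, mul_smul, hx1]
        · obtain ⟨a, rfl⟩ := QuotientGroup.mk_surjective x
          change F ((r * a : G) : G ⧸ T).out = 1
          have : (r * a)⁻¹ * u * (r * a) = a⁻¹ * u * a := by
            calc _ = a⁻¹ * r⁻¹ * (u * r) * a := by group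
              _ = _ := by rw [← (hc r hr).eq]; group
          rw [hF3] at hx2 ⊢
          simpa only [F, this] using hx2 }
  have hY : Nat.card Y = (A.filter fun x => F x.out = 1).card := by
    rw [← Nat.card_eq_finsetCard]
    refine Nat.card_congr (Equiv.subtypeEquivRight fun x => ?_)
    simp only [A, Finset.mem_filter, Finset.mem_univ, true_and]
    rfl
  obtain ⟨⟨x, hx1, hx2⟩, hx⟩ := hR.nonempty_fixed_point_of_prime_not_dvd_card Y fun hd =>
    hA (Finset.card_filter_add_card_filter_not (s := A) (fun x => F x.out = 1) ▸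
      dvd_add (hY ▸ hd) hA2)
  have hm := (smul_eq_iff_out_conj_mem u x).1 hx1
  exact ⟨x.out, fun r hr => (smul_eq_iff_out_conj_mem r x).1 (congrArg Subtype.val (hx ⟨r, hr⟩)),
    hm, (if_pos hm).symm.trans hx2⟩

theorem tt2 [Finite G] (S : St X E.s D gs) (C : Ch M gs) (hE : EnvOK E gs) (hs : Syl gs)
    (hX : XC X gs E.c) {La om : ℕ} {xs lbs reps : List ℕ} {zj : ℕ} {Ls : List Lv}
    {outs : List Pr} (h : chkTT2 M E La om xs lbs reps zj Ls outs = true) :
    AnyL outs (FusC gs) := by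
  classical
  simp only [chkTT2, frc_eq, Md.rm_eq, Bool.and_eq_true, Bool.or_eq_true, Nat.beq_eq, allL_iff,
    allN_iff, bnd_iff, Bool.not_eq_true', ← Bool.not_eq_true, memN_iff, pw_eq] at h
  obtain ⟨⟨⟨⟨hpre, hb⟩, hlow⟩, hh⟩, ⟨⟨⟨⟨h1, pu⟩, hr⟩, hk⟩, hst⟩, hd⟩ := h
  obtain ⟨-, -, -, -, -, hadd⟩ := exists_sel S C hX (.inr rfl)
  have hp : ∀ x < M.N, evL gs x ∈ X ↔ par (Nat.land x E.c) = 0 := fun x hx =>
    hX.2 x ((Xs.lt_pow C).2 hx)
  have hu := hb _ (dfs_head hd).2
  obtain ⟨f, hf⟩ : ∃ f : G → Multiplicative (ZMod 4), ∀ x < M.N,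
      f (evL gs x) = Multiplicative.ofAdd (l2 La x : ZMod 4) := by
    refine ⟨fun g => if h : ∃ x < M.N, evL gs x = g then .ofAdd (l2 La h.choose) else 1,
      fun x hx => ?_⟩
    have e : ∃ y < M.N, evL gs y = evL gs x := ⟨x, hx, rfl⟩
    simp only [dif_pos e, C.inj _ _ e.choose_spec.1 hx e.choose_spec.2]
  have hf0 : ∀ x < M.N, f (evL gs x) = 1 ↔ l2 La x = 0 := fun x hx => by
    have h3 := l2_lt La x
    rw [hf x hx]
    generalize l2 La x = a at h3
    interval_cases a <;> decide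
  obtain ⟨P, hP⟩ := hs
  have := S.amb.nrm
  obtain ⟨g, g1, g2, g3⟩ := tt2_abs (X := X) (T := gen gs) (hP ▸ P.not_dvd_index)
    (fun g => (S.amb.idx g).elim (fun h => ⟨1, one_mem _, (mul_one g).symm ▸ h⟩)
      fun h => ⟨_, evL_mem gs 1, h⟩) f
    (fun a ha b hb' xa _ => by
      obtain ⟨x, hx, rfl⟩ := C.mem_iff.1 ha
      obtain ⟨y, hy, rfl⟩ := C.mem_iff.1 hb'
      simp only [← C.mul _ _ hx hy, hf _ hx, hf _ hy, hf _ (C.lt _ _ hx hy),
        hom_of C hh hx hy ((hp x hx).1 xa) hadd, ZMod.natCast_mod, Nat.cast_add, ofAdd_add])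
    (fun a ha xa t ht e => by
      have key : ∀ t ∈ gs, ∀ a ∈ gen gs, a ∈ X → f a = 1 → f (t⁻¹ * a * t) = 1 := by
        intro t ht a ha xa e
        obtain ⟨y, hy, rfl⟩ := C.mem_iff.1 ha
        rw [← gens_map gs, C.len] at ht
        obtain ⟨w, hw, rfl⟩ := List.mem_map.1 ht
        have w1 := C.gens_lt w hw
        have a1 := C.lt _ _ hy w1
        have a2 := C.lt _ _ (C.ilt _ a1) w1
        have := (hf0 _ (C.ilt _ a2)).2 ((hk w hw y hy).resolve_left (by
          simp only [not_or, not_not]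
          exact ⟨(hf0 y hy).1 e, (hp y hy).1 xa⟩))
        rw [C.inv _ a2, C.mul _ _ (C.ilt _ a1) w1, C.inv _ a1, C.mul _ _ hy w1] at this
        convert this using 2
        group
      have ht' : t ∈ Submonoid.closure {x | x ∈ gs} :=
        Subgroup.closure_toSubmonoid_of_finite.le ht
      clear ht
      induction ht' using Submonoid.closure_induction_right with
      | one => simpa using e
      | mul_right x hx y hy ih =>
        have hx' : x ∈ gen gs := Subgroup.closure_toSubmonoid_of_finite.ge hx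
        have := key y hy _ (mul_mem (mul_mem (inv_mem hx') ha) hx') (this.conj_mem' a xa x) ih
        convert this using 2
        group)
    (S.amb.perf ((hp _ hu).2 pu)) (by rw [← sq, ← (C.sig_one hu).1 h1, pow_orderOf_eq_one])
    (C.isP.to_le Xs.gen_le) (comm_head C hb hlow (dfs_head hd).2 hr)
  obtain ⟨e, he, ee⟩ := C.mem_iff.1 g2
  obtain ⟨g', o, ho, hc⟩ := dfs_full C hE hb hlow hr hd g1 he ee.symm ((hst e he).resolve_left (by
    simp only [not_or, not_not]
    refine ⟨⟨⟨(hf0 e he).1 (ee ▸ g3), (hE.2.1 g _ e ((Xs.lt_pow C).2 hu) ((Xs.lt_pow C).2 he)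
      ee.symm).symm.trans pu⟩, ?_⟩,
      (C.sig_eq hu he (isConj_iff.2 ⟨g⁻¹, by rw [inv_inv, ee]⟩)).symm.trans h1⟩
    cases hj : Nat.blt zj E.cf.length && Nat.beq (E.cf.getD zj (0, 0)).1 (xs.headD 0)
    · exact (bit_full _ _).2 he
    · rw [Bool.and_eq_true, Nat.blt_eq, Nat.beq_eq] at hj
      exact AllL_iff.1 hE.2.2.1 _ (getD_mem hj.1 _) g e ((Xs.lt_pow C).2 he) (hj.2.symm ▸ ee.symm)))
  exact anyL_of_pre hpre ho hc

end Cfsg.Lib.D8
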